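import Mathlib
import Cfsg.Agent.H26.MId0

/-! The kernel checks of the operator identities. -/

set_option autoImplicit false
set_option linter.all false
set_option maxRecDepth 100000
set_option Elab.async false

namespace H10.Mon.Id

open H29 H10.Mon

theorem L_cube : chkL [53, 53, 53] [] = true := by decide +kernel
theorem T0_cube : chkT [53, 53, 53] [] 0 16 = true := by decide +kernel
theorem T1_cube : chkT [53, 53, 53] [] 16 16 = true := by decide +kernel
theorem T2_cube : chkT [53, 53, 53] [] 32 16 = true := by decide +kernel
theorem T3_cube : chkT [53, 53, 53] [] 48 16 = true := by decide +kernel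

theorem L_zz : chkL [52, 53] [53, 39] = true := by decide +kernel
theorem T0_zz : chkT [52, 53] [53, 39] 0 16 = true := by decide +kernel
theorem T1_zz : chkT [52, 53] [53, 39] 16 16 = true := by decide +kernel
theorem T2_zz : chkT [52, 53] [53, 39] 32 16 = true := by decide +kernel
theorem T3_zz : chkT [52, 53] [53, 39] 48 16 = true := by decide +kernel

theorem L_xo : chkL [39, 53] [53, 39, 52] = true := by decide +kernel
theorem T0_xo : chkT [39, 53] [53, 39, 52] 0 16 = true := by decide +kernel
theorem T1_xo : chkT [39, 53] [53, 39, 52] 16 16 = true := by decide +kernel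
theorem T2_xo : chkT [39, 53] [53, 39, 52] 32 16 = true := by decide +kernel
theorem T3_xo : chkT [39, 53] [53, 39, 52] 48 16 = true := by decide +kernel

theorem L_inv : chkL [53, 41, 44, 46, 51, 53] [41, 44, 46, 51] = true := by decide +kernel
theorem T0_inv : chkT [53, 41, 44, 46, 51, 53] [41, 44, 46, 51] 0 16 = true := by decide +kernel
theorem T1_inv : chkT [53, 41, 44, 46, 51, 53] [41, 44, 46, 51] 16 16 = true := by decide +kernel
theorem T2_inv : chkT [53, 41, 44, 46, 51, 53] [41, 44, 46, 51] 32 16 = true := by decide +kernel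
theorem T3_inv : chkT [53, 41, 44, 46, 51, 53] [41, 44, 46, 51] 48 16 = true := by decide +kernel

theorem L_p0 : chkL [0, 53] [53, 0] = true := by decide +kernel
theorem T0_p0 : chkT [0, 53] [53, 0] 0 16 = true := by decide +kernel
theorem T1_p0 : chkT [0, 53] [53, 0] 16 16 = true := by decide +kernel
theorem T2_p0 : chkT [0, 53] [53, 0] 32 16 = true := by decide +kernel
theorem T3_p0 : chkT [0, 53] [53, 0] 48 16 = true := by decide +kernel

theorem L_p1 : chkL [1, 53] [53, 1] = true := by decide +kernel
theorem T0_p1 : chkT [1, 53] [53, 1] 0 16 = true := by decide +kernel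
theorem T1_p1 : chkT [1, 53] [53, 1] 16 16 = true := by decide +kernel
theorem T2_p1 : chkT [1, 53] [53, 1] 32 16 = true := by decide +kernel
theorem T3_p1 : chkT [1, 53] [53, 1] 48 16 = true := by decide +kernel

theorem L_p2 : chkL [2, 53] [53, 2] = true := by decide +kernel
theorem T0_p2 : chkT [2, 53] [53, 2] 0 16 = true := by decide +kernel
theorem T1_p2 : chkT [2, 53] [53, 2] 16 16 = true := by decide +kernel
theorem T2_p2 : chkT [2, 53] [53, 2] 32 16 = true := by decide +kernel
theorem T3_p2 : chkT [2, 53] [53, 2] 48 16 = true := by decide +kernel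

theorem L_e0 : chkL [40, 53] [53, 17] = true := by decide +kernel
theorem T0_e0 : chkT [40, 53] [53, 17] 0 16 = true := by decide +kernel
theorem T1_e0 : chkT [40, 53] [53, 17] 16 16 = true := by decide +kernel
theorem T2_e0 : chkT [40, 53] [53, 17] 32 16 = true := by decide +kernel
theorem T3_e0 : chkT [40, 53] [53, 17] 48 16 = true := by decide +kernel

theorem L_y0 : chkL [17, 53] [53, 17, 29, 30, 31, 37, 39, 40] = true := by decide +kernel
theorem T0_y0 : chkT [17, 53] [53, 17, 29, 30, 31, 37, 39, 40] 0 16 = true := by decide +kernel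
theorem T1_y0 : chkT [17, 53] [53, 17, 29, 30, 31, 37, 39, 40] 16 16 = true := by decide +kernel
theorem T2_y0 : chkT [17, 53] [53, 17, 29, 30, 31, 37, 39, 40] 32 16 = true := by decide +kernel
theorem T3_y0 : chkT [17, 53] [53, 17, 29, 30, 31, 37, 39, 40] 48 16 = true := by decide +kernel

/-- The supports of the labels after the triality move. -/
noncomputable def chkS : Bool := St.force lab fun l => and2 (labOkW mv [53] l)
  (St.rec (fun a s w => and2 (Nat.beq (Nat.shiftRight a.P.nz 576) 0)
    (and2 (Nat.beq (Nat.shiftRight s.P.nz 98280) 0) (Nat.beq (Nat.shiftRight w.P.nz 98304) 0)))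
    (runW mvL [53] l))

theorem chkS_true : chkS = true := by decide +kernel

end H10.Mon.Id
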