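import Mathlib
import Cfsg.Agent.H26.MId1

/-! Soundness of the identity checks. -/

set_option autoImplicit false
set_option linter.all false
set_option maxRecDepth 100000

namespace H10.Mon.Id

open H29 H10.Mon

theorem cdv_cons (a : ℕ) (l : List ℕ) (p : ℕ) : cdv (a :: l) p = (a >>> p &&& 1) + 2 * cdv l p := rfl

theorem plL_val (p : ℕ) : ∀ l : List ℕ, (plL l).val p = (cdv l p : ℤ)
  | [] => by change -bz 0 p = ((0 : ℕ) : ℤ); simp [bz]
  | a :: l => by
    change bz a p + 2 * (plL l).val p = _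
    rw [plL_val p l, cdv_cons, bz, Nat.and_one_is_mod, Nat.testBit, Nat.one_and_eq_mod_two]
    generalize a >>> p = b
    rcases Nat.mod_two_eq_zero_or_one b with h | h <;> rw [h] <;> simp

theorem vec_val (l : List ℕ) (p : ℕ) : (⟨0, plL l⟩ : Vec).val p = (cdv l p : ℝ) := by
  simp [Vec.val, plL_val]

theorem ind_val (a p : ℕ) : (ind a).val p = if a.testBit p then 1 else 0 := by
  simp only [ind, Vec.val, Pl.val_trim, Pl.val, bz]
  split_ifs <;> simp_all

theorem nth_rangeL (n : ℕ) (f : ℕ → ℕ) (j : ℕ) : nth 0 (rangeL n f) j = if j < n then f j else 0 := by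
  have : ∀ n k j : ℕ, nth 0 (Nat.rec (motive := fun _ => ℕ → List ℕ) (fun _ => [])
      (fun _ ih j => f j :: ih (Nat.succ j)) n k) j = if j < n then f (k + j) else 0 := by
    intro n
    induction n with
    | zero => intro k j; rfl
    | succ n ih =>
      intro k j
      cases j with
      | zero => simp; rfl
      | succ j =>
        refine (ih (k + 1) j).trans ?_
        simp [show k + 1 + j = k + (j + 1) by omega]
  exact (this n 0 j).trans (by rw [zero_add])

theorem tb_land (a b p : ℕ) : (Nat.land a b).testBit p = (a.testBit p && b.testBit p) :=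
  Nat.testBit_and a b p

theorem tb_lor (a b p : ℕ) : (Nat.lor a b).testBit p = (a.testBit p || b.testBit p) :=
  Nat.testBit_or a b p

theorem tb_shl (a k p : ℕ) : (Nat.shiftLeft a k).testBit p = (decide (k ≤ p) && a.testBit (p - k)) :=
  Nat.testBit_shiftLeft a

theorem tb_mX (p : ℕ) : mX.testBit p = decide (p < 98304 ∧ p % 4096 < 2048) := by
  have := rep_repl (B := 4096) (m := ones 2048) (by decide +kernel) (p / 4096) (p % 4096)
    (Nat.mod_lt _ (by norm_num))
  rw [Nat.div_add_mod', testBit_ones] at this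
  rw [mX, this, ← Bool.decide_and, decide_eq_decide]
  omega

theorem tb_mT (p : ℕ) : mT.testBit p = decide (p < 97728 ∧ 2048 ≤ p % 4096) := by
  refine (tb_land _ _ _).trans ?_
  rw [tb_shl, tb_mX, testBit_ones, ← Bool.decide_and, ← Bool.decide_and, decide_eq_decide]
  constructor <;> intro h <;> omega

theorem tb_lowPat (j p : ℕ) : (lowPat 17 j).testBit p = (decide (p < 2 ^ 17) && !p.testBit j) := by
  rw [lowPat, xor_eq, Nat.testBit_xor, testBit_ones, testBit_idp, shl_eq, Nat.one_shiftLeft]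
  cases decide (p < 2 ^ 17) <;> cases p.testBit j <;> rfl

theorem mod64 (p : ℕ) : p % 64 = 0 ↔ ∀ j < 6, p.testBit j = false := by
  constructor
  · intro h j hj
    have := Nat.testBit_mod_two_pow p 6 j
    rw [show 2 ^ 6 = 64 by norm_num, h] at this
    simpa [hj] using this.symm
  · intro h
    refine eq_of_bits (k := 6) (Nat.mod_lt _ (by norm_num)) (by norm_num) fun j hj => ?_
    rw [show 64 = 2 ^ 6 by norm_num, Nat.testBit_mod_two_pow]; simp [h j hj]

theorem tb_b64 (p : ℕ) : b64.testBit p = decide (p < 97728 ∧ 2048 ≤ p % 4096 ∧ p % 64 = 0) := by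
  simp only [b64, land_eq, Nat.testBit_and, tb_lowPat, tb_mT]
  rw [Bool.eq_iff_iff]
  simp only [Bool.and_eq_true, decide_eq_true_eq, Bool.not_eq_eq_eq_not, Bool.not_true, mod64]
  constructor
  · rintro ⟨⟨-, h0⟩, ⟨-, h1⟩, ⟨-, h2⟩, ⟨-, h3⟩, ⟨-, h4⟩, ⟨-, h5⟩, h6, h7⟩
    refine ⟨h6, h7, fun j hj => ?_⟩
    interval_cases j <;> assumption
  · rintro ⟨h6, h7, h⟩
    have : p < 2 ^ 17 := by omega
    exact ⟨⟨this, h 0 (by omega)⟩, ⟨this, h 1 (by omega)⟩, ⟨this, h 2 (by omega)⟩,
      ⟨this, h 3 (by omega)⟩, ⟨this, h 4 (by omega)⟩, ⟨this, h 5 (by omega)⟩, h6, h7⟩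

/-- The index of a position of the second register. -/
def ixS (p : ℕ) : ℕ :=
  if p < 97728 then (if p % 4096 < 2048 then 0 else p % 64) else if p < 98004 then 1 else 2

theorem beq_eq (a b : ℕ) : Nat.beq a b = decide (a = b) := by
  rw [Bool.eq_iff_iff, H29.beq_true, decide_eq_true_eq]

theorem tb_ite (c : Prop) [Decidable c] (a b p : ℕ) :
    (Bool.rec (motive := fun _ => ℕ) a b (decide c)).testBit p = true ↔
      (c ∧ b.testBit p = true) ∨ (¬ c ∧ a.testBit p = true) := by
  by_cases h : c <;> simp [h]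

theorem tb_tS {j : ℕ} (hj : j < 64) (p : ℕ) : (tS j).testBit p = decide (p < 98280 ∧ ixS p = j) := by
  refine (tb_lor _ _ _).trans ?_
  rw [Bool.eq_iff_iff, decide_eq_true_iff, Bool.or_eq_true, beq_eq, beq_eq, beq_eq, tb_ite, tb_ite, tb_ite]
  simp only [tb_shl, tb_b64, tb_mX, testBit_ones, Bool.and_eq_true, decide_eq_true_eq,
    Nat.zero_testBit, ixS, Bool.false_eq_true, and_false, or_false]
  obtain ⟨q, r, hr, rfl⟩ : ∃ q r, r < 64 ∧ p = 64 * q + r :=
    ⟨p / 64, p % 64, Nat.mod_lt _ (by norm_num), by omega⟩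
  have e1 : (64 * q + r) % 64 = r := by omega
  have e2 : (64 * q + r) % 4096 = 64 * (q % 64) + r := by omega
  have e3 : (j ≤ 64 * q + r ∧ 64 * q + r - j < 97728 ∧ 2048 ≤ (64 * q + r - j) % 4096 ∧
      (64 * q + r - j) % 64 = 0) ↔ (r = j ∧ q < 1527 ∧ 32 ≤ q % 64) := by
    constructor
    · rintro ⟨h1, h2, h3, h4⟩
      obtain rfl : r = j := by omega
      rw [Nat.add_sub_cancel] at h2 h3
      omega
    · rintro ⟨rfl, h2, h3⟩
      rw [Nat.add_sub_cancel]
      omega
  rw [e3, e1, e2]
  split_ifs <;> omega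

theorem tb_lS {p : ℕ} (hp : p < 97728) (j : ℕ) :
    (cdv lS p).testBit j = (decide (j < 20) && (loP j).testBit p) := by
  rw [tb_cdv, lS, nth_rangeL]
  split_ifs with h
  · simp [sP, lor_eq, shl_eq, Nat.testBit_shiftLeft, h, show ¬ 97728 ≤ p by omega]
  · simp [h]

theorem lS_19 {p : ℕ} (hp : p < 97728) : (cdv lS p).testBit 19 = false := by
  rw [tb_lS hp]
  change (true && (Nat.land (idp 17 19) (ones 97728)).testBit p) = false
  rw [land_eq, Nat.testBit_and, testBit_idp, Nat.testBit_lt_two_pow (x := p) (by omega)]; simp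

theorem lS_17 {p : ℕ} (hp : p < 97728) : (cdv lS p).testBit 17 = true := by
  rw [tb_lS hp]
  change (true && (ones 97728).testBit p) = true
  simp [testBit_ones, hp]

theorem lS_18 {p : ℕ} (hp : p < 97728) : (cdv lS p).testBit 18 = decide (2048 ≤ p % 4096) := by
  rw [tb_lS hp]
  change (true && mT.testBit p) = _
  simp [tb_mT, hp]

theorem lS_lo {p j : ℕ} (hp : p < 97728) (hj : j < 17) :
    (cdv lS p).testBit j = (p.testBit j && decide (j ≤ 5 → p % 4096 < 2048)) := by
  rw [tb_lS hp, loP, beq_eq, beq_eq, decide_eq_false (show j ≠ 17 by omega),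
    decide_eq_false (show j ≠ 18 by omega)]
  change (_ && (Nat.land (idp 17 j) (Bool.rec (ones 97728) mX (Nat.ble j 5))).testBit p) = _
  rw [land_eq, Nat.testBit_and, testBit_idp]
  by_cases h : j ≤ 5
  · rw [Nat.ble_eq_true_of_le h]
    simp [tb_mX, h, show j < 20 by omega, show p < 131072 by omega, show p < 98304 by omega]
  · rw [show Nat.ble j 5 = false from Bool.eq_false_iff.2 fun e => h (Nat.le_of_ble_eq_true e)]
    simp [testBit_ones, h, hp, show j < 20 by omega, show p < 131072 by omega]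

theorem lS_inj {p q : ℕ} (hp : p < 97728) (hq : q < 97728) (h : cdv lS p = cdv lS q)
    (hi : ixS p = ixS q) : p = q := by
  have h18 := lS_18 hp
  rw [h, lS_18 hq, decide_eq_decide] at h18
  refine eq_of_bits (k := 17) (by omega) (by omega) fun j hj => ?_
  have h1 := lS_lo hp hj
  rw [h, lS_lo hq hj] at h1
  by_cases hx : p % 4096 < 2048
  · simpa [hx, show q % 4096 < 2048 by omega] using h1.symm
  · by_cases h5 : j ≤ 5
    · simp only [ixS, hp, hq, hx, show ¬ q % 4096 < 2048 by omega, if_true, if_false] at hi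
      have a := Nat.testBit_mod_two_pow p 6 j
      have b := Nat.testBit_mod_two_pow q 6 j
      rw [show 2 ^ 6 = 64 by norm_num] at a b
      rw [hi, b] at a
      simpa [show j < 6 by omega] using a.symm
    · simpa [h5] using h1.symm

theorem lS_bc : ∀ k < 276, cdv lS (97728 + k) = 2 ^ 19 + k ∧ cdv lS (98004 + k) = 2 ^ 19 + k := by
  have : seqL lS (fun l => allN 276 fun k => and2 (Nat.beq (cdv l (97728 + k)) (2 ^ 19 + k))
      (Nat.beq (cdv l (98004 + k)) (2 ^ 19 + k))) = true := by decide +kernel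
  rw [seqL_eq, allN_true] at this
  intro k hk
  simpa only [and2_true, H29.beq_true] using this k hk

theorem tb_lW {p : ℕ} (hp : p < 98304) (j : ℕ) :
    (cdv lW p).testBit j = if j = 18 then true else p.testBit j := by
  rw [tb_cdv, lW, nth_rangeL, wP, beq_eq]
  by_cases h : j = 18
  · subst h; simp [testBit_ones, hp]
  · by_cases h1 : j < 19
    · simp [h, h1, testBit_idK (show 98304 ≤ 2 ^ 17 by norm_num), hp]
    · have := Nat.pow_le_pow_right (n := 2) (by norm_num) (not_lt.1 h1)
      simp [h, h1, Nat.testBit_lt_two_pow (show p < 2 ^ j by omega)]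

theorem lA_spec : ∀ p < 576, (cdv lA p).testBit 19 = true ∧
    nth 0 invA (cdv lA p - 2 ^ 19) = min p (p % 24 * 24 + p / 24) := by decide +kernel

theorem bit19 {k : ℕ} (hk : k < 276) : (2 ^ 19 + k).testBit 19 = true := by
  rw [Nat.testBit_two_pow_add_eq, Nat.testBit_lt_two_pow (by omega)]; rfl

theorem lS_hi {p : ℕ} (h1 : 97728 ≤ p) (h2 : p < 98280) :
    cdv lS p = 2 ^ 19 + (if p < 98004 then p - 97728 else p - 98004) := by
  split_ifs with h
  · rw [← (lS_bc _ (by omega)).1, show 97728 + (p - 97728) = p by omega]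
  · rw [← (lS_bc _ (by omega)).2, show 98004 + (p - 98004) = p by omega]

theorem lS_19' {p : ℕ} (h1 : 97728 ≤ p) (h2 : p < 98280) : (cdv lS p).testBit 19 = true := by
  rw [lS_hi h1 h2]; exact bit19 (by split_ifs <;> omega)

attribute [local irreducible] lA lS lW cdv

/-- Positions. -/
abbrev Ps : Type := ℕ ⊕ ℕ ⊕ ℕ

def Ps.ok : Ps → Prop
  | .inl p => p < 576
  | .inr (.inl p) => p < 98280
  | .inr (.inr p) => p < 98304

def Ps.at (x : R3) : Ps → ℝ
  | .inl p => x.1 p
  | .inr (.inl p) => x.2.1 p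
  | .inr (.inr p) => x.2.2 p

noncomputable def Ps.lb : Ps → ℕ
  | .inl p => cdv lA p
  | .inr (.inl p) => cdv lS p
  | .inr (.inr p) => cdv lW p

def Ps.ix : Ps → ℕ
  | .inl _ => 0
  | .inr (.inl p) => ixS p
  | .inr (.inr _) => 0

theorem ixS_lt (p : ℕ) : ixS p < 64 := by unfold ixS; split_ifs <;> omega

theorem Ps.ix_lt : ∀ i : Ps, i.ix < 64
  | .inl _ => by simp [Ps.ix]
  | .inr (.inl p) => ixS_lt p
  | .inr (.inr _) => by simp [Ps.ix]

theorem good_min {x : R3} (hx : Good x) {p : ℕ} (hp : p < 576) :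
    x.1 (min p (p % 24 * 24 + p / 24)) = x.1 p := by
  rcases min_choice p (p % 24 * 24 + p / 24) with h | h <;> rw [h]
  rw [hx.symm _ (by omega) _ (by omega), Nat.div_add_mod']

theorem not_AS {p q : ℕ} (hp : p < 576) (hq : q < 98280) (h : cdv lA p = cdv lS q) (hi : 0 = ixS q) :
    False := by
  have := (lA_spec p hp).1
  by_cases h1 : q < 97728
  · rw [h, lS_19 h1] at this; exact Bool.false_ne_true this
  · simp only [ixS, h1, if_false] at hi; split_ifs at hi

theorem not_AW {p q : ℕ} (hp : p < 576) (hq : q < 98304) (h : cdv lA p = cdv lW q) : False := by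
  have := (lA_spec p hp).1
  rw [h, tb_lW hq, if_neg (by norm_num), Nat.testBit_lt_two_pow (by omega)] at this
  exact Bool.false_ne_true this

theorem not_SW {p q : ℕ} (hp : p < 98280) (hq : q < 98304) (h : cdv lS p = cdv lW q) : False := by
  by_cases h1 : p < 97728
  · have := lS_17 h1
    rw [h, tb_lW hq, if_neg (by norm_num), Nat.testBit_lt_two_pow (by omega)] at this
    exact Bool.false_ne_true this
  · have := lS_19' (not_lt.1 h1) hp
    rw [h, tb_lW hq, if_neg (by norm_num), Nat.testBit_lt_two_pow (by omega)] at this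
    exact Bool.false_ne_true this

theorem Ps.det {x : R3} (hx : Good x) : ∀ {i k : Ps}, i.ok → k.ok → i.lb = k.lb → i.ix = k.ix →
    i.at x = k.at x
  | .inl p, .inl q, hp, hq, h, _ => by
    change x.1 p = x.1 q
    rw [← good_min hx hp, ← good_min hx hq, ← (lA_spec p hp).2, ← (lA_spec q hq).2]
    exact congrArg (fun a => x.1 (nth 0 invA (a - 2 ^ 19))) h
  | .inl p, .inr (.inl q), hp, hq, h, hi => (not_AS hp hq h hi).elim
  | .inl p, .inr (.inr q), hp, hq, h, _ => (not_AW hp hq h).elim
  | .inr (.inl p), .inl q, hp, hq, h, hi => (not_AS hq hp h.symm hi.symm).elim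
  | .inr (.inr p), .inl q, hp, hq, h, _ => (not_AW hq hp h.symm).elim
  | .inr (.inl p), .inr (.inr q), hp, hq, h, _ => (not_SW hp hq h).elim
  | .inr (.inr p), .inr (.inl q), hp, hq, h, _ => (not_SW hq hp h.symm).elim
  | .inr (.inr p), .inr (.inr q), hp, hq, h, _ => by
    change p < 98304 at hp
    change q < 98304 at hq
    change cdv lW p = cdv lW q at h
    rw [show p = q from eq_of_bits (k := 17) (by omega) (by omega) fun j hj => by
      have := tb_lW hp j
      rw [h, tb_lW hq, if_neg (by omega), if_neg (by omega)] at this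
      exact this.symm]
  | .inr (.inl p), .inr (.inl q), hp, hq, h, hi => by
    change p < 98280 at hp
    change q < 98280 at hq
    change cdv lS p = cdv lS q at h
    change ixS p = ixS q at hi
    suffices p = q by rw [this]
    by_cases h1 : p < 97728 <;> by_cases h2 : q < 97728
    · exact lS_inj h1 h2 h hi
    · have := lS_19 h1
      rw [h, lS_19' (not_lt.1 h2) hq] at this; exact absurd this (by simp)
    · have := lS_19 h2
      rw [← h, lS_19' (not_lt.1 h1) hp] at this; exact absurd this (by simp)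
    · rw [lS_hi (not_lt.1 h1) hp, lS_hi (not_lt.1 h2) hq] at h
      simp only [ixS, h1, h2, if_false] at hi
      split_ifs at h hi <;> omega

theorem Ps.lb_ne : ∀ {i : Ps}, i.ok → i.lb ≠ 0
  | .inl p, hp, h => by
    have := (lA_spec p hp).1
    change cdv lA p = 0 at h
    simp [h] at this
  | .inr (.inl p), hp, h => by
    change cdv lS p = 0 at h
    by_cases h1 : p < 97728
    · have := lS_17 h1; simp [h] at this
    · have := lS_19' (not_lt.1 h1) hp; simp [h] at this
  | .inr (.inr p), hp, h => by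
    have := tb_lW hp 18
    change cdv lW p = 0 at h
    simp [h] at this

theorem Ps.at_lab : ∀ i : Ps, i.at lab.val = i.lb
  | .inl p => vec_val _ p
  | .inr (.inl p) => vec_val _ p
  | .inr (.inr p) => vec_val _ p

open Classical in
theorem Ps.at_tst {j : ℕ} (hj : j < 64) : ∀ i : Ps,
    i.at (tst j).val = if i.ok ∧ i.ix = j then 1 else 0
  | .inl p => by
    refine (ind_val _ p).trans ?_
    rw [beq_eq]
    by_cases h : j = 0 <;> simp [h, testBit_ones, Ps.ok, Ps.ix, eq_comm]
  | .inr (.inl p) => by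
    refine (ind_val _ p).trans ?_
    rw [tb_tS hj]
    exact if_congr decide_eq_true_iff rfl rfl
  | .inr (.inr p) => by
    refine (ind_val _ p).trans ?_
    rw [beq_eq]
    by_cases h : j = 0 <;> simp [h, testBit_ones, Ps.ok, Ps.ix, eq_comm]

theorem Ps.at_good {x : R3} (hx : Good x) : ∀ {i : Ps}, ¬ i.ok → i.at x = 0
  | .inl p, h => hx.a p (not_lt.1 h)
  | .inr (.inl p), h => hx.s p (not_lt.1 h)
  | .inr (.inr p), h => hx.w p (not_lt.1 h)

noncomputable def Ps.atL (i : Ps) : R3 →ₗ[ℝ] ℝ where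
  toFun x := i.at x
  map_add' x y := by rcases i with p | p | p <;> rfl
  map_smul' a x := by rcases i with p | p | p <;> rfl

theorem van_iff {l x : R3} {b : ℝ} : Van l x b ↔ ∀ i : Ps, i.at l = b → i.at x = 0 :=
  ⟨fun h i => by rcases i with p | p | p; exacts [h.1 p, h.2.1 p, h.2.2 p],
    fun h => ⟨fun p => h (.inl p), fun p => h (.inr (.inl p)), fun p => h (.inr (.inr p))⟩⟩

theorem van_good {x : R3} (hx : Good x) : Van lab.val x 0 := van_iff.2 fun i hi =>
  Ps.at_good hx fun h => Ps.lb_ne h (by rwa [Ps.at_lab, Nat.cast_eq_zero] at hi)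

open Classical in
theorem span_good {x : R3} (hx : Good x) (b : ℝ) : ∃ c : ℕ → ℝ,
    Van lab.val (x - ∑ j ∈ Finset.range 64, c j • (tst j).val) 0 ∧
    Van lab.val (x - ∑ j ∈ Finset.range 64, c j • (tst j).val) b := by
  let c : ℕ → ℝ := fun j =>
    if h : ∃ i : Ps, i.ok ∧ (i.lb : ℝ) = b ∧ i.ix = j then h.choose.at x else 0
  have key : ∀ i : Ps, i.at (x - ∑ j ∈ Finset.range 64, c j • (tst j).val) =
      if i.ok then i.at x - c i.ix else 0 := by
    intro i
    change i.atL _ = _
    rw [map_sub, map_sum, Finset.sum_congr rfl (g := fun j => if i.ix = j ∧ i.ok then c j else 0)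
      fun j hj => by
        rw [map_smul]
        change c j • i.at _ = _
        rw [Ps.at_tst (Finset.mem_range.1 hj)]; simp [and_comm]]
    change i.at x - _ = _
    split_ifs with h
    · simp [h, i.ix_lt]
    · simp [h, Ps.at_good hx h]
  refine ⟨c, van_iff.2 fun i hi => ?_, van_iff.2 fun i hi => ?_⟩
  · rw [key, if_neg fun h => Ps.lb_ne h (by rwa [Ps.at_lab, Nat.cast_eq_zero] at hi)]
  · rw [key]
    split_ifs with h
    · rw [Ps.at_lab] at hi
      have e : ∃ k : Ps, k.ok ∧ (k.lb : ℝ) = b ∧ k.ix = i.ix := ⟨i, h, hi, rfl⟩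
      have s := e.choose_spec
      simp only [c]
      rw [dif_pos e, sub_eq_zero]
      exact Ps.det hx h s.1 (Nat.cast_injective (R := ℝ) (hi.trans s.2.1.symm)) s.2.2.symm
    · rfl

theorem chkT_spec (h : ∀ c, (mv c).ok = true) {u v : List ℕ} {a n : ℕ} (hc : chkT u v a n = true)
    {j : ℕ} (h1 : a ≤ j) (h2 : j < a + n) : semW mv u (tst j).val = semW mv v (tst j).val := by
  have := allN_true.1 hc (j - a) (by omega)
  rw [lit_eq, St.force_eq, Nat.add_eq, show a + (j - a) = j by omega] at this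
  rw [← val_runW h, ← val_runW h, St.eq_of_beq this]

theorem id_of_chk (h : ∀ c, (mv c).ok = true) {u v : List ℕ} (hL : chkL u v = true)
    (h0 : chkT u v 0 16 = true) (h1 : chkT u v 16 16 = true) (h2 : chkT u v 32 16 = true)
    (h3 : chkT u v 48 16 = true) {x : R3} (hx : Good x) : semW mv u x = semW mv v x := by
  rw [chkL, St.force_eq, and2_true, and2_true] at hL
  refine semW_eq h hL.1 hL.2.1 (St.eq_of_beq hL.2.2) (n := 64) (t := fun j => (tst j).val)
    (fun j hj => ?_) (span_good hx)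
  by_cases a : j < 16
  · exact chkT_spec h h0 (by omega) (by omega)
  by_cases a : j < 32
  · exact chkT_spec h h1 (by omega) (by omega)
  by_cases a : j < 48
  · exact chkT_spec h h2 (by omega) (by omega)
  · exact chkT_spec h h3 (by omega) (by omega)

theorem σ_symm : ∀ i < 24, ∀ j < 24,
    σP (revL tNA []) (i * 24 + j) = σP (revL tNA []) (j * 24 + i) ∨
    (σP (revL tNA []) (i * 24 + j) < 276 ∧
      σP (revL tNA []) (j * 24 + i) = σP (revL tNA []) (i * 24 + j) + 276) ∨
    (σP (revL tNA []) (j * 24 + i) < 276 ∧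
      σP (revL tNA []) (i * 24 + j) = σP (revL tNA []) (j * 24 + i) + 276) := by decide +kernel

theorem tan_supp (x : R3) {p : ℕ} (hp : 276 ≤ p) : tan.sem x p = 0 := by
  have : (ones 276).testBit p = false := by simp [testBit_ones, hp]
  simp [tan, tb, tc, Ex.sem, sem, Op.sem, this]

theorem good_tau (h : ∀ c, (mv c).ok = true) {x : R3} (hx : Good x) : Good (tauM.sem x) := by
  have hS := chkS_true
  rw [chkS, St.force_eq, and2_true] at hS
  have hv := van_word h [53] hS.1 (van_good hx) (van_good hx)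
  have h2 := hS.2
  change Van (runW mvL [53] lab).val (tauM.sem x) 0 at hv
  generalize runW mvL [53] lab = y at hv h2
  obtain ⟨a, s, w⟩ := y
  simp only [and2_true, H29.beq_true, shr_eq] at h2
  refine ⟨fun i hi j hj => ?_, fun p hp => hv.1 p (Vec.val_nz (tb_zero h2.1 hp)),
    fun p hp => hv.2.1 p (Vec.val_nz (tb_zero h2.2.1 hp)),
    fun p hp => hv.2.2 p (Vec.val_nz (tb_zero h2.2.2 hp))⟩
  have key : ∀ k < 276, (Ex.adD (.adD tan (.shl 276 tan))
      (.shl 552 (.msk (ones 24) (.shr 552 tA)))).sem x (k + 276) = (Ex.adD (.adD tan (.shl 276 tan))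
      (.shl 552 (.msk (ones 24) (.shr 552 tA)))).sem x k := fun k hk => by
    simp only [Ex.sem, Pi.add_apply]
    rw [tan_supp x (by omega : 276 ≤ k + 276), if_pos (by omega), if_neg (by omega),
      if_neg (by omega), if_neg (by omega), Nat.add_sub_cancel]
    ring
  have ok : okP 768 (revL tNA []) = true := by decide +kernel
  have mono : allL (revL tNA []) Op.mono = true := by decide +kernel
  have sg0 : sgP (revL tNA []) 0 = 0 := by decide +kernel
  have e0 : (tauM.sem x).1 = sem (revL tNA []) ((Ex.adD (.adD tan (.shl 276 tan))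
      (.shl 552 (.msk (ones 24) (.shr 552 tA)))).sem x) := rfl
  rw [e0, sem_mono ok mono, sem_mono ok mono, sg0]
  simp only [sb, Nat.zero_testBit]
  rcases σ_symm i hi j hj with e | ⟨e1, e⟩ | ⟨e1, e⟩ <;> rw [e]
  · rw [key _ e1]
  · rw [key _ e1]

end H10.Mon.Id
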