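import Mathlib
import Cfsg.Agent.H10.MRel

/-! The triality element commutes with the first three letters. -/

set_option autoImplicit false
set_option linter.all false

namespace H10.Mon

theorem tau_comm {c : ℕ} (hc : c < 3) : tau * rho (gl c) = rho (gl c) * tau := by
  have key : wd [c, 53] = wd [53, c] := by
    interval_cases c
    exacts [wd_eq_of_chk Id.L_p0 Id.T0_p0 Id.T1_p0 Id.T2_p0 Id.T3_p0,
      wd_eq_of_chk Id.L_p1 Id.T0_p1 Id.T1_p1 Id.T2_p1 Id.T3_p1,
      wd_eq_of_chk Id.L_p2 Id.T0_p2 Id.T1_p2 Id.T2_p2 Id.T3_p2]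
  rw [← mul_inv_eq_iff_eq_mul, ← el_ne (show c ≠ 53 by omega), conj_of_wd key, wd_one]

end H10.Mon
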