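import Mathlib
import Cfsg.Agent.H24.Base2
import Cfsg.Agent.H1.Hall
import Cfsg.Agent.H1.CoprimeAbelian
import Cfsg.Agent.H2.Frattini

/-!
# Hall subgroups and coprime action in the relative vocabulary (MathComp `hall.v`, B & G 1.5-1.10)
Coprimality hypotheses are always `(♯K).Coprime ♯A` with `A` acting on `K` (MathComp order).
-/

set_option autoImplicit false

namespace H26

open Cfsg H24 Subgroup
open scoped commutatorElement

universe u

variable {G : Type u} [Group G] [Finite G]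

section Hall

variable {π : Set ℕ} {M H K L : Subgroup G}

theorem Hall_exists (π : Set ℕ) (hM : Sol M) : ∃ H, Hall π M H := H1.hall_exists π M hM

theorem Hall_trans (hM : Sol M) (hH : Hall π M H) (hK : Hall π M K) : ∃ g ∈ M, K = cj g H := by
  obtain ⟨g, hg, e⟩ := H1.hall_conj hM hH hK
  exact ⟨g, hg, e.symm⟩

theorem Hall_superset (hM : Sol M) (hKM : K ≤ M) (hK : IsPi π K) : ∃ H, Hall π M H ∧ K ≤ H :=
  H1.hall_superset hM hKM hK

theorem Hall_subJ (hM : Sol M) (hH : Hall π M H) (hKM : K ≤ M) (hK : IsPi π K) :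
    ∃ g ∈ M, K ≤ cj g H := H1.hall_conj_le hM hH hKM hK

theorem Hall_Jsub (hM : Sol M) (hH : Hall π M H) (hKM : K ≤ M) (hK : IsPi π K) :
    ∃ g ∈ M, cj g K ≤ H := by
  obtain ⟨g, hg, h⟩ := Hall_subJ hM hH hKM hK
  exact ⟨g⁻¹, M.inv_mem hg, le_cj_iff.mp h⟩

theorem Hall_Frattini_arg (hK : Sol K) (hKM : K ⊴ M) (hH : Hall π K H) :
    IsProd K (M ⊓ N[H]) M :=
  isProd_of_trans hKM.le fun m hm => by
    have h1 : Hall π K (cj m H) := hH.cj_mem_N (hKM.norm hm)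
    obtain ⟨k, hk, e⟩ := Hall_trans hK hH h1
    exact ⟨k, hk, e⟩

/-- Schur-Zassenhaus, existence of complements. -/
theorem SchurZassenhaus_split (hK : K ⊴ M) (hH : IsHall M K) : ∃ H, SD K H M := by
  have := hK.normal
  obtain ⟨H, hc⟩ := exists_right_complement'_of_coprime (N := K.subgroupOf M)
    (by rw [card_subgroupOf_of_le hK.le]; exact hH.2)
  refine ⟨H.map M.subtype, (map_subtype_le H).trans hK.norm, ?_, ?_⟩
  · rw [← map_subgroupOf_eq_of_le hK.le, ← Subgroup.map_inf _ _ _ M.subtype_injective,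
      hc.disjoint.eq_bot, Subgroup.map_bot]
  · rw [← map_subgroupOf_eq_of_le hK.le, ← Subgroup.map_sup, hc.sup_eq_top,
      ← MonoidHom.range_eq_map, range_subtype]

theorem Hall.exists_sd (hK : Hall π M K) (hn : M ≤ N[K]) : ∃ H, SD K H M :=
  SchurZassenhaus_split ⟨hK.le, hn⟩ hK.isHall

/-- a subgroup `L` of `K H` of order prime to `K` is conjugate into `H` by an element of `K`. -/
theorem SchurZassenhaus_subJ (hH : H ≤ N[K]) (hL : L ≤ K ⊔ H) (hcop : (♯K).Coprime ♯L)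
    (hsol : Sol K ∨ Sol L) : ∃ k ∈ K, L ≤ cj k H :=
  H1.exists_conj_le_of_coprime L K H (hL.trans (sup_le (norm_self K) hH)) hcop.symm hsol.symm
    fun _ ha => (mem_sup_of_norm hH).mp (hL ha)

/-- Schur-Zassenhaus, conjugacy of complements. -/
theorem SchurZassenhaus_trans (hH : SD K H M) (hL : SD K L M) (hcop : (♯K).Coprime ♯H)
    (hsol : Sol K ∨ Sol H) : ∃ k ∈ K, L = cj k H := by
  have hc : ♯L = ♯H := by rw [← hH.relIndex_left, ← hL.relIndex_left]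
  obtain ⟨k, hk, h⟩ := SchurZassenhaus_subJ hL.norm (hH.right_le.trans hL.sup.ge) hcop hsol
  refine ⟨k⁻¹, K.inv_mem hk, (eq_of_card_eq (le_cj_iff.mp h) ?_).symm⟩
  rw [card_cj, hc]

/-- MathComp `SchurZassenhaus_trans_sol`. -/
theorem SchurZassenhaus_trans_sol (hK : Sol K) (hH : H ≤ N[K]) (hL : L ≤ K ⊔ H)
    (hcop : (♯K).Coprime ♯H) (hc : ♯L = ♯H) : ∃ k ∈ K, L = cj k H := by
  obtain ⟨k, hk, h⟩ := SchurZassenhaus_subJ hH hL (hc ▸ hcop) (Or.inl hK)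
  exact ⟨k, hk, eq_of_card_eq h (by rw [card_cj, hc])⟩

end Hall

section Coprime

variable {π : Set ℕ} {A K H L M U V X Y : Subgroup G} {p : ℕ}

theorem coprime_Hall_exists (π : Set ℕ) (hAK : A ≤ N[K]) (hcop : (♯K).Coprime ♯A) (hK : Sol K) :
    ∃ H, Hall π K H ∧ A ≤ N[H] := H1.coprime_hall_exists π A K hAK hcop.symm hK

theorem coprime_Hall_trans (hAK : A ≤ N[K]) (hcop : (♯K).Coprime ♯A) (hK : Sol K)
    (hH : Hall π K H) (hAH : A ≤ N[H]) (hL : Hall π K L) (hAL : A ≤ N[L]) :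
    ∃ c ∈ K ⊓ C[A], L = cj c H := by
  obtain ⟨c, hc, e⟩ := H1.coprime_hall_conj A K hAK hcop.symm hK hH hL hAH hAL
  exact ⟨c, hc, e.symm⟩

theorem coprime_Hall_subset (hAK : A ≤ N[K]) (hcop : (♯K).Coprime ♯A) (hK : Sol K)
    (hXK : X ≤ K) (hX : IsPi π X) (hAX : A ≤ N[X]) : ∃ H, Hall π K H ∧ A ≤ N[H] ∧ X ≤ H :=
  H1.coprime_hall_superset A K hAK hcop.symm hK X hXK hX hAX

/-- invariant Sylow subgroups when either group is solvable
(MathComp `sol_coprime_Sylow_exists`). -/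
theorem sol_coprime_Sylow_exists (hp : p.Prime) (hAK : A ≤ N[K]) (hcop : (♯K).Coprime ♯A)
    (hs : Sol A ∨ Sol K) : ∃ P, Syl p K P ∧ A ≤ N[P] := by
  have : Fact p.Prime := ⟨hp⟩
  obtain ⟨P, hP⟩ := H1.exists_invariant_sylow A K hAK hcop.symm hs p
  exact ⟨_, syl_of_sylow hp P, hP⟩

theorem sol_coprime_Sylow_subset (hp : p.Prime) (hAK : A ≤ N[K]) (hcop : (♯K).Coprime ♯A)
    (hs : Sol A ∨ Sol K) (hXK : X ≤ K) (hX : IsPi {p} X) (hAX : A ≤ N[X]) :
    ∃ P, Syl p K P ∧ A ≤ N[P] ∧ X ≤ P := by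
  have : Fact p.Prime := ⟨hp⟩
  obtain ⟨P, h1, h2⟩ := H1.exists_invariant_sylow_le A K hAK hcop.symm hs p X hXK
    (hX.isPGroup hp) hAX
  exact ⟨_, syl_of_sylow hp P, h2, h1⟩

theorem sol_coprime_Sylow_trans (hp : p.Prime) (hAK : A ≤ N[K]) (hcop : (♯K).Coprime ♯A)
    (hs : Sol A ∨ Sol K) (hH : Syl p K H) (hAH : A ≤ N[H]) (hL : Syl p K L) (hAL : A ≤ N[L]) :
    ∃ c ∈ K ⊓ C[A], L = cj c H := by
  obtain ⟨k, hk, rfl⟩ := Sylow_trans hp hH hL
  obtain ⟨c, hc, e⟩ := H1.exists_centralizer_conj A K H hAK hcop.symm hs k hk hAH hAL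
  exact ⟨c, hc, e.symm⟩

omit [Finite G] in
theorem coprime_norm_cent (hAK : A ≤ N[K]) (hcop : (♯K).Coprime ♯A) :
    K ⊓ N[A] = K ⊓ C[A] :=
  (SD.mk_sup hAK (inf_eq_bot_of_cop hcop)).left_inf_N le_rfl

/-- the basic lifting lemma: a coset of `V` centralised by `A` contains an element centralised by
`A`. -/
theorem coprime_lift_cent (hAV : A ≤ N[V]) (hcop : (♯V).Coprime ♯A) (hs : Sol V ∨ Sol A) {g : G}
    (hg : ∀ a ∈ A, a * g * a⁻¹ * g⁻¹ ∈ V) : ∃ v ∈ V, v * g ∈ C[A] :=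
  H1.exists_mul_mem_centralizer A V hAV hcop.symm hs.symm g hg

/-- if `[X, A] ≤ V ≤ X` then `X = V C_X(A)` (the usable form of `coprime_quotient_cent`). -/
theorem coprime_isProd_of_comm_le (hAV : A ≤ N[V]) (hcop : (♯V).Coprime ♯A)
    (hs : Sol V ∨ Sol A) (hVX : V ≤ X) (h : ⁅X, A⁆ ≤ V) : IsProd V (X ⊓ C[A]) X := by
  refine ⟨hVX, inf_le_left, fun g hg => ?_⟩
  obtain ⟨v, hv, hc⟩ := coprime_lift_cent hAV hcop hs (g := g) fun a ha => by
    rw [commC] at h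
    exact h (commutator_mem_commutator ha hg)
  exact ⟨v⁻¹, V.inv_mem hv, v * g, ⟨X.mul_mem (hVX hv) hg, hc⟩, by group⟩

/-- B & G, a stronger variant of Proposition 1.6(a). -/
theorem coprimeR_cent_prod (hAK : A ≤ N[K]) (hcop : (♯⁅K, A⁆).Coprime ♯A)
    (hs : Sol ⁅K, A⁆ ∨ Sol A) : IsProd ⁅K, A⁆ (K ⊓ C[A]) K :=
  coprime_isProd_of_comm_le (norm_comm_right K A) hcop hs (comm_le_left hAK) le_rfl

omit [Finite G] in
theorem sol_or_of_le (hs : Sol K ∨ Sol A) (h : L ≤ K) : Sol L ∨ Sol A :=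
  hs.imp_left (H2.isSolvable_of_le · h)

/-- B & G, Proposition 1.6(a). -/
theorem coprime_cent_prod' (hAK : A ≤ N[K]) (hcop : (♯K).Coprime ♯A) (hs : Sol K ∨ Sol A) :
    IsProd ⁅K, A⁆ (K ⊓ C[A]) K :=
  coprimeR_cent_prod hAK (hcop.coprime_dvd_left (card_dvd (comm_le_left hAK)))
    (sol_or_of_le hs (comm_le_left hAK))

theorem coprime_cent_prod (hAK : A ≤ N[K]) (hcop : (♯K).Coprime ♯A) (hK : Sol K) :
    IsProd ⁅K, A⁆ (K ⊓ C[A]) K := coprime_cent_prod' hAK hcop (Or.inl hK)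

/-- B & G, Proposition 1.6(b). -/
theorem coprime_commGid' (hAK : A ≤ N[K]) (hcop : (♯K).Coprime ♯A) (hs : Sol K ∨ Sol A) :
    ⁅⁅K, A⁆, A⁆ = ⁅K, A⁆ :=
  ((coprime_cent_prod' hAK hcop hs).comm_left_of_cent inf_le_right).symm

theorem coprime_commGid (hAK : A ≤ N[K]) (hcop : (♯K).Coprime ♯A) (hK : Sol K) :
    ⁅⁅K, A⁆, A⁆ = ⁅K, A⁆ := coprime_commGid' hAK hcop (Or.inl hK)

/-- B & G, Proposition 1.6(c). -/
theorem coprime_commGG1P' (hAK : A ≤ N[K]) (hcop : (♯K).Coprime ♯A) (hs : Sol K ∨ Sol A)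
    (h : ⁅⁅K, A⁆, A⁆ = ⊥) : A ≤ C[K] := by
  rw [coprime_commGid' hAK hcop hs] at h
  exact comm_eq_bot'.mp h

theorem coprime_commGG1P (hAK : A ≤ N[K]) (hcop : (♯K).Coprime ♯A) (hK : Sol K)
    (h : ⁅⁅K, A⁆, A⁆ = ⊥) : A ≤ C[K] := coprime_commGG1P' hAK hcop (Or.inl hK) h

/-- B & G, Lemma 1.9, base case: `A` centralises `H ≤ K` and `[K, A] ≤ H`. -/
theorem stable_factor_cent (hAH : A ≤ C[H]) (h : ⁅K, A⁆ ≤ H) (hHK : H ≤ K)
    (hcop : (♯H).Coprime ♯A) (hs : Sol H ∨ Sol A) : A ≤ C[K] := by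
  have := coprime_isProd_of_comm_le (norm_of_cent hAH) hcop hs hHK h
  rw [← this.sup_eq]
  exact cents_sup hAH (cents_symm inf_le_right)

/-- fixed points of a product (MathComp `coprime_mulG_setI_norm`-like, S0030). -/
theorem coprime_cent_mulG (hp : IsProd X Y K) (hAX : A ≤ N[X]) (hAY : A ≤ N[Y])
    (hcop : (♯(X ⊓ Y)).Coprime ♯A) (hs : Sol (X ⊓ Y) ∨ Sol A) :
    IsProd (X ⊓ C[A]) (Y ⊓ C[A]) (K ⊓ C[A]) := by
  refine ⟨inf_le_inf_right _ hp.left_le, inf_le_inf_right _ hp.right_le, fun g hg => ?_⟩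
  obtain ⟨x, hx, y, hy, rfl⟩ := hp.mul g hg.1
  exact H1.exists_centralizer_mul_centralizer A X Y hAX hAY hcop.symm hs.symm x y hx hy hg.2

/-- B & G, Proposition 1.6(d), the trivial intersection part. -/
theorem coprime_abel_cent_TI (hAK : A ≤ N[K]) (hcop : (♯K).Coprime ♯A) (hK : Abl K) :
    ⁅K, A⁆ ⊓ C[A] = ⊥ := by
  have := hK
  have h := H1.centralizer_inf_commutator_eq_bot A K hAK hcop.symm
  rw [eq_bot_iff, ← h]
  exact le_inf (le_inf (inf_le_left.trans (comm_le_left hAK)) inf_le_right) inf_le_left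

/-- B & G, Proposition 1.6(d). -/
theorem coprime_abelian_cent_dprod (hAK : A ≤ N[K]) (hcop : (♯K).Coprime ♯A) (hK : Abl K) :
    DP ⁅K, A⁆ (K ⊓ C[A]) K :=
  ⟨hK.cents inf_le_left (comm_le_left hAK),
    eq_bot_of_le (coprime_abel_cent_TI hAK hcop hK) (inf_le_inf_left _ inf_le_right),
    (coprime_cent_prod hAK hcop (H2.isSolvable_of_isMulCommutative K)).sup_eq⟩

/-- B & G, Proposition 1.6(e): `A` centralises every element of prime order of `K`. -/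
theorem coprime_abelian_faithful_Ohm1 (hAK : A ≤ N[K]) (hcop : (♯K).Coprime ♯A) (hK : Abl K)
    (h : ∀ x ∈ K, (orderOf x).Prime → x ∈ C[A]) : A ≤ C[K] := by
  rw [← comm_eq_bot']
  by_contra hne
  obtain ⟨x, hx, hp⟩ := H2.exists_mem_prime_orderOf hne
  have : x ∈ ⁅K, A⁆ ⊓ C[A] := ⟨hx, h x (comm_le_left hAK hx) hp⟩
  rw [coprime_abel_cent_TI hAK hcop hK] at this
  exact ne_one_of_orderOf_prime hp this

/-- B & G, Proposition 1.16, first assertion (generation form). -/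
theorem coprime_abelian_gen_cent1 {L : Subgroup G} (hA : Abl A) (hnc : ¬ Cyc A) (hAK : A ≤ N[K])
    (hcop : (♯K).Coprime ♯A) (hL : ∀ a ∈ A, a ≠ 1 → K ⊓ C{a} ≤ L) : K ≤ L :=
  have := hA
  H1.le_of_centralizer_le A K L hnc hAK hcop.symm hL

/-- B & G, Proposition 1.16, second assertion (generation form); `A / B` is cyclic. -/
theorem coprime_abelian_gen_cent {L : Subgroup G} (hA : Abl A) (hAK : A ≤ N[K])
    (hcop : (♯K).Coprime ♯A)
    (hL : ∀ B ≤ A, (∃ a ∈ A, A ≤ B ⊔ zpowers a) → K ⊓ C[B] ≤ L) : K ≤ L :=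
  have := hA
  H1.le_of_centralizer_cocyclic_le A K L hAK hcop.symm hL

/-- B & G, Theorem 1.8 (Burnside). -/
theorem coprime_cent_Phi (hcop : (♯H).Coprime ♯A) (h : ⁅H, A⁆ ≤ Phi H) : A ≤ C[H] := by
  have hP : Phi H ≤ H := map_subtype_le _
  refine H1.le_centralizer_of_frattini A H (norm_of_comm_le_left (h.trans hP))
    (hcop.symm.coprime_dvd_right (card_subgroup_dvd_card _)) fun a ha k hk => ?_
  rw [commC] at h
  exact h (commutator_mem_commutator ha hk)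

/-- B & G, Proposition 1.10. -/
theorem coprime_nil_faithful_cent_stab (hAK : A ≤ N[K]) (hcop : (♯K).Coprime ♯A) (hK : Nil K)
    (h : K ⊓ C[K ⊓ C[A]] ≤ K ⊓ C[A]) : A ≤ C[K] := by
  set C := K ⊓ C[A] with hC
  have hAC : A ≤ N[C] := norm_inf hAK (N_le_NC A |>.trans' (norm_self A))
  -- `N = N_K(C)` satisfies `[N, A] ≤ C_K(C) ≤ C`, so `A` centralises `N`
  have hN : A ≤ C[K ⊓ N[C]] := by
    refine stable_factor_cent (H := C) (cents_symm inf_le_right) ?_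
      (le_inf inf_le_left (norm_self C)) (hcop.coprime_dvd_left (card_dvd inf_le_left))
      (Or.inl (H2.isSolvable_of_le inferInstance inf_le_left))
    refine le_trans (le_inf ((comm_mono_left inf_le_left).trans (comm_le_left hAK)) ?_) h
    rw [← comm_eq_bot]
    refine three_subgroup ?_ ?_
    · rw [comm_eq_bot'.mpr inf_le_right, commutator_bot_left]
    · rw [comm_eq_bot]
      exact (comm_le_left inf_le_right).trans inf_le_right
  have : C = K := H1.eq_of_inf_normalizer_le hK inf_le_left (le_inf inf_le_left (cents_symm hN))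
  rw [centsC, ← this]
  exact inf_le_right

/-- Thompson's `P × Q` lemma. -/
theorem Thompson_PxQ (hp : p.Prime) {P Q : Subgroup G} (hP : IsPi {p} P) (hQ : IsPi {p}ᶜ Q)
    (hU : IsPi {p} U) (hPQ : P ≤ C[Q]) (hPU : P ≤ N[U]) (hQU : Q ≤ N[U])
    (h : U ⊓ C[P] ≤ C[Q]) : Q ≤ C[U] := by
  have : Fact p.Prime := ⟨hp⟩
  exact H1.p_times_q p P Q U (hP.isPGroup hp) ((piNat_compl_iff_coprime hp).mp hQ).symm
    (hU.isPGroup hp) hPQ hPU hQU h

end Coprime

end H26
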