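import Mathlib
import Cfsg.Agent.H24.Base4
import Cfsg.Agent.H26.Coprime

/-! # B & G Lemmas 6.3, 6.5, 6.6 -/

set_option autoImplicit false

namespace H26

open Cfsg H24 Subgroup

universe u

variable {G : Type u} [Group G] [Finite G]
variable {E H K L M Q S U : Subgroup G} {p : ℕ}

omit [Finite G] in
theorem der1_subgroupOf (H : Subgroup G) : ⁅H, H⁆.subgroupOf H = commutator H := by
  rw [subgroupOf_comm le_rfl le_rfl, subgroupOf_self, commutator_def]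

omit [Finite G] in
theorem map_commutator_subtype (H : Subgroup G) : (commutator H).map H.subtype = ⁅H, H⁆ := by
  rw [← der1_subgroupOf, map_subgroupOf' (der1_le H)]

/-- A nilpotent group with cyclic abelianisation is cyclic. -/
theorem cyc_of_nil_of_quo_der1 (hn : Nil H) (h : Cyc (quo H ⁅H, H⁆)) : Cyc H := by
  have := (der1_nml H).normal
  have h1 : IsCyclic (H ⧸ ⁅H, H⁆.subgroupOf H) :=
    isCyclic_of_surjective _ (quoEquivQuotient (der1_nml H).norm).symm.surjective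
  exact H2.isCyclic_of_quotient_commutator (isCyclic_of_surjective _
    (QuotientGroup.quotientMulEquivOfEq (der1_subgroupOf H)).surjective)

omit [Finite G] in
/-- In a solvable group `K`, a normal supplement to `K'` is everything. -/
theorem Sol.le_of_der1_sup (hK : Sol K) (hn : K ≤ N[L]) (h : K ≤ ⁅K, K⁆ ⊔ L) : K ≤ L := by
  rw [← quo_eq_bot hn]
  by_contra h1
  refine ((hK.quo L).der1_lt h1).not_ge ?_
  rw [← quo_comm hn hn, quo_le_quo_iff hn ((der1_le K).trans hn)]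
  exact h

/-- Lemma 6.3(a). -/
theorem coprime_der1_sdprod (h : SD K H M) (hcop : (♯K).Coprime ♯H) (hK : Sol K) (hKM : K ≤ ⁅M, M⁆) :
    ⁅K, H⁆ = K ∧ K ⊓ C[H] ≤ ⁅K, K⁆ := by
  have hL : ⁅K, K⁆ ⊔ ⁅K, H⁆ ≤ K := sup_le (der1_le K) (comm_le_left h.norm)
  have h1 : ⁅K, H⁆ = K := by
    refine le_antisymm (comm_le_left h.norm) (Sol.le_of_der1_sup hK (norm_comm_left K H) ?_)
    rw [← h.sup, der1_sup h.norm] at hKM
    have := group_modl (A := ⁅K, K⁆ ⊔ ⁅K, H⁆) (B := ⁅H, H⁆)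
      ((der1_le H).trans (norm_sup (norm_der1 h.norm) (norm_comm_right K H))) hL
    rw [eq_bot_of_le h.inf (le_inf inf_le_right (inf_le_left.trans (der1_le H))), sup_bot_eq] at this
    rw [this]
    exact le_inf hKM le_rfl
  refine ⟨h1, ?_⟩
  have hKn := (der1_nml K).norm
  have hHn := norm_der1 h.norm
  rw [← quo_eq_bot (inf_le_left.trans hKn), eq_bot_iff,
    ← coprime_abel_cent_TI (quo_norm _ h.norm) (coprime_quo hcop _) (abl_quo_der1 K),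
    ← quo_comm hKn hHn, h1]
  exact img_inf_C_le _ _ _

/-- Lemma 6.3(b). -/
theorem prime_nil_der1_factor (hn : Nil ⁅M, M⁆) (hp : (⁅M, M⁆.relIndex M).Prime) :
    IsHall M ⁅M, M⁆ ∧ ∀ H, SD ⁅M, M⁆ H M → ⁅M, M⁆ = ⁅M, H⁆ := by
  have hH : IsHall M ⁅M, M⁆ := by
    set p := ⁅M, M⁆.relIndex M with hpe
    have hQ := (der1_nml M).pcore {p}ᶜ
    set Q := O[{p}ᶜ, ⁅M, M⁆]
    have hQD : Q ⊴ ⁅M, M⁆ := pcore_nml _ _
    have h1 : IsPi {p} (quo M Q) := by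
      rw [isPi_quo_iff hQ.norm, ← relIndex_mul_relIndex _ _ _ hQD.le (der1_le M)]
      exact PiNat.mul (by simpa using (hn.pcore_hall {p}ᶜ).idx) (piNat_self hp)
    have h2 : Cyc (quo M Q) := by
      refine cyc_of_nil_of_quo_der1 (h1.nil hp) (cyc_of_prime ?_)
      rwa [card_quo (der1_nml _).norm, ← quo_comm hQ.norm hQ.norm, relIndex_quo hQD hQ.norm]
    have h3 : IsPi {p}ᶜ ⁅M, M⁆ := (pcore_pi _ _).of_le ((abl_quo hQ.norm).mp h2.abl)
    exact ⟨der1_le M, h3.piNat.coprime' (piNat_self hp)⟩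
  refine ⟨hH, fun H h => le_antisymm ?_ (comm_mono_right h.right_le)⟩
  rw [← (coprime_der1_sdprod h (h.coprime_of_isHall_left hH) hn.sol le_rfl).1]
  exact comm_mono_left (der1_le M)

omit [Finite G] in
/-- Lemma 6.5(a). -/
theorem pprod_focal_coprime (h : IsProd K U M) (hK : K ⊴ M) (hH : H ≤ U) (hcop : (♯K).Coprime ♯H) :
    H ⊓ ⁅M, M⁆ = H ⊓ ⁅U, U⁆ := by
  refine le_antisymm (le_inf inf_le_left ?_) (inf_le_inf_left _ (der1_mono h.right_le))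
  have hUK := h.right_le.trans hK.norm
  have hU := (der1_nml U).norm
  have h1 : ⁅M, M⁆ ≤ ⁅U, U⁆ ⊔ K := by
    rw [← quo_le_quo_iff ((der1_le M).trans hK.norm) ((der1_le U).trans hUK),
      quo_comm hK.norm hK.norm, quo_comm hUK hUK, h.quo_eq hK.norm]
  have h2 : H ⊓ ⁅M, M⁆ ≤ K ⊓ U ⊔ ⁅U, U⁆ := by
    rw [sup_comm, group_modl' ((der1_le U).trans hUK) (der1_le U)]
    exact le_inf (inf_le_right.trans h1) (inf_le_left.trans hH)
  rw [← quo_le_quo_iff (inf_le_left.trans (hH.trans hU)) (inf_le_right.trans hU)] at h2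
  rw [← quo_eq_bot (inf_le_left.trans (hH.trans hU)), eq_bot_iff,
    ← inf_eq_bot_of_cop (coprime_quo hcop ⁅U, U⁆)]
  exact le_inf (h2.trans (quo_mono _ inf_le_left)) (quo_mono _ inf_le_left)

/-- Lemma 6.5(c); the conjugate is `g H g⁻¹`, hence `g = u c`. -/
theorem pprod_trans_coprime (h : IsProd K U M) (hK : K ⊴ M) (hH : H ≤ U) (hcop : (♯K).Coprime ♯H)
    (hM : Sol M) {g : G} (hg : g ∈ M) (hgU : cj g H ≤ U) :
    ∃ u ∈ U, ∃ c ∈ K ⊓ C[H], g = u * c := by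
  obtain ⟨u, hu, k, hk, rfl⟩ := h.symm.mul g hg
  have hHK : H ≤ N[K] := (hH.trans h.right_le).trans hK.norm
  have h1 : cj k H ≤ U := by
    rw [cj_mul, cj_le_iff, cj_of_mem (inv_mem hu)] at hgU; exact hgU
  have h2 : cj k H ≤ K ⊓ U ⊔ H := by
    rw [group_modr hHK hH]
    exact le_inf (cj_le_of_mem le_sup_right (mem_sup_left hk)) h1
  obtain ⟨v, hv, e⟩ := SchurZassenhaus_trans_sol (hM.of_le (inf_le_left.trans hK.le))
    (norm_inf hHK (norm_of_le hH)) h2 (hcop.coprime_dvd_left (card_dvd inf_le_left)) (card_cj k H)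
  refine ⟨u * v, mul_mem hu hv.2, v⁻¹ * k, ?_, by group⟩
  rw [← coprime_norm_cent hHK hcop]
  exact mem_inf.mpr ⟨K.mul_mem (K.inv_mem hv.1) hk, cj_eq_cj_iff.mp e⟩

/-- Lemma 6.5(b). -/
theorem pprod_norm_coprime_prod (h : IsProd K U M) (hK : K ⊴ M) (hH : H ≤ U)
    (hcop : (♯K).Coprime ♯H) (hM : Sol M) : IsProd (K ⊓ C[H]) (U ⊓ N[H]) (M ⊓ N[H]) := by
  refine IsProd.symm ⟨inf_le_inf_right _ h.right_le, inf_le_inf hK.le (C_le_N H), fun g hg => ?_⟩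
  obtain ⟨u, hu, c, hc, rfl⟩ := pprod_trans_coprime h hK hH hcop hM hg.1
    ((cj_of_mem_N hg.2).le.trans hH)
  refine ⟨u, mem_inf.mpr ⟨hu, ?_⟩, c, hc, rfl⟩
  simpa using (N[H]).mul_mem hg.2 ((N[H]).inv_mem (C_le_N H hc.2))

/-- Lemma 6.6(a). -/
theorem plength1_Frattini (hp : p.Prime) (hS : Syl p M S) (h : PLen1 p M) :
    SD O[{p}ᶜ, M] S (Opp p M) ∧ IsProd O[{p}ᶜ, M] (M ⊓ N[S]) M :=
  ⟨h.sd hS, h.isProd hp hS⟩

/-- Lemma 6.6(b). -/
theorem plength1_Sylow_sub_der1 (hp : p.Prime) (hS : Syl p M S) (h : PLen1 p M) (hd : S ≤ ⁅M, M⁆) :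
    S ≤ ⁅M ⊓ N[S], M ⊓ N[S]⁆ := by
  have := pprod_focal_coprime (h.isProd hp hS) (pcore_nml _ _) (le_inf hS.le (norm_self S))
    ((pcore_pi _ _).coprime' hS.pi)
  rw [inf_eq_left.mpr hd] at this
  exact this.le.trans inf_le_right

/-- Lemma 6.6(c) for a subgroup. -/
theorem plength1_Sylow_trans' (hp : p.Prime) (hS : Syl p M S) (h : PLen1 p M) (hM : Sol M)
    {g : G} (hY : H ≤ S) (hg : g ∈ M) (hYg : cj g H ≤ S) :
    ∃ u ∈ M ⊓ N[S], ∃ c ∈ M ⊓ C[H], g = u * c := by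
  have hSN : S ≤ M ⊓ N[S] := le_inf hS.le (norm_self S)
  obtain ⟨u, hu, c, hc, e⟩ := pprod_trans_coprime (h.isProd hp hS) (pcore_nml _ _) (hY.trans hSN)
    ((pcore_pi _ _).coprime' (hS.pi.of_le hY)) hM hg (hYg.trans hSN)
  exact ⟨u, hu, c, ⟨pcore_le _ _ hc.1, hc.2⟩, e⟩

/-- Lemma 6.6(c). -/
theorem plength1_Sylow_trans (hp : p.Prime) (hS : Syl p M S) (h : PLen1 p M) (hM : Sol M)
    {Y : Set G} {g : G} (hY : Y ⊆ S) (hg : g ∈ M) (hYg : ∀ y ∈ Y, g * y * g⁻¹ ∈ S) :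
    ∃ u ∈ M ⊓ N[S], ∃ c ∈ M ⊓ centralizer Y, g = u * c := by
  obtain ⟨u, hu, c, hc, e⟩ := plength1_Sylow_trans' (H := closure Y) hp hS h hM
    ((closure_le _).mpr hY) hg (by
      rw [cj_le_iff, closure_le]
      intro y hy
      simpa [mem_cj] using hYg y hy)
  exact ⟨u, hu, c, ⟨hc.1, centralizer_le Subgroup.subset_closure hc.2⟩, e⟩

/-- Lemma 6.6(d). -/
theorem plength1_Sylow_Jsub (hp : p.Prime) (hS : Syl p M S) (h : PLen1 p M) (hM : Sol M)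
    (hQM : Q ≤ M) (hQ : IsPi {p} Q) : ∃ x ∈ M ⊓ C[Q ⊓ S], cj x Q ≤ S := by
  obtain ⟨g, hg, hgQ⟩ := Sylow_Jsub hp hS hQ hQM
  obtain ⟨u, hu, c, hc, rfl⟩ := plength1_Sylow_trans' (H := Q ⊓ S) hp hS h hM inf_le_right hg
    ((cj_mono _ inf_le_left).trans hgQ)
  refine ⟨c, hc, ?_⟩
  rwa [cj_mul, cj_le_iff, cj_of_mem_N (inv_mem hu.2)] at hgQ

end H26
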