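import Mathlib
import Cfsg.Agent.H24.Base1
import Cfsg.Agent.H2.MinNormal

/-!
# The Puig subgroups of a subgroup, inside the ambient group (B & G, Appendix B: definitions and
the elementary Lemmas B.1, B.2)
-/

set_option autoImplicit false

namespace H26

open Cfsg H24 Subgroup

universe u v

variable {G : Type u} [Group G] {G' : Type v} [Group G']

/-- `L_S(X)`: the subgroup generated by the abelian subgroups of `S` normalised by `X`. -/
def puigSucc (S X : Subgroup G) : Subgroup G := sSup {A | A ≤ S ∧ Abl A ∧ X ≤ N[A]}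

/-- `L_n(S)`. -/
def puigAt (S : Subgroup G) : ℕ → Subgroup G
  | 0 => ⊥
  | n + 1 => puigSucc S (puigAt S n)

/-- the Puig subgroup `L(S)`, as a subgroup of the ambient group. -/
def puigL (S : Subgroup G) : Subgroup G := (puigSubgroup S).map S.subtype

/-- `L_*(S)`, as a subgroup of the ambient group. -/
def puigInf (S : Subgroup G) : Subgroup G := (puigLower S).map S.subtype

theorem puigAt_zero (S : Subgroup G) : puigAt S 0 = ⊥ := rfl

theorem puigAt_succ (S : Subgroup G) (n : ℕ) : puigAt S (n + 1) = puigSucc S (puigAt S n) := rfl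

theorem puigSucc_le (S X : Subgroup G) : puigSucc S X ≤ S := sSup_le fun _ h => h.1

theorem le_puigSucc {S X A : Subgroup G} (h1 : A ≤ S) (h2 : Abl A) (h3 : X ≤ N[A]) :
    A ≤ puigSucc S X := le_sSup ⟨h1, h2, h3⟩

theorem puigSucc_le_iff {S X Y : Subgroup G} :
    puigSucc S X ≤ Y ↔ ∀ A, A ≤ S → Abl A → X ≤ N[A] → A ≤ Y :=
  ⟨fun h _ h1 h2 h3 => (le_puigSucc h1 h2 h3).trans h,
    fun h => sSup_le fun A hA => h A hA.1 hA.2.1 hA.2.2⟩

theorem puigAt_le (S : Subgroup G) (n : ℕ) : puigAt S n ≤ S := by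
  cases n with
  | zero => exact bot_le
  | succ n => exact puigSucc_le _ _

/-- B & G, Lemma B.1(a), with the ambient subgroup also allowed to vary. -/
theorem puigSucc_mono {S T X Y : Subgroup G} (hST : S ≤ T) (h : Y ≤ X) :
    puigSucc S X ≤ puigSucc T Y :=
  puigSucc_le_iff.mpr fun _ h1 h2 h3 => le_puigSucc (h1.trans hST) h2 (h.trans h3)

theorem puigSucc_le_of_le {S T X Y : Subgroup G} (hT : puigSucc S X ≤ T) (h : Y ≤ X) :
    puigSucc S X ≤ puigSucc T Y :=
  puigSucc_le_iff.mpr fun _ h1 h2 h3 =>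
    le_puigSucc ((le_puigSucc h1 h2 h3).trans hT) h2 (h.trans h3)

theorem puigSucc_bot (S : Subgroup G) : puigSucc S ⊥ = S :=
  le_antisymm (puigSucc_le _ _) fun x hx =>
    le_puigSucc (zpowers_le.mpr hx) (abl_zpowers x) bot_le (mem_zpowers x)

theorem puigAt_one (S : Subgroup G) : puigAt S 1 = S := puigSucc_bot S

theorem map_puigStep (S : Subgroup G) (X : Subgroup S) :
    (puigStep X).map S.subtype = puigSucc S (X.map S.subtype) := by
  apply le_antisymm
  · rw [map_le_iff_le_comap]
    refine sSup_le fun A hA => ?_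
    rw [← map_le_iff_le_comap]
    exact le_puigSucc (map_subtype_le A) (Abl.map hA.1 _) (norm_map hA.2 _)
  · refine puigSucc_le_iff.mpr fun A h1 h2 h3 => ?_
    rw [← map_subgroupOf_eq_of_le h1] at h3 ⊢
    exact map_mono (le_sSup ⟨inferInstance, norm_of_map S.subtype_injective h3⟩)

theorem map_puigSeq (S : Subgroup G) (n : ℕ) : (puigSeq S n).map S.subtype = puigAt S n := by
  induction n with
  | zero => exact Subgroup.map_bot _
  | succ n ih => rw [puigAt_succ, ← ih]; exact map_puigStep S _

theorem puigL_eq (S : Subgroup G) : puigL S = ⨅ n, puigAt S (2 * n + 1) := by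
  simp only [← map_puigSeq]
  exact Subgroup.map_iInf _ S.subtype_injective _

theorem puigInf_eq (S : Subgroup G) : puigInf S = ⨆ n, puigAt S (2 * n) := by
  simp only [← map_puigSeq]
  exact Subgroup.map_iSup _ _

theorem puigL_le (S : Subgroup G) : puigL S ≤ S := map_subtype_le _

theorem puigInf_le (S : Subgroup G) : puigInf S ≤ S := map_subtype_le _

theorem puigAt_even_mono (S : Subgroup G) (n : ℕ) :
    puigAt S (2 * n) ≤ puigAt S (2 * n + 2) := by
  induction n with
  | zero => exact bot_le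
  | succ n ih => exact puigSucc_mono le_rfl (puigSucc_mono le_rfl ih)

theorem puigAt_odd_anti (S : Subgroup G) (n : ℕ) :
    puigAt S (2 * n + 3) ≤ puigAt S (2 * n + 1) :=
  puigSucc_mono le_rfl (puigAt_even_mono S n)

theorem puigAt_even_le_odd (S : Subgroup G) (n m : ℕ) :
    puigAt S (2 * n) ≤ puigAt S (2 * m + 1) := by
  induction h : n + m using Nat.strong_induction_on generalizing n m with
  | _ k ih =>
  cases n with
  | zero => exact bot_le
  | succ n =>
    cases m with
    | zero => rw [Nat.mul_zero, Nat.zero_add, puigAt_one]; exact puigAt_le _ _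
    | succ m => exact puigSucc_mono le_rfl (ih _ (by omega) (m + 1) n rfl)

theorem puigAt_even_monotone (S : Subgroup G) : Monotone fun n => puigAt S (2 * n) :=
  monotone_nat_of_le_succ (puigAt_even_mono S)

theorem puigAt_odd_antitone (S : Subgroup G) : Antitone fun n => puigAt S (2 * n + 1) :=
  antitone_nat_of_succ_le (puigAt_odd_anti S)

theorem puigAt_le_puigInf (S : Subgroup G) (n : ℕ) : puigAt S (2 * n) ≤ puigInf S := by
  rw [puigInf_eq]; exact le_iSup (fun n => puigAt S (2 * n)) n

theorem puigL_le_puigAt (S : Subgroup G) (n : ℕ) : puigL S ≤ puigAt S (2 * n + 1) := by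
  rw [puigL_eq]; exact iInf_le (fun n => puigAt S (2 * n + 1)) n

/-- B & G, Lemma B.1(d). -/
theorem puigInf_le_puigL (S : Subgroup G) : puigInf S ≤ puigL S := by
  rw [puigInf_eq, puigL_eq]
  exact iSup_le fun n => le_iInf fun m => puigAt_even_le_odd S n m

/-- B & G, Lemma B.1(c). -/
theorem puig_stable [Finite G] (S : Subgroup G) :
    ∃ k, ∀ n, k ≤ n → puigAt S (2 * n) = puigInf S ∧ puigAt S (2 * n + 1) = puigL S := by
  obtain ⟨k, hk⟩ := WellFoundedGT.monotone_chain_condition ⟨_, puigAt_even_monotone S⟩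
  have h1 : ∀ n, k ≤ n → puigAt S (2 * n) = puigAt S (2 * k) := fun n hn => (hk n hn).symm
  have h2 : ∀ n, k ≤ n → puigAt S (2 * n + 1) = puigAt S (2 * k + 1) := fun n hn => by
    rw [puigAt_succ, h1 n hn, puigAt_succ]
  refine ⟨k, fun n hn => ⟨le_antisymm (puigAt_le_puigInf S n) ?_,
    le_antisymm ?_ (puigL_le_puigAt S n)⟩⟩
  · rw [puigInf_eq]
    refine iSup_le fun m => ?_
    rcases le_total m n with h | h
    · exact puigAt_even_monotone S h
    · rw [h1 n hn, h1 m (hn.trans h)]
  · rw [puigL_eq]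
    refine le_iInf fun m => ?_
    rcases le_total m n with h | h
    · exact puigAt_odd_antitone S h
    · rw [h2 n hn, h2 m (hn.trans h)]

/-- B & G, Lemma B.1(g), first part. -/
theorem puigSucc_puigInf [Finite G] (S : Subgroup G) : puigSucc S (puigInf S) = puigL S := by
  obtain ⟨k, hk⟩ := puig_stable S
  rw [← (hk k le_rfl).1, ← (hk k le_rfl).2, puigAt_succ]

/-- B & G, Lemma B.1(g), second part. -/
theorem puigSucc_puigL [Finite G] (S : Subgroup G) : puigSucc S (puigL S) = puigInf S := by
  obtain ⟨k, hk⟩ := puig_stable S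
  rw [← (hk (k + 1) (Nat.le_succ k)).1, ← (hk k le_rfl).2]
  rfl

theorem norm_puigSucc {X S Y : Subgroup G} (hS : X ≤ N[S]) (hY : X ≤ N[Y]) :
    X ≤ N[puigSucc S Y] := by
  have key : ∀ g ∈ X, cj g (puigSucc S Y) ≤ puigSucc S Y := by
    intro g hg
    rw [cj_le_iff]
    refine puigSucc_le_iff.mpr fun A h1 h2 h3 => ?_
    rw [← cj_le_iff]
    refine le_puigSucc (cj_le_of_mem_N h1 (hS hg)) (h2.cj g) ?_
    rw [← cj_of_mem_N (hY hg)]
    exact norm_cj h3 g
  intro g hg
  rw [mem_N_iff_cj]
  refine le_antisymm (key g hg) ?_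
  rw [le_cj_iff]
  exact key _ (X.inv_mem hg)

theorem norm_puigAt {X S : Subgroup G} (hS : X ≤ N[S]) (n : ℕ) : X ≤ N[puigAt S n] := by
  induction n with
  | zero => rw [puigAt_zero, N_bot]; exact le_top
  | succ n ih => exact norm_puigSucc hS ih

/-- `L(S)` is characteristic: normalised by everything that normalises `S`. -/
theorem norm_puigL {X S : Subgroup G} (hS : X ≤ N[S]) : X ≤ N[puigL S] := by
  rw [puigL_eq]; exact norm_iInf fun _ => norm_puigAt hS _

theorem norm_puigInf {X S : Subgroup G} (hS : X ≤ N[S]) : X ≤ N[puigInf S] := by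
  rw [puigInf_eq]; exact norm_iSup fun _ => norm_puigAt hS _

theorem norm_center_puigL {X S : Subgroup G} (hS : X ≤ N[S]) : X ≤ N[Z[puigL S]] :=
  norm_Z (norm_puigL hS)

theorem puigL_nml (S : Subgroup G) : puigL S ⊴ S := ⟨puigL_le S, norm_puigL (norm_self S)⟩

theorem center_puigL_nml (S : Subgroup G) : Z[puigL S] ⊴ S := (puigL_nml S).center

/-- B & G, Lemma B.1(e). -/
theorem abelian_norm_Puig {S A : Subgroup G} {n : ℕ} (hn : 0 < n) (hA : Abl A) (h : A ⊴ S) :
    A ≤ puigAt S n := by
  obtain ⟨n, rfl⟩ := Nat.exists_eq_succ_of_ne_zero hn.ne'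
  exact le_puigSucc h.le hA ((puigAt_le S n).trans h.norm)

theorem abelian_norm_puigInf {S A : Subgroup G} (hA : Abl A) (h : A ⊴ S) : A ≤ puigInf S :=
  (abelian_norm_Puig (n := 2 * 1) (by norm_num) hA h).trans (puigAt_le_puigInf S 1)

theorem abelian_norm_puigL {S A : Subgroup G} (hA : Abl A) (h : A ⊴ S) : A ≤ puigL S :=
  (abelian_norm_puigInf hA h).trans (puigInf_le_puigL S)

/-- B & G, Lemma B.2. -/
theorem sub_Puig_eq [Finite G] {S T : Subgroup G} (hTS : T ≤ S) (h : puigL S ≤ T) :
    puigL T = puigL S := by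
  have h1 : ∀ i, puigAt T (2 * i) ≤ puigInf S ∧ puigL S ≤ puigAt T (2 * i + 1) := by
    have step : ∀ i, puigAt T (2 * i) ≤ puigInf S → puigL S ≤ puigAt T (2 * i + 1) := by
      intro i hi
      rw [← puigSucc_puigInf] at h ⊢
      exact puigSucc_le_of_le h hi
    intro i
    induction i with
    | zero => exact ⟨bot_le, step 0 bot_le⟩
    | succ i ih =>
      have : puigAt T (2 * (i + 1)) ≤ puigInf S := by
        rw [← puigSucc_puigL]; exact puigSucc_mono hTS ih.2
      exact ⟨this, step _ this⟩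
  have h2 : ∀ i, puigAt S (2 * i) ≤ puigInf T ∧ puigL T ≤ puigAt S (2 * i + 1) := by
    have step : ∀ i, puigAt S (2 * i) ≤ puigInf T → puigL T ≤ puigAt S (2 * i + 1) := by
      intro i hi
      rw [← puigSucc_puigInf]
      exact puigSucc_mono hTS hi
    intro i
    induction i with
    | zero => exact ⟨bot_le, step 0 bot_le⟩
    | succ i ih =>
      have : puigAt S (2 * (i + 1)) ≤ puigInf T := by
        rw [← puigSucc_puigL]
        exact puigSucc_le_of_le
          (((puigAt_le_puigInf S (i + 1)).trans (puigInf_le_puigL S)).trans h) ih.2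
      exact ⟨this, step _ this⟩
  apply le_antisymm
  · rw [puigL_eq S]; exact le_iInf fun i => (h2 i).2
  · rw [puigL_eq T]; exact le_iInf fun i => (h1 i).2

/-! ### behaviour under injective morphisms -/

theorem puigSucc_map {f : G →* G'} (hf : Function.Injective f) (S X : Subgroup G) :
    (puigSucc S X).map f = puigSucc (S.map f) (X.map f) := by
  apply le_antisymm
  · rw [map_le_iff_le_comap]
    refine puigSucc_le_iff.mpr fun A h1 h2 h3 => ?_
    rw [← map_le_iff_le_comap]
    exact le_puigSucc (map_mono h1) (h2.map f) (norm_map h3 f)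
  · refine puigSucc_le_iff.mpr fun A h1 h2 h3 => ?_
    have e : (A.comap f).map f = A := map_comap_eq_self (h1.trans (map_le_range f S))
    rw [← e] at h3 ⊢
    refine map_mono (le_puigSucc ?_ (comap_injective_isMulCommutative A hf) (norm_of_map hf h3))
    rw [← comap_map_eq_self_of_injective hf S]
    exact comap_mono h1

theorem puigAt_map {f : G →* G'} (hf : Function.Injective f) (S : Subgroup G) (n : ℕ) :
    (puigAt S n).map f = puigAt (S.map f) n := by
  induction n with
  | zero => exact Subgroup.map_bot _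
  | succ n ih => rw [puigAt_succ, puigAt_succ, puigSucc_map hf, ih]

theorem puigL_map {f : G →* G'} (hf : Function.Injective f) (S : Subgroup G) :
    (puigL S).map f = puigL (S.map f) := by
  rw [puigL_eq, puigL_eq, Subgroup.map_iInf _ hf]
  simp only [puigAt_map hf]

theorem puigInf_map {f : G →* G'} (hf : Function.Injective f) (S : Subgroup G) :
    (puigInf S).map f = puigInf (S.map f) := by
  rw [puigInf_eq, puigInf_eq, Subgroup.map_iSup]
  simp only [puigAt_map hf]

theorem puigAt_top (n : ℕ) : puigAt (⊤ : Subgroup G) n = puigSeq G n := by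
  induction n with
  | zero => rfl
  | succ n ih =>
    rw [puigAt_succ, ih]
    exact congrArg sSup (Set.ext fun A => ⟨fun h => h.2, fun h => ⟨le_top, h⟩⟩)

theorem puigSucc_top (X : Subgroup G) : puigSucc ⊤ X = puigStep X :=
  congrArg sSup (Set.ext fun _ => ⟨fun h => h.2, fun h => ⟨le_top, h⟩⟩)

theorem puigL_top : puigL (⊤ : Subgroup G) = puigSubgroup G := by
  rw [puigL_eq]; simp only [puigAt_top]; rfl

theorem puigInf_top : puigInf (⊤ : Subgroup G) = puigLower G := by
  rw [puigInf_eq]; simp only [puigAt_top]; rfl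

theorem puigL_map_of_inf_ker {f : G →* G'} {S : Subgroup G} (h : S ⊓ f.ker = ⊥) :
    (puigL S).map f = puigL (S.map f) := by
  have hf : Function.Injective (f.comp S.subtype) := by
    rw [injective_iff_map_eq_one]
    intro a ha
    have : (a : G) ∈ S ⊓ f.ker := ⟨a.2, ha⟩
    rw [h] at this
    exact Subtype.ext this
  rw [puigL, Subgroup.map_map, ← puigL_top, puigL_map hf, ← Subgroup.map_map,
    ← MonoidHom.range_eq_map, range_subtype]

theorem puigL_cj (g : G) (S : Subgroup G) : cj g (puigL S) = puigL (cj g S) :=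
  puigL_map (conj_injective' g) S

/-! ### nilpotent groups -/

/-- an abelian normal subgroup of a nilpotent group lies in a self-centralising normal one. -/
theorem exists_SCN_ge [Finite G] {S A : Subgroup G} (hS : Nil S) (hA : Abl A) (h : A ⊴ S) :
    ∃ B, A ≤ B ∧ B ⊴ S ∧ Abl B ∧ S ⊓ C[B] = B := by
  have := h.normal
  obtain ⟨B, h1, h2, h3, h4⟩ := H2.exists_selfCentralizing_normal_ge (A.subgroupOf S)
  refine ⟨B.map S.subtype, ?_, nml_map_subtype B, Abl.map h3 _, ?_⟩
  · rw [← map_subgroupOf_eq_of_le h.le]; exact map_mono h1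
  · have := map_inf_C S.subtype_injective ⊤ B
    rw [← MonoidHom.range_eq_map, range_subtype, top_inf_eq, h4] at this
    exact this.symm

theorem cent_le_of_forall_abl [Finite G] {S X : Subgroup G} (hS : Nil S)
    (h : ∀ A, Abl A → A ⊴ S → A ≤ X) : S ⊓ C[X] ≤ X := by
  obtain ⟨B, -, h1, h2, h3⟩ := exists_SCN_ge hS abl_bot (Nml.bot S)
  have := h B h2 h1
  exact ((inf_le_inf_left S (C_anti this)).trans h3.le).trans this

/-- B & G, Lemma B.1(f). -/
theorem sub_cent_Puig_at [Finite G] {S : Subgroup G} (hS : Nil S) {n : ℕ} (hn : 0 < n) :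
    S ⊓ C[puigAt S n] ≤ puigAt S n :=
  cent_le_of_forall_abl hS fun _ h1 h2 => abelian_norm_Puig hn h1 h2

theorem sub_cent_puigInf [Finite G] {S : Subgroup G} (hS : Nil S) :
    S ⊓ C[puigInf S] ≤ puigInf S :=
  cent_le_of_forall_abl hS fun _ h1 h2 => abelian_norm_puigInf h1 h2

theorem sub_cent_puigL [Finite G] {S : Subgroup G} (hS : Nil S) : S ⊓ C[puigL S] ≤ puigL S :=
  cent_le_of_forall_abl hS fun _ h1 h2 => abelian_norm_puigL h1 h2

theorem center_le_center_puigL (S : Subgroup G) : Z[S] ≤ Z[puigL S] :=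
  le_inf (abelian_norm_puigL (abl_center S) (center_nml S))
    (inf_le_right.trans (C_anti (puigL_le S)))

theorem center_ne_bot_of_nil [Finite G] {S : Subgroup G} (hS : Nil S) (h : S ≠ ⊥) : Z[S] ≠ ⊥ :=
  H2.inf_centralizer_ne_bot_of_isNilpotent hS le_rfl (norm_self S) h

/-- MathComp `trivg_center_Puig_pgroup`. -/
theorem trivg_center_Puig [Finite G] {S : Subgroup G} (hS : Nil S) (h : Z[puigL S] = ⊥) :
    S = ⊥ := by
  by_contra hne
  exact center_ne_bot_of_nil hS hne (eq_bot_of_le h (center_le_center_puigL S))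

end H26
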