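import Mathlib
import Cfsg.Agent.H24.Base4
import Cfsg.Agent.H12.PStable
import Cfsg.Agent.H13.PConstrained
import Cfsg.Agent.H26.PuigDefs

/-! # B & G Appendices A, B and Theorems 6.1, 6.2 -/

set_option autoImplicit false

namespace H26

open Cfsg H24 Subgroup

universe u

variable {G : Type u} [Group G] [Finite G]
variable {A K L M P S X : Subgroup G} {p : ℕ} {π : Set ℕ}

/-- `A / K` is a `π`-group iff all `π'`-elements of `A` lie in `K`. -/
theorem piNat_relIndex_iff' (hAK : A ≤ N[K]) :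
    PiNat π (K.relIndex A) ↔ ∀ x ∈ A, PiElt πᶜ x → x ∈ K := by
  rw [← isPi_quo_iff hAK, isPi_iff_piElt]
  constructor
  · intro h x hx hx'
    rw [← cs_eq_one (hAK hx)]
    exact (h _ (cs_mem_quo hx (hAK hx))).eq_one (hx'.ap _ (hAK hx))
  · intro h z hz
    obtain ⟨x, hx, hxN, rfl⟩ := mem_quo.mp hz
    rw [← compl_compl π, ← constt_eq_one_iff, cs, ← constt_ap _ _ hxN]
    exact cs_of_mem (h _ (constt_mem _ hx) (piElt_constt _ _))

theorem eq_bot_of_odd_two (hodd : Odd ♯M) (hP : IsPi {2} P) (hPM : P ≤ M) : P = ⊥ := by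
  by_contra h
  exact (Nat.not_even_iff_odd.mpr (odd_of_le hodd hPM)) (even_iff_two_dvd.mpr (hP.dvd_card h))

/-- `p`-stability of groups of odd order, element form. -/
theorem odd_quad_stable (hp : p.Prime) (hodd : Odd ♯M) (hP : IsPi {p} P) (hn : P ⊴ M) {a : G}
    (ha : a ∈ M) (hq : ⁅⁅P, zpowers a⁆, zpowers a⁆ = ⊥) : a ∈ coreMod {p} M (M ⊓ C[P]) := by
  by_cases h2 : p = 2
  · subst h2
    rw [eq_bot_of_odd_two hodd hP hn.le, C_bot, inf_top_eq]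
    exact le_coreMod _ _ _ ha
  have := Fact.mk hp
  have := hn.normal
  have hst := H12.isPStableOn_of_isPGroup (H12.not_quadInvolved_of_odd h2 hodd) (P.subgroupOf M)
    ((isPi_subgroupOf hP M).isPGroup hp)
  have hz : zpowers (⟨a, ha⟩ : M) = (zpowers a).subgroupOf M := by
    apply map_injective M.subtype_injective
    rw [map_subgroupOf' ((zpowers_le).mpr ha), MonoidHom.map_zpowers]; rfl
  have haM : zpowers a ≤ M := zpowers_le.mpr ha
  obtain ⟨D, hD, haD, hDp⟩ := H13.isPStableOn_iff.mp hst ⟨a, ha⟩ (by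
    rw [hz, ← subgroupOf_comm hn.le haM, ← subgroupOf_comm (comm_le_of_le hn.le haM) haM, hq,
      bot_subgroupOf])
  have hC := hn.infC
  refine coreMod_max hC.norm (nml_map_subtype D) ?_ ⟨_, haD, rfl⟩
  rw [piNat_relIndex_iff' ((map_subtype_le' D).trans hC.norm)]
  rintro _ ⟨x, hx, rfl⟩ hx'
  obtain ⟨k, hk⟩ := hDp x hx
  rw [H12.centralizer_subgroupOf_eq hn.le, mem_subgroupOf] at hk
  refine ⟨x.2, H12.mem_of_pow_mem_of_coprime (m := p ^ k) (n := orderOf (M.subtype x))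
    ((piNat_self_pow hp k).coprime hx') hk ?_⟩
  rw [pow_orderOf_eq_one]; exact one_mem _

/-- Theorem A.4(c): `A C / C ≤ O_p(N_M(P) / C)` with `C = C_M(P)`. -/
theorem odd_p_stable' (hp : p.Prime) (hodd : Odd ♯M) (hP : IsPi {p} P) (hPM : P ≤ M)
    (hAN : A ≤ M ⊓ N[P]) (hq : ⁅⁅P, A⁆, A⁆ = ⊥) : A ≤ coreMod {p} (M ⊓ N[P]) (M ⊓ C[P]) := by
  intro a ha
  have e : M ⊓ C[P] = M ⊓ N[P] ⊓ C[P] := by rw [inf_assoc, inf_eq_right.mpr (C_le_N P)]
  have h1 : zpowers a ≤ A := zpowers_le.mpr ha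
  rw [e]
  exact odd_quad_stable hp (odd_of_le hodd inf_le_left) hP
    ⟨le_inf hPM (norm_self P), inf_le_right⟩ (hAN ha)
    (eq_bot_of_le hq (commutator_mono (comm_mono_right h1) h1))

/-- Theorem A.4(c): `A C / C ≤ O_p(N_M(P) / C)` with `C = C_M(P)`. -/
theorem odd_p_stable (hp : p.Prime) (hodd : Odd ♯M) (_hM : Sol M) (hP : IsPi {p} P)
    (hn : O[{p}ᶜ, M] ⊔ P ⊴ M) (_hA : IsPi {p} A) (hAN : A ≤ M ⊓ N[P]) (hq : ⁅⁅P, A⁆, A⁆ = ⊥) :
    A ≤ coreMod {p} (M ⊓ N[P]) (M ⊓ C[P]) :=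
  odd_p_stable' hp hodd hP (le_sup_right.trans hn.le) hAN hq

/-- Theorem A.5(a), for one abelian subgroup. -/
theorem odd_abelian_stable (hp : p.Prime) (hodd : Odd ♯M) (hP : IsPi {p} P) (hn : P ⊴ M)
    (hA : A ≤ M) (ha : Abl A) (hPA : P ≤ N[A]) : A ≤ coreMod {p} M (M ⊓ C[P]) := by
  have := odd_p_stable' hp hodd hP hn.le (le_inf hA (hA.trans hn.norm))
    (comm_eq_bot.mpr ((comm_le_right hPA).trans ha.le_C))
  rwa [inf_eq_left.mpr hn.norm] at this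

/-- Theorem A.5(a). -/
theorem odd_abelian_gen_stable (hp : p.Prime) (hodd : Odd ♯M) (_hM : Sol M) (hP : IsPi {p} P)
    (hn : P ⊴ M) {𝒮 : Set (Subgroup G)} (h : ∀ B ∈ 𝒮, B ≤ M ∧ Abl B ∧ IsPi {p} B ∧ P ≤ N[B]) :
    sSup 𝒮 ≤ coreMod {p} M (M ⊓ C[P]) :=
  sSup_le fun B hB => odd_abelian_stable hp hodd hP hn (h B hB).1 (h B hB).2.1 (h B hB).2.2.2

/-- If `O_p'(M) = 1` and `C_{O_p(M)}(P) ≤ P` then `C_M(P) ≤ P`. -/
theorem cent_le_of_pcore_cent_le (hp : p.Prime) (hM : Sol M) (hn : P ⊴ M) (hO : O[{p}ᶜ, M] = ⊥)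
    (hC : O[{p}, M] ⊓ C[P] ≤ P) : M ⊓ C[P] ≤ P := by
  have h1 := hn.infC
  have h2 : O[{p}, M ⊓ C[P]] ≤ P :=
    (le_inf (h1.pcore_le _) ((pcore_le _ _).trans inf_le_right)).trans hC
  have h3 := cent_sub_pcore hp (hM.of_le h1.le) (eq_bot_of_le hO (h1.pcore_le _))
  exact (le_inf le_rfl (inf_le_right.trans (C_anti h2))).trans (h3.trans h2)

/-- Theorem A.5(b), for one abelian subgroup. -/
theorem odd_abelian_constrained (hp : p.Prime) (hodd : Odd ♯M) (hM : Sol M) (hP : IsPi {p} P)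
    (hn : P ⊴ M) (hO : O[{p}ᶜ, M] = ⊥) (hC : O[{p}, M] ⊓ C[P] ≤ P)
    (hA : A ≤ M) (ha : Abl A) (hPA : P ≤ N[A]) : A ≤ O[{p}, M] := by
  rw [← coreMod_of_pi (hP.of_le (cent_le_of_pcore_cent_le hp hM hn hO hC)) hn.infC]
  exact odd_abelian_stable hp hodd hP hn hA ha hPA

/-- Theorem A.5(b). -/
theorem odd_abelian_gen_constrained (hp : p.Prime) (hodd : Odd ♯M) (hM : Sol M) (hP : IsPi {p} P)
    (hn : P ⊴ M) {𝒮 : Set (Subgroup G)} (h : ∀ B ∈ 𝒮, B ≤ M ∧ Abl B ∧ IsPi {p} B ∧ P ≤ N[B])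
    (hO : O[{p}ᶜ, M] = ⊥) (hC : O[{p}, M] ⊓ C[P] ≤ P) : sSup 𝒮 ≤ O[{p}, M] :=
  sSup_le fun B hB =>
    odd_abelian_constrained hp hodd hM hP hn hO hC (h B hB).1 (h B hB).2.1 (h B hB).2.2.2

/-- Theorem 6.1 when `O_p'(M) = 1`. -/
theorem odd_p_abelian_constrained_pcore (hp : p.Prime) (hodd : Odd ♯M) (hM : Sol M)
    (hO : O[{p}ᶜ, M] = ⊥) (hS : Syl p M S) (hA : Abl A) (hn : A ⊴ S) : A ≤ O[{p}, M] :=
  odd_abelian_constrained hp hodd hM (pcore_pi _ _) (pcore_nml _ _) hO inf_le_left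
    (hn.le.trans hS.le) hA ((pcore_le_Hall hS).trans hn.norm)

/-- Theorem 6.1. -/
theorem odd_p_abelian_constrained (hp : p.Prime) (hodd : Odd ♯M) (hM : Sol M) (hS : Syl p M S)
    (hA : Abl A) (hn : A ⊴ S) : A ≤ Opp p M := by
  have hK := pcore_nml {p}ᶜ M
  have := odd_p_abelian_constrained_pcore hp (odd_quo hodd _) (hM.quo _) (pcore_quo_pcore _ _)
    (hS.quo hK.norm) (hA.quo _) (hn.quo _)
  exact (quo_le_iff ((hn.le.trans hS.le).trans hK.norm)).mp this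

theorem pcore_Sylow_puigAt_sub (hp : p.Prime) (hodd : Odd ♯M) (hM : Sol M) (hS : Syl p M S)
    (hO : O[{p}ᶜ, M] = ⊥) (n : ℕ) : puigAt S (2 * n) ≤ puigAt O[{p}, M] (2 * n) ∧
      puigAt O[{p}, M] (2 * n + 1) ≤ puigAt S (2 * n + 1) := by
  have hT := pcore_le_Hall hS
  have step : ∀ n, puigAt S (2 * n) ≤ puigAt O[{p}, M] (2 * n) →
      puigAt O[{p}, M] (2 * n + 1) ≤ puigAt S (2 * n + 1) := fun n h => puigSucc_mono hT h
  induction n with
  | zero => exact ⟨bot_le, step 0 bot_le⟩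
  | succ n ih =>
    refine (fun h => ⟨h, step _ h⟩) ?_
    show puigSucc S (puigAt S (2 * n + 1)) ≤ puigSucc _ (puigAt _ (2 * n + 1))
    refine puigSucc_le_iff.mpr fun A hA ha hn => le_puigSucc ?_ ha (ih.2.trans hn)
    exact odd_abelian_constrained hp hodd hM ((pcore_pi _ _).of_le (puigAt_le _ _))
      ⟨(puigAt_le _ _).trans (pcore_le _ _), norm_puigAt (pcore_nml _ _).norm _⟩ hO
      (sub_cent_Puig_at ((pcore_pi _ _).nil hp) (Nat.succ_pos _)) (hA.trans hS.le) ha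
      (ih.2.trans hn)

/-- Lemma B.3. -/
theorem pcore_Sylow_Puig_sub (hp : p.Prime) (hodd : Odd ♯M) (hM : Sol M) (hS : Syl p M S)
    (hO : O[{p}ᶜ, M] = ⊥) : puigInf S ≤ puigInf O[{p}, M] ∧ puigL O[{p}, M] ≤ puigL S := by
  rw [puigInf_eq, puigInf_eq, puigL_eq, puigL_eq]
  exact ⟨iSup_mono fun n => (pcore_Sylow_puigAt_sub hp hodd hM hS hO n).1,
    iInf_mono fun n => (pcore_Sylow_puigAt_sub hp hodd hM hS hO n).2⟩

/-- Theorem B.4(b) = 6.2, special case. -/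
theorem Puig_center_normal (hp : p.Prime) (hodd : Odd ♯M) (hM : Sol M) (hS : Syl p M S)
    (hO : O[{p}ᶜ, M] = ⊥) : Z[puigL S] ⊴ M := by
  have hT := pcore_nml {p} M
  have hTp := pcore_pi {p} M
  have hY : Z[puigL O[{p}, M]] ⊴ M :=
    ⟨(center_puigL_nml _).le.trans hT.le, norm_center_puigL hT.norm⟩
  have hYp : IsPi {p} Z[puigL O[{p}, M]] := hTp.of_le (center_puigL_nml _).le
  have hZT := odd_p_abelian_constrained_pcore hp hodd hM hO hS (abl_center _) (center_puigL_nml S)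
  have hc : Z[puigL S] ≤ C[puigL O[{p}, M]] :=
    inf_le_right.trans (C_anti (pcore_Sylow_Puig_sub hp hodd hM hS hO).2)
  have hZY : Z[puigL S] ≤ Z[puigL O[{p}, M]] :=
    le_inf ((le_inf hZT hc).trans (sub_cent_puigL (hTp.nil hp))) hc
  have hYS := abelian_norm_puigInf (abl_center _) (hY.of_le (hS.nml_le hYp hY) hS.le)
  set Y := Z[puigL O[{p}, M]]
  have hC := hY.infC
  have hD := coreMod_nml {p} hC
  set D := coreMod {p} M (M ⊓ C[Y])
  have hLD : puigL S ≤ D := by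
    rw [← puigSucc_puigInf]
    exact puigSucc_le_iff.mpr fun A hA ha hn =>
      odd_abelian_stable hp hodd hYp hY (hA.trans hS.le) ha (hYS.trans hn)
  have hSD := hS.inf_nml hD
  have hL : puigL (S ⊓ D) = puigL S := sub_Puig_eq inf_le_left (le_inf (puigL_le S) hLD)
  have h1 : M ⊓ N[S ⊓ D] ≤ N[Z[puigL S]] := hL ▸ norm_center_puigL inf_le_right
  have h2 : D ≤ N[Z[puigL S]] := by
    rw [← (hSD.isProd_of_idx (le_coreMod _ _ _) (coreMod_idx _ _ _)).sup_eq]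
    exact sup_le (inf_le_left.trans (center_puigL_nml S).norm)
      (norm_of_cent (inf_le_right.trans (C_anti hZY)))
  refine ⟨(center_puigL_nml S).le.trans hS.le, ?_⟩
  rw [← (Frattini_arg hp hD hSD).sup_eq]
  exact sup_le h2 h1

section Img

variable {G' : Type*} [Group G'] {D : Subgroup G} {f : D →* G'}

omit [Finite G] in
theorem img_puigL (hS : S ≤ D) (h : pre f ⊥ ⊓ S = ⊥) : img f (puigL S) = puigL (img f S) := by
  have h1 : (puigL S).subgroupOf D = puigL (S.subgroupOf D) := by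
    apply map_injective D.subtype_injective
    rw [puigL_map D.subtype_injective, map_subgroupOf' hS, map_subgroupOf' ((puigL_le S).trans hS)]
  rw [img, h1, img, puigL_map_of_inf_ker]
  rw [eq_bot_iff]
  rintro x ⟨hx, hk⟩
  have : (x : G) ∈ pre f ⊥ ⊓ S := ⟨mem_pre_bot.mpr ⟨x.2, by rw [ap_coe]; exact hk⟩, hx⟩
  rw [h, mem_bot] at this
  exact mem_bot.mpr (Subtype.ext this)

omit [Finite G] in
theorem img_center_of_inf (hS : S ≤ D) (h : pre f ⊥ ⊓ S = ⊥) : img f Z[S] = Z[img f S] := by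
  refine le_antisymm (img_inf_C_le _ _ _) ?_
  rintro z ⟨hz, hc⟩
  obtain ⟨x, hx, rfl⟩ := (mem_img_of_le hS).mp hz
  have hxS : zpowers x ≤ S := zpowers_le.mpr hx
  refine ap_mem_img _ ⟨hx, ?_⟩ (hS hx)
  have h1 : ⁅zpowers x, S⁆ ≤ pre f ⊥ := by
    rw [comm_le_ker (hxS.trans hS) hS, img_zpowers _ (hS hx)]
    exact zpowers_le.mpr hc
  have h2 : ⁅zpowers x, S⁆ = ⊥ := eq_bot_of_le h (le_inf h1 (comm_le_of_le hxS le_rfl))
  exact comm_eq_bot.mp h2 (mem_zpowers x)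

end Img

theorem Puig_center_p'core_normal (hp : p.Prime) (hodd : Odd ♯M) (hM : Sol M) (hS : Syl p M S) :
    O[{p}ᶜ, M] ⊔ Z[puigL S] ⊴ M := by
  have hK := pcore_nml {p}ᶜ M
  have hSN := hS.le.trans hK.norm
  have hi : O[{p}ᶜ, M] ⊓ S = ⊥ := (pcore_pi _ _).inf_eq_bot' hS.pi
  have hi' : pre (coset O[{p}ᶜ, M]) ⊥ ⊓ S = ⊥ := by rwa [ker_coset]
  have h := Puig_center_normal hp (odd_quo hodd _) (hM.quo _) (hS.quo hK.norm) (pcore_quo_pcore _ _)
  rw [quo, ← img_puigL hSN hi', ← img_center_of_inf ((puigL_le S).trans hSN)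
    (eq_bot_of_le hi' (inf_le_inf_left _ (puigL_le S)))] at h
  have := nml_coq_of hK h
  rwa [coq_quo' ((center_puigL_nml S).le.trans hSN)] at this

/-- Theorem B.4(a) = 6.2. -/
theorem Puig_factorisation (hp : p.Prime) (hodd : Odd ♯M) (hM : Sol M) (hS : Syl p M S) :
    IsProd O[{p}ᶜ, M] (M ⊓ N[Z[puigL S]]) M := by
  have hK := pcore_nml {p}ᶜ M
  have hZ := (center_puigL_nml S).le
  have h := Puig_center_p'core_normal hp hodd hM hS
  have hp1 := isProd_sup ((hZ.trans hS.le).trans hK.norm)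
  have h2 := (Frattini_arg hp h (hp1.hall_right (pcore_pi _ _) (hS.pi.of_le hZ))).sup_eq
  rw [sup_assoc, sup_eq_right.mpr (le_inf (hZ.trans hS.le) (norm_self _))] at h2
  have := hK.isProd_sup (L := M ⊓ N[Z[puigL S]]) inf_le_left
  rwa [h2] at this

end H26
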