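import Mathlib
import Cfsg.Agent.H24.Base5
import Cfsg.Agent.H1.Gaschutz
import Cfsg.Agent.H3.Transfer
import Cfsg.Agent.H26.SAB
import Cfsg.Agent.H26.S06a

/-! # B & G §1, first part: everything that does not need critical subgroups or matrices -/

set_option autoImplicit false

namespace H26

open Cfsg H24 Subgroup
open H25 hiding abl_iff cyc_zpowers cyc_bot exists_prime_dvd_card
open scoped commutatorElement

universe u

variable {G : Type u} [Group G] [Finite G]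
variable {π : Set ℕ} {A E H K L M P R S T U V X : Subgroup G} {p q : ℕ}

/-- `A / K` is a `π`-group iff all `π'`-elements of `A` lie in `K`. -/
theorem piNat_relIndex_iff (hAK : A ≤ N[K]) :
    PiNat π (K.relIndex A) ↔ ∀ x ∈ A, PiElt πᶜ x → x ∈ K := piNat_relIndex_iff' hAK

theorem le_of_piNat_relIndex (hAK : A ≤ N[K]) (h : PiNat π (K.relIndex A)) (hX : X ≤ A)
    (hX' : IsPi πᶜ X) : X ≤ K :=
  fun x hx => (piNat_relIndex_iff hAK).mp h x (hX hx) (hX'.piElt hx)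

/-- Lemma 1.1. -/
theorem minnormal_solvable_abelem (h : MinNml V A) (hV : Sol V) :
    ∃ p, p.Prime ∧ IsElementaryAbelian p V := h.elem hV

theorem minnormal_solvable_Fitting_center (h : MinNml V M) (hVM : V ≤ M) (hV : Sol V) :
    V ≤ Z[F[M]] :=
  le_inf (Fitting_max ⟨hVM, h.norm⟩ (h.abl hV).nil) (h.le_C_Fitting hVM)

theorem sol_chief_abelem (hM : Sol M) (h : Chief M V U) :
    ∃ p, p.Prime ∧ IsElementaryAbelian p (quo U V) := h.elem (hM.of_le h.nmlU.le)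

/-- Proposition 1.2, first inclusion. -/
theorem Fitting_stab_chief (hK : K ⊴ M) (h : Chief M V U) : ⁅U, F[K]⁆ ≤ V :=
  (comm_mono_right hK.Fitting_le).trans h.comm_Fitting_le

/-- A group stabilising the chief factors below a normal subgroup of coprime order centralises it
(Proposition 1.9). -/
theorem stable_chief_cent (hU : U ⊴ M) (hcop : (♯U).Coprime ♯A) (hs : Sol U ∨ Sol A)
    (h : ∀ X W, Chief M W X → X ≤ U → ⁅X, A⁆ ≤ W) : A ≤ C[U] := by
  refine chief_ind (P := fun X => A ≤ C[X]) (Nml.bot M) hU bot_le (by rw [C_bot]; exact le_top) ?_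
  intro W X hc _ hX ih
  exact stable_factor_cent ih (h X W hc hX) hc.le
    (hcop.coprime_dvd_left (card_dvd (hc.le.trans hX))) (sol_or_of_le hs (hc.le.trans hX))

/-- Proposition 1.2, second inclusion (`X` need not be normal). -/
theorem chief_stab_sub_Fitting (hM : Sol M) (hK : K ⊴ M) (hX : X ≤ K)
    (h : ∀ U V, Chief M V U → U ≤ F[K] → ⁅U, X⁆ ≤ V) : X ≤ F[K] := by
  set D := K ⊓ ⨅ (s : {s : Subgroup G × Subgroup G // Chief M s.2 s.1 ∧ s.1 ≤ F[K]}),
    centQ s.1.1 s.1.2 with hD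
  have hDn : D ⊴ M := ⟨inf_le_left.trans hK.le, norm_inf hK.norm
    (norm_iInf fun s => norm_centQ s.2.1.nmlU.norm s.2.1.nmlV.norm)⟩
  have hXD : X ≤ D := le_inf hX (le_iInf fun s => (le_centQ s.2.1.nml.norm).mpr
    ⟨(hX.trans hK.le).trans s.2.1.nmlV.norm, (commC _ _).le.trans (h _ _ s.2.1 s.2.2)⟩)
  have hDc : ∀ U V, Chief M V U → U ≤ F[K] → ⁅U, D⁆ ≤ V := fun U V hc hU =>
    (commC _ _).le.trans ((le_centQ hc.nml.norm).mp
      (inf_le_right.trans (iInf_le_of_le ⟨(U, V), hc, hU⟩ le_rfl))).2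
  refine hXD.trans ?_
  by_contra hn
  have hF := hK.Fitting
  obtain ⟨W, hW, hWD⟩ := exists_chief_above (hF.inf hDn) hDn
    (lt_of_le_of_ne inf_le_right fun e => hn (inf_eq_right.mp e))
  obtain ⟨p, hp, hWe⟩ := sol_chief_abelem hM hW
  obtain ⟨P, hP⟩ := Sylow_exists hp W
  have hN : Nil (F[K] ⊓ D) := (Fitting_nil K).of_le inf_le_left
  have hQ : Hall {p}ᶜ W O[{p}ᶜ, F[K] ⊓ D] := (hN.pcore_hall _).of_idx hW.le
    (by simpa using (isPi_quo_iff hW.nml.norm).mp (hWe.isPi hp))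
  have hc : P ≤ C[O[{p}ᶜ, F[K]]] :=
    stable_chief_cent (hF.pcore _) ((pcore_pi _ _).coprime' hP.pi) (Or.inr (hP.pi.sol hp))
      fun Y Z hc hY => (comm_mono_right (hP.le.trans hWD)).trans
        (hDc _ _ hc (hY.trans (pcore_le _ _)))
  have hW' : Nil W := by
    rw [← (hP.isProd hQ).sup_eq]
    exact (hP.pi.nil hp).sup_of_cent (hN.of_le (pcore_le _ _))
      (cents_symm (hc.trans (C_anti ((Fitting_nil K).pcore_mono _ inf_le_left))))
  exact hW.lt.not_ge (le_inf (Fitting_max (hW.nmlU.of_le (hWD.trans inf_le_left) hK.le) hW') hWD)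

theorem coprime_cent_Fitting (hAK : A ≤ N[K]) (hcop : (♯K).Coprime ♯A) (hK : Sol K) :
    A ⊓ C[F[K]] ≤ C[K] := by
  have hB : A ⊓ C[F[K]] ≤ N[K] := inf_le_left.trans hAK
  have hF : ⁅F[K], A ⊓ C[F[K]]⁆ = ⊥ := comm_eq_bot'.mpr inf_le_right
  refine coprime_commGG1P hB (hcop.coprime_dvd_right (card_dvd inf_le_left)) hK
    (eq_bot_of_le hF (comm_mono_left (le_Fitting_of_cent hK (comm_le_left hB) ?_)))
  refine comm_eq_bot.mp (three_subgroup ?_ ?_)
  · rw [commC _ F[K], hF, commutator_bot_left]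
  · exact eq_bot_of_le hF (comm_mono_left (comm_le_left (Fitting_nml K).norm))

/-- Proposition 1.4. -/
theorem coprime_trivg_cent_Fitting (hAK : A ≤ N[K]) (hcop : (♯K).Coprime ♯A) (hK : Sol K)
    (h : A ⊓ C[K] = ⊥) : A ⊓ C[F[K]] = ⊥ :=
  eq_bot_of_le h (le_inf inf_le_left (coprime_cent_Fitting hAK hcop hK))

/-- Proposition 1.5(d). -/
theorem coprime_quotient_cent (hHK : H ≤ K) (hAH : A ≤ N[H]) (hcop : (♯H).Coprime ♯A)
    (hs : Sol H ∨ Sol A) : quo (K ⊓ C[A]) H = quo K H ⊓ C[quo A H] :=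
  coprime_quo_cent' hHK hAH hcop hs

/-- Only `K ⊓ H` has to be coprime to `A`. -/
theorem strongest_coprime_quotient_cent (hAK : A ≤ N[K]) (hAH : A ≤ N[H])
    (hcop : (♯(K ⊓ H)).Coprime ♯A) (hs : Sol (K ⊓ H) ∨ Sol A) :
    quo (K ⊓ C[A]) H = quo K H ⊓ C[quo A H] := by
  refine le_antisymm (img_inf_C_le _ _ _) ?_
  rintro z ⟨hz, hc⟩
  obtain ⟨x, hx, hxN, rfl⟩ := mem_quo.mp hz
  have hz : zpowers x ≤ N[H] := zpowers_le.mpr hxN
  have h1 : ⁅A, zpowers x⁆ ≤ H := by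
    rw [commC, ← quo_cents hz hAH, quo_zpowers hxN]; exact zpowers_le.mpr hc
  obtain ⟨v, hv, hvc⟩ := coprime_lift_cent (norm_inf hAK hAH) hcop hs (g := x) fun a ha =>
    ⟨K.mul_mem (conj_mem (hAK ha) hx) (K.inv_mem hx),
      h1 (commutator_mem_commutator ha (mem_zpowers x))⟩
  have hvN := norm_self H hv.2
  refine mem_quo.mpr ⟨v * x, ⟨K.mul_mem hv.1 hx, hvc⟩, (N[H]).mul_mem hvN hxN, ?_⟩
  rw [cs, ap_mul _ hvN hxN, ← cs, cs_of_mem hv.2, one_mul]

/-- `H` is normalised by `A`, not necessarily inside `K`. -/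
theorem coprime_norm_quotient_cent (hAK : A ≤ N[K]) (hAH : A ≤ N[H])
    (hcop : (♯H).Coprime ♯A) (hs : Sol H ∨ Sol A) :
    quo (K ⊓ C[A]) H = quo K H ⊓ C[quo A H] :=
  strongest_coprime_quotient_cent hAK hAH (hcop.coprime_dvd_left (card_dvd inf_le_right))
    (sol_or_of_le hs inf_le_right)

/-- Proposition 1.5(e). -/
theorem coprime_comm_pcore (hAK : A ≤ N[K]) (hcop : (♯K).Coprime ♯A) (hK : Sol K)
    (hH : Hall πᶜ K H) (hHA : H ≤ C[A]) : ⁅K, A⁆ ≤ O[π, K] := by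
  obtain ⟨L, hL, hAL⟩ := coprime_Hall_exists π hAK hcop hK
  refine pcore_max ?_ ⟨comm_le_left hAK, norm_comm_left _ _⟩
  rw [(hL.isProd hH).comm_left_of_cent hHA]
  exact hL.pi.of_le (comm_le_left hAL)

omit [Finite G] in
theorem quo_inf_of_le (h : K ≤ A) (B : Subgroup G) : quo (A ⊓ B) K = quo A K ⊓ quo B K := by
  have := quo_inf' (A := A ⊓ N[K]) ⟨le_inf h (norm_self K), inf_le_right⟩ B
  rwa [quo, quo, img_inf_dom, inf_right_comm, img_inf_dom] at this

/-- Lemma 1.14. -/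
theorem coprime_norm_quotient_pgroup (hp : p.Prime) (hT : IsPi {p} T) (hTM : T ≤ N[M])
    (hcop : (♯M).Coprime ♯T) : N[quo T M] = quo N[T] M := by
  have := coprime_quo_norm (nml_N M) hTM hcop (Or.inr (hT.sol hp))
  rw [quo_N, top_inf_eq, quo, img_dom_inf] at this
  exact this.symm

theorem coprime_cent_quotient_pgroup (hp : p.Prime) (hT : IsPi {p} T) (hTM : T ≤ N[M])
    (hcop : (♯M).Coprime ♯T) : C[quo T M] = quo C[T] M := by
  have := coprime_quo_cent' (norm_self M) hTM hcop (Or.inr (hT.sol hp))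
  rw [quo_N, top_inf_eq, quo, img_dom_inf] at this
  exact this.symm

theorem coprime_subnorm_quotient_pgroup (hp : p.Prime) (hT : IsPi {p} T) (hTM : T ≤ N[M])
    (hcop : (♯M).Coprime ♯T) (hMH : M ≤ H) : quo H M ⊓ N[quo T M] = quo (H ⊓ N[T]) M := by
  rw [quo_inf_of_le hMH, coprime_norm_quotient_pgroup hp hT hTM hcop]

theorem coprime_subcent_quotient_pgroup (hp : p.Prime) (hT : IsPi {p} T) (hTM : T ≤ N[M])
    (hcop : (♯M).Coprime ♯T) (hMH : M ≤ H) : quo H M ⊓ C[quo T M] = quo (H ⊓ C[T]) M := by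
  rw [quo_inf_of_le hMH, coprime_cent_quotient_pgroup hp hT hTM hcop]

/-- Proposition 1.15(a) when `O_p'(M) = 1`. -/
theorem cent_pcore_sub (hp : p.Prime) (hM : Sol M) (hO : O[{p}ᶜ, M] = ⊥) :
    M ⊓ C[O[{p}, M]] ≤ O[{p}, M] := cent_sub_pcore hp hM hO

/-- Proposition 1.15(a). -/
theorem solvable_p_constrained (hp : p.Prime) (hM : Sol M) (hP : Syl p (Opp p M) P) :
    M ⊓ C[P] ≤ Opp p M := by
  have hK := pcore_nml {p}ᶜ M
  refine (quo_le_iff (inf_le_left.trans hK.norm)).mp ((img_inf_C_le _ _ _).trans ?_)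
  rw [← quo, ← quo, hP.quo_core2]
  exact cent_sub_pcore hp (hM.quo _) (pcore_quo_pcore _ _)

theorem p'core_cent_pgroup_eq_bot (hp : p.Prime) (hR : IsPi {p} R) (hRM : R ≤ M) (hM : Sol M)
    (hO : O[{p}ᶜ, M] = ⊥) : O[{p}ᶜ, M ⊓ C[R]] = ⊥ := by
  have hT := pcore_nml {p} M
  have hQ := pcore_le {p}ᶜ (M ⊓ C[R])
  have h1 : O[{p}ᶜ, M ⊓ C[R]] ≤ C[O[{p}, M]] := by
    refine Thompson_PxQ hp hR (pcore_pi _ _) (pcore_pi _ _) (cents_symm (hQ.trans inf_le_right))
      (hRM.trans hT.norm) ((hQ.trans inf_le_left).trans hT.norm) (cents_symm (pcore_compl_cents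
        ((pcore_pi _ _).inf_left _) ⟨inf_le_inf_right _ hT.le, ?_⟩))
    exact norm_inf (inf_le_left.trans hT.norm) (norm_of_le inf_le_right)
  exact ((pcore_pi _ _).of_le ((le_inf (hQ.trans inf_le_left) h1).trans
    (cent_sub_pcore hp hM hO))).eq_bot (pcore_pi _ _)

/-- Proposition 1.15(b). -/
theorem p'core_cent_pgroup (hp : p.Prime) (hR : IsPi {p} R) (hRM : R ≤ M) (hM : Sol M) :
    O[{p}ᶜ, M ⊓ C[R]] ≤ O[{p}ᶜ, M] := by
  have hK := pcore_nml {p}ᶜ M
  rw [← quo_eq_bot (((pcore_le _ _).trans inf_le_left).trans hK.norm), eq_bot_iff,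
    ← p'core_cent_pgroup_eq_bot hp (hR.quo _) (quo_mono _ hRM) (hM.quo _) (pcore_quo_pcore _ M),
    coprime_subcent_quotient_pgroup hp hR (hRM.trans hK.norm) ((pcore_pi _ _).coprime' hR) hK.le]
  exact quo_pcore_le _ _ _

theorem p'core_norm_pgroup (hp : p.Prime) (hR : IsPi {p} R) (hRM : R ≤ M) (hM : Sol M) :
    O[{p}ᶜ, M ⊓ N[R]] ≤ O[{p}ᶜ, M] := by
  refine le_trans (pcore_max (pcore_pi _ _) ((pcore_nml _ _).of_le ?_
    (inf_le_inf_left _ (C_le_N R)))) (p'core_cent_pgroup hp hR hRM hM)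
  exact le_inf ((pcore_le _ _).trans inf_le_left)
    (pcore_compl_cents hR ⟨le_inf hRM (norm_self R), inf_le_right⟩)

/-- Theorem 1.17, working form. -/
theorem focal_subgroup_le (hp : p.Prime) (hS : Syl p M S)
    (h : ∀ x ∈ S, ∀ u ∈ M, u * x * u⁻¹ ∈ S → x⁻¹ * (u * x * u⁻¹) ∈ L) : S ⊓ ⁅M, M⁆ ≤ L := by
  have := Fact.mk hp
  obtain ⟨Q, rfl⟩ := hS.exists_sylow hp
  rw [der1_eq_map, ← map_inf _ _ _ M.subtype_injective, inf_comm,
    commutator_inf_eq_focalSubgroup, map_le_iff_le_comap, H3.focal_le_iff]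
  intro x hx g hg
  exact h x ⟨x, hx, rfl⟩ g g.2 ⟨_, hg, rfl⟩

/-- Theorem 1.17. -/
theorem focal_subgroup_gen (hp : p.Prime) (hS : Syl p M S) :
    S ⊓ ⁅M, M⁆ = closure {z | ∃ x ∈ S, ∃ u ∈ M, u * x * u⁻¹ ∈ S ∧ z = x⁻¹ * (u * x * u⁻¹)} := by
  refine le_antisymm (focal_subgroup_le hp hS fun x hx u hu h =>
    Subgroup.subset_closure ⟨x, hx, u, hu, h, rfl⟩) ((closure_le _).mpr ?_)
  rintro _ ⟨x, hx, u, hu, h, rfl⟩
  refine ⟨S.mul_mem (S.inv_mem hx) h, ?_⟩
  have := commutator_mem_commutator (M.inv_mem (hS.le hx)) hu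
  simpa [commutatorElement_def, mul_assoc] using this

theorem ncompl_iff_hasNPC (hp : p.Prime) : NCompl {p} M ↔ HasNormalPComplement p M := by
  have := Fact.mk hp
  constructor
  · intro h
    have := (pcore_nml {p}ᶜ M).normal
    refine H3.hasNPC_of_normal (O[{p}ᶜ, M].subgroupOf M) ?_ ?_
    · exact ((piNat_compl_iff_coprime hp).mp (isPi_subgroupOf h.pi M)).symm
    · obtain ⟨k, hk⟩ := (piNat_singleton hp (relIndex_ne_zero' _ _)).mp (by simpa using h.idx)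
      exact IsPGroup.of_card hk
  · rintro ⟨P, N, hN, h⟩
    refine ncompl_of_nml (K := N.map M.subtype) ((hall_map_subtype N).mpr ?_) (nml_map_subtype N).norm
    have hP := syl_top_of_sylow hp P
    exact SD.hall_compl_left ⟨norm_of_normal _ _, h.disjoint.eq_bot, h.sup_eq_top⟩ hP

theorem ncompl_top_iff_hasNPC (hp : p.Prime) :
    NCompl {p} (⊤ : Subgroup G) ↔ HasNormalPComplement p G := by
  have := Fact.mk hp
  rw [ncompl_iff_hasNPC hp, H3.hasNPC_top_iff]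

/-- Theorem 1.18. -/
theorem Burnside_normal_complement (hp : p.Prime) (hS : Syl p M S) (h : M ⊓ N[S] ≤ C[S]) :
    SD O[{p}ᶜ, M] S M := by
  have := Fact.mk hp
  rw [← ncompl_iff hS, ncompl_iff_hasNPC hp]
  obtain ⟨Q, rfl⟩ := hS.exists_sylow hp
  refine H3.hasNPC_of_normalizer_le_centralizer Q (cent_of_map M.subtype_injective ?_)
  exact (le_inf (map_subtype_le' _) (norm_map le_rfl _)).trans h

/-- Corollary 1.19(a). -/
theorem cyclic_Sylow_tiVsub_der1 (hp : p.Prime) (hS : Syl p M S) (hc : Cyc S) :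
    S ⊓ ⁅M, M⁆ = ⊥ ∨ S ≤ ⁅M, M⁆ := by
  have := Fact.mk hp
  obtain ⟨Q, hQ⟩ := hS.exists_sylow hp
  have : IsCyclic Q := (cyc_map_iff M.subtype_injective).mp (hQ ▸ hc)
  refine Q.not_dvd_card_commutator_or_not_dvd_index_commutator.imp (fun h => ?_) fun h => ?_
  · refine hS.pi.inf_eq_bot ((isPi_compl_iff hp).mpr ?_)
    rwa [der1_eq_map, card_map_of_injective M.subtype_injective]
  · refine le_of_idx_compl (der1_nml M) ((piNat_compl_singleton hp).mpr ?_) hS.pi hS.le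
    rwa [relIndex, der1_subgroupOf]

/-- Corollary 1.19(b). -/
theorem Zgroup_der1_Hall (h : IsZGroup M) : IsHall M ⁅M, M⁆ := by
  refine ⟨der1_le M, ?_⟩
  rw [relIndex, der1_subgroupOf, der1_eq_map, card_map_of_injective M.subtype_injective]
  exact IsZGroup.coprime_commutator_index M

theorem Zgroup_der1_cyclic (h : IsZGroup M) : Cyc ⁅M, M⁆ ∧ Cyc (quo M ⁅M, M⁆) := by
  refine ⟨der1_eq_map M ▸ Cyc.map (IsZGroup.isCyclic_commutator M) _, ?_⟩
  have := (der1_nml M).normal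
  have h1 : IsCyclic (M ⧸ commutator M) := IsZGroup.isCyclic_abelianization
  exact isCyclic_of_surjective _ ((QuotientGroup.quotientMulEquivOfEq (der1_subgroupOf M).symm).trans
    (quoEquivQuotient (der1_nml M).norm)).surjective

/-- Aschbacher (39.2). -/
theorem cyclic_pdiv_normal_complement (hS : Syl (♯M).minFac M S) (hc : Cyc S) :
    SD O[{(♯M).minFac}ᶜ, M] S M := by
  by_cases h1 : M = ⊥
  · subst h1
    rw [pcore_bot, le_bot_iff.mp hS.le]; exact SD.bot_left _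
  have hp := Nat.minFac_prime (mt card_eq_one'.mp h1)
  have := Fact.mk hp
  rw [← ncompl_iff hS, ncompl_iff_hasNPC hp]
  obtain ⟨Q, hQ⟩ := hS.exists_sylow hp
  exact H3.hasNPC_of_normalizer_le_centralizer Q (IsCyclic.normalizer_le_centralizer rfl
    ((cyc_map_iff M.subtype_injective).mp (hQ ▸ hc)))

omit [Finite G] in
theorem metacyclic_iff : IsMetacyclic M ↔ ∃ K, K ⊴ M ∧ Cyc K ∧ Cyc (quo M K) := by
  constructor
  · rintro ⟨N, hN, h1, h2⟩
    have hn := nml_map_subtype N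
    have := hn.normal
    exact ⟨N.map M.subtype, hn, Cyc.map h1 _, isCyclic_of_surjective _
      ((QuotientGroup.quotientMulEquivOfEq (subgroupOf_map_subtype' N).symm).trans
        (quoEquivQuotient hn.norm)).surjective⟩
  · rintro ⟨K, hK, h1, h2⟩
    have := hK.normal
    exact ⟨K.subgroupOf M, this, h1.subgroupOf M,
      isCyclic_of_surjective _ (quoEquivQuotient hK.norm).symm.surjective⟩

/-- Aschbacher (39.3). -/
theorem Zgroup_metacyclic (h : IsZGroup M) : IsMetacyclic M :=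
  metacyclic_iff.mpr ⟨_, der1_nml M, Zgroup_der1_cyclic h⟩

theorem Zgroup_sol (h : IsZGroup M) : Sol M := sol_of_der1 (Zgroup_der1_cyclic h).1.sol

/-- Gaschütz's splitting theorem. -/
theorem Gaschutz_split (hK : K ⊴ M) (hKa : Abl K) (hUM : U ≤ M) (hcop : (♯K).Coprime (U.relIndex M))
    (h : SD K A U) : ∃ H, SD K H M := by
  have := hK.normal
  have := hKa.subgroupOf M
  have hA := h.right_le.trans hUM
  obtain ⟨H, hH⟩ := H1.gaschutz_exists (K.subgroupOf M) (U.subgroupOf M) (comap_mono h.left_le)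
    (by rwa [card_subgroupOf_of_le hK.le]) (A.subgroupOf M)
    (by rw [inf_comm, subgroupOf, subgroupOf, ← comap_inf, h.inf]; exact bot_subgroupOf M)
    (by rw [← subgroupOf_sup hK.le hA, h.sup])
  have := SD.map (K := K.subgroupOf M) (H := H) (M := ⊤)
    ⟨norm_of_normal _ _, hH.disjoint.eq_bot, hH.sup_eq_top⟩ M.subtype_injective
  rw [map_subgroupOf' hK.le, map_subtype_top] at this
  exact ⟨_, this⟩

/-- Subgroups of elementary abelian groups are complemented. -/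
theorem abelem_split_dprod (hp : p.Prime) (hV : IsElementaryAbelian p V) (hUV : U ≤ V) :
    ∃ W, DP U W V := by
  obtain ⟨W, -, ⟨hW, hi⟩, hm⟩ := exists_max (P := fun W => W ≤ V ∧ U ⊓ W = ⊥) (H := ⊥)
    ⟨bot_le, inf_bot_eq U⟩
  refine ⟨W, hV.abl.cents hW hUV, hi, le_antisymm (sup_le hUV hW) fun x hx => ?_⟩
  by_contra hn
  have hz : zpowers x ≤ V := zpowers_le.mpr hx
  have h1 : x ≠ 1 := fun e => hn (e ▸ one_mem _)
  have hc : (Nat.card (zpowers x)).Prime := by rwa [card_zpowers', hV.orderOf_eq hp hx h1]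
  have h2 : zpowers x ⊓ (U ⊔ W) = ⊥ := prime_inf_of_not_le hc fun h => hn (h (mem_zpowers x))
  have h3 : (W ⊔ zpowers x) ⊓ (U ⊔ W) = W := by
    rw [← group_modl (hV.abl.norm hz hW) le_sup_right, h2, sup_bot_eq]
  have := hm (W ⊔ zpowers x) ⟨sup_le hW hz, eq_bot_of_le hi (le_inf inf_le_left
    ((le_inf inf_le_right (inf_le_left.trans le_sup_left)).trans h3.le))⟩ le_sup_left
  exact hn (mem_sup_right (this ▸ mem_sup_right (mem_zpowers x)))

/-- Theorem 1.20. -/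
theorem Maschke_abelem (hp : p.Prime) (hV : IsElementaryAbelian p V) (hA : IsPi {p}ᶜ A) (hUV : U ≤ V)
    (hAV : A ≤ N[V]) (hAU : A ≤ N[U]) : ∃ W, DP U W V ∧ A ≤ N[W] := by
  obtain ⟨W, hW⟩ := abelem_split_dprod hp hV hUV
  have hU : U ⊴ V ⊔ A := ⟨hUV.trans le_sup_left, sup_le (hV.abl.norm le_rfl hUV) hAU⟩
  have hVn := nml_sup_left hAV
  obtain ⟨H, hH⟩ := Gaschutz_split hU (hV.abl.of_le hUV) le_sup_left
    (((hV.isPi hp).of_le hUV).piNat.coprime ((isProd_sup hAV).hall_left (hV.isPi hp) hA).idx) hW.sd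
  refine ⟨H ⊓ V, (hH.modl hUV le_sup_left).dp (hV.abl.cents inf_le_right hUV), ?_⟩
  refine le_sup_right.trans (hH.sup.ge.trans (sup_le (hV.abl.norm hUV inf_le_right) ?_))
  exact norm_inf (norm_self H) (hH.right_le.trans hVn.norm)

end H26
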