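import Mathlib
import Cfsg.Prelude.Def_CaseTheorems

/-!
# Odd order subgroups of `GL(2, F)`  (Bender-Glauberman, Theorem 2.6)
-/

set_option autoImplicit false

namespace H26

open Matrix

section Mat2

variable {F : Type*} [Field F]

/-- Cayley-Hamilton in dimension two. -/
theorem mat2_sq (M : Matrix (Fin 2) (Fin 2) F) :
    M * M = M.trace • M - M.det • (1 : Matrix (Fin 2) (Fin 2) F) := by
  ext i j
  fin_cases i <;> fin_cases j <;>
    simp [Matrix.mul_apply, Fin.sum_univ_two, Matrix.trace_fin_two, Matrix.det_fin_two] <;> ring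

/-- a matrix commuting with a non-scalar `2 × 2` matrix is a polynomial in it. -/
theorem mat2_comm {M A : Matrix (Fin 2) (Fin 2) F}
    (hM : ∀ c : F, M ≠ c • (1 : Matrix (Fin 2) (Fin 2) F)) (h : M * A = A * M) :
    ∃ α β : F, A = α • (1 : Matrix (Fin 2) (Fin 2) F) + β • M := by
  have h00 := congrFun (congrFun h 0) 0
  have h01 := congrFun (congrFun h 0) 1
  have h10 := congrFun (congrFun h 1) 0
  simp only [Matrix.mul_apply, Fin.sum_univ_two] at h00 h01 h10
  by_cases hb : M 0 1 = 0
  · by_cases hc : M 1 0 = 0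
    · have had : M 0 0 - M 1 1 ≠ 0 := by
        intro had
        apply hM (M 1 1)
        ext i j
        fin_cases i <;> fin_cases j <;> simp [hb, hc]
        exact sub_eq_zero.mp had
      refine ⟨A 1 1 - (A 0 0 - A 1 1) / (M 0 0 - M 1 1) * M 1 1, (A 0 0 - A 1 1) / (M 0 0 - M 1 1), ?_⟩
      have hy : A 0 1 = 0 := by
        have : A 0 1 * (M 0 0 - M 1 1) = 0 := by rw [hb] at h01; linear_combination h01
        exact (mul_eq_zero.mp this).resolve_right had
      have hz : A 1 0 = 0 := by
        have : A 1 0 * (M 0 0 - M 1 1) = 0 := by rw [hc] at h10; linear_combination -h10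
        exact (mul_eq_zero.mp this).resolve_right had
      ext i j
      fin_cases i <;> fin_cases j <;> simp [hb, hc, hy, hz]
      field_simp
      ring
    · refine ⟨A 1 1 - A 1 0 / M 1 0 * M 1 1, A 1 0 / M 1 0, ?_⟩
      ext i j
      fin_cases i <;> fin_cases j <;> simp
      · field_simp
        linear_combination h10
      · field_simp
        linear_combination -h00
      · field_simp
  · refine ⟨A 1 1 - A 0 1 / M 0 1 * M 1 1, A 0 1 / M 0 1, ?_⟩
    ext i j
    fin_cases i <;> fin_cases j <;> simp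
    · field_simp
      linear_combination -h01
    · field_simp
    · field_simp
      linear_combination h00

theorem mat2_comm_of_comm {M A B : Matrix (Fin 2) (Fin 2) F}
    (hM : ∀ c : F, M ≠ c • (1 : Matrix (Fin 2) (Fin 2) F)) (hA : M * A = A * M)
    (hB : M * B = B * M) : A * B = B * A := by
  obtain ⟨a, b, rfl⟩ := mat2_comm hM hA
  obtain ⟨c, d, rfl⟩ := mat2_comm hM hB
  simp only [add_mul, mul_add, smul_mul_assoc, mul_smul_comm, one_mul, mul_one, smul_add,
    smul_smul]
  module

theorem pow_scalar_add_nilp {N : Matrix (Fin 2) (Fin 2) F} (hN : N * N = 0) (c : F) (k : ℕ) :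
    (c • (1 : Matrix (Fin 2) (Fin 2) F) + N) ^ (k + 1) =
      c ^ (k + 1) • (1 : Matrix (Fin 2) (Fin 2) F) + (((k + 1 : ℕ) : F) * c ^ k) • N := by
  induction k with
  | zero => simp
  | succ k ih =>
    rw [pow_succ, ih]
    simp only [add_mul, mul_add, smul_mul_assoc, mul_smul_comm, one_mul, mul_one, smul_add,
      smul_smul, hN, smul_zero]
    push_cast
    module

/-- a non-scalar matrix of determinant one and finite order prime to the characteristic has
nonzero discriminant. -/
theorem mat2_disc_ne {M : Matrix (Fin 2) (Fin 2) F}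
    (hM : ∀ c : F, M ≠ c • (1 : Matrix (Fin 2) (Fin 2) F)) (hdet : M.det = 1) {k : ℕ}
    (hk : (k : F) ≠ 0) (hMk : M ^ k = 1) : M.trace ^ 2 - 4 ≠ 0 := by
  intro h
  have h2 : (M.trace - 2) * (M.trace + 2) = 0 := by linear_combination h
  obtain ⟨c, hc, hc2⟩ : ∃ c : F, M.trace = 2 * c ∧ c * c = 1 := by
    rcases mul_eq_zero.mp h2 with h | h
    · exact ⟨1, by linear_combination h, by ring⟩
    · exact ⟨-1, by linear_combination h, by ring⟩
  set N := M - c • (1 : Matrix (Fin 2) (Fin 2) F) with hNdef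
  have hN : N * N = 0 := by
    simp only [hNdef, sub_mul, mul_sub, smul_mul_assoc, mul_smul_comm, one_mul, mul_one,
      smul_smul, mat2_sq M, hc, hdet, smul_sub, hc2]
    module
  have hMN : M = c • (1 : Matrix (Fin 2) (Fin 2) F) + N := by simp [hNdef]
  obtain ⟨k, rfl⟩ : ∃ j, k = j + 1 := by
    cases k with
    | zero => simp at hk
    | succ j => exact ⟨j, rfl⟩
  rw [hMN, pow_scalar_add_nilp hN] at hMk
  have hc0 : c ≠ 0 := by rintro rfl; simp at hc2
  have h3 : (((k + 1 : ℕ) : F) * c ^ k) • N = (1 - c ^ (k + 1)) • (1 : Matrix (Fin 2) (Fin 2) F) := by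
    rw [sub_smul, one_smul]; exact eq_sub_of_add_eq' hMk
  have h4 : ((k + 1 : ℕ) : F) * c ^ k ≠ 0 := mul_ne_zero hk (pow_ne_zero _ hc0)
  apply hM (c + (((k + 1 : ℕ) : F) * c ^ k)⁻¹ * (1 - c ^ (k + 1)))
  rw [add_smul, mul_smul, ← h3, smul_smul, inv_mul_cancel₀ h4, one_smul]
  exact hMN

theorem mat2_eq_or_of_comm {M A : Matrix (Fin 2) (Fin 2) F}
    (hM : ∀ c : F, M ≠ c • (1 : Matrix (Fin 2) (Fin 2) F)) (h : M * A = A * M)
    (htr : A.trace = M.trace) (hdetA : A.det = 1) (hdet : M.det = 1)
    (hdisc : M.trace ^ 2 - 4 ≠ 0) :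
    A = M ∨ A = M.trace • (1 : Matrix (Fin 2) (Fin 2) F) - M := by
  obtain ⟨α, β, rfl⟩ := mat2_comm hM h
  have e1 : 2 * α + β * M.trace = M.trace := by
    have := htr
    simp only [Matrix.trace_add, Matrix.trace_smul, Matrix.trace_one, smul_eq_mul,
      Fintype.card_fin] at this
    push_cast at this
    linear_combination this
  have e2 : α ^ 2 + α * β * M.trace + β ^ 2 = 1 := by
    rw [← hdetA]
    have := hdet
    simp only [Matrix.det_fin_two, Matrix.trace_fin_two] at this ⊢
    simp
    linear_combination (-β ^ 2) * this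
  have e3 : (β - 1) * (β + 1) = 0 := by
    have : ((β - 1) * (β + 1)) * (M.trace ^ 2 - 4) = 0 := by
      linear_combination (2 * α + β * M.trace + M.trace) * e1 - 4 * e2
    exact (mul_eq_zero.mp this).resolve_right hdisc
  by_cases h2 : (2 : F) = 0
  · have hβ : β = 1 := by
      rcases mul_eq_zero.mp e3 with h | h
      · linear_combination h
      · linear_combination h - h2
    subst hβ
    have : α * (α + M.trace) = 0 := by linear_combination e2
    rcases mul_eq_zero.mp this with h | h
    · left; simp [h]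
    · right
      have hα : α = M.trace := by linear_combination h - M.trace * h2
      have h1 : (1 : F) = -1 := by linear_combination h2
      rw [hα, sub_eq_add_neg, ← neg_one_smul F M, ← h1]
  · rcases mul_eq_zero.mp e3 with h | h
    · have hβ : β = 1 := by linear_combination h
      subst hβ
      have : 2 * α = 0 := by linear_combination e1
      left; simp [(mul_eq_zero.mp this).resolve_left h2]
    · have hβ : β = -1 := by linear_combination h
      subst hβ
      have : 2 * (α - M.trace) = 0 := by linear_combination e1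
      have hα : α = M.trace := by linear_combination (mul_eq_zero.mp this).resolve_left h2
      right; rw [hα, neg_one_smul, sub_eq_add_neg]

end Mat2

section Odd

variable {F : Type*} [Field F] {G : Type*} [Group G]

theorem exists_sq_pow_eq_of_odd [Finite G] (hodd : Odd (Nat.card G)) (g : G) :
    ∃ k : ℕ, (g * g) ^ k = g := by
  obtain ⟨m, hm⟩ := hodd
  refine ⟨m + 1, ?_⟩
  have : g ^ (2 * m + 1) = 1 := by rw [← hm]; exact pow_card_eq_one'
  calc (g * g) ^ (m + 1) = g ^ (2 * m + 1) * g := by rw [← pow_two, ← pow_mul, ← pow_succ]; ring_nf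
    _ = g := by rw [this, one_mul]

theorem rep2_inv_mul (ρ : G →* Matrix (Fin 2) (Fin 2) F) (g : G) : ρ g⁻¹ * ρ g = 1 := by
  rw [← map_mul, inv_mul_cancel, map_one]

theorem rep2_mul_inv (ρ : G →* Matrix (Fin 2) (Fin 2) F) (g : G) : ρ g * ρ g⁻¹ = 1 := by
  rw [← map_mul, mul_inv_cancel, map_one]

theorem rep2_det_commutator (ρ : G →* Matrix (Fin 2) (Fin 2) F) {n : G} (hn : n ∈ commutator G) :
    (ρ n).det = 1 := by
  let d : G →* Fˣ := ((Matrix.detMonoidHom (n := Fin 2) (R := F)).comp ρ).toHomUnits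
  have : commutator G ≤ d.ker := Abelianization.commutator_subset_ker d
  have h := congrArg Units.val (this hn)
  simpa [d] using h

/-- an element of odd order with determinant one acting as a scalar is trivial. -/
theorem rep2_nonscalar [Finite G] (hodd : Odd (Nat.card G)) (ρ : G →* Matrix (Fin 2) (Fin 2) F)
    (hρ : Function.Injective ρ) {n : G} (hn : n ≠ 1) (hdet : (ρ n).det = 1) (c : F) :
    ρ n ≠ c • (1 : Matrix (Fin 2) (Fin 2) F) := by
  intro h
  have hc : c * c = 1 := by
    rw [h] at hdet; simpa [pow_two] using hdet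
  obtain ⟨k, hk⟩ := exists_sq_pow_eq_of_odd hodd n
  apply hn
  apply hρ
  rw [← hk, map_pow, map_mul, h, map_one]
  simp [smul_smul, hc]

/-- key step: if a non-identity element `n` of determinant one and order prime to the
characteristic commutes with all of its conjugates, the group is abelian. -/
theorem rep2_comm_of_normal_abelian [Finite G] (hodd : Odd (Nat.card G))
    (ρ : G →* Matrix (Fin 2) (Fin 2) F) (hρ : Function.Injective ρ) {n : G} (hn : n ≠ 1)
    (hdet : (ρ n).det = 1) {k : ℕ} (hk : (k : F) ≠ 0) (hnk : n ^ k = 1)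
    (hcomm : ∀ g : G, n * (g * n * g⁻¹) = (g * n * g⁻¹) * n) (a b : G) : a * b = b * a := by
  have hM := rep2_nonscalar hodd ρ hρ hn hdet
  have hdisc := mat2_disc_ne hM hdet hk (by rw [← map_pow, hnk, map_one])
  have key : ∀ g : G, g * n * g⁻¹ = n ∨
      ρ (g * n * g⁻¹) = (ρ n).trace • (1 : Matrix (Fin 2) (Fin 2) F) - ρ n := by
    intro g
    have h1 : (ρ (g * n * g⁻¹)).trace = (ρ n).trace := by
      rw [map_mul, Matrix.trace_mul_comm, ← map_mul, inv_mul_cancel_left]
    have h2 : (ρ (g * n * g⁻¹)).det = 1 := by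
      rw [map_mul, map_mul, det_mul, det_mul, hdet, mul_one, ← det_mul, rep2_mul_inv, det_one]
    rcases mat2_eq_or_of_comm hM (by rw [← map_mul, ← map_mul, hcomm]) h1 h2 hdet hdisc with h | h
    · exact Or.inl (hρ h)
    · exact Or.inr h
  have key2 : ∀ g : G, (g * g) * n = n * (g * g) := by
    intro g
    rcases key g with h | h
    · have h' : g * n = n * g := by rw [← mul_inv_eq_iff_eq_mul]; exact h
      rw [mul_assoc, h', ← mul_assoc, h', mul_assoc]
    · rw [← mul_inv_eq_iff_eq_mul]
      apply hρ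
      have e : g * g * n * (g * g)⁻¹ = g * (g * n * g⁻¹) * g⁻¹ := by group
      rw [e, map_mul, map_mul, h, mul_sub, sub_mul, mul_smul_comm, mul_one, smul_mul_assoc,
        rep2_mul_inv, ← map_mul, ← map_mul, h, sub_sub_cancel]
  have key3 : ∀ g : G, ρ n * ρ g = ρ g * ρ n := by
    intro g
    obtain ⟨j, hj⟩ := exists_sq_pow_eq_of_odd hodd g
    have : Commute (g * g) n := key2 g
    rw [← map_mul, ← map_mul, ← hj, (this.pow_left j).eq]
  apply hρ
  rw [map_mul, map_mul]
  exact mat2_comm_of_comm hM (key3 a) (key3 b)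

end Odd

universe u

/-- **B & G, Theorem 2.6** (main part): the derived subgroup of a group of odd order with a
faithful two-dimensional representation over `F` is a `char F`-group. -/
theorem der1_odd_GL2_charf {F : Type*} [Field F] (G : Type u) [Group G] [Finite G]
    (hodd : Odd (Nat.card G)) (ρ : G →* Matrix (Fin 2) (Fin 2) F) (hρ : Function.Injective ρ)
    (q : ℕ) (hq : q.Prime) (hdvd : q ∣ Nat.card (commutator G)) : (q : F) = 0 := by
  induction h : Nat.card G using Nat.strong_induction_on generalizing G with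
  | _ m ih =>
  by_contra hqF
  have : Fact q.Prime := ⟨hq⟩
  obtain ⟨P⟩ := (inferInstance : Nonempty (Sylow q G))
  by_cases hN : Subgroup.normalizer ((P : Subgroup G) : Set G) = ⊤
  · have hPn : (P : Subgroup G).Normal := Subgroup.normalizer_eq_top_iff.mp hN
    obtain ⟨x, hx⟩ := exists_prime_orderOf_dvd_card' q hdvd
    have hxP : (x : G) ∈ (P : Subgroup G) := by
      have h1 : IsPGroup q (Subgroup.zpowers (x : G)) := by
        apply IsPGroup.of_card (n := 1)
        rw [Nat.card_zpowers, Subgroup.orderOf_coe, hx, pow_one]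
      obtain ⟨Q, hQ⟩ := h1.exists_le_sylow
      have := P.unique_of_normal hPn
      rw [Subsingleton.elim P Q]
      exact hQ (Subgroup.mem_zpowers _)
    -- the normal subgroup `P ⊓ G'` of `P` meets the centre of `P`
    let Q : Subgroup P := (commutator G).subgroupOf P
    have hQ : Nat.card (MulAction.fixedPoints (ConjAct P) Q) ≡ Nat.card Q [MOD q] :=
      ((P.isPGroup'.of_equiv ConjAct.toConjAct).card_modEq_card_fixedPoints Q).symm
    have hx1 : (x : G) ≠ 1 := by
      intro h1
      have : x = 1 := Subtype.ext h1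
      rw [this, orderOf_one] at hx
      exact hq.one_lt.ne hx
    have hqQ : q ∣ Nat.card Q := by
      rcases (P.isPGroup'.to_subgroup Q).card_eq_or_dvd with h1 | h1
      · exfalso
        have := (Nat.card_eq_one_iff_unique.mp h1).1
        have e : (⟨⟨x, hxP⟩, x.2⟩ : Q) = 1 := Subsingleton.elim _ _
        exact hx1 (congrArg (fun y : Q => ((y : P) : G)) e)
      · exact h1
    obtain ⟨n, hnfix, hn1⟩ := (P.isPGroup'.of_equiv ConjAct.toConjAct).exists_fixed_point_of_prime_dvd_card_of_fixed_point
      Q hqQ (a := 1) (fun g => smul_one g)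
    have hn1' : ((n : P) : G) ≠ 1 := fun e => hn1 (Subtype.ext (Subtype.ext e.symm))
    have hcen : ∀ y ∈ (P : Subgroup G), y * ((n : P) : G) = ((n : P) : G) * y := by
      intro y hy
      have := congrArg (fun z : Q => ((z : P) : G)) (hnfix (ConjAct.toConjAct (⟨y, hy⟩ : P)))
      simp only [ConjAct.Subgroup.val_conj_smul, ConjAct.smul_def, ConjAct.ofConjAct_toConjAct] at this
      rw [← mul_inv_eq_iff_eq_mul]
      simpa using this
    obtain ⟨k, hk⟩ := P.isPGroup' (n : P)
    have hcomm := rep2_comm_of_normal_abelian hodd ρ hρ hn1' (rep2_det_commutator ρ n.2)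
      (k := q ^ k) (by push_cast; exact pow_ne_zero _ hqF)
      (by simpa using congrArg (fun z : P => (z : G)) hk)
      (fun g => (hcen _ (hPn.conj_mem _ (n : P).2 g)).symm)
    have : commutator G = ⊥ := (commutator_eq_bot_iff G).mpr ⟨⟨hcomm⟩⟩
    rw [this, Subgroup.card_bot] at hdvd
    exact hq.one_lt.ne' (Nat.dvd_one.mp hdvd)
  · set N := Subgroup.normalizer ((P : Subgroup G) : Set G) with hNdef
    have hlt : Nat.card N < m := by
      rw [← h, ← Subgroup.card_top (G := G)]
      exact lt_of_le_of_ne (Subgroup.card_le_of_le le_top)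
        fun e => hN (Subgroup.eq_of_le_of_card_ge le_top e.ge)
    have hNq : ¬ q ∣ Nat.card (commutator N) := fun hd =>
      hqF (ih _ hlt N (Odd.of_dvd_nat hodd (Subgroup.card_subgroup_dvd_card N))
        (ρ.comp N.subtype) (hρ.comp N.subtype_injective) hd rfl)
    have hNC : N ≤ Subgroup.centralizer ((P : Subgroup G) : Set G) := by
      rw [← Subgroup.commutator_eq_bot_iff_le_centralizer, eq_bot_iff]
      have h1 : ⁅N, (P : Subgroup G)⁆ ≤ (P : Subgroup G) :=
        Subgroup.le_normalizer_iff_commutator_le_right.mp le_rfl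
      have h2 : ⁅N, (P : Subgroup G)⁆ ≤ (commutator N).map N.subtype := by
        rw [Subgroup.map_subtype_commutator]
        exact Subgroup.commutator_mono le_rfl Subgroup.le_normalizer
      have h3 := P.isPGroup'.to_le h1
      rcases h3.card_eq_or_dvd with h4 | h4
      · exact (Subgroup.card_eq_one.mp h4).le
      · exfalso
        apply hNq
        rw [← Subgroup.card_map_of_injective N.subtype_injective]
        exact h4.trans (Subgroup.card_dvd_of_le h2)
    apply MonoidHom.not_dvd_card_ker_transferSylow P hNC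
    refine hdvd.trans (Subgroup.card_dvd_of_le ?_)
    have hcommP : ∀ a b : P, a * b = b * a := fun a b =>
      Subtype.ext (hNC (Subgroup.le_normalizer b.2) a a.2)
    rw [commutator_def, Subgroup.commutator_le]
    intro a _ b _
    rw [MonoidHom.mem_ker, map_commutatorElement, commutatorElement_eq_one_iff_mul_comm]
    exact hcommP _ _

/-- **B & G, Theorem 2.6(a)**. -/
theorem charf'_GL2_abelian {F : Type*} [Field F] (G : Type u) [Group G] [Finite G]
    (hodd : Odd (Nat.card G)) (ρ : G →* Matrix (Fin 2) (Fin 2) F) (hρ : Function.Injective ρ)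
    (hF : ∀ q : ℕ, q.Prime → q ∣ Nat.card G → (q : F) ≠ 0) : IsMulCommutative G := by
  rw [← commutator_eq_bot_iff, ← Subgroup.card_eq_one]
  by_contra h
  obtain ⟨q, hq, hd⟩ := Nat.exists_prime_and_dvd h
  exact hF q hq (hd.trans (Subgroup.card_subgroup_dvd_card _))
    (der1_odd_GL2_charf G hodd ρ hρ q hq hd)

theorem der1_odd_GL2_isPGroup {F : Type*} [Field F] (p : ℕ) [hp : Fact p.Prime] [CharP F p]
    (G : Type u) [Group G] [Finite G]
    (hodd : Odd (Nat.card G)) (ρ : G →* Matrix (Fin 2) (Fin 2) F) (hρ : Function.Injective ρ) :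
    IsPGroup p (commutator G) := by
  rw [isPGroup_iff_primeFactors_card_subset hp.out.ne_zero]
  intro q hq
  have hq' := Nat.prime_of_mem_primeFactors hq
  have := der1_odd_GL2_charf G hodd ρ hρ q hq' (Nat.dvd_of_mem_primeFactors hq)
  rw [CharP.cast_eq_zero_iff F p, Nat.prime_dvd_prime_iff_eq hp.out hq'] at this
  subst this
  simp [hp.out.primeFactors]

section CharP

variable {F : Type*} [Field F]

theorem mat2_sq_eq_zero_of_pow {N : Matrix (Fin 2) (Fin 2) F} {k : ℕ} (h : N ^ k = 0) :
    N * N = 0 := by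
  have hk : k ≠ 0 := by rintro rfl; simp at h
  have hdet : N.det = 0 := by
    have := congrArg Matrix.det h
    rw [det_pow, det_zero] at this
    exact pow_eq_zero_iff hk |>.mp this
  have h2 : N * N = N.trace • N := by rw [mat2_sq, hdet, zero_smul, sub_zero]
  have h3 : ∀ j : ℕ, N ^ (j + 1) = N.trace ^ j • N := by
    intro j
    induction j with
    | zero => simp
    | succ j ih => rw [pow_succ, ih, smul_mul_assoc, h2, smul_smul, pow_succ]
  obtain ⟨j, rfl⟩ := Nat.exists_eq_succ_of_ne_zero hk
  rw [h3, smul_eq_zero] at h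
  rcases h with h | h
  · rw [h2, pow_eq_zero_iff'] at *
    rw [h.1, zero_smul]
  · rw [h, mul_zero]

theorem mat2_unipotent (p : ℕ) [Fact p.Prime] [CharP F p] {M : Matrix (Fin 2) (Fin 2) F} {k : ℕ}
    (h : M ^ (p ^ k) = 1) : (M - 1) * (M - 1) = 0 := by
  apply mat2_sq_eq_zero_of_pow (k := p ^ k)
  rw [sub_pow_char_pow_of_commute p k (Commute.one_right M), h, one_pow, sub_self]

theorem mat2_pow_char_eq_one (p : ℕ) [hp : Fact p.Prime] [CharP F p]
    {M : Matrix (Fin 2) (Fin 2) F} (h : (M - 1) * (M - 1) = 0) : M ^ p = 1 := by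
  have h1 := sub_pow_char_of_commute p (Commute.one_right M)
  obtain ⟨j, hj⟩ : ∃ j, p = j + 2 := ⟨p - 2, by have := hp.out.two_le; omega⟩
  have h2 : (M - 1) ^ p = 0 := by rw [hj, pow_add, pow_two, h, mul_zero]
  rw [h2, one_pow] at h1
  exact sub_eq_zero.mp h1.symm

theorem mat2_nilp_nonscalar {N : Matrix (Fin 2) (Fin 2) F} (h : N * N = 0) (hN : N ≠ 0) (c : F) :
    N ≠ c • (1 : Matrix (Fin 2) (Fin 2) F) := by
  rintro rfl
  simp only [mul_smul_comm, mul_one, smul_smul, smul_eq_zero, mul_self_eq_zero,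
    one_ne_zero, or_false] at h
  exact hN (by rw [h, zero_smul])

/-- A `p`-group with a faithful two-dimensional representation in characteristic `p` is
elementary abelian. -/
theorem GL2_pgroup_abelem (p : ℕ) [hp : Fact p.Prime] [CharP F p] (P : Type u) [Group P]
    [Finite P] (hP : IsPGroup p P) (ρ : P →* Matrix (Fin 2) (Fin 2) F)
    (hρ : Function.Injective ρ) : IsMulCommutative P ∧ ∀ x : P, x ^ p = 1 := by
  have hu : ∀ x : P, (ρ x - 1) * (ρ x - 1) = 0 := fun x => by
    obtain ⟨k, hk⟩ := hP x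
    exact mat2_unipotent p (k := k) (by rw [← map_pow, hk, map_one])
  refine ⟨?_, fun x => hρ (by rw [map_pow, map_one]; exact mat2_pow_char_eq_one p (hu x))⟩
  rcases subsingleton_or_nontrivial P with h | h
  · exact ⟨⟨fun a b => Subsingleton.elim _ _⟩⟩
  have := hP.center_nontrivial
  obtain ⟨z, hz⟩ := exists_ne (1 : Subgroup.center P)
  have hz1 : ρ z - 1 ≠ 0 := by
    intro e
    apply hz
    apply Subtype.ext
    apply hρ
    rw [sub_eq_zero.mp e]; simp
  have hc : ∀ x : P, (ρ z - 1) * ρ x = ρ x * (ρ z - 1) := fun x => by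
    rw [sub_mul, mul_sub, ← map_mul, ← map_mul, Subgroup.mem_center_iff.mp z.2 x, one_mul, mul_one]
  refine ⟨⟨fun a b => hρ ?_⟩⟩
  rw [map_mul, map_mul]
  exact mat2_comm_of_comm (mat2_nilp_nonscalar (hu z) hz1) (hc a) (hc b)

/-- **B & G, Theorem 2.6(b)**. -/
theorem charf_GL2_der_subset_abelem_Sylow (p : ℕ) [hp : Fact p.Prime] [CharP F p]
    (G : Type u) [Group G] [Finite G] (hodd : Odd (Nat.card G))
    (ρ : G →* Matrix (Fin 2) (Fin 2) F) (hρ : Function.Injective ρ) (P : Sylow p G) :
    commutator G ≤ P ∧ (P : Subgroup G).Normal ∧ IsMulCommutative P ∧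
      ∀ x ∈ (P : Subgroup G), x ^ p = 1 := by
  have h1 : commutator G ≤ P := (der1_odd_GL2_isPGroup p G hodd ρ hρ).le_sylow_of_normal P
  obtain ⟨h2, h3⟩ := GL2_pgroup_abelem p P P.isPGroup' (ρ.comp (P : Subgroup G).subtype)
    (hρ.comp (P : Subgroup G).subtype_injective)
  exact ⟨h1, Subgroup.Normal.of_commutator_le _ h1, h2,
    fun x hx => congrArg Subtype.val (h3 ⟨x, hx⟩)⟩

/-- **B & G, Theorem A.1**: if `p` divides the order of an odd order group with a faithful
two-dimensional representation in characteristic `p`, there is an invariant line. -/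
theorem odd_GL2_exists_line (p : ℕ) [hp : Fact p.Prime] [CharP F p]
    (G : Type u) [Group G] [Finite G] (hodd : Odd (Nat.card G))
    (ρ : G →* Matrix (Fin 2) (Fin 2) F) (hρ : Function.Injective ρ) (hdvd : p ∣ Nat.card G) :
    ∃ v : Fin 2 → F, v ≠ 0 ∧ ∀ g : G, (ρ g).mulVec v ∈ Submodule.span F {v} := by
  obtain ⟨P⟩ := (inferInstance : Nonempty (Sylow p G))
  obtain ⟨-, hn, hc, -⟩ := charf_GL2_der_subset_abelem_Sylow p G hodd ρ hρ P
  obtain ⟨z, hz, hz1⟩ : ∃ z ∈ (P : Subgroup G), z ≠ 1 := by
    by_contra h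
    push Not at h
    exact P.ne_bot_of_dvd_card hdvd ((Subgroup.eq_bot_iff_forall _).mpr h)
  have hu : ∀ x ∈ (P : Subgroup G), (ρ x - 1) * (ρ x - 1) = 0 := fun x hx => by
    obtain ⟨k, hk⟩ := P.isPGroup' ⟨x, hx⟩
    exact mat2_unipotent p (k := k)
      (by rw [← map_pow, show x ^ p ^ k = 1 from congrArg Subtype.val hk, map_one])
  set N := ρ z - 1 with hN
  have hN0 : N ≠ 0 := fun e => hz1 (hρ (by rw [sub_eq_zero.mp e, map_one]))
  have hNN : N * N = 0 := hu z hz
  have hns := mat2_nilp_nonscalar hNN hN0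
  -- conjugates of `N` are multiples of `N`
  have hconj : ∀ g : G, ∃ β : F, ρ g * N = β • (N * ρ g) := by
    intro g
    have hz' := hn.conj_mem z hz g
    have hcomm : N * (ρ (g * z * g⁻¹) - 1) = (ρ (g * z * g⁻¹) - 1) * N := by
      simp only [hN, mul_sub, sub_mul, mul_one, one_mul, ← map_mul]
      rw [setLike_mul_comm hz hz']
      abel
    obtain ⟨α, β, h⟩ := mat2_comm hns hcomm
    have h2 := hu _ hz'
    rw [h] at h2
    have hα : α = 0 := by
      by_contra hα
      simp only [add_mul, mul_add, smul_mul_assoc, mul_smul_comm, one_mul, mul_one, smul_add,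
        smul_smul, hNN, smul_zero, add_zero] at h2
      have h3 := congrArg (· * N) h2
      simp only [add_mul, smul_mul_assoc, hNN, smul_zero, add_zero, one_mul, zero_mul,
        smul_eq_zero, mul_self_eq_zero] at h3
      exact h3.elim hα hN0
    refine ⟨β, ?_⟩
    rw [hα, zero_smul, zero_add] at h
    rw [← smul_mul_assoc, ← h, hN, mul_sub, sub_mul, ← map_mul, ← map_mul]
    simp
  have hdet : N 0 0 * N 1 1 - N 0 1 * N 1 0 = 0 := by
    have := congrArg Matrix.det hNN
    rw [det_mul, det_zero, mul_self_eq_zero, det_fin_two] at this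
    exact this
  obtain ⟨e, he⟩ : ∃ e : Fin 2 → F, N.mulVec e ≠ 0 := by
    by_contra h
    push Not at h
    exact hN0 (Matrix.ext_iff_mulVec.mpr fun v => by rw [h v, zero_mulVec])
  refine ⟨N.mulVec e, he, fun g => ?_⟩
  obtain ⟨β, hβ⟩ := hconj g
  rw [mulVec_mulVec, hβ, smul_mulVec, ← mulVec_mulVec]
  apply Submodule.smul_mem
  generalize (ρ g).mulVec e = u
  rw [Submodule.mem_span_singleton]
  by_cases h0 : N.mulVec e 0 = 0
  · have h1 : N.mulVec e 1 ≠ 0 := fun h1 => he (by ext i; fin_cases i <;> assumption)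
    refine ⟨N.mulVec u 1 / N.mulVec e 1, ?_⟩
    ext i; fin_cases i
    · simp only [Pi.smul_apply, smul_eq_mul, Fin.zero_eta]
      field_simp
      simp only [mulVec, dotProduct, Fin.sum_univ_two]
      linear_combination (e 0 * u 1 - e 1 * u 0) * hdet
    · simp only [Pi.smul_apply, smul_eq_mul, Fin.mk_one]
      field_simp
  · refine ⟨N.mulVec u 0 / N.mulVec e 0, ?_⟩
    ext i; fin_cases i
    · simp only [Pi.smul_apply, smul_eq_mul, Fin.zero_eta]
      field_simp
    · simp only [Pi.smul_apply, smul_eq_mul, Fin.mk_one]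
      field_simp
      simp only [mulVec, dotProduct, Fin.sum_univ_two]
      linear_combination (e 1 * u 0 - e 0 * u 1) * hdet

end CharP

end H26
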