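import Mathlib
import Cfsg.Agent.H26.S01a

/-! # B & G §1, second part: `p`-length one (Lemma 1.21) and Lemma 1.22 -/

set_option autoImplicit false

namespace H26

open Cfsg H24 Subgroup

universe u

variable {G : Type u} [Group G] [Finite G]
variable {π : Set ℕ} {A E H K L M P R S T U V X : Subgroup G} {p q : ℕ}

omit [Finite G] in
theorem plength1_p'group (h : IsPi {p}ᶜ M) : PLen1 p M := plen1_of_pi_compl h

theorem plength1_pgroup (h : IsPi {p} M) : PLen1 p M := plen1_of_pi h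

theorem plength1_iff (hp : p.Prime) : PLen1 p M ↔ PLengthLE p 1 M := plen1_iff hp

theorem plength1_pcore_quo_Sylow :
    PLen1 p M ↔ Syl p (quo M O[{p}ᶜ, M]) O[{p}, quo M O[{p}ᶜ, M]] := plen1_iff_quo

theorem plength1_pcore_Sylow (h : O[{p}ᶜ, M] = ⊥) : PLen1 p M ↔ Syl p M O[{p}, M] := by
  rw [PLen1, Opp, core2_of_pcore_eq_bot _ h]
  exact ⟨fun h => Hall.mk' (pcore_le _ _) (pcore_pi _ _) h, fun h => h.idx⟩

omit [Finite G] in
theorem plength1_pseries2_quo : PLen1 p M ↔ IsPi {p}ᶜ (quo M (Opp p M)) :=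
  (isPi_quo_iff (core2_nml _ _ _).norm).symm

/-- Working form: `O_p'(M) S` is normal for a Sylow `p`-subgroup `S`. -/
theorem plength1_iff_nml (_hp : p.Prime) (hS : Syl p M S) : PLen1 p M ↔ M ≤ N[O[{p}ᶜ, M] ⊔ S] :=
  ⟨fun h => (h.sup_nml hS).norm, plen1_of_sup_nml hS (pcore_pi _ _) (pcore_nml _ _)⟩

/-- Working form: some normal `p'`-subgroup `K` has `K S` normal. -/
theorem plength1_of_nml (_hp : p.Prime) (hS : Syl p M S) (hK : K ⊴ M) (hK' : IsPi {p}ᶜ K)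
    (h : M ≤ N[K ⊔ S]) : PLen1 p M := plen1_of_sup_nml hS hK' hK h

theorem ncompl_core2 (π : Set ℕ) (M : Subgroup G) : NCompl π (core2 πᶜ π M) := by
  rw [NCompl, pcore_core2]; exact hall_pcore_core2 π M

/-- Working form: a normal subgroup of `p'`-index has a normal `p`-complement. -/
theorem plength1_of_ncompl_nml (hL : L ⊴ M) (hi : PiNat {p}ᶜ (L.relIndex M)) (h : NCompl {p} L) :
    PLen1 p M := by
  refine hi.dvd (relIndex_dvd_of_le_left _ (core2_max hL ?_))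
  rw [← inf_relIndex_right, pcore_inf_nml _ hL]
  simpa using h.idx

/-- Lemma 1.21(a). -/
theorem plength1S (_hp : p.Prime) (hHM : H ≤ M) (h : PLen1 p M) : PLen1 p H := by
  have hO := core2_nml {p}ᶜ {p} M
  refine plength1_of_ncompl_nml (hO.inf_right hHM) ?_ ((ncompl_core2 _ M).of_le inf_le_left)
  rw [inf_relIndex_right]
  exact PiNat.dvd h (relIndex_dvd_of_nml hO hHM)

theorem plength1_img {G' : Type*} [Group G'] [Finite G'] {D : Subgroup G} (f : D →* G') (hM : M ≤ D)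
    (h : PLen1 p M) : PLen1 p (img f M) :=
  have hO := core2_nml {p}ᶜ {p} M
  plength1_of_ncompl_nml (hO.img f) (PiNat.dvd h (relIndex_img_dvd f (hO.le.trans hM) hM))
    ((ncompl_core2 _ M).img f (hO.le.trans hM))

theorem plength1_quo (_hp : p.Prime) (hH : M ≤ N[H]) (h : PLen1 p M) : PLen1 p (quo M H) :=
  plength1_img _ hH h

/-- Lemma 1.21(b). -/
theorem p'quo_plength1 (hp : p.Prime) (hH : H ⊴ M) (h : IsPi {p}ᶜ H) :
    PLen1 p (quo M H) ↔ PLen1 p M := by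
  refine ⟨fun h1 => plength1_of_ncompl_nml (nml_coq_of hH (core2_nml {p}ᶜ {p} _)) ?_
    (ncompl_of_quo h (nml_coq _) ?_), plength1_quo hp hH.norm⟩
  · rwa [relIndex_coq _ hH.norm]
  · rw [quo_coq]; exact ncompl_core2 _ _

/-- Lemma 1.21(c). -/
theorem pquo_plength1 (hp : p.Prime) (hH : H ⊴ M) (h : IsPi {p} H) (hO : O[{p}ᶜ, quo M H] = ⊥) :
    PLen1 p (quo M H) ↔ PLen1 p M := by
  refine ⟨fun h1 => ?_, plength1_quo hp hH.norm⟩
  have := Hall.coq h ((plength1_pcore_Sylow hO).mp h1)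
  rw [hH.coq_quo] at this
  exact plen1_of_syl_nml this (nml_coq_of hH (pcore_nml _ _)).norm

/-- The subgroup generated by the `p`-elements of `M`, that is `O^{p'}(M)`. -/
def pEltGen (p : ℕ) (M : Subgroup G) : Subgroup G := closure {x | x ∈ M ∧ PiElt {p} x}

omit [Finite G] in
theorem mem_pEltGen {x : G} (hx : x ∈ M) (h : PiElt {p} x) : x ∈ pEltGen p M :=
  Subgroup.subset_closure ⟨hx, h⟩

omit [Finite G] in
theorem pEltGen_le_iff : pEltGen p M ≤ K ↔ ∀ x ∈ M, PiElt {p} x → x ∈ K :=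
  (closure_le _).trans ⟨fun h _ hx h' => h ⟨hx, h'⟩, fun h x hx => h x hx.1 hx.2⟩

omit [Finite G] in
theorem norm_pEltGen (h : X ≤ N[M]) : X ≤ N[pEltGen p M] :=
  norm_closure fun _ ha _ hs => mem_pEltGen (conj_mem (h ha) hs.1) (hs.2.conj _)

omit [Finite G] in
theorem p_elt_gen_normal : pEltGen p M ⊴ M :=
  ⟨pEltGen_le_iff.mpr fun _ h _ => h, norm_pEltGen (norm_self M)⟩

omit [Finite G] in
theorem le_pEltGen (hP : IsPi {p} P) (hPM : P ≤ M) : P ≤ pEltGen p M :=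
  fun _ hx => mem_pEltGen (hPM hx) (hP.piElt hx)

theorem idx_pEltGen (_hp : p.Prime) : PiNat {p}ᶜ ((pEltGen p M).relIndex M) :=
  (piNat_relIndex_iff p_elt_gen_normal.norm).mpr fun _ hx h => mem_pEltGen hx (by simpa using h)

theorem pEltGen_le (hK : K ⊴ M) (h : PiNat {p}ᶜ (K.relIndex M)) : pEltGen p M ≤ K :=
  pEltGen_le_iff.mpr fun x hx h' => (piNat_relIndex_iff hK.norm).mp h x hx (by simpa using h')

omit [Finite G] in
theorem quo_pEltGen_le (hH : M ≤ N[H]) : quo (pEltGen p M) H ≤ pEltGen p (quo M H) :=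
  (quo_le_iff (p_elt_gen_normal.le.trans hH)).mpr (pEltGen_le_iff.mpr fun _ hx h =>
    mem_coq.mpr ⟨hH hx, mem_pEltGen (cs_mem_quo hx (hH hx)) (h.ap _ (hH hx))⟩)

/-- Lemma 1.21(d). -/
theorem p_elt_gen_length1 (hp : p.Prime) : PLen1 p M ↔ NCompl {p} (pEltGen p M) :=
  ⟨fun h => (ncompl_core2 _ M).of_le (pEltGen_le (core2_nml _ _ _) h),
    plength1_of_ncompl_nml p_elt_gen_normal (idx_pEltGen hp)⟩

theorem ncompl_of_quo2 (hH : U ≤ N[H]) (hK : U ≤ N[K]) (hi : H ⊓ K = ⊥) (h1 : NCompl π (quo U H))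
    (h2 : NCompl π (quo U K)) : NCompl π U := by
  have hn : U ≤ N[U ⊓ (coq H O[πᶜ, quo U H] ⊓ coq K O[πᶜ, quo U K])] :=
    norm_inf (norm_self U) (norm_inf (norm_coq hH (pcore_nml _ _).norm)
      (norm_coq hK (pcore_nml _ _).norm))
  refine ncompl_of_nml (Hall.mk' inf_le_left (isPi_iff_piElt.mpr fun x hx => ?_)
    ((piNat_relIndex_iff hn).mpr fun x hx h => ?_)) hn
  · obtain ⟨hy, hyH, hyK⟩ := constt_mem π hx
    rw [← constt_eq_one_iff, ← mem_bot, ← hi]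
    exact ⟨(cs_eq_one (hH hy)).mp (((piElt_constt π x).ap _ (hH hy)).eq_one
        ((pcore_pi _ _).piElt (mem_coq.mp hyH).2)),
      (cs_eq_one (hK hy)).mp (((piElt_constt π x).ap _ (hK hy)).eq_one
        ((pcore_pi _ _).piElt (mem_coq.mp hyK).2))⟩
  · rw [compl_compl] at h
    exact ⟨hx, mem_coq.mpr ⟨hH hx, h1.mem_pcore (h.ap _ (hH hx)) (cs_mem_quo hx (hH hx))⟩,
      mem_coq.mpr ⟨hK hx, h2.mem_pcore (h.ap _ (hK hx)) (cs_mem_quo hx (hK hx))⟩⟩

/-- Lemma 1.21(e). -/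
theorem quo2_plength1 (hp : p.Prime) (hH : H ⊴ M) (hK : K ⊴ M) (hi : H ⊓ K = ⊥) :
    PLen1 p (quo M H) ∧ PLen1 p (quo M K) ↔ PLen1 p M := by
  refine ⟨fun h => ?_, fun h => ⟨plength1_quo hp hH.norm h, plength1_quo hp hK.norm h⟩⟩
  simp only [p_elt_gen_length1 hp] at h ⊢
  exact ncompl_of_quo2 (p_elt_gen_normal.le.trans hH.norm) (p_elt_gen_normal.le.trans hK.norm) hi
    (h.1.of_le (quo_pEltGen_le hH.norm)) (h.2.of_le (quo_pEltGen_le hK.norm))

/-- One step up in a `p`-group: a normal subgroup between `Q` and `K` in which `Q` has index `p`. -/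
theorem exists_normal_index_p (hp : p.Prime) (hP : IsPi {p} P) (hK : K ⊴ P) {Q : Subgroup G}
    (hQ : Q ⊴ P) (h : Q < K) :
    ∃ L, Q ≤ L ∧ L ≤ K ∧ L ⊴ P ∧ ♯L = ♯Q * p ∧ ⁅L, P⁆ ≤ Q := by
  have hQK : Q ⊴ K := hQ.of_le h.le hK.le
  have h1 := meet_center_nil ((hP.quo Q).nil hp) (hK.quo Q)
    (fun e => h.not_ge ((quo_eq_bot hQK.norm).mp e))
  obtain ⟨X, hX, hc⟩ := exists_card_prime hp
    ((((hP.of_le hK.le).quo Q).inf_left _).dvd_card h1)
  have hn := nml_coq_of hQ (nml_of_le_center (hX.trans inf_le_right))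
  refine ⟨coq Q X, le_coq X, coq_le_of_le_quo hQK (hX.trans inf_le_left), hn, by rw [card_coq, hc], ?_⟩
  rw [← quo_cents (coq_le_N X) hQ.norm, quo_coq]
  exact hX.trans (inf_le_right.trans inf_le_right)

/-- Lemma 1.22 (`normal_pgroup`), above a given normal subgroup. -/
theorem normal_pgroup_between (hp : p.Prime) (hP : IsPi {p} P) (hK : K ⊴ P) (hL : L ⊴ P)
    (hLK : L ≤ K) {r : ℕ} (hr : ♯L * p ^ r ∣ ♯K) : ∃ Q, L ≤ Q ∧ Q ≤ K ∧ Q ⊴ P ∧ ♯Q = ♯L * p ^ r := by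
  induction r with
  | zero => exact ⟨L, le_rfl, hLK, hL, by simp⟩
  | succ r ih =>
    obtain ⟨Q, h1, h2, h3, h4⟩ := ih (dvd_trans (mul_dvd_mul_left _ (pow_dvd_pow p r.le_succ)) hr)
    obtain ⟨Q', h5, h6, h7, h8, -⟩ := exists_normal_index_p hp hP hK h3 (lt_of_card_lt h2 (by
      refine lt_of_lt_of_le ?_ (Nat.le_of_dvd (card_pos K) hr)
      rw [h4]
      exact Nat.mul_lt_mul_of_pos_left (Nat.pow_lt_pow_right hp.one_lt r.lt_succ_self) (card_pos L)))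
    exact ⟨Q', h1.trans h5, h6, h7, by rw [h8, h4, pow_succ, mul_assoc]⟩

/-- Lemma 1.22 (`normal_pgroup`). -/
theorem normal_pgroup (hp : p.Prime) (hP : IsPi {p} P) (hK : K ⊴ P) {r : ℕ} (hr : p ^ r ∣ ♯K) :
    ∃ Q, Q ≤ K ∧ Q ⊴ P ∧ ♯Q = p ^ r := by
  obtain ⟨Q, -, h⟩ := normal_pgroup_between hp hP hK (Nml.bot P) bot_le (r := r) (by simpa using hr)
  exact ⟨Q, by simpa using h⟩

end H26
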