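import Mathlib
import Cfsg.Agent.H26.S01b
import Cfsg.Agent.H26.GL2

/-! # Elementary abelian groups as vector spaces; B & G Theorem 2.6 and Lemma 2.7 for them -/

set_option autoImplicit false

namespace H26

open Cfsg H24 Subgroup
open H25 hiding abl_iff cyc_zpowers cyc_bot exists_prime_dvd_card cyc_cj

universe u

theorem exists_addEnd_matrix (p n : ℕ) [Fact p.Prime] (M : Type*) [AddCommGroup M] [Finite M]
    [Module (ZMod p) M] (hc : Nat.card M = p ^ n) :
    ∃ ρ : AddMonoid.End M →* Matrix (Fin n) (Fin n) (ZMod p), Function.Injective ρ := by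
  have hp : p.Prime := Fact.out
  have : Module.Finite (ZMod p) M := Module.Finite.of_finite
  have hr : Module.finrank (ZMod p) M = n := by
    have := Module.natCard_eq_pow_finrank (K := ZMod p) (V := M)
    rw [Nat.card_zmod, hc] at this
    exact (Nat.pow_right_injective hp.two_le this).symm
  let b := Module.finBasisOfFinrankEq (ZMod p) M hr
  let ψ : AddMonoid.End M →* Module.End (ZMod p) M :=
    { toFun := fun α => AddMonoidHom.toZModLinearMap p α
      map_one' := by ext; rfl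
      map_mul' := fun _ _ => by ext; rfl }
  refine ⟨(LinearMap.toMatrixAlgEquiv b).toMulEquiv.toMonoidHom.comp ψ,
    (LinearMap.toMatrixAlgEquiv b).injective.comp fun α β h => ?_⟩
  ext v
  exact congrArg (fun f : Module.End (ZMod p) M => f v) h

theorem exists_mulAut_matrix' (p n : ℕ) [Fact p.Prime] (V : Type*) [CommGroup V] [Finite V]
    (hV : ∀ v : V, v ^ p = 1) (hc : Nat.card V = p ^ n) :
    ∃ ρ : MulAut V →* Matrix (Fin n) (Fin n) (ZMod p), Function.Injective ρ := by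
  let _ : Module (ZMod p) (Additive V) := AddCommGroup.zmodModule fun x => by
    rw [← ofMul_toMul x, ← ofMul_pow, hV]; rfl
  obtain ⟨ρ, hρ⟩ := exists_addEnd_matrix p n (Additive V)
    (by rw [← hc]; exact Nat.card_congr Additive.toMul)
  let ψ : MulAut V →* AddMonoid.End (Additive V) :=
    { toFun := fun α => MonoidHom.toAdditive α.toMonoidHom
      map_one' := by ext; rfl
      map_mul' := fun _ _ => by ext; rfl }
  exact ⟨ρ.comp ψ, hρ.comp fun α β h =>
    MulEquiv.toMonoidHom_injective (MonoidHom.toAdditive.injective h)⟩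

/-- The automorphism group of an elementary abelian group of order `p ^ n` embeds in the `n × n`
matrices over `ZMod p`. -/
theorem exists_mulAut_matrix (p n : ℕ) [Fact p.Prime] (V : Type*) [h : Group V] [Finite V]
    [IsMulCommutative V] (hV : ∀ v : V, v ^ p = 1) (hc : Nat.card V = p ^ n) :
    ∃ ρ : MulAut V →* Matrix (Fin n) (Fin n) (ZMod p), Function.Injective ρ :=
  @exists_mulAut_matrix' p n _ V { h with mul_comm := mul_comm' } _ hV hc

theorem card_mulAut_abelem_dvd (p n : ℕ) [Fact p.Prime] (V : Type*) [Group V] [Finite V]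
    [IsMulCommutative V] (hV : ∀ v : V, v ^ p = 1) (hc : Nat.card V = p ^ n) :
    Nat.card (MulAut V) ∣ ∏ i : Fin n, (p ^ n - p ^ (i : ℕ)) := by
  obtain ⟨ρ, hρ⟩ := exists_mulAut_matrix p n V hV hc
  have h := Matrix.card_GL_field (𝔽 := ZMod p) n
  rw [ZMod.card] at h
  rw [← h]
  exact card_dvd_of_injective ρ.toHomUnits fun a b e => hρ (congrArg Units.val e)

variable {G : Type u} [Group G] [Finite G]
variable {π : Set ℕ} {A E H K P X : Subgroup G} {p q : ℕ}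

omit [Finite G] in
/-- `|A : C_A(H)|` is the order of the group of automorphisms induced by `A` on `H`. -/
theorem relIndex_C_eq_card_range (hA : A ≤ N[H]) :
    (C[H]).relIndex A = Nat.card (H12.conjAct' hA).range := by
  rw [relIndex, ← H12.ker_conjAct' hA, index_ker]

omit [Finite G] in
theorem relIndex_C_dvd_card_mulAut (hA : A ≤ N[H]) : (C[H]).relIndex A ∣ Nat.card (MulAut H) := by
  rw [relIndex_C_eq_card_range hA]; exact card_subgroup_dvd_card _

theorem relIndex_C_dvd_totient (hA : A ≤ N[H]) (h : Cyc H) : (C[H]).relIndex A ∣ (♯H).totient :=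
  h.card_mulAut ▸ relIndex_C_dvd_card_mulAut hA

theorem relIndex_C_dvd_pred (hp : p.Prime) (hA : A ≤ N[H]) (h : ♯H = p) :
    (C[H]).relIndex A ∣ p - 1 := by
  have := relIndex_C_dvd_totient hA (cyc_of_prime (h ▸ hp))
  rwa [h, Nat.totient_prime hp] at this

/-- A `p'`-group of automorphisms of a cyclic `p`-group has order dividing `p - 1`. -/
theorem relIndex_C_cyc_dvd_pred (hp : p.Prime) (hA : A ≤ N[H]) (h : Cyc H) (hH : IsPi {p} H)
    (hA' : IsPi {p}ᶜ A) : (C[H]).relIndex A ∣ p - 1 := by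
  have h1 := relIndex_C_dvd_totient hA h
  obtain ⟨k, hk⟩ := hH.card_eq_pow hp
  rcases k with _ | k
  · rw [hk, pow_zero, Nat.totient_one] at h1; exact h1.trans (one_dvd _)
  rw [hk, Nat.totient_prime_pow_succ hp] at h1
  exact ((hA'.relIndex _).coprime' (piNat_self_pow hp k)).dvd_of_dvd_mul_left h1

theorem relIndex_C_abelem_dvd (hp : p.Prime) (hA : A ≤ N[E]) (hE : IsElementaryAbelian p E) {n : ℕ}
    (h : ♯E = p ^ n) : (C[E]).relIndex A ∣ ∏ i : Fin n, (p ^ n - p ^ (i : ℕ)) := by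
  have := Fact.mk hp
  have := hE.1
  exact (relIndex_C_dvd_card_mulAut hA).trans
    (card_mulAut_abelem_dvd p n E (fun v => Subtype.ext (hE.2 v v.2)) h)

theorem quotient_cent_abelem2_dvd (hp : p.Prime) (hAE : A ≤ N[E]) (hE : IsElementaryAbelian p E)
    (h2 : ♯E ∣ p ^ 2) : (C[E]).relIndex A ∣ p * (p - 1) * (p ^ 2 - 1) := by
  obtain ⟨n, hn, h⟩ := (Nat.dvd_prime_pow hp).mp h2
  refine (relIndex_C_abelem_dvd hp hAE hE h).trans ?_
  interval_cases n
  · simp
  · simpa using (dvd_mul_left _ _).mul_right _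
  · simp only [Fin.prod_univ_two, Fin.val_zero, Fin.val_one, pow_zero, pow_one]
    rw [mul_comm, show p ^ 2 - p = p * (p - 1) by rw [Nat.mul_sub_one, sq]]

theorem not_dvd_pred (hp : p.Prime) : ¬ p ∣ p - 1 :=
  Nat.not_dvd_of_pos_of_lt (Nat.sub_pos_of_lt hp.one_lt) (Nat.sub_lt hp.pos one_pos)

theorem not_dvd_sq_pred (hp : p.Prime) : ¬ p ∣ p ^ 2 - 1 := fun h =>
  hp.one_lt.ne' (Nat.dvd_one.mp ((Nat.dvd_sub_iff_right (Nat.one_le_pow _ _ hp.pos)
    (dvd_pow_self p two_ne_zero)).mp h))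

/-- The order of `GL₂(p)`. -/
theorem logn_quotient_cent_abelem (hp : p.Prime) (hAE : A ≤ N[E]) (hE : IsElementaryAbelian p E)
    (h2 : ♯E ∣ p ^ 2) : ¬ p ^ 2 ∣ (C[E]).relIndex A := by
  intro h
  have := h.trans (quotient_cent_abelem2_dvd hp hAE hE h2)
  nth_rewrite 1 [sq] at this
  rw [mul_assoc, Nat.mul_dvd_mul_iff_left hp.pos, hp.dvd_mul] at this
  exact this.elim (not_dvd_pred hp) (not_dvd_sq_pred hp)

/-- In a `p`-group, the centraliser of a normalised `E_{p^2}` has index at most `p`. -/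
theorem pgroup_relIndex_cent_abelem2 (hp : p.Prime) (hA : IsPi {p} A) (hAE : A ≤ N[E])
    (hE : IsElementaryAbelian p E) (h2 : ♯E ∣ p ^ 2) : (C[E]).relIndex A ∣ p := by
  obtain ⟨k, hk⟩ := (piNat_singleton hp (relIndex_ne_zero' _ _)).mp (hA.relIndex C[E])
  have := logn_quotient_cent_abelem hp hAE hE h2
  rw [hk, Nat.pow_dvd_pow_iff_le_right hp.one_lt] at this
  rw [hk]
  exact (pow_dvd_pow p (by omega : k ≤ 1)).trans (pow_one p).dvd

/-- Theorem 2.6 for an elementary abelian group of rank at most 2: `(A / C_A(E))'` is a `p`-group. -/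
theorem der1_odd_abelem2 (hp : p.Prime) (hAE : A ≤ N[E]) (hE : IsElementaryAbelian p E)
    (h2 : ♯E ∣ p ^ 2) (hodd : Odd ♯A) : PiNat {p} ((C[E]).relIndex ⁅A, A⁆) := by
  have := Fact.mk hp
  have := hE.1
  obtain ⟨n, hn, h⟩ := (Nat.dvd_prime_pow hp).mp h2
  by_cases hc : Cyc E
  · rw [relIndex_eq_one.mpr (cyc_der1_norm_le_cent hc hAE)]; exact piNat_one _
  obtain rfl : n = 2 := by
    have := hE.two_le_prank hp hc
    have := prank_le_of_card hp h
    omega
  obtain ⟨ρ, hρ⟩ := exists_mulAut_matrix p 2 E (fun v => Subtype.ext (hE.2 v v.2)) h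
  set φ := H12.conjAct' hAE
  have h1 := der1_odd_GL2_isPGroup p φ.range (hodd.of_dvd_nat (card_range_dvd φ))
    (ρ.comp φ.range.subtype) (hρ.comp φ.range.subtype_injective)
  rw [piNat_relIndex_iff ((der1_le A).trans (norm_C hAE))]
  intro x hx hx'
  rw [der1_eq_map] at hx
  obtain ⟨x, hx, rfl⟩ := hx
  have h3 : φ.rangeRestrict x ∈ commutator φ.range := by
    have := mem_map_of_mem φ.rangeRestrict hx
    rw [commutator_def, map_commutator] at this
    exact commutator_mono le_top le_top this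
  have h4 : PiElt {p}ᶜ x := by rwa [PiElt, ← orderOf_injective _ A.subtype_injective]
  have h5 := ((isPi_of_isPGroup hp h1).piElt h3).eq_one (h4.map φ.rangeRestrict)
  have h6 : x ∈ φ.ker := congrArg Subtype.val h5
  rwa [H12.ker_conjAct'] at h6

theorem p'_odd_abelem2_der1_cent (hp : p.Prime) (hAE : A ≤ N[E]) (hE : IsElementaryAbelian p E)
    (h2 : ♯E ∣ p ^ 2) (hodd : Odd ♯A) (hA : IsPi {p}ᶜ A) : ⁅A, A⁆ ≤ C[E] :=
  le_of_piNat_relIndex ((der1_le A).trans (norm_C hAE)) (der1_odd_abelem2 hp hAE hE h2 hodd) le_rfl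
    (hA.of_le (der1_le A))

omit [Finite G] in
theorem conj_pow_conj {a x : G} {r : ℕ} (h : a * x * a⁻¹ = x ^ r) (k : ℕ) :
    a ^ k * x * (a ^ k)⁻¹ = x ^ r ^ k := by
  induction k with
  | zero => simp
  | succ k ih =>
    rw [pow_succ', mul_inv_rev, show a * a ^ k * x * ((a ^ k)⁻¹ * a⁻¹) =
      a * (a ^ k * x * (a ^ k)⁻¹) * a⁻¹ by group, ih, ← conj_pow, h, ← pow_mul, ← pow_succ']

theorem exists_conj_eq_pow {a x : G} (h : a ∈ N[zpowers x]) : ∃ r : ℕ, a * x * a⁻¹ = x ^ r := by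
  obtain ⟨r, hr⟩ := (mem_powers_iff_mem_zpowers (y := a * x * a⁻¹)).mpr (conj_mem h (mem_zpowers x))
  exact ⟨r, hr.symm⟩

/-- In the cyclic group of units of `ZMod p`, an element of prime order `q` generates all solutions
of `x ^ q = 1`. -/
theorem exists_pow_modEq (hp : p.Prime) (hq : q.Prime) {r s : ℕ} (hr : r ^ q ≡ 1 [MOD p])
    (hs : s ^ q ≡ 1 [MOD p]) (hs1 : ¬ s ≡ 1 [MOD p]) : ∃ k, s ^ k ≡ r [MOD p] := by
  have := Fact.mk hp
  have := Fact.mk hq
  have := NeZero.mk hq.ne_zero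
  rw [← ZMod.natCast_eq_natCast_iff] at hr hs hs1
  push_cast at hr hs hs1
  have h := (orderOf_eq_prime hs hs1) ▸ IsPrimitiveRoot.orderOf (s : ZMod p)
  obtain ⟨k, -, hk⟩ := h.eq_pow_of_pow_eq_one hr
  exact ⟨k, by rw [← ZMod.natCast_eq_natCast_iff]; push_cast; exact hk⟩

/-- Lemma 2.7. -/
theorem regular_abelem2_on_abelem2 (hp : p.Prime) (hq : q.Prime) {Q : Subgroup G}
    (hP : PnElem p 2 ⊤ P) (hQ : PnElem q 2 ⊤ Q) (hQP : Q ≤ N[P]) (h : Q ⊓ C[P] = ⊥) :
    q ∣ p - 1 ∧ ∃ a ∈ Q, a ≠ 1 ∧ ∃ r : ℕ, (∀ x ∈ P, a * x * a⁻¹ = x ^ r) ∧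
      r ^ q ≡ 1 [MOD p] ∧ ¬ r ≡ 1 [MOD p] := by
  have hqp : p ≠ q := by
    rintro rfl
    apply logn_quotient_cent_abelem hp hQP hP.elem hP.card.dvd
    rw [← inf_relIndex_left, h, relIndex_bot_left, hQ.card]
  have hcop := (hP.isPi hp).coprime_of_ne (hQ.isPi hq) hqp
  -- for every proper subgroup `L` of `P` some `C_P(a)` is a line not contained in `L`
  have key : ∀ L : Subgroup G, ¬ P ≤ L → ∃ a ∈ Q, a ≠ 1 ∧ ∃ x ∈ P, x ∉ L ∧ a * x = x * a ∧
      orderOf x = p ∧ Q ≤ N[zpowers x] := by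
    intro L hL
    by_contra hn
    refine hL (coprime_abelian_gen_cent1 hQ.abl (hQ.not_cyc hq le_rfl) hQP hcop fun a ha h1 x hx => ?_)
    by_contra hxL
    have hx1 : x ≠ 1 := fun e => hxL (e ▸ one_mem _)
    have h2 : P ⊓ C{a} ≠ P := fun e => h1 (mem_bot.mp (h ▸ ⟨ha,
      mem_C_iff_le_C1.mpr (inf_eq_left.mp e)⟩))
    have h3 := hP.one_of_lt hp inf_le_left h2 (ne_bot_of_mem hx hx1)
    refine hn ⟨a, ha, h1, x, hx.1, hxL, (mem_C1.mp hx.2).symm, hP.elem.orderOf_eq hp hx.1 hx1, ?_⟩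
    rw [h3.eq_zpowers hp hx hx1]
    exact norm_inf hQP (norm_C1 (mem_C_iff_le_C1.mp (hQ.le_cent ha)))
  obtain ⟨a, ha, ha1, x, hx, hx1, hax, hxo, hxn⟩ := key ⊥ (fun e => hP.ne_bot hp two_pos (le_bot_iff.mp e))
  have hX : PnElem p 1 P (zpowers x) := pnElem_zpowers hx hxo
  obtain ⟨b, hb, hb1, y, hy, hyx, hby, hyo, hyn⟩ := key (zpowers x) (fun e =>
    absurd (hP.rank_le hX hp e) (by norm_num))
  have hY : PnElem p 1 P (zpowers y) := pnElem_zpowers hy hyo
  have hXY := hP.sup_eq_of_ne hp hX hY hX.le hY.le fun e => hyx (e ▸ mem_zpowers y)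
  -- an element acting as the same power on `x` and `y` is a power map on `P`
  have scal : ∀ (c : G) (r : ℕ), c * x * c⁻¹ = x ^ r → c * y * c⁻¹ = y ^ r →
      ∀ z ∈ P, c * z * c⁻¹ = z ^ r := by
    intro c r h1 h2 z hz
    rw [← hXY, mem_sup_of_norm (hP.abl.norm hY.le hX.le)] at hz
    obtain ⟨_, ⟨i, rfl⟩, _, ⟨j, rfl⟩, rfl⟩ := hz
    have hc : Commute x y := hP.abl.comm hx hy
    simp only []
    rw [← conj_mul, ← conj_zpow, ← conj_zpow, h1, h2, (hc.zpow_zpow i j).mul_pow, ← zpow_natCast,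
      ← zpow_natCast, ← zpow_natCast, ← zpow_natCast, ← zpow_mul, ← zpow_mul, ← zpow_mul,
      ← zpow_mul, mul_comm i, mul_comm j]
  have hne : ∀ c ∈ Q, c ≠ 1 → ∀ r, (∀ z ∈ P, c * z * c⁻¹ = z ^ r) → ¬ r ≡ 1 [MOD p] := by
    intro c hc hc1 r h1 h2
    refine hc1 (mem_bot.mp (h ▸ ⟨hc, mem_C'.mpr fun z hz => ?_⟩))
    have : z ^ r = z ^ 1 := pow_eq_pow_iff_modEq.mpr
      (h2.of_dvd (orderOf_dvd_of_pow_eq_one (hP.elem.pow hz)))
    rw [← mul_inv_eq_iff_eq_mul, h1 z hz, this, pow_one]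
  have hq1 : ∀ c ∈ Q, ∀ z : G, orderOf z = p → ∀ r, c * z * c⁻¹ = z ^ r → r ^ q ≡ 1 [MOD p] := by
    intro c hc z hz r h1
    have := conj_pow_conj h1 q
    rw [hQ.elem.pow hc, one_mul, inv_one, mul_one] at this
    rw [← hz, ← pow_eq_pow_iff_modEq, ← this, pow_one]
  obtain ⟨r, hr⟩ := exists_conj_eq_pow (hyn ha)
  obtain ⟨s, hs⟩ := exists_conj_eq_pow (hxn hb)
  have hax' : a * x * a⁻¹ = x := by rw [hax, mul_inv_cancel_right]
  have hby' : b * y * b⁻¹ = y := by rw [hby, mul_inv_cancel_right]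
  have hr1 : ¬ r ≡ 1 [MOD p] := fun e => hne a ha ha1 1 (scal a 1 (by rwa [pow_one])
    (by rw [hr]; exact pow_eq_pow_iff_modEq.mpr (hyo ▸ e))) rfl
  have hs1 : ¬ s ≡ 1 [MOD p] := fun e => hne b hb hb1 1 (scal b 1
    (by rw [hs]; exact pow_eq_pow_iff_modEq.mpr (hxo ▸ e)) (by rwa [pow_one])) rfl
  have hrq := hq1 a ha y hyo r hr
  obtain ⟨k, hk⟩ := exists_pow_modEq hp hq hrq (hq1 b hb x hxo s hs) hs1
  have e1 : a * b ^ k * x * (a * b ^ k)⁻¹ = x ^ r := by
    rw [mul_inv_rev, show a * b ^ k * x * ((b ^ k)⁻¹ * a⁻¹) = a * (b ^ k * x * (b ^ k)⁻¹) * a⁻¹ by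
      group, conj_pow_conj hs, ← conj_pow, hax']
    exact pow_eq_pow_iff_modEq.mpr (hxo ▸ hk)
  have e2 : a * b ^ k * y * (a * b ^ k)⁻¹ = y ^ r := by
    rw [mul_inv_rev, show a * b ^ k * y * ((b ^ k)⁻¹ * a⁻¹) = a * (b ^ k * y * (b ^ k)⁻¹) * a⁻¹ by
      group, conj_pow_conj (r := 1) (by rwa [pow_one]), one_pow, pow_one, hr]
  refine ⟨?_, a * b ^ k, Q.mul_mem ha (Q.pow_mem hb k), fun e => hr1 ?_, r, scal _ r e1 e2, hrq, hr1⟩
  · have := Fact.mk hp
    have := Fact.mk hq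
    rw [← ZMod.natCast_eq_natCast_iff] at hrq hr1
    push_cast at hrq hr1
    rw [← orderOf_eq_prime hrq hr1]
    exact ZMod.orderOf_dvd_card_sub_one fun e => by
      rw [e, zero_pow hq.ne_zero] at hrq; exact zero_ne_one hrq
  · rw [e, one_mul, inv_one, mul_one] at e2
    rw [← hyo, ← pow_eq_pow_iff_modEq, ← e2, pow_one]

end H26
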