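import Mathlib
import Cfsg.Agent.H26.S01b
import Cfsg.Agent.H26.Abelem
import Cfsg.Agent.H3.Critical

/-! # B & G §1: Theorem 1.11, Corollary 1.12, Theorem 1.13 (the rest is in the imports) -/

set_option autoImplicit false

namespace H26

open Cfsg H24 Subgroup
open H25 hiding abl_iff cyc_zpowers cyc_bot exists_prime_dvd_card cyc_cj
open scoped commutatorElement

universe u

variable {G : Type u} [Group G] [Finite G]
variable {A E H R : Subgroup G} {p : ℕ}

omit [Finite G] in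
/-- Transfer of a faithfulness statement for automorphisms of `R` to conjugation actions. -/
theorem cent_of_forall_mulAut (hp : p.Prime) (hAR : A ≤ N[R]) (hA : IsPi {p}ᶜ A) {S : Set G}
    (h : ∀ a : MulAut R, (orderOf a).Coprime p → (∀ x : R, (x : G) ∈ S → a x = x) → a = 1)
    (hc : ∀ a ∈ A, ∀ x ∈ S, a * x = x * a) : A ≤ C[R] := by
  intro a ha
  have h1 : (⟨a, ha⟩ : A) ∈ (H12.conjAct' hAR).ker := by
    refine h _ ?_ fun x hx => Subtype.ext ?_
    · refine Nat.Coprime.coprime_dvd_left ((orderOf_map_dvd _ _).trans (orderOf_dvd_natCard _)) ?_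
      exact ((piNat_compl_iff_coprime hp).mp hA).symm
    · rw [H12.coe_conjAct', mul_inv_eq_iff_eq_mul]; exact hc a ha x hx
  rwa [H12.ker_conjAct'] at h1

omit [Finite G] in
theorem isPi_compl_of_coprime_pgroup (hR : IsPi {p} R) (h1 : R ≠ ⊥) (hcop : (♯R).Coprime ♯A) :
    IsPi {p}ᶜ A :=
  PiNat.of_coprime (hR.prime h1) (hR.dvd_card h1) hcop

/-- Theorem 1.11. -/
theorem coprime_odd_faithful_Ohm1 (hp : p.Prime) (hR : IsPi {p} R) (hAR : A ≤ N[R])
    (hcop : (♯R).Coprime ♯A) (hodd : Odd ♯R) (h : A ≤ C[omegaOne p R]) : A ≤ C[R] := by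
  by_cases h1 : R = ⊥
  · rw [h1, C_bot]; exact le_top
  have := Fact.mk hp
  refine cent_of_forall_mulAut hp hAR (isPi_compl_of_coprime_pgroup hR h1 hcop)
    (S := omegaOne p R) (fun a ha hx => ?_) fun a ha x hx => comm_of_cent h ha hx
  refine H3.eq_one_of_fixes_omega (ne_two_of_odd_dvd hodd (hR.dvd_card h1)) (hR.isPGroup hp) ha
    fun x hxp => hx x (mem_omegaOne x.2 ?_)
  exact congrArg Subtype.val hxp

/-- Corollary 1.12. -/
theorem coprime_odd_faithful_cent_abelem (hp : p.Prime) (hE : E ≤ R) (hEe : IsElementaryAbelian p E)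
    (hR : IsPi {p} R) (hAR : A ≤ N[R]) (hcop : (♯R).Coprime ♯A) (hodd : Odd ♯R)
    (h : A ≤ C[omegaOne p (R ⊓ C[E])]) : A ≤ C[R] := by
  refine coprime_nil_faithful_cent_stab hAR hcop (hR.nil hp) (le_inf inf_le_left (cents_symm ?_))
  have h1 : E ≤ R ⊓ C[A] := le_inf hE (cents_symm (cents_of_le h
    (hEe.le_omegaOne (le_inf hE hEe.le_cent))))
  refine coprime_odd_faithful_Ohm1 hp (hR.inf_left _) (norm_inf hAR (norm_C
    (norm_inf hAR (norm_C (norm_self A))))) (hcop.coprime_dvd_left (card_dvd inf_le_left))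
    (odd_of_le hodd inf_le_left) (cents_of_le h (omegaOne_mono p (inf_le_inf_left R (C_anti h1))))

omit [Finite G] in
theorem map_subtype_cent (K : Subgroup R) :
    (centralizer (K : Set R)).map R.subtype = R ⊓ C[K.map R.subtype] := by
  rw [← top_inf_eq (centralizer (K : Set R)), map_inf_C R.subtype_injective, map_subtype_top]

omit [Finite G] in
theorem comm_map_subtype_le {K : Subgroup R} (h : ⁅K, (⊤ : Subgroup R)⁆ ≤ K ⊓ centralizer (K : Set R)) :
    ⁅R, K.map R.subtype⁆ ≤ Z[K.map R.subtype] := by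
  have := map_mono (f := R.subtype) h
  rwa [map_commutator, map_subtype_top, map_inf_C R.subtype_injective, commC] at this

/-- Thompson's critical subgroup. -/
theorem Thompson_critical (hp : p.Prime) (hR : IsPi {p} R) :
    ∃ H, Chr H R ∧ Phi H ≤ Z[H] ∧ ⁅R, H⁆ ≤ Z[H] ∧ R ⊓ C[H] = Z[H] ∧
      ∀ A : Subgroup G, A ≤ N[R] → IsPi {p}ᶜ A → A ≤ C[H] → A ≤ C[R] := by
  have := Fact.mk hp
  obtain ⟨K, hK, h1, h2, h3⟩ := H3.exists_critical (hR.isPGroup hp)
  refine ⟨K.map R.subtype, chr_map_subtype K, le_inf (Phi_le _) ?_, comm_map_subtype_le h2, ?_,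
    fun A hAR hA hc => ?_⟩
  · rw [Phi_map _ R.subtype_injective]; exact cent_map h1 _
  · refine le_antisymm (le_inf ?_ inf_le_right) (inf_le_inf_right _ (map_subtype_le K))
    rw [← map_subtype_cent]; exact map_mono h3
  · refine cent_of_forall_mulAut hp hAR hA (S := K.map R.subtype) (fun a ha hx => ?_)
      fun a ha x hx => comm_of_cent hc ha hx
    exact H3.eq_one_of_fixes_selfCentralizing (hR.isPGroup hp) K h3 ha
      fun x hxK => hx x (mem_map_of_mem _ hxK)

/-- Theorem 1.13 (`H` has class at most 2 and exponent `p`). -/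
theorem critical_odd (hp : p.Prime) (hR : IsPi {p} R) (hodd : Odd ♯R) (h1 : R ≠ ⊥) :
    ∃ H, Chr H R ∧ ⁅R, H⁆ ≤ Z[H] ∧ H ≠ ⊥ ∧ (∀ x ∈ H, x ^ p = 1) ∧
      ∀ A : Subgroup G, A ≤ N[R] → IsPi {p}ᶜ A → A ≤ C[H] → A ≤ C[R] := by
  obtain ⟨K, hK, h2, h3, h4, h5⟩ := Thompson_critical hp hR
  have hKp := hR.of_le hK.le
  have hK1 : K ≠ ⊥ := by
    rintro rfl
    rw [C_bot, inf_top_eq, inf_top_eq] at h4
    exact h1 h4
  have hc := (chr_omegaOne p K).trans hK
  refine ⟨omegaOne p K, hc, le_inf (comm_le_right hc.nml.norm) ?_,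
    omegaOne_ne_bot_of_pgroup hKp hK1, ?_, fun A hAR hA hc' => h5 A hAR hA ?_⟩
  · exact cents_of_le ((comm_mono_right (omegaOne_le p K)).trans (h3.trans inf_le_right))
      (omegaOne_le p K)
  · refine fun x hx => H3.omega_pow_eq_one_of_class_two
      (hp.odd_of_ne_two (ne_two_of_odd_dvd hodd (hR.dvd_card h1))) ?_ hx
    exact comm_eq_bot.mpr ((comm_mono_left hK.le).trans (h3.trans inf_le_right))
  · exact coprime_odd_faithful_Ohm1 hp hKp (hK.norm hAR) (hKp.coprime hA) (odd_of_le hodd hK.le) hc'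

end H26
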