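import Mathlib
import Cfsg.Agent.H26.S01
import Cfsg.Agent.H26.S06a
import Cfsg.Agent.H26.SAB

/-! # B & G §6: Theorem 6.7 (the rest is in the imports) -/

set_option autoImplicit false

namespace H26

open Cfsg H24 Subgroup
open H25 hiding abl_iff cyc_zpowers cyc_bot exists_prime_dvd_card cyc_cj

universe u

variable {G : Type u} [Group G] [Finite G]
variable {E H K L M Q S U : Subgroup G} {p : ℕ}

/-- A maximal elementary abelian `p`-subgroup stays maximal modulo a normal `p'`-subgroup. -/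
theorem pmaxElem_quo (hp : p.Prime) (hE : PmaxElem p M E) (hK : K ⊴ M) (hK' : IsPi {p}ᶜ K) :
    PmaxElem p (quo M K) (quo E K) := by
  have hEp := hE.elem.isPi hp
  have hEK := hE.le.trans hK.norm
  refine pmaxElem_iff.mpr ⟨quo_mono K hE.le, hE.elem.img _, fun z hz hzc hzp => ?_⟩
  have h1 : z ∈ quo (M ⊓ C[E]) K := by
    rw [← coprime_subcent_quotient_pgroup hp hEp hEK (hK'.coprime' hEp) hK.le]; exact ⟨hz, hzc⟩
  obtain ⟨x, hx, hxN, rfl⟩ := mem_quo.mp h1
  have h2 : cs K (constt {p} x) = cs K x :=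
    (constt_ap _ _ hxN).trans (constt_eq_self (piElt_of_pow_eq_one (piNat_self hp) hzp))
  have hy := constt_mem {p} hx
  have hyN := constt_mem {p} hxN
  rw [← h2] at hzp ⊢
  refine cs_mem_quo (hE.mem_of_cent hy.1 hy.2 ?_) hyN
  exact ((piElt_constt {p} x).pow p).eq_one (hK'.piElt
    ((cs_eq_one (N[K].pow_mem hyN p)).mp ((ap_pow _ hyN p).trans hzp)))

theorem plength1_norm_pmaxElem_aux (hp : p.Prime) (hE : PmaxElem p M E) (hodd : p ≠ 2) (hM : Sol M)
    (h : PLen1 p M) (hL : L ≤ M) (hEL : E ≤ N[L]) (hL' : IsPi {p}ᶜ L) (hO : O[{p}ᶜ, M] = ⊥) :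
    L = ⊥ := by
  have hS := (plength1_pcore_Sylow hO).mp h
  have hSp := pcore_pi {p} M
  have hES : E ≤ O[{p}, M] := hS.le_pcore (hE.elem.isPi hp) hE.le
  have hLS := hL.trans (pcore_nml {p} M).norm
  have h1 : L ≤ C[E] := comm_eq_bot.mp (eq_bot_of_le (hL'.inf_eq_bot' hSp)
    (le_inf (comm_le_left hEL) ((comm_mono_right hES).trans (comm_le_right hLS))))
  obtain ⟨k, hk⟩ := hSp.card_eq_pow hp
  have h2 : L ≤ C[O[{p}, M]] := coprime_odd_faithful_cent_abelem hp hES hE.elem hSp hLS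
    (hSp.coprime hL') (hk ▸ (hp.odd_of_ne_two hodd).pow)
    (by rwa [(hE.restrict hES (pcore_le _ _)).omegaOne_cent])
  exact hL'.eq_bot (by rw [compl_compl]; exact hSp.of_le ((le_inf hL h2).trans (cent_pcore_sub hp hM hO)))

/-- Theorem 6.7. -/
theorem plength1_norm_pmaxElem (hp : p.Prime) (hE : PmaxElem p M E) (hodd : p ≠ 2) (hM : Sol M)
    (h : PLen1 p M) (hL : L ≤ M) (hEL : E ≤ N[L]) (hL' : IsPi {p}ᶜ L) : L ≤ O[{p}ᶜ, M] := by
  have hK := pcore_nml {p}ᶜ M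
  rw [← quo_eq_bot (hL.trans hK.norm)]
  exact plength1_norm_pmaxElem_aux hp (pmaxElem_quo hp hE hK (pcore_pi _ _)) hodd (hM.quo _)
    (plength1_quo hp hK.norm h) (quo_mono _ hL) (quo_norm _ hEL) (hL'.quo _) (pcore_quo_pcore _ _)

end H26
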