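import Mathlib
import Cfsg.Agent.H26.S01
import Cfsg.Agent.H25.PG

/-! # B & G §4, first part: 4.3–4.8, 4.10, 4.13, 4.14, 4.17–4.20 -/

set_option autoImplicit false
set_option linter.unusedSectionVars false
set_option linter.unusedVariables false

namespace H26

open Cfsg H24 Subgroup
open H25 hiding abl_iff cyc_zpowers cyc_bot exists_prime_dvd_card cyc_cj
open scoped commutatorElement

universe u

variable {G : Type u} [Group G] [Finite G]
variable {π : Set ℕ} {A B E H K L M P R S T U V X : Subgroup G} {p q : ℕ}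

omit [Finite G] in
theorem omegaOne_eq_map (p : ℕ) (R : Subgroup G) :
    omegaOne p R = (closure {x : R | x ^ p = 1}).map R.subtype := by
  conv_lhs => rw [← map_subtype_top R, ← map_omegaOne p ⊤ R.subtype_injective]
  simp [omegaOne]

theorem ne_two_of_odd_pgroup (hR : IsPi {p} R) (hodd : Odd ♯R) (h1 : R ≠ ⊥) : p ≠ 2 :=
  ne_two_of_odd_dvd hodd (hR.dvd_card h1)

theorem odd_of_pgroup (hp : p.Prime) (h2 : p ≠ 2) (hR : IsPi {p} R) : Odd ♯R := by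
  obtain ⟨k, hk⟩ := hR.card_eq_pow hp
  exact hk ▸ (hp.odd_of_ne_two h2).pow

omit [Finite G] in
theorem ne_bot_of_not_cyc (h : ¬ Cyc R) : R ≠ ⊥ := fun e => h (e ▸ cyc_bot)

omit [Finite G] in
theorem ne_bot_of_not_abl (h : ¬ Abl R) : R ≠ ⊥ := fun e => h (e ▸ abl_bot)

/-- A `π`-element of a quotient lifts to a `π`-element. -/
theorem exists_piElt_of_mem_quo {z : QN K} (hz : z ∈ quo A K) (h : PiElt π z) :
    ∃ x ∈ A, x ∈ N[K] ∧ PiElt π x ∧ cs K x = z := by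
  obtain ⟨x, hx, hxN, rfl⟩ := mem_quo.mp hz
  exact ⟨constt π x, constt_mem π hx, constt_mem π hxN, piElt_constt π x,
    (constt_ap _ _ hxN).trans (constt_eq_self h)⟩

/-- Proposition 4.3; the class is at most 2, or at most 3 if `p > 3`. -/
theorem exponent_odd_nil23 (hp : p.Prime) (hR : IsPi {p} R) (hodd : Odd ♯R)
    (hcl : ⁅⁅R, R⁆, R⁆ = ⊥ ∨ (3 < p ∧ ⁅⁅⁅R, R⁆, R⁆, R⁆ = ⊥)) :
    (∀ x ∈ omegaOne p R, x ^ p = 1) ∧
      (⁅R, R⁆ ≤ omegaOne p R → ∀ x ∈ R, ∀ y ∈ R, (x * y) ^ p = x ^ p * y ^ p) := by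
  by_cases h1 : R = ⊥
  · subst h1
    refine ⟨fun x hx => ?_, fun _ x hx y hy => ?_⟩
    · rw [mem_bot.mp (omegaOne_le p _ hx), one_pow]
    · simp [mem_bot.mp hx, mem_bot.mp hy]
  have ho := hp.odd_of_ne_two (ne_two_of_odd_pgroup hR hodd h1)
  rcases hcl with h | ⟨h3, h⟩
  · have h2 : ∀ x ∈ omegaOne p R, x ^ p = 1 := fun x hx => H3.omega_pow_eq_one_of_class_two ho h hx
    exact ⟨h2, fun hd x hx y hy => H3.mul_pow_eq_of_odd ho
      (H3.commute_commutator_of_class_two h hx hy hx) (H3.commute_commutator_of_class_two h hx hy hy)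
      (h2 _ (hd (commutator_mem_commutator hx hy)))⟩
  · have h2 : ∀ x ∈ omegaOne p R, x ^ p = 1 := fun x hx =>
      H3.omega_pow_eq_one_of_class_three hp h3 h hx
    exact ⟨h2, fun hd x hx y hy =>
      H3.mul_pow_eq_of_class_three hp h3 h (fun c hc => h2 c (hd hc)) hx hy⟩

/-- Proposition 4.4(b). -/
theorem SCN_Sylow_cent_dprod (hp : p.Prime) (hR : Syl p M R) (hA : IsSCN R A) :
    DP A O[{p}ᶜ, M ⊓ C[A]] (M ⊓ C[A]) := by
  have hAM := hA.le.trans hR.le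
  have h1 : Syl p (M ⊓ N[A]) R := hR.of_le (le_inf hR.le hA.norm) inf_le_left
  have h2 : M ⊓ C[A] ⊴ M ⊓ N[A] := ⟨inf_le_inf_left _ (C_le_N A),
    norm_inf (inf_le_left.trans (norm_self M)) (inf_le_right.trans (N_le_NC A))⟩
  have h3 : Syl p (M ⊓ C[A]) A := by
    have := h1.inf_nml h2
    rwa [← inf_assoc, inf_eq_left.mpr hR.le, hA.cent] at this
  have h4 := Burnside_normal_complement hp h3 (inf_le_left.trans inf_le_right)
  exact (h4.dp (cents_symm ((pcore_le _ _).trans inf_le_right))).symm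

/-- Lemma 4.5(b). -/
theorem Ohm1_extremal_odd (hp : p.Prime) (hR : IsPi {p} R) (hodd : Odd ♯R) (hnc : ¬ Cyc R)
    (hX : X ≤ R) (hc : Cyc X) (hi : X.relIndex R = p) : PnElem p 2 R (omegaOne p R) := by
  have := Fact.mk hp
  obtain ⟨h1, h2⟩ := H3.omega_of_cyclic_index_prime
    (ne_two_of_odd_pgroup hR hodd (ne_bot_of_not_cyc hnc)) (hR.isPGroup hp) hnc (X.subgroupOf R)
    (hc.subgroupOf R) hi
  refine ⟨omegaOne_le p R, ?_, ?_⟩ <;> rw [omegaOne_eq_map]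
  · exact h1.map _
  · rwa [card_map_of_injective R.subtype_injective]

/-- Lemma 4.5(a). -/
theorem ex_odd_normal_p2Elem (hp : p.Prime) (hR : IsPi {p} R) (hodd : Odd ♯R) (hnc : ¬ Cyc R) :
    ∃ S, S ⊴ R ∧ PnElem p 2 R S := by
  have := Fact.mk hp
  obtain ⟨A, hA, h1, h2⟩ := H3.exists_normal_elementary_sq
    (ne_two_of_odd_pgroup hR hodd (ne_bot_of_not_cyc hnc)) (hR.isPGroup hp) hnc
  exact ⟨A.map R.subtype, nml_map_subtype A, map_subtype_le A, h1.map _,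
    by rwa [card_map_of_injective R.subtype_injective]⟩

/-- A normal subgroup of order at most `p ^ 2` of a `p`-group lies in the second centre. -/
theorem le_ucn_two_of_card (hp : p.Prime) (hR : IsPi {p} R) (hS : S ⊴ R) (h : ♯S ∣ p ^ 2) :
    S ≤ ucn 2 R := by
  refine le_ucn_two.mpr ⟨hS.le, le_inf (comm_le_of_le hS.le le_rfl) ?_⟩
  by_cases h1 : S = ⊥
  · rw [h1, commutator_bot_left]; exact bot_le
  have h2 := nil_comm_properl (hR.nil hp) hS.le h1 le_rfl hS.norm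
  by_cases h3 : ⁅S, R⁆ = ⊥
  · rw [h3]; exact bot_le
  refine cents_symm (pgroup_cent_of_card_prime hp hR ?_ (norm_comm_right S R))
  obtain ⟨k, hk, e⟩ := (Nat.dvd_prime_pow hp).mp ((card_dvd h2.le).trans h)
  have h4 := (card_lt h2).trans_le (Nat.le_of_dvd (pow_pos hp.pos 2) h)
  have h5 := one_lt_card h3
  rw [e] at h4 h5 ⊢
  rw [Nat.pow_lt_pow_iff_right hp.one_lt] at h4
  interval_cases k <;> simp_all

theorem ucn_two_class_two (R : Subgroup G) : ⁅⁅ucn 2 R, ucn 2 R⁆, ucn 2 R⁆ = ⊥ :=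
  comm_eq_bot.mpr (cents_of_le (((comm_mono_right (ucn_le 2 R)).trans (ucn_two_comm_le R)).trans
    inf_le_right) (ucn_le 2 R))

theorem Ohm1_ucn2_pow (hp : p.Prime) (hR : IsPi {p} R) (hodd : Odd ♯R) :
    ∀ x ∈ omegaOne p (ucn 2 R), x ^ p = 1 :=
  (exponent_odd_nil23 hp (hR.of_le (ucn_le 2 R)) (odd_of_le hodd (ucn_le 2 R))
    (Or.inl (ucn_two_class_two R))).1

/-- Lemma 4.5(c). -/
theorem Ohm1_odd_ucn2 (hp : p.Prime) (hR : IsPi {p} R) (hodd : Odd ♯R) (hnc : ¬ Cyc R) :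
    ¬ Cyc (omegaOne p (ucn 2 R)) ∧ ∀ x ∈ omegaOne p (ucn 2 R), x ^ p = 1 := by
  obtain ⟨S, hS, hE⟩ := ex_odd_normal_p2Elem hp hR hodd hnc
  exact ⟨fun h => hE.not_cyc hp le_rfl (h.of_le (hE.elem.le_omegaOne
    (le_ucn_two_of_card hp hR hS hE.card.dvd))), Ohm1_ucn2_pow hp hR hodd⟩

/-- Proposition 4.6. -/
theorem odd_normal_p2Elem_exists (hp : p.Prime) (hR : IsPi {p} R) (hodd : Odd ♯R) (hS : S ⊴ R)
    (hnc : ¬ Cyc S) : ∃ E, E ⊴ R ∧ PnElem p 2 S E := by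
  obtain ⟨h1, h2⟩ := Ohm1_odd_ucn2 hp (hR.of_le hS.le) (odd_of_le hodd hS.le) hnc
  have hW := (chr_omegaOne p _).trans (chr_ucn 2 S)
  have h3 : p ^ 2 ∣ ♯(omegaOne p (ucn 2 S)) := by
    obtain ⟨k, hk⟩ := (hR.of_le (hW.le.trans hS.le)).card_eq_pow hp
    refine hk ▸ pow_dvd_pow p (le_of_not_gt fun h => h1 (cyc_of_card_dvd_prime hp ?_))
    exact hk ▸ (pow_dvd_pow p (by omega : k ≤ 1)).trans (pow_one p).dvd
  obtain ⟨E, h4, h5, h6⟩ := normal_pgroup hp hR (hW.nml_trans hS) h3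
  exact ⟨E, h5, h4.trans hW.le, ⟨abl_of_card_dvd_sq hp h6.dvd, fun x hx => h2 x (h4 hx)⟩, h6⟩

/-- A form of Lemma 4.7: rank at least 3 gives a normal `E_{p^3}`. -/
theorem odd_rank3_normal_p3Elem (hp : p.Prime) (hR : IsPi {p} R) (hodd : Odd ♯R) (h : 2 < prank p R) :
    ∃ E, E ⊴ R ∧ PnElem p 3 R E := by
  have := Fact.mk hp
  obtain ⟨E, hE⟩ := (prank_geP hp).mp h
  have h1 := hE.elem.subgroupOf R
  obtain ⟨A, hA, h2, h3, h4⟩ := H3.exists_normal_elementary_cube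
    (ne_two_of_odd_dvd hodd (hE.prime_dvd_card (by norm_num))) (hR.isPGroup hp) _ h1.1 h1.2
    (by rw [card_subgroupOf_of_le hE.le, hE.card]; exact Nat.pow_lt_pow_right hp.one_lt (by norm_num))
  exact ⟨A.map R.subtype, nml_map_subtype A, map_subtype_le A,
    (show IsElementaryAbelian p A from ⟨h2, h3⟩).map _,
    by rwa [card_map_of_injective R.subtype_injective]⟩

/-- Lemma 4.7. -/
theorem rank2_SCN3_empty (hp : p.Prime) (hR : IsPi {p} R) (hodd : Odd ♯R) :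
    rank R ≤ 2 ↔ ∀ A, ¬ SCNn 3 R A := by
  refine ⟨fun h A hA => by have := hA.2.trans (rank_mono hA.1.le); omega, fun h => ?_⟩
  rw [rank_pgroup hp hR]
  by_contra hn
  obtain ⟨E, hE, h3⟩ := odd_rank3_normal_p3Elem hp hR hodd (not_le.mp hn)
  obtain ⟨A, hA, hEA⟩ := exists_SCN (hR.nil hp) hE h3.abl
  exact h A ⟨hA, (h3.of_le hEA).le_rank hp⟩

theorem elem_card_le_of_rank (hp : p.Prime) {k : ℕ} (hr : rank R ≤ k) (E : Subgroup R)
    (hE : IsElementaryAbelian p E) : Nat.card E ≤ p ^ k :=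
  (prank_le_iff hp).mp ((prank_le_rank hp R).trans hr) E hE.1 hE.2

theorem elem_card_dvd_of_prank (hp : p.Prime) {k : ℕ} (hr : prank p R ≤ k) (hE : E ≤ R)
    (h : IsElementaryAbelian p E) : ♯E ∣ p ^ k :=
  h.card_eq hp ▸ pow_dvd_pow p ((prank_mono hp hE).trans hr)

/-- Proposition 4.8(a). -/
theorem rank2_exponent_p_p3group (hp : p.Prime) (hR : IsPi {p} R) (hr : rank R ≤ 2)
    (he : ∀ x ∈ R, x ^ p = 1) : ♯R ∣ p ^ 3 := by
  have := Fact.mk hp
  have h := H3.card_le_cube_of_exponent_of_rank (G := R) (fun x => Subtype.ext (he x x.2))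
    (elem_card_le_of_rank hp hr)
  obtain ⟨k, hk⟩ := hR.card_eq_pow hp
  rw [hk] at h ⊢
  exact pow_dvd_pow p ((Nat.pow_le_pow_iff_right hp.one_lt).mp h)

/-- Proposition 4.8(b). -/
theorem exponent_Ohm1_rank2 (hp : p.Prime) (hR : IsPi {p} R) (hr : rank R ≤ 2) (h3 : 3 < p) :
    ∀ x ∈ omegaOne p R, x ^ p = 1 := by
  have := Fact.mk hp
  rw [omegaOne_eq_map]
  rintro _ ⟨x, hx, rfl⟩
  exact congrArg Subtype.val (H3.omega_pow_eq_one_of_rank_le_two h3 (hR.isPGroup hp)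
    (elem_card_le_of_rank hp hr) hx)

/-- Lemma 4.10. -/
theorem Ohm1_metacyclic_p2Elem (hp : p.Prime) (hm : IsMetacyclic R) (hR : IsPi {p} R) (hodd : Odd ♯R)
    (hnc : ¬ Cyc R) : PnElem p 2 R (omegaOne p R) := by
  obtain ⟨K₀, hK₀⟩ := metacyclic_iff.mp hm
  obtain ⟨K, -, ⟨hK, hc, hq⟩, hmax⟩ := exists_max (P := fun K => K ⊴ R ∧ Cyc K ∧ Cyc (quo R K)) hK₀
  have h1 : quo R K ≠ ⊥ := fun e => hnc (hc.of_le ((quo_eq_bot hK.norm).mp e))
  have hY := cyc_omegaOne_pnElem hp hq ((hR.quo K).dvd_card h1)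
  have hT : coq K (omegaOne p (quo R K)) ⊴ R := nml_coq_of hK (omegaOne_nml p _)
  have hi : K.relIndex (coq K (omegaOne p (quo R K))) = p := by rw [relIndex_coq_self, hY.card_one]
  have hTc : ¬ Cyc (coq K (omegaOne p (quo R K))) := fun h => by
    rw [hmax _ ⟨hT, h, hq.quo_mono hK.norm hT.norm (inf_le_left.trans (le_coq _))⟩ (le_coq _),
      relIndex_self] at hi
    exact hp.one_lt.ne hi
  have h2 := Ohm1_extremal_odd hp (hR.of_le hT.le) (odd_of_le hodd hT.le) hTc (le_coq _) hc hi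
  have h3 : omegaOne p R = omegaOne p (coq K (omegaOne p (quo R K))) := by
    refine le_antisymm (omegaOne_le_iff.mpr fun x hx hxp => mem_omegaOne (mem_coq.mpr
      ⟨hK.norm hx, mem_omegaOne (cs_mem_quo hx (hK.norm hx)) ?_⟩) hxp) (omegaOne_mono p hT.le)
    rw [cs, ← ap_pow _ (hK.norm hx), hxp, ap_one]
  exact h3 ▸ h2.mono hT.le

/-- A `p`-group of rank at most 2 has a characteristic section of order dividing `p ^ 2` on which
`p'`-automorphisms act faithfully. -/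
theorem rank2_critical_section (hp : p.Prime) (hR : IsPi {p} R) (hodd : Odd ♯R) (hr : rank R ≤ 2) :
    ∃ H, Chr H R ∧ IsElementaryAbelian p (quo H (Phi H)) ∧ ♯(quo H (Phi H)) ∣ p ^ 2 ∧
      ∀ X : Subgroup G, X ≤ N[R] → IsPi {p}ᶜ X → quo X (Phi H) ≤ C[quo H (Phi H)] → X ≤ C[R] := by
  by_cases h1 : R = ⊥
  · refine ⟨R, Chr.refl R, Phi_quo_elem hp hR, (card_quo_dvd _ _).trans ?_, fun X _ _ _ => ?_⟩
    · rw [h1, card_bot]; exact one_dvd _
    · rw [h1, C_bot]; exact le_top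
  obtain ⟨H, hH, -, -, he, hc⟩ := critical_odd hp hR hodd h1
  have hHp := hR.of_le hH.le
  refine ⟨H, hH, Phi_quo_elem hp hHp, ?_, fun X hXR hX h => hc X hXR hX ?_⟩
  · by_cases h2 : Phi H = ⊥
    · exact (card_quo_dvd _ _).trans (elem_card_dvd_of_prank hp ((prank_le_rank hp R).trans hr) hH.le
        ((trivg_Phi hp hHp).mp h2))
    · have h3 := rank2_exponent_p_p3group hp hHp ((rank_mono hH.le).trans hr) he
      rw [← (Phi_nml H).card_quo, pow_succ'] at h3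
      exact Nat.dvd_of_mul_dvd_mul_left hp.pos
        ((Nat.mul_dvd_mul_right ((hHp.of_le (Phi_le H)).dvd_card h2) _).trans h3)
  · exact coprime_cent_Phi (hHp.coprime hX) (commC H X ▸
      (quo_cents (norm_Phi (hH.norm hXR)) (Phi_nml H).norm).mp h)

theorem dvd_sq_pred_cases (hp : p.Prime) (hq : q.Prime) (h2 : p ≠ 2) (h : q ∣ p ^ 2 - 1) :
    q < p ∧ (q ∣ (p + 1) / 2 ∨ q ∣ (p - 1) / 2) := by
  obtain ⟨k, rfl⟩ := hp.odd_of_ne_two h2
  have hk : 0 < k := Nat.pos_of_ne_zero fun e => by subst e; exact Nat.not_prime_one hp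
  have e1 : (2 * k + 1 + 1) / 2 = k + 1 := by omega
  have e2 : (2 * k + 1 - 1) / 2 = k := by omega
  have e3 : (2 * k + 1) ^ 2 - 1 = 2 ^ 2 * ((k + 1) * k) := by
    rw [Nat.sub_eq_iff_eq_add (Nat.one_le_pow _ _ (by omega))]; ring
  have h3 : q ∣ (k + 1) * k := by
    rw [e3, hq.dvd_mul] at h
    refine h.elim (fun h => ?_) id
    rw [(Nat.prime_dvd_prime_iff_eq hq Nat.prime_two).mp (hq.dvd_of_dvd_pow h), mul_comm]
    exact (Nat.even_mul_succ_self k).two_dvd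
  rw [e1, e2]
  rw [hq.dvd_mul] at h3
  refine ⟨?_, h3⟩
  rcases h3 with h3 | h3
  · have := Nat.le_of_dvd (by omega) h3; omega
  · have := Nat.le_of_dvd hk h3; omega

/-- Lemmas 4.13 and 4.14 (`q` divides `|A / C_A(R)|`). -/
theorem pi_Aut_rank2_pgroup (hp : p.Prime) (hq : q.Prime) (hR : IsPi {p} R) (hodd : Odd ♯R)
    (hr : rank R ≤ 2) (hAR : A ≤ N[R]) (hd : q ∣ (C[R]).relIndex A) (hqp : q ≠ p) :
    q ∣ p ^ 2 - 1 ∧ q < p ∧ (q ∣ (p + 1) / 2 ∨ q ∣ (p - 1) / 2) := by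
  have h1 : R ≠ ⊥ := by
    rintro rfl
    rw [C_bot, relIndex_top_left] at hd
    exact hq.one_lt.ne' (Nat.dvd_one.mp hd)
  suffices h : q ∣ p ^ 2 - 1 from ⟨h, dvd_sq_pred_cases hp hq (ne_two_of_odd_pgroup hR hodd h1) h⟩
  obtain ⟨H, hH, he, h2, hc⟩ := rank2_critical_section hp hR hodd hr
  obtain ⟨Q, hQ⟩ := Sylow_exists hq A
  have hQR := hQ.le.trans hAR
  have h3 : ¬ Q ≤ C[R] := fun h => hQ.not_dvd hq (hd.trans (relIndex_dvd_of_le_left A h))
  have h4 := quotient_cent_abelem2_dvd hp (quo_norm (Phi H) (hH.norm hQR)) he h2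
  have h5 : q ∣ (C[quo H (Phi H)]).relIndex (quo Q (Phi H)) := by
    obtain ⟨k, hk⟩ := (piNat_singleton hq (relIndex_ne_zero' _ _)).mp
      ((hQ.pi.quo (Phi H)).relIndex C[quo H (Phi H)])
    rcases k with _ | k
    · exact absurd (hc Q hQR (hQ.pi.compl_of_ne hqp) (relIndex_eq_one.mp hk)) h3
    · exact hk ▸ dvd_pow_self q k.succ_ne_zero
  have h6 := h5.trans h4
  rw [hq.dvd_mul, hq.dvd_mul, Nat.prime_dvd_prime_iff_eq hq hp] at h6
  rcases h6 with (h6 | h6) | h6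
  · exact absurd h6 hqp
  · simpa using h6.trans (Nat.sub_dvd_pow_sub_pow p 1 2)
  · exact h6

theorem der1_p'_cent_rank2 (hp : p.Prime) (hR : IsPi {p} R) (hodd : Odd ♯R) (hr : rank R ≤ 2)
    (hAR : A ≤ N[R]) (hAodd : Odd ♯A) (hX : X ≤ ⁅A, A⁆) (hX' : IsPi {p}ᶜ X) : X ≤ C[R] := by
  obtain ⟨H, hH, he, h2, hc⟩ := rank2_critical_section hp hR hodd hr
  have hA := quo_norm (Phi H) (hH.norm hAR)
  refine hc X (hX.trans ((der1_le A).trans hAR)) hX' (le_of_piNat_relIndex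
    ((der1_le _).trans (norm_C hA)) (der1_odd_abelem2 hp hA he h2 (odd_quo hAodd _)) ?_ (hX'.quo _))
  rw [← quo_comm (norm_Phi (hH.norm hAR)) (norm_Phi (hH.norm hAR))]
  exact quo_mono _ hX

/-- Theorem 4.17: `(A / C_A(R))'` is a `p`-group. -/
theorem der1_Aut_rank2_pgroup (hp : p.Prime) (hR : IsPi {p} R) (hodd : Odd ♯R) (hr : rank R ≤ 2)
    (hAR : A ≤ N[R]) (hAodd : Odd ♯A) : PiNat {p} ((C[R]).relIndex ⁅A, A⁆) :=
  (piNat_relIndex_iff ((der1_le A).trans (norm_C hAR))).mpr fun x hx h =>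
    der1_p'_cent_rank2 hp hR hodd hr hAR hAodd (zpowers_le.mpr hx) h.isPi (mem_zpowers x)

/-- If `O_{p'}(M) = 1` and `(M / C_M(O_p(M)))'` is a `p`-group, then `M' ≤ O_p(M)`. -/
theorem der1_le_pcore_of_cent (hp : p.Prime) (hM : Sol M) (hO : O[{p}ᶜ, M] = ⊥)
    (h : PiNat {p} ((C[O[{p}, M]]).relIndex ⁅M, M⁆)) : ⁅M, M⁆ ≤ O[{p}, M] := by
  refine pcore_max (isPi_of_relIndex (K := ⁅M, M⁆ ⊓ C[O[{p}, M]]) inf_le_left ((pcore_pi _ M).of_le
    ((inf_le_inf_right _ (der1_le M)).trans (cent_pcore_sub hp hM hO))) ?_) (der1_nml M)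
  rwa [inf_relIndex_left]

theorem plen1_of_der1_le_Opp (hp : p.Prime) (h : ⁅M, M⁆ ≤ Opp p M) : PLen1 p M := by
  have hK := pcore_nml {p}ᶜ M
  obtain ⟨S, hS⟩ := Sylow_exists hp (quo M O[{p}ᶜ, M])
  refine (p'quo_plength1 hp hK (pcore_pi _ _)).mp
    (plen1_of_syl_nml hS (norm_of_der1_le (le_trans ?_ (pcore_le_Hall hS)) hS.le))
  rw [← quo_comm hK.norm hK.norm, ← quo_core2]
  exact quo_mono _ h

theorem der1_le_Opp_of_quo (h : ⁅quo M O[{p}ᶜ, M], quo M O[{p}ᶜ, M]⁆ ≤ O[{p}, quo M O[{p}ᶜ, M]]) :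
    ⁅M, M⁆ ≤ Opp p M := by
  have hK := pcore_nml {p}ᶜ M
  rw [← quo_comm hK.norm hK.norm, ← quo_core2] at h
  exact le_of_quo_le ((der1_le M).trans hK.norm) (pcore_nml_core2 _ _ M) h

theorem rank_pcore_quo_le (hp : p.Prime) (hr : prank p M ≤ 2) :
    rank O[{p}, quo M O[{p}ᶜ, M]] ≤ 2 := by
  rw [rank_pgroup hp (pcore_pi _ _)]
  refine (prank_mono hp (pcore_le _ _)).trans ?_
  rwa [prank_quo_of_p' hp (pcore_nml _ M).norm (pcore_pi _ _)]

/-- Theorem 4.18(c,e). -/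
theorem rank2_der1_complement (hp : p.Prime) (hM : Sol M) (hodd : Odd ♯M) (hr : prank p M ≤ 2) :
    NCompl {p} ⁅M, M⁆ ∧ ⁅M, M⁆ ≤ Opp p M ∧ PLen1 p M := by
  have h : ⁅M, M⁆ ≤ Opp p M := der1_le_Opp_of_quo (der1_le_pcore_of_cent hp (hM.quo _)
    (pcore_quo_pcore _ _) (der1_Aut_rank2_pgroup hp (pcore_pi _ _)
      (odd_of_le (odd_quo hodd _) (pcore_le _ _)) (rank_pcore_quo_le hp hr) (pcore_nml _ _).norm
      (odd_quo hodd _)))
  exact ⟨(ncompl_core2 _ M).of_le h, h, plen1_of_der1_le_Opp hp h⟩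

/-- If `O_{p'}(M) = 1`, a prime `q ≠ p` dividing `|M|` divides `|M : C_M(O_p(M))|`. -/
theorem dvd_relIndex_cent_pcore (hp : p.Prime) (hM : Sol M) (hO : O[{p}ᶜ, M] = ⊥) (hq : q.Prime)
    (hqp : q ≠ p) (hd : q ∣ ♯M) : q ∣ (C[O[{p}, M]]).relIndex M := by
  rw [← card_inf_mul_relIndex C[O[{p}, M]] M, hq.dvd_mul, inf_comm] at hd
  exact hd.resolve_left (((pcore_pi _ M).of_le (cent_pcore_sub hp hM hO)).not_dvd hq hqp)

/-- Theorem 4.18(a). -/
theorem rank2_max_pdiv (hp : p.Prime) (hM : Sol M) (hodd : Odd ♯M) (hr : prank p M ≤ 2)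
    (hq : q.Prime) (hd : q ∣ (O[{p}ᶜ, M]).relIndex M) : q ≤ p := by
  by_cases hqp : q = p
  · exact hqp.le
  rw [← card_quo (pcore_nml _ M).norm] at hd
  exact (pi_Aut_rank2_pgroup hp hq (pcore_pi _ _) (odd_of_le (odd_quo hodd _) (pcore_le _ _))
    (rank_pcore_quo_le hp hr) (pcore_nml _ _).norm
    (dvd_relIndex_cent_pcore hp (hM.quo _) (pcore_quo_pcore _ _) hq hqp hd) hqp).2.1.le

theorem ncompl_of_max_pdiv (hodd : Odd ♯M)
    (hm : ∀ q, q.Prime → q ∣ (O[{p}ᶜ, M]).relIndex M → q ≤ p)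
    (h : p = 3 ∨ ∀ q, q.Prime → q ∣ ♯M → p ≤ q) : NCompl {p} M := by
  refine Hall.mk' (pcore_le _ _) (pcore_pi _ _) fun q hq hd => ?_
  rw [compl_compl]
  have h1 := hm q hq hd
  have h2 : q ∣ ♯M := hd.trans (Dvd.intro_left _ (card_mul_relIndex (pcore_le _ M)))
  refine le_antisymm h1 (h.elim (fun e => ?_) fun h => h q hq h2)
  have := ne_two_of_odd_dvd hodd h2
  have := hq.two_le
  omega

/-- Theorem 4.18(b). -/
theorem rank2_min_p_complement (hp : p.Prime) (hM : Sol M) (hodd : Odd ♯M) (hr : prank p M ≤ 2)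
    (h : p = 3 ∨ ∀ q, q.Prime → q ∣ ♯M → p ≤ q) : NCompl {p} M :=
  ncompl_of_max_pdiv hodd (fun _ hq hd => rank2_max_pdiv hp hM hodd hr hq hd) h

/-- Theorem 4.18(d). -/
theorem rank2_sub_p'core_der1 (hp : p.Prime) (hM : Sol M) (hodd : Odd ♯M) (hr : prank p M ≤ 2)
    (hA : A ≤ ⁅M, M⁆) (hA' : IsPi {p}ᶜ A) : A ≤ O[{p}ᶜ, ⁅M, M⁆] :=
  (rank2_der1_complement hp hM hodd hr).1.le_pcore hA' hA

/-- A normal subgroup inducing a `p`-group on a minimal normal `p`-subgroup centralises it. -/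
theorem minNml_cent_of_pidx (hp : p.Prime) (h : MinNml V A) (hV : IsPi {p} V) (hL : A ≤ N[L])
    (hLV : L ≤ N[V]) (hi : PiNat {p} ((C[V]).relIndex L)) : V ≤ C[L] := by
  obtain ⟨P, hP⟩ := Sylow_exists hp L
  have h1 := (hP.isProd_of_idx (B := L ⊓ C[V]) inf_le_left (by rwa [inf_relIndex_left])).sup_eq
  refine h.le_of_inf_ne_bot (norm_C hL) (ne_bot_of_le
    (IsPi.inf_C_ne_bot hp hP.pi hV (hP.le.trans hLV) h.ne_bot) (le_inf inf_le_left ?_))
  rw [← h1]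
  exact cents_sup inf_le_right (inf_le_left.trans (cents_symm inf_le_right))

/-- The common core of Corollary 4.19 and Theorem 5.7. -/
theorem chief_der1_cent (hp : p.Prime) (h : Chief M V U) (hU : PiNat {p} (V.relIndex U))
    (hP : Syl p U P) (hc : ∀ x ∈ ⁅M ⊓ N[P], M ⊓ N[P]⁆, PiElt {p}ᶜ x → x ∈ C[P]) :
    ⁅U, ⁅M, M⁆⁆ ≤ V := by
  have hV := h.nmlV.norm
  have h1 := (hP.isProd_of_idx h.le hU).symm
  have h2 : IsProd V (M ⊓ N[P]) M := by
    have := Frattini_arg hp h.nmlU hP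
    rw [← h1.sup_eq] at this
    exact this.of_sup_left (le_inf (hP.le.trans h.nmlU.le) (norm_self P))
      ((hP.le.trans h.nmlU.le).trans hV)
  have hn := quo_norm V h.nmlU.norm
  rw [← quo_cents h.nml.norm ((der1_le M).trans hV), quo_comm hV hV]
  refine minNml_cent_of_pidx hp h.minNml ((isPi_quo_iff h.nml.norm).mpr hU)
    (norm_der1 (norm_self _)) ((der1_le _).trans hn)
    ((piNat_relIndex_iff ((der1_le _).trans (norm_C hn))).mpr fun z hz hz' => ?_)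
  rw [h2.quo_eq hV, ← quo_comm (inf_le_left.trans hV) (inf_le_left.trans hV)] at hz
  obtain ⟨x, hx, hxN, hx', rfl⟩ := exists_piElt_of_mem_quo hz hz'
  rw [h1.quo_eq h.nml.norm]
  exact ap_mem_C _ (hc x hx hx') hxN

/-- Corollary 4.19. -/
theorem rank2_der1_cent_chief (hp : p.Prime) (hodd : Odd ♯M) (hM : Sol M) (hK : K ⊴ M)
    (hr : prank p K ≤ 2) (h : Chief M V U) (hU : PiNat {p} (V.relIndex U)) (hUK : U ≤ K) :
    ⁅U, ⁅M, M⁆⁆ ≤ V := by
  obtain ⟨P, hP⟩ := Sylow_exists hp U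
  refine chief_der1_cent hp h hU hP fun x hx hx' => der1_p'_cent_rank2 hp hP.pi
    (odd_of_le hodd (hP.le.trans h.nmlU.le)) ?_ inf_le_right (odd_of_le hodd inf_le_left)
    (zpowers_le.mpr hx) hx'.isPi (mem_zpowers x)
  rw [rank_pgroup hp hP.pi]
  exact (prank_mono hp (hP.le.trans hUK)).trans hr

/-- Theorem 4.20(a). -/
theorem rank2_der1_sub_Fitting (hodd : Odd ♯M) (hM : Sol M) (hr : rank F[M] ≤ 2) :
    ⁅M, M⁆ ≤ F[M] := by
  refine chief_stab_sub_Fitting hM (Nml.refl M) (der1_le M) fun U V h hU => ?_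
  obtain ⟨p, hp, he⟩ := sol_chief_abelem hM h
  exact rank2_der1_cent_chief hp hodd hM (Fitting_nml M) ((prank_le_rank hp _).trans hr) h
    ((isPi_quo_iff h.nml.norm).mp (he.isPi hp)) hU

/-- Theorem 4.20(b), with the weaker hypothesis that `N_M(S)` normalises `T`. -/
theorem rank2_char_Sylow_normal' (hodd : Odd ♯M) (hM : Sol M) (hr : rank F[M] ≤ 2) (hp : p.Prime)
    (hS : Syl p M S) (hT : M ⊓ N[S] ≤ N[T]) (hTS : T ≤ ⁅S, S⁆) : T ⊴ M := by
  have h1 := rank2_der1_sub_Fitting hodd hM hr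
  have hTM := hTS.trans (der1_le S)
  have hSN : S ≤ M ⊓ N[S] := le_inf hS.le (norm_self S)
  have h2 : F[M] ⊔ S ⊴ M := nml_of_der1_le (h1.trans le_sup_left) (sup_le (Fitting_le M) hS.le)
  have h3 := (Frattini_arg hp h2 (hS.of_le le_sup_right h2.le)).sup_eq
  refine ⟨hTM.trans hS.le, ?_⟩
  rw [← h3]
  refine sup_le (sup_le ?_ (hSN.trans hT)) hT
  rw [← ((Fitting_nil M).pcoreC {p}).sup]
  refine sup_le (((pcore_Fitting_le _ M).trans (pcore_le_Hall hS)).trans (hSN.trans hT)) ?_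
  exact norm_of_cent ((Fitting_nil M).cents_of_pi (pcore_le _ _)
    (hTS.trans ((der1_mono hS.le).trans h1)) (pcore_pi _ _)
    (by rw [compl_compl]; exact hS.pi.of_le hTM))

/-- Theorem 4.20(b). -/
theorem rank2_char_Sylow_normal (hodd : Odd ♯M) (hM : Sol M) (hr : rank F[M] ≤ 2) (hp : p.Prime)
    (hS : Syl p M S) (hT : Chr T S) (hTS : T ≤ ⁅S, S⁆) : T ⊴ M :=
  rank2_char_Sylow_normal' hodd hM hr hp hS (hT.norm inf_le_right) hTS

/-- Theorem 4.20(c), last factor. -/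
theorem rank2_min_p'core_Hall (hodd : Odd ♯M) (hM : Sol M) (hr : rank F[M] ≤ 2) (hp : p.Prime)
    (h : ∀ q, q.Prime → q ∣ ♯M → p ≤ q) : NCompl {p} M := by
  have hF := Fitting_nml M
  have hH := coreMod_nml {p}ᶜ hF
  have h1 : PiNat {p}ᶜᶜ ((coreMod {p}ᶜ M F[M]).relIndex M) := by
    rw [coreMod, relIndex_coq _ hF.norm]
    exact (((abl_quo hF.norm).mpr (rank2_der1_sub_Fitting hodd hM hr)).nil.pcore_hall _).idx
  have h2 := rank2_min_p_complement hp (hM.of_le hH.le) (odd_of_le hodd hH.le) (by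
    rw [← prank_eq_of_not_dvd_relIndex hp (le_coreMod _ _ _)
      ((piNat_compl_singleton hp).mp (coreMod_idx _ _ _))]
    exact (prank_le_rank hp _).trans hr) (Or.inr fun q hq hd => h q hq (hd.trans (card_dvd hH.le)))
  exact ncompl_of_nml (h2.of_idx hH.le h1) (hH.pcore _).norm

/-- Theorem 4.20(c), intermediate factors. -/
theorem rank2_ge_pcore_Hall (hodd : Odd ♯M) (hM : Sol M) (hr : rank F[M] ≤ 2) (m : ℕ) :
    Hall {q | m ≤ q} M O[{q | m ≤ q}, M] := by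
  induction M using subgroup_ind with
  | h M ih =>
  by_cases hm : IsPi {q | m ≤ q} M
  · rw [hm.pcore_eq]; exact hall_self hm
  have h1 : ♯M ≠ 1 := fun e => hm (isPi_of_eq_bot (card_eq_one'.mp e))
  have hp := Nat.minFac_prime h1
  have h2 : ∀ q, q.Prime → q ∣ ♯M → (♯M).minFac ≤ q := fun q hq hd => Nat.minFac_le_of_dvd hq.two_le hd
  have h3 := rank2_min_p'core_Hall hodd hM hr hp h2
  have hK := pcore_nml {(♯M).minFac}ᶜ M
  have h4 := ih _ (hK.le.lt_of_ne fun e => (isPi_compl_iff hp).mp (isPi_of_pcore_eq e)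
    (Nat.minFac_dvd _)) (odd_of_le hodd hK.le) (hM.of_le hK.le) ((rank_mono hK.Fitting_le).trans hr)
  refine (h3.trans h4 fun q hq e => hm fun r hr hd => ?_).pcore_hall (hK.pcore _).norm
  exact le_trans (e ▸ hq : m ≤ (♯M).minFac) (h2 r hr hd)

/-- Theorem 4.20(c), first factor. -/
theorem rank2_max_pcore_Sylow (hodd : Odd ♯M) (hM : Sol M) (hr : rank F[M] ≤ 2)
    (h : ∀ q, q.Prime → q ∣ ♯M → q ≤ p) : Syl p M O[{p}, M] := by
  have hc : ∀ q, q.Prime → q ∣ ♯M → (q ∈ {q | p ≤ q} ↔ q ∈ ({p} : Set ℕ)) := fun q hq hd =>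
    ⟨fun h1 => le_antisymm (h q hq hd) h1, fun e => le_of_eq e.symm⟩
  rw [← pcore_congr hc]
  exact (rank2_ge_pcore_Hall hodd hM hr p).congr hc

/-- The conclusion of Theorems 4.18 and 5.6 in the vocabulary of the statements. -/
theorem pstructure_export (hp : p.Prime) (hodd : Odd ♯(⊤ : Subgroup G))
    (hm : ∀ q, q.Prime → q ∣ (O[{p}ᶜ, (⊤ : Subgroup G)]).relIndex ⊤ → q ≤ p)
    (h2 : ⁅(⊤ : Subgroup G), (⊤ : Subgroup G)⁆ ≤ Opp p ⊤) (h3 : PLen1 p (⊤ : Subgroup G)) :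
    (∀ q : ℕ, q.Prime → q ∣ (pPrimeCore p G).index → q ≤ p) ∧
      ((p = 3 ∨ ∀ q : ℕ, q.Prime → q ∣ Nat.card G → p ≤ q) → HasNormalPComplement p G) ∧
      HasNormalPComplement p ↥(_root_.commutator G) ∧
      (∀ L : Subgroup ↥(_root_.commutator G), (Nat.card L).Coprime p →
        L ≤ pPrimeCore p ↥(_root_.commutator G)) ∧
      _root_.commutator G ≤ pPrimePCore p G ∧ ((pPrimePCore p G).index).Coprime p := by
  have h1 : NCompl {p} (_root_.commutator G) := (ncompl_core2 {p} (⊤ : Subgroup G)).of_le h2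
  refine ⟨fun q hq hd => hm q hq (by
    rwa [pcore_compl_singleton_top (G := G) hp, relIndex_top_right]), fun h => (ncompl_top_iff_hasNPC (G := G) hp).mp
    (ncompl_of_max_pdiv hodd hm (by rwa [card_top (G := G)])), (ncompl_iff_hasNPC hp).mp h1, fun L hL => ?_,
    Opp_top (G := G) hp ▸ h2, ?_⟩
  · have := h1.le_pcore (K := L.map (Subgroup.subtype _))
      (IsPi.map ((piNat_compl_iff_coprime hp).mpr hL.symm) _) (map_subtype_le L)
    rwa [pcore_compl_singleton hp, map_le_map_iff_of_injective (subtype_injective _)] at this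
  · rw [PLen1, Opp_top hp, relIndex_top_right] at h3
    exact ((piNat_compl_iff_coprime hp).mp h3).symm

end H26
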