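import Mathlib
import Cfsg.Agent.H26.S04a
import Cfsg.Agent.H13.Rank2Groups

/-! # B & G §4, second part: 4.9, 4.11, 4.12, 4.15, 4.16 -/

set_option autoImplicit false
set_option linter.unusedSectionVars false

namespace H26

open Cfsg H24 Subgroup
open H25 hiding abl_iff cyc_zpowers cyc_bot exists_prime_dvd_card cyc_cj
open scoped commutatorElement

universe u

variable {G : Type u} [Group G] [Finite G]
variable {π : Set ℕ} {A B E H K L M P R S T U V X : Subgroup G} {p q : ℕ}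

theorem dvd_pow_of_lt_succ (hp : p.Prime) {n k : ℕ} (h : n ∣ p ^ (k + 1)) (h' : n < p ^ (k + 1)) :
    n ∣ p ^ k := by
  obtain ⟨j, -, rfl⟩ := (Nat.dvd_prime_pow hp).mp h
  exact pow_dvd_pow p (Nat.lt_succ_iff.mp ((Nat.pow_lt_pow_iff_right hp.one_lt).mp h'))

theorem eq_pow_succ_of_not_dvd (hp : p.Prime) {n k : ℕ} (h : n ∣ p ^ (k + 1)) (h' : ¬ n ∣ p ^ k) :
    n = p ^ (k + 1) :=
  (Nat.le_of_dvd (pow_pos hp.pos _) h).eq_or_lt.resolve_right fun e => h' (dvd_pow_of_lt_succ hp h e)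

theorem IsPi.card_dvd_pow (hp : p.Prime) (hR : IsPi {p} R) {k : ℕ} (h : ♯R ≤ p ^ k) : ♯R ∣ p ^ k := by
  obtain ⟨j, hj⟩ := hR.card_eq_pow hp
  rw [hj] at h ⊢
  exact pow_dvd_pow p ((Nat.pow_le_pow_iff_right hp.one_lt).mp h)

omit [Finite G] in
theorem comm_sup_le_left (hA : A ≤ N[K]) (hB : B ≤ N[K]) (hL : L ≤ N[K]) (h1 : ⁅A, L⁆ ≤ K)
    (h2 : ⁅B, L⁆ ≤ K) : ⁅A ⊔ B, L⁆ ≤ K := by
  rw [← quo_cents (sup_le hA hB) hL, quo_sup hA hB]
  exact sup_le ((quo_cents hA hL).mpr h1) ((quo_cents hB hL).mpr h2)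

omit [Finite G] in
theorem comm_sup_le_right (hA : A ≤ N[K]) (hB : B ≤ N[K]) (hL : L ≤ N[K]) (h1 : ⁅L, A⁆ ≤ K)
    (h2 : ⁅L, B⁆ ≤ K) : ⁅L, A ⊔ B⁆ ≤ K :=
  commC _ L ▸ comm_sup_le_left hA hB hL (commC L A ▸ h1) (commC L B ▸ h2)

omit [Finite G] in
theorem cs_comm_iff {x y : G} (hx : x ∈ N[K]) (hy : y ∈ N[K]) :
    cs K x * cs K y = cs K y * cs K x ↔ ⁅x, y⁆ ∈ K := by
  rw [← commutatorElement_eq_one_iff_mul_comm, ← cs_eq_one (comm_le_of_le le_rfl le_rfl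
    (commutator_mem_commutator hx hy)), cs, cs, cs, ap_commutator _ hx hy]

omit [Finite G] in
theorem comm_zpowers_right_le {y : G} (hA : A ≤ N[K]) (hy : y ∈ N[K]) (h : ∀ a ∈ A, ⁅a, y⁆ ∈ K) :
    ⁅A, zpowers y⁆ ≤ K := by
  rw [← quo_cents hA (zpowers_le.mpr hy), quo_zpowers hy, C_zpowers]
  intro z hz
  obtain ⟨a, ha, haN, rfl⟩ := mem_quo.mp hz
  exact mem_C1.mpr ((cs_comm_iff haN hy).mpr (h a ha))

omit [Finite G] in
theorem comm_zpowers_le {x y : G} (hx : x ∈ N[K]) (hy : y ∈ N[K]) (h : ⁅x, y⁆ ∈ K) :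
    ⁅zpowers x, zpowers y⁆ ≤ K := by
  rw [← quo_cents (zpowers_le.mpr hx) (zpowers_le.mpr hy), quo_zpowers hy, C_zpowers, quo_zpowers hx,
    zpowers_le]
  exact mem_C1.mpr ((cs_comm_iff hx hy).mpr h)

omit [Finite G] in
/-- An element of odd order acting on `⟨y⟩ K / K` as a power `j` with `j ^ 2 ≡ 1` acts trivially. -/
theorem comm_mem_of_sq_modEq {a t y : G} {j : ℕ} (ha : a ∈ N[K]) (hy : y ∈ N[K]) (ht : t ∈ K)
    (hodd : Odd (orderOf a)) (hyp : y ^ p = 1) (h : a * y * a⁻¹ = t * y ^ j)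
    (hj : j * j ≡ 1 [MOD p]) : ⁅a, y⁆ ∈ K := by
  have h1 : cs K a * cs K y * (cs K a)⁻¹ = cs K y ^ j := by
    rw [cs, cs, ← ap_conj _ ha hy, h, ap_mul _ (norm_self K ht) (N[K].pow_mem hy j), ap_pow _ hy,
      show ap (coset K) t = 1 from cs_of_mem ht, one_mul]
  have h2 : cs K y ^ p = 1 := by rw [cs, ← ap_pow _ hy, hyp, ap_one]
  have h3 := conj_pow_conj h1 2
  rw [sq j, pow_eq_pow_iff_modEq.mpr (hj.of_dvd (orderOf_dvd_of_pow_eq_one h2)), pow_one,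
    ← mem_C1_iff_conj] at h3
  refine (cs_comm_iff ha hy).mp (mem_C1.mp (zpowers_le.mpr h3 (mem_zpowers_pow_iff.mpr ?_)))
  exact (Nat.coprime_two_left.mpr (hodd.of_dvd_nat (orderOf_ap_dvd _ ha)))

/-- Lemma 4.9. -/
theorem quotient_p2_Ohm1 (hp : p.Prime) (hR : IsPi {p} R) (h3 : 3 < p) (h : ♯(omegaOne p R) ∣ p ^ 2)
    (hT : T ⊴ R) : ♯(omegaOne p (quo R T)) ∣ p ^ 2 := by
  have := Fact.mk hp
  have := hT.normal
  have h1 := H13.card_omegaOne_quotient_le h3 (hR.isPGroup hp) (by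
    rw [H13.card_omegaOne_top]; exact Nat.le_of_dvd (pow_pos hp.pos 2) h) (T.subgroupOf R)
  refine IsPi.card_dvd_pow hp ((hR.quo T).of_le (omegaOne_le _ _)) ?_
  let e := quoEquivQuotient hT.norm
  rwa [← card_map_of_injective (f := e.toMonoidHom) e.injective, map_omegaOne _ _ e.injective,
    map_top_of_surjective _ e.surjective, H13.card_omegaOne_top] at h1

/-- Proposition 4.11. -/
theorem p2_Ohm1_metacyclic (hp : p.Prime) (hR : IsPi {p} R) (h3 : 3 < p)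
    (h : ♯(omegaOne p R) ∣ p ^ 2) : IsMetacyclic R := by
  have := Fact.mk hp
  exact H13.isMetacyclic_of_card_omegaOne_le h3 (hR.isPGroup hp) (by
    rw [H13.card_omegaOne_top]; exact Nat.le_of_dvd (pow_pos hp.pos 2) h)

theorem metacyclic_of_le (hm : IsMetacyclic R) (hT : T ≤ R) : IsMetacyclic T := by
  obtain ⟨K, hK, h1, h2⟩ := metacyclic_iff.mp hm
  exact metacyclic_iff.mpr ⟨K ⊓ T, hK.inf_right hT, h1.of_le inf_le_left,
    (h2.of_le (quo_mono K hT)).quo_mono (hT.trans hK.norm) (hK.inf_right hT).norm le_rfl⟩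

theorem metacyclic_der1_cyc (hm : IsMetacyclic R) : Cyc ⁅R, R⁆ := by
  obtain ⟨K, hK, h1, h2⟩ := metacyclic_iff.mp hm
  exact h1.of_le ((abl_quo hK.norm).mp h2.abl)

theorem odd_pgroup_cyc_of_Ohm1 (hp : p.Prime) (hX : IsPi {p} X) (hodd : Odd ♯X) (hS : Cyc S)
    (h : omegaOne p X ≤ S) : Cyc X :=
  odd_pgroup_cyc hp hX hodd (prank_omegaOne hp X ▸ (prank_mono hp h).trans (cyc_prank_le_one hp hS))

theorem comm_le_C_of_cyc (hS : Cyc S) (hR : R ≤ N[S]) (hA : A ≤ N[S]) : ⁅R, A⁆ ≤ C[S] :=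
  (commutator_mono le_sup_left le_sup_right).trans (cyc_der1_norm_le_cent hS (sup_le hR hA))

theorem metacyclic_comm_abl (hp : p.Prime) (hR : IsPi {p} R) (hodd : Odd ♯R) (hA : IsPi {p}ᶜ A)
    (hm : IsMetacyclic R) (hRA : ⁅R, A⁆ = R) : Abl R := by
  by_contra hna
  have hAR : A ≤ N[R] := norm_of_comm_le_left hRA.le
  obtain ⟨S, hS', ⟨hSR, hSc, hAS⟩, hmax⟩ := exists_max (P := fun S => S ≤ R ∧ Cyc S ∧ A ≤ N[S])
    (H := ⁅R, R⁆) ⟨der1_le R, metacyclic_der1_cyc hm, norm_der1 hAR⟩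
  have hS : S ⊴ R := nml_of_der1_le hS' hSR
  have hSZ : S ≤ Z[R] := le_inf hSR (cents_symm (hRA.ge.trans (comm_le_C_of_cyc hSc hS.norm hAS)))
  have hO := Ohm1_metacyclic_p2Elem hp hm hR hodd fun h => hna h.abl
  have hOS := hO.le.trans hS.norm
  have hab : Abl (quo R S) := (abl_quo hS.norm).mpr hS'
  obtain ⟨W, hW, hAW⟩ := Maschke_abelem hp (omegaOne_elem hab) (hA.quo S)
    ((hO.elem.img _).le_omegaOne (quo_mono S hO.le)) (norm_omegaOne p (quo_norm S hAR))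
    (quo_norm S (norm_omegaOne p hAR))
  have hX : coq S W ≤ R := coq_le_of_le_quo hS (hW.right_le.trans (omegaOne_le _ _))
  have hXc : Cyc (coq S W) := by
    refine odd_pgroup_cyc_of_Ohm1 hp (hR.of_le hX) (odd_of_le hodd hX) hSc
      ((le_inf (omegaOne_mono p hX) (omegaOne_le p _)).trans ?_)
    rw [← quo_eq_bot (inf_le_left.trans hOS), quo_inf_coq, hW.inf]
  have hW0 : W = ⊥ := by rw [← quo_coq W, hmax _ ⟨hX, hXc, norm_coq hAS hAW⟩ (le_coq _), quo_self]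
  refine hna (abl_of_cyc_quo_center hSZ (abl_pgroup_cyc hp hab (hR.quo S) ?_))
  rw [← prank_omegaOne hp, ← hW.sup, hW0, sup_bot_eq]
  refine cyc_prank_le_one hp (cyc_of_card_dvd_prime hp (Dvd.dvd.trans (dvd_pow_of_lt_succ hp
    (hO.card ▸ card_quo_dvd _ _) (hO.card ▸ card_quo_lt hOS ?_)) (pow_one p).dvd))
  exact ne_bot_of_le (omegaOne_ne_bot_of_pgroup (hR.of_le hSR) (ne_bot_of_le
    (fun e => hna (der1_eq_bot.mp e)) hS')) (le_inf (omegaOne_le p S) (omegaOne_mono p hSR))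

theorem cyc_of_TI_of_Ohm1_p2Elem (hp : p.Prime) (hR : IsPi {p} R) (hodd : Odd ♯R)
    (hO : PnElem p 2 R (omegaOne p R)) (hT : T ≤ R) (hK : K ≤ R) (hi : T ⊓ K = ⊥) (h1 : K ≠ ⊥) :
    Cyc T := by
  by_contra hnc
  obtain ⟨E, hE⟩ := (prank_geP hp).mp
    (odd_pgroup_two_le_prank hp (hR.of_le hT) (odd_of_le hodd hT) hnc)
  have h2 := hE.eq_of_le hO (hE.elem.le_omegaOne (hE.le.trans hT))
  exact omegaOne_ne_bot_of_pgroup (hR.of_le hK) h1 (eq_bot_of_le hi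
    (le_inf ((omegaOne_mono p hK).trans (h2 ▸ hE.le)) (omegaOne_le p K)))

/-- Theorem 4.12. -/
theorem coprime_metacyclic_cent_sdprod (hp : p.Prime) (hR : IsPi {p} R) (hodd : Odd ♯R)
    (hA : IsPi {p}ᶜ A) (hAR : A ≤ N[R]) (hm : IsMetacyclic R) :
    Abl ⁅R, A⁆ ∧ SD ⁅R, A⁆ (R ⊓ C[A]) R ∧
      (¬ Abl R → ¬ A ≤ C[R] →
        Cyc ⁅R, A⁆ ∧ Cyc (R ⊓ C[A]) ∧ ⁅R, A⁆ ≠ ⊥ ∧ R ⊓ C[A] ≠ ⊥ ∧ ⁅R, R⁆ ≤ ⁅R, A⁆) := by
  have hT := comm_le_left hAR
  have hcop := hR.coprime hA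
  have h1 := coprime_commGid hAR hcop (hR.sol hp)
  have h2 := metacyclic_comm_abl hp (hR.of_le hT) (odd_of_le hodd hT) hA (metacyclic_of_le hm hT) h1
  have h3 := coprime_abel_cent_TI (norm_comm_right R A) ((hR.of_le hT).coprime hA) h2
  have h4 : SD ⁅R, A⁆ (R ⊓ C[A]) R := ⟨inf_le_left.trans (norm_comm_left R A),
    eq_bot_of_le (h1 ▸ h3) (inf_le_inf_left _ inf_le_right), (coprime_cent_prod hAR hcop (hR.sol hp)).sup_eq⟩
  refine ⟨h2, h4, fun hna hc => ?_⟩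
  have hO := Ohm1_metacyclic_p2Elem hp hm hR hodd fun h => hna h.abl
  have h5 : ⁅R, A⁆ ≠ ⊥ := fun e => hc (comm_eq_bot'.mp e)
  have h6 : R ⊓ C[A] ≠ ⊥ := fun e => hna ((e ▸ h4).eq_of_right_bot ▸ h2)
  have h7 := cyc_of_TI_of_Ohm1_p2Elem hp hR hodd hO inf_le_left hT (inf_comm _ ⁅R, A⁆ ▸ h4.inf) h5
  exact ⟨cyc_of_TI_of_Ohm1_p2Elem hp hR hodd hO hT inf_le_left h4.inf h6, h7, h5, h6,
    (abl_quo h4.nml.norm).mp (h4.abl_iff.mpr h7.abl)⟩

/-- Lemma 4.15 for a non-abelian group of order `p ^ 3`. -/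
theorem p3group_cent_cprod (hp : p.Prime) (hSR : S ≤ R) (hS : ♯S = p ^ 3) (hna : ¬ Abl S)
    (h : ⁅S, R⁆ ≤ ⁅S, S⁆) : CP S (R ⊓ C[S]) R := by
  obtain ⟨x, hx, y, hy, hxy⟩ : ∃ x ∈ S, ∃ y ∈ S, x * y ≠ y * x := by
    by_contra hn
    push Not at hn
    exact hna (H25.abl_iff.mpr hn)
  have hD : zpowers x ⊔ zpowers y ≤ S := sup_le (zpowers_le.mpr hx) (zpowers_le.mpr hy)
  have h1 : zpowers x ⊔ zpowers y = S := eq_of_card_eq hD (hS ▸ eq_pow_succ_of_not_dvd hp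
    (hS ▸ card_dvd hD) fun h => hxy ((abl_of_card_dvd_sq hp h).comm (mem_sup_left (mem_zpowers x))
      (mem_sup_right (mem_zpowers y))))
  have h2 : ∀ z ∈ S, (C{z}).relIndex R ≤ p := fun z hz => by
    rw [← p3_card_center hp hS hna, ← p3_der1_eq_center hp hS hna]
    exact H3.relIndex_centralizer_le_card R _ z fun g hg =>
      h (commC R S ▸ commutator_mem_commutator hg hz)
  have h3 : (C[S]).relIndex R ≤ p * p := by
    rw [← h1, C_sup, C_zpowers, C_zpowers]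
    exact relIndex_inf_le.trans (Nat.mul_le_mul (h2 x hx) (h2 y hy))
  refine ⟨inf_le_right, (isProd_of_card hSR inf_le_left ?_).sup_eq⟩
  rw [← inf_assoc, inf_eq_left.mpr hSR, p3_card_center hp hS hna, hS, ← card_inf_mul_relIndex C[S] R,
    inf_comm]
  calc _ ≤ ♯(R ⊓ C[S]) * (p * p) * p := by gcongr
    _ = _ := by ring

omit [Finite G] in
theorem comm_pow_right_mod {Z : Subgroup G} {x y : G} (hy : y ∈ N[Z]) (hw : ⁅y, ⁅x, y⁆⁆ ∈ Z)
    (hc : Commute ⁅y, ⁅x, y⁆⁆ ⁅x, y⁆) (j : ℕ) : ∃ s ∈ Z, ⁅x, y ^ j⁆ = ⁅x, y⁆ ^ j * s := by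
  induction j with
  | zero => exact ⟨1, Z.one_mem, by simp⟩
  | succ j ih =>
    obtain ⟨s, hs, e⟩ := ih
    refine ⟨⁅y, ⁅x, y⁆⁆ ^ j * (y * s * y⁻¹), Z.mul_mem (Z.pow_mem hw j) (conj_mem hy hs), ?_⟩
    have h1 : y * ⁅x, y⁆ * y⁻¹ = ⁅x, y⁆ * ⁅y, ⁅x, y⁆⁆ := by
      rw [← hc.eq, commutatorElement_def y, inv_mul_cancel_right]
    rw [pow_succ', H3.commutator_mul_right, e, ← conj_mul, ← conj_pow, h1, hc.symm.mul_pow, pow_succ']
    simp only [mul_assoc]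

omit [Finite G] in
/-- The commutator computation in the proof of Blackburn's theorem. -/
theorem blackburn_calc (hTS : T ≤ S) (hT : Abl T) {a t x y : G} {i j : ℕ} (hx : x ∈ C[T])
    (hy : y ∈ S) (ht : t ∈ T) (h1 : ∀ s ∈ S, ⁅x, s⁆ ∈ T) (h2 : ∀ s ∈ S, ∀ u ∈ T, ⁅s, u⁆ ∈ Z[S])
    (hax : a * x * a⁻¹ = x ^ i) (hay : a * y * a⁻¹ = t * y ^ j) :
    a * ⁅y, ⁅x, y⁆⁆ * a⁻¹ = ⁅y, ⁅x, y⁆⁆ ^ (i * (j * j)) := by
  have hZ : ∀ s ∈ Z[S], ∀ u ∈ S, Commute s u := fun s hs u hu => (mem_C.mp hs.2 u hu).symm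
  have hxT : ∀ u ∈ T, Commute u x := fun u hu => mem_C.mp hx u hu
  have hz := h1 y hy
  have hw := h2 y hy _ hz
  have hyj := S.pow_mem hy j
  obtain ⟨s, hs, e⟩ := comm_pow_right_mod ((center_nml S).norm hy) hw (hZ _ hw _ (hTS hz)) j
  have e1 : a * ⁅x, y⁆ * a⁻¹ = ⁅x, y⁆ ^ (j * i) * s ^ i := by
    rw [conjugate_commutatorElement, hax, hay, H3.commutator_mul_right,
      commutatorElement_eq_one_iff_commute.mpr ((hxT t ht).symm.pow_left i), one_mul,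
      H3.commutator_pow_left (hxT _ (h1 _ hyj)), hT.comm ht (T.pow_mem (h1 _ hyj) i),
      mul_inv_cancel_right, e, ((hZ s hs _ (hTS hz)).symm.pow_left j).mul_pow, pow_mul]
  have hu : a * ⁅x, y⁆ * a⁻¹ ∈ T := by
    rw [conjugate_commutatorElement, hax, hay,
      H3.commutator_pow_left (hxT _ (h1 _ (S.mul_mem (hTS ht) hyj)))]
    exact T.pow_mem (h1 _ (S.mul_mem (hTS ht) hyj)) i
  rw [conjugate_commutatorElement, hay, H3.commutator_mul_left,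
    commutatorElement_eq_one_iff_mul_comm.mpr (hT.comm ht hu), mul_one,
    ← (hZ _ (h2 _ hyj _ hu) t (hTS ht)).eq, mul_inv_cancel_right, e1, H3.commutator_mul_right,
    commutatorElement_eq_one_iff_commute.mpr ((hZ s hs _ hyj).symm.pow_right i), mul_one,
    mul_inv_cancel, mul_one, H3.commutator_pow_left (hZ _ (h2 y hy _ (T.pow_mem hz _)) y hy),
    H3.commutator_pow_right (hZ _ hw _ (hTS hz)), ← pow_mul]
  congr 1; ring

theorem three_lt_of_comm_eq (hp : p.Prime) (hR : IsPi {p} R) (hodd : Odd ♯R) (h1 : R ≠ ⊥)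
    (hr : rank R ≤ 2) (hRA : ⁅R, A⁆ = R) (hA : IsPi {p}ᶜ A) (hAodd : Odd ♯A) : 3 < p := by
  have h2 : (C[R]).relIndex A ≠ 1 := fun e => h1 (hRA ▸ comm_eq_bot'.mpr (relIndex_eq_one.mp e))
  have hq := Nat.minFac_prime h2
  have h3 := (Nat.minFac_dvd _).trans (relIndex_dvd_card C[R] A)
  have h4 := (pi_Aut_rank2_pgroup hp hq hR hodd hr (norm_of_comm_le_left hRA.le) (Nat.minFac_dvd _)
    (hA.mem hq h3)).2.1
  have := ne_two_of_odd_dvd hAodd h3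
  have := hq.two_le
  omega

theorem rank2_comm_Ohm1_le (hp : p.Prime) (hR : IsPi {p} R) (hodd : Odd ♯R) (hRA : ⁅R, A⁆ = R)
    (hA : IsPi {p}ᶜ A) (hAodd : Odd ♯A) (hS : omegaOne p R = S) (he : ∀ x ∈ S, x ^ p = 1)
    (h3 : ♯S = p ^ 3) (hna : ¬ Abl S) : ⁅S, R⁆ ≤ ⁅S, S⁆ := by
  by_contra hn
  have hAR : A ≤ N[R] := norm_of_comm_le_left hRA.le
  have hSR : S ⊴ R := hS ▸ omegaOne_nml p R
  have hAS : A ≤ N[S] := hS ▸ norm_omegaOne p hAR
  have hZ := p3_der1_eq_center hp h3 hna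
  have hZp := p3_card_center hp h3 hna
  rw [hZ] at hn
  set T := ⁅S, R⁆ with hT
  have hTS : T < S := nil_comm_properl (hR.nil hp) hSR.le (ne_bot_of_not_abl hna) le_rfl hSR.norm
  have hZT : Z[S] ≤ T := hZ ▸ comm_mono_right hSR.le
  have hT2 : ♯T = p ^ 2 := eq_pow_succ_of_not_dvd hp
    (dvd_pow_of_lt_succ hp (h3 ▸ card_dvd hTS.le) (h3 ▸ card_lt hTS)) fun h =>
    hn (eq_of_card_ge hZT (by rw [hZp]; exact Nat.le_of_dvd hp.pos (pow_one p ▸ h))).ge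
  have hTe : IsElementaryAbelian p T := ⟨abl_of_card_dvd_sq hp hT2.dvd, fun x hx => he x (hTS.le hx)⟩
  have hTR : T ⊴ R := hSR.comm (Nml.refl R)
  have hAT : A ≤ N[T] := norm_comm hAS hAR
  have hST : ♯S = p * ♯T := by rw [h3, hT2, pow_succ']
  set B := R ⊓ C[T] with hB
  set C := R ⊓ C[S] with hC
  have hBR : B ⊴ R := hTR.infC
  have hCR : C ⊴ R := hSR.infC
  have hAB : A ≤ N[B] := norm_inf hAR (norm_C hAT)
  have hAC : A ≤ N[C] := norm_inf hAR (norm_C hAS)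
  have hTB : T ≤ B := le_inf hTR.le hTe.le_cent
  have hCB : C ⊴ B := hCR.of_le (inf_le_inf_left R (C_anti hTS.le)) hBR.le
  have hSB : ¬ S ≤ B := fun h => hn (le_inf hTS.le (cents_symm (h.trans inf_le_right)))
  have hSBT : S ⊓ B = T := eq_of_card_between hp (le_inf hTS.le hTB) (inf_lt_left.mpr hSB) hST
  have hBi : B.relIndex R = p := by
    rw [hB, inf_relIndex_left]
    exact ((Nat.dvd_prime hp).mp (pgroup_relIndex_cent_abelem2 hp hR hTR.norm hTe hT2.dvd)).resolve_left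
      fun e => hSB (le_inf hSR.le (hSR.le.trans (relIndex_eq_one.mp e)))
  have hBmax := covBy_of_relIndex_prime hBR.le (hBi ▸ hp)
  have hcomm : ∀ x ∈ R, ∀ s ∈ S, ⁅x, s⁆ ∈ T := fun x hx s hs =>
    (commC R S).le (commutator_mem_commutator hx hs)
  -- `B / C` is elementary abelian
  have hBe : IsElementaryAbelian p (quo B C) := by
    have h1 : ⁅⁅S, B⁆, B⁆ = ⊥ :=
      comm_eq_bot'.mpr (cents_of_le inf_le_right (comm_mono_right hBR.le))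
    refine (elem_quo_iff hCB.norm).mpr ⟨le_inf ((der1_le B).trans hBR.le)
      (comm_eq_bot.mp (three_subgroup (commC S B ▸ h1) h1)), fun x hx =>
      ⟨R.pow_mem hx.1 p, mem_C'.mpr fun s hs => ?_⟩⟩
    rw [← commutatorElement_eq_one_iff_mul_comm,
      H3.commutator_pow_left (mem_C.mp hx.2 _ (hcomm x hx.1 s hs)), hTe.pow (hcomm x hx.1 s hs)]
  obtain ⟨W, hW, hAW⟩ := Maschke_abelem hp hBe (hA.quo C) (quo_mono C hTB) (quo_norm C hAB)
    (quo_norm C hAT)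
  have hXB : coq C W ≤ B := coq_le_of_le_quo hCB hW.right_le
  have hXR := hXB.trans hBR.le
  have hBX : B = T ⊔ coq C W := by
    rw [← hCB.coq_quo, ← hW.sup, coq_sup, coq_quo (hTB.trans hCB.norm), sup_assoc,
      sup_eq_right.mpr (le_coq W)]
  have hXc : Cyc (coq C W) := by
    refine odd_pgroup_cyc_of_Ohm1 hp (hR.of_le hXR) (odd_of_le hodd hXR)
      (cyc_of_card_prime hp hZp) ?_
    have h1 : omegaOne p (coq C W) ≤ S := hS ▸ omegaOne_mono p hXR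
    refine le_inf h1 (le_trans ?_ (inf_le_right : C ≤ _))
    refine (le_inf (hSBT ▸ le_inf h1 ((omegaOne_le p _).trans hXB)) (omegaOne_le p _)).trans ?_
    rw [← quo_eq_bot (inf_le_left.trans (hTB.trans hCB.norm)), quo_inf_coq, hW.inf]
  obtain ⟨x, hx, hxX⟩ := hXc.exists_gen
  obtain ⟨y, hy, hyB⟩ := SetLike.not_le_iff_exists.mp hSB
  have hyS := zpowers_le.mpr hy
  have hSy : T ⊔ zpowers y = S := by
    by_contra h
    exact hyB (hTB (eq_of_card_between hp le_sup_left ((sup_le hTS.le hyS).lt_of_ne h) hST ▸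
      mem_sup_right (mem_zpowers y)))
  have hRy : B ⊔ zpowers y = R := (covBy_eq_or hBmax le_sup_left
    (sup_le hBR.le (hyS.trans hSR.le))).resolve_left fun e =>
    hyB (e ▸ mem_sup_right (mem_zpowers y))
  have hz := hcomm x (hXR hx) y hy
  have hZR : Z[S] ⊴ R := hSR.center
  have h2 : ∀ s ∈ S, ∀ u ∈ T, ⁅s, u⁆ ∈ Z[S] := fun s hs u hu =>
    hZ ▸ commutator_mem_commutator hs (hTS.le hu)
  have hw := h2 y hy _ hz
  have hw1 : ⁅y, ⁅x, y⁆⁆ ≠ 1 := fun e => by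
    have h1 : ⁅x, y⁆ ∈ Z[S] := by
      refine ⟨hTS.le hz, ?_⟩
      rw [← hSy, C_sup, C_zpowers]
      exact ⟨hTe.le_cent hz, mem_C1.mpr (commutatorElement_eq_one_iff_mul_comm.mp e).symm⟩
    have hxN := hZR.norm (hXR hx)
    have hyN := hZR.norm (hSR.le hy)
    have hSN := hSR.le.trans hZR.norm
    have hR' : R ≤ S ⊔ zpowers x := by rw [← hRy, hBX, hxX, sup_right_comm, hSy]
    refine hn ((comm_mono_right hR').trans (comm_sup_le_right hSN (zpowers_le.mpr hxN) hSN hZ.le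
      ((comm_mono_left hSy.ge).trans (comm_sup_le_left (hTS.le.trans hSN) (zpowers_le.mpr hyN)
        (zpowers_le.mpr hxN) ?_ ((commC _ _).le.trans (comm_zpowers_le hxN hyN h1))))))
    rw [comm_eq_bot'.mpr (zpowers_le.mpr (hXB hx).2)]; exact bot_le
  have hwo : orderOf ⁅y, ⁅x, y⁆⁆ = p := orderOf_eq_of_mem_card_prime hp hZp hw hw1
  have hyN := hBR.norm (hSR.le hy)
  refine hyB (hRA.ge.trans ((comm_mono_left hRy.ge).trans (comm_sup_le_left (norm_self B)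
    (zpowers_le.mpr hyN) hAB (comm_le_left hAB) ((commC _ _).le.trans (comm_zpowers_right_le hAB hyN
      fun a ha => ?_)))) (hSR.le hy))
  obtain ⟨i, hi⟩ := exists_conj_eq_pow (hxX ▸ norm_coq hAC hAW ha)
  obtain ⟨t, ht, _, hv, hj⟩ := (mem_sup_of_norm (hyS.trans (hSR.le.trans hTR.norm))).mp
    (hSy ▸ conj_mem (hAS ha) hy)
  obtain ⟨j, rfl⟩ := mem_powers_iff_mem_zpowers.mpr hv
  have e1 := blackburn_calc hTS.le hTe.abl (hXB hx).2 hy ht (hcomm x (hXR hx)) h2 hi hj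
  have e2 : a * ⁅y, ⁅x, y⁆⁆ * a⁻¹ = ⁅y, ⁅x, y⁆⁆ ^ i := by
    obtain ⟨k, hk⟩ : ⁅y, ⁅x, y⁆⁆ ∈ zpowers x := hxX ▸ le_coq W (inf_le_inf_right _ hSR.le hw)
    rw [← hk, ← conj_zpow, hi, ← zpow_natCast, ← zpow_natCast, ← zpow_mul, ← zpow_mul, mul_comm]
  have hip : p.Coprime i := hp.coprime_iff_not_dvd.mpr fun h => hw1 (conj_eq_one_iff'.mp
    (e2.trans (orderOf_dvd_iff_pow_eq_one.mp (hwo ▸ h))))
  rw [e1, pow_eq_pow_iff_modEq, hwo] at e2
  exact comm_mem_of_sq_modEq (hAB ha) hyN (hTB ht) (hAodd.of_dvd_nat (orderOf_dvd_card' ha)) (he y hy)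
    hj (Nat.ModEq.cancel_left_of_coprime hip (by rwa [mul_one]))

/-- Theorem 4.16. -/
theorem rank2_coprime_comm_cprod (hp : p.Prime) (hR : IsPi {p} R) (hodd : Odd ♯R) (h1 : R ≠ ⊥)
    (hr : rank R ≤ 2) (hRA : ⁅R, A⁆ = R) (hA : IsPi {p}ᶜ A) (hAodd : Odd ♯A) :
    3 < p ∧ (Abl R ∨ ∃ S C : Subgroup G, ¬ Abl S ∧ ♯S = p ^ 3 ∧ (∀ x ∈ S, x ^ p = 1) ∧
      CP S C R ∧ Cyc C ∧ omegaOne p C = ⁅S, S⁆) := by
  have h3 := three_lt_of_comm_eq hp hR hodd h1 hr hRA hA hAodd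
  refine ⟨h3, ?_⟩
  by_cases h2 : ♯(omegaOne p R) ∣ p ^ 2
  · exact Or.inl (metacyclic_comm_abl hp hR hodd hA (p2_Ohm1_metacyclic hp hR h3 h2) hRA)
  have hS := omegaOne_le p R
  have he := exponent_Ohm1_rank2 hp hR hr h3
  have h4 := eq_pow_succ_of_not_dvd hp
    (rank2_exponent_p_p3group hp (hR.of_le hS) ((rank_mono hS).trans hr) he) h2
  have hna : ¬ Abl (omegaOne p R) := fun h =>
    h2 (elem_card_dvd_of_prank hp ((prank_le_rank hp R).trans hr) hS ⟨h, he⟩)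
  have h5 : omegaOne p (R ⊓ C[omegaOne p R]) = ⁅omegaOne p R, omegaOne p R⁆ := by
    rw [p3_der1_eq_center hp h4 hna]
    exact le_antisymm (le_inf (omegaOne_mono p inf_le_left) ((omegaOne_le p _).trans inf_le_right))
      ((elem_of_card_prime hp (p3_card_center hp h4 hna)).le_omegaOne (inf_le_inf_right _ hS))
  refine Or.inr ⟨_, _, hna, h4, he, p3group_cent_cprod hp hS h4 hna
    (rank2_comm_Ohm1_le hp hR hodd hRA hA hAodd rfl he h4 hna), ?_, h5⟩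
  refine odd_pgroup_cyc_of_Ohm1 hp (hR.inf_left _) (odd_of_le hodd inf_le_left) ?_ h5.le
  rw [p3_der1_eq_center hp h4 hna]
  exact cyc_of_card_prime hp (p3_card_center hp h4 hna)

end H26
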