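import Mathlib
import Cfsg.Agent.H3.B71A
import Cfsg.Agent.H8.SuzWrap

/-! Bender's theorem on strongly embedded subgroups: tools for the reduction to simple groups. -/

set_option autoImplicit false
set_option linter.unusedSectionVars false
set_option linter.unusedVariables false

namespace H26
namespace BR

open H24 Subgroup MulAction Cfsg H3.B71 H8.Suz

universe u

section General

variable {G Ω : Type*} [Group G] [Finite G] [MulAction G Ω] {a b : Ω} {Y Q : Subgroup G}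

theorem mem_of_pow_coprime {H : Subgroup G} {y : G} {m n : ℕ} (h : m.Coprime n) (h1 : y ^ m ∈ H)
    (h2 : y ^ n ∈ H) : y ∈ H := by
  obtain ⟨i, j, e⟩ := Nat.isCoprime_iff_coprime.mpr h
  have : y = (y ^ m) ^ i * (y ^ n) ^ j := by
    rw [← zpow_natCast, ← zpow_natCast, ← zpow_mul, ← zpow_mul, ← zpow_add, mul_comm (m : ℤ),
      mul_comm (n : ℤ), e, zpow_one]
  rw [this]
  exact H.mul_mem (H.zpow_mem h1 i) (H.zpow_mem h2 j)

theorem four_of_rank2 (h : SE G Ω) (hr : Rank2 G) (a : Ω) : Four (⊤ : Subgroup G) a := by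
  obtain ⟨x, y, hx, hy, hxy, hx2, hy2, hc⟩ := hr
  obtain ⟨c, hc⟩ := h.four_of_comm (Y := ⊤) ⟨hx, hx2⟩ ⟨hy, hy2⟩ (mem_top _) (mem_top _) hxy hc
  obtain ⟨z, hz, hza⟩ := h.pt a
  exact h.four_move hc hz (mem_top _) hza

theorem conj_inv (h : SE G Ω) [Nontrivial Ω] {u v : G} (hu : Inv u) (hv : Inv v) :
    ∃ g, g * u * g⁻¹ = v := by
  obtain ⟨a, ha⟩ := h.ex u hu
  obtain ⟨b, hb⟩ := h.ex v hv
  by_cases hab : a = b
  · subst hab
    obtain ⟨c, hc⟩ := exists_ne a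
    obtain ⟨t, ht, e⟩ := h.exists_inv_smul hc.symm
    obtain ⟨k, -, -, -, e, -⟩ := h.exists_K ht e hc.symm hu hv ha hb
    exact ⟨k, e⟩
  · obtain ⟨t, -, e, -⟩ := h.exists_swap hu hv ha hb hab
    exact ⟨t, e⟩

theorem setup_of_reg (h : SE G Ω) [Nontrivial Ω] (hQ : Reg a Q) :
    ∃ t, IsRankOneSetup G Ω a t Q := by
  obtain ⟨b, hb⟩ := exists_ne a
  obtain ⟨t, ht, e⟩ := h.exists_inv_smul hb.symm
  subst e
  have hsup : Q ⊔ (stabilizer G a ⊓ stabilizer G (t • a)) = stabilizer G a := by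
    refine le_antisymm (sup_le hQ.fix inf_le_left) fun g hg => ?_
    have hg' : g • a = a := hg
    obtain ⟨x, hx, e⟩ := hQ.trans (t • a) (g • t • a) hb
      (fun e => hb (by rw [← hg'] at e; nth_rewrite 1 [hg'] at e; exact (smul_left_cancel_iff g).mp e))
    rw [← mul_inv_cancel_left x g]
    refine mul_mem_sup hx ⟨(stabilizer G a).mul_mem ((stabilizer G a).inv_mem (hQ.fix x hx)) hg, ?_⟩
    show (x⁻¹ * g) • t • a = t • a
    rw [mul_smul, ← e, inv_smul_smul]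
  have hodd := h.odd_stab hb.symm
  refine ⟨t, ?_, ht.2, ht.1, hb, hQ.fix, fun g hg x hx => (mem_N.mp (hQ.norm g hg) x).mp hx,
    eq_bot_iff.mpr fun x hx => hQ.free x hx.1 _ hb hx.2, hsup, ?_, hodd⟩
  · rw [MulAction.is_two_pretransitive_iff]
    have h2 : ∀ x y : Ω, x ≠ y → ∃ g : G, g • x = a ∧ g • y = t • a := fun x y hxy => by
      obtain ⟨g, rfl⟩ := h.exists_smul x a
      obtain ⟨q, hq, e⟩ := hQ.trans (g • y) _ (fun e => hxy ((smul_left_cancel_iff g).mp e).symm) hb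
      exact ⟨q * g, by rw [mul_smul, hQ.fix q hq], by rw [mul_smul, e]⟩
    intro x y z w hxy hzw
    obtain ⟨g, hg1, hg2⟩ := h2 x y hxy
    obtain ⟨g', hg1', hg2'⟩ := h2 z w hzw
    exact ⟨g'⁻¹ * g, by rw [mul_smul, hg1, inv_smul_eq_iff, hg1'],
      by rw [mul_smul, hg2, inv_smul_eq_iff, hg2']⟩
  · by_contra h5
    rw [Nat.not_even_iff_odd] at h5
    obtain ⟨z, hz, hza⟩ := h.pt a
    refine hz.not_mem_odd (X := stabilizer G a) ?_ hza
    rw [← hsup, odd_iff_isPi]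
    exact (odd_iff_isPi.mp h5).sup (odd_iff_isPi.mp hodd) fun g hg => hQ.norm g hg.1

theorem odd_Ker (h : SE G Ω) (hy : ∃ y ∈ Y, y • a ≠ a) : Odd ♯(Ker Y a) := by
  obtain ⟨y, hy, hya⟩ := hy
  exact h.odd_of_fix hya (fun x hx => hx.2 y hy) fun x hx => Ker_fix hx

/-- an element of `Q` fixing a second point of the orbit lies in the kernel -/
theorem LS.mem_Ker (h : SE G Ω) (hQ : LS Y a Q) {x : G} (hx : x ∈ Q) (ho : Odd (orderOf x)) :
    x ∈ Ker Y a := by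
  obtain ⟨n, hn⟩ := hQ.two x hx
  exact mem_of_pow_coprime (Nat.Coprime.pow_left n (Nat.coprime_two_left.mpr ho)) hn
    (by rw [pow_orderOf_eq_one]; exact one_mem _)

/-- a subgroup of odd order normalised by the stabiliser acts trivially on the orbit -/
theorem LS.le_Ker (h : SE G Ω) (hQ : LS Y a Q) (hy : ∃ y ∈ Y, y • a ≠ a) {O : Subgroup G}
    (hO : Odd ♯O) (hOY : O ≤ Y) (hOa : O ≤ stabilizer G a) (hn : Q ≤ N[O]) : O ≤ Ker Y a := by
  intro x hx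
  obtain ⟨y0, hy0, hb⟩ := hy
  have hxa : x • a = a := hOa hx
  have hmv : ∀ y ∈ Y, y • a ≠ a → (x * y) • a ≠ a := fun y hy hya e => hya (by
    rw [mul_smul, ← hxa] at e
    nth_rewrite 1 [hxa] at e
    exact (smul_left_cancel_iff x).mp e)
  have hc : ∀ w ∈ Q, ∀ y ∈ Y, x • w • y • a = w • x • y • a := fun w hw y hy => by
    have h1 : w⁻¹ * x * w * x⁻¹ ∈ Ker Y a := by
      refine LS.mem_Ker h hQ ?_ (odd_orderOf_of_mem hO ?_)
      · have := (mem_N.mp (hQ.norm x (hOY hx) hxa) w).mp hw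
        simpa only [mul_assoc] using Q.mul_mem (Q.inv_mem hw) this
      · have := (mem_N.mp (N[O].inv_mem (hn hw)) x).mp hx
        rw [inv_inv] at this
        exact O.mul_mem this (O.inv_mem hx)
    have h2 := h1.2 (x * y) (Y.mul_mem (hOY hx) hy)
    simp only [mul_smul, inv_smul_smul] at h2
    rw [← h2, smul_inv_smul]
  obtain ⟨w, hw, e⟩ := hQ.trans y0 hy0 (x * y0) (Y.mul_mem (hOY hx) hy0) hb (hmv y0 hy0 hb)
  rw [mul_smul] at e
  have hp : ∀ n : ℕ, x ^ n • y0 • a = w ^ n • y0 • a := fun n => by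
    induction n with
    | zero => simp
    | succ n ih => rw [pow_succ' x, mul_smul, ih, hc _ (Q.pow_mem hw n) y0 hy0, ← e, pow_succ w, mul_smul]
  have hwb : w ∈ stabilizer G (y0 • a) := by
    obtain ⟨n, hn⟩ := hQ.two w hw
    refine mem_of_pow_coprime
      (Nat.Coprime.pow_left n (Nat.coprime_two_left.mpr (odd_orderOf_of_mem hO hx))) (hn.2 y0 hy0) ?_
    rw [mem_stabilizer_iff, ← hp, pow_orderOf_eq_one, one_smul]
  refine ⟨hOY hx, fun y hy => ?_⟩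
  by_cases hya : y • a = a
  · rw [hya, hxa]
  · obtain ⟨v, hv, e'⟩ := hQ.trans y0 hy0 y hy hb hya
    rw [← e', hc v hv y0 hy0, ← e, show w • y0 • a = y0 • a from hwb]

/-- the case of a normal subgroup of even order -/
theorem reg_of_ls (h : SE G Ω) (hf : ∀ g : G, (∀ c : Ω, g • c = c) → g = 1) {N : Subgroup G}
    (hN : N.Normal) (hI : ∀ u : G, Inv u → u ∈ N) (hQ : LS N a Q) : Reg a Q := by
  have htr : ∀ c : Ω, ∃ y ∈ N, y • a = c := fun c => by
    by_cases hc : a = c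
    · exact ⟨1, one_mem _, by rw [one_smul, hc]⟩
    · obtain ⟨t, ht, e⟩ := h.exists_inv_smul hc
      exact ⟨t, hI t ht, e⟩
  have hker : ∀ g ∈ Ker N a, g = 1 := fun g hg => hf g fun c => by
    obtain ⟨y, hy, rfl⟩ := htr c
    exact hg.2 y hy
  have h2 : IsPi {2} Q := isPi_iff_piElt.mpr fun x hx => by
    obtain ⟨n, hn⟩ := hQ.two x hx
    exact piElt_of_pow_eq_one (piNat_self_pow Nat.prime_two n) (hker _ hn)
  have htrans : ∀ b c : Ω, b ≠ a → c ≠ a → ∃ x ∈ Q, x • b = c := fun b c hb hc => by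
    obtain ⟨y, hy, rfl⟩ := htr b
    obtain ⟨y', hy', rfl⟩ := htr c
    exact hQ.trans y hy y' hy' hb hc
  have hone : ∀ x : G, PiElt {2} x → x • a = a → ∀ b, b ≠ a → x • b = b → x = 1 :=
    fun x hx hxa b hb hxb => hx.eq_one (piElt_iff.mpr (odd_iff_isPi.mp (by
      rw [Nat.card_zpowers]; exact h.odd_orderOf_of_fix hb hxb hxa)))
  refine ⟨hQ.fix, fun g hg => ?_, htrans, fun x hx b hb e => hone x (h2.piElt hx) (hQ.fix x hx) b hb e⟩
  have hfix : ∀ x ∈ cj g Q, x • a = a := fun x hx => by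
    obtain ⟨y, hy, rfl⟩ := mem_cj'.mp hx
    have := conj_fix (g := g) (hQ.fix y hy)
    rwa [hg] at this
  have hn : cj g Q ≤ N[Q] := fun x hx => by
    refine hQ.norm x ?_ (hfix x hx)
    obtain ⟨y, hy, rfl⟩ := mem_cj'.mp hx
    exact hN.conj_mem y (hQ.le hy) g
  have h3 : IsPi {2} (Q ⊔ cj g Q) := h2.sup (h2.cj g) hn
  refine mem_N_of_cj_le fun x hx => ?_
  by_cases hx1 : x = 1
  · rw [hx1]; exact one_mem _
  obtain ⟨b, hb⟩ : ∃ b, x • b ≠ b := by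
    by_contra e
    push Not at e
    exact hx1 (hf x e)
  have hba : b ≠ a := fun e => hb (by rw [e, hfix x hx])
  have hxb : x • b ≠ a := fun e => hba (by
    rw [← hfix x hx] at e; exact (smul_left_cancel_iff x).mp e)
  obtain ⟨y, hy, e⟩ := htrans b (x • b) hba hxb
  have h4 : y⁻¹ * x = 1 := hone _
    (h3.piElt (mul_mem (mem_sup_left (Q.inv_mem hy)) (mem_sup_right hx)))
    (by rw [mul_smul, hfix x hx, inv_smul_eq_iff, hQ.fix y hy]) b hba
    (by rw [mul_smul, ← e, inv_smul_smul])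
  rw [← inv_mul_eq_one.mp h4]; exact hy

end General

section Image

variable {G Ω : Type u} [Group G] [Finite G] [MulAction G Ω] {a : Ω} {Y : Subgroup G}

/-- the permutation group induced by `Y` on the orbit of `a` -/
abbrev Im (Y : Subgroup G) (a : Ω) : Type u := (toPermHom Y (orbit Y a)).range

/-- the projection -/
abbrev pr (Y : Subgroup G) (a : Ω) : Y →* Im Y a := (toPermHom Y (orbit Y a)).rangeRestrict

/-- the base point -/
abbrev base (Y : Subgroup G) (a : Ω) : orbit Y a := ⟨a, mem_orbit_self a⟩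

theorem pr_surj : Function.Surjective (pr Y a) := MonoidHom.rangeRestrict_surjective _

theorem pr_smul (y : Y) (c : orbit Y a) : ((pr Y a y • c : orbit Y a) : Ω) = (y : G) • (c : Ω) := rfl

theorem pr_fix {y : Y} {c : orbit Y a} : pr Y a y • c = c ↔ (y : G) • (c : Ω) = c := by
  rw [Subtype.ext_iff, pr_smul]

theorem im_faithful (g : Im Y a) (h : ∀ c : orbit Y a, g • c = c) : g = 1 :=
  Subtype.ext (Equiv.ext h)

theorem pr_eq_one {y : Y} : pr Y a y = 1 ↔ (y : G) ∈ Ker Y a := by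
  constructor
  · intro e
    refine ⟨y.2, fun x hx => ?_⟩
    have := pr_smul y ⟨x • a, ⟨⟨x, hx⟩, rfl⟩⟩
    rw [e, one_smul] at this
    exact this.symm
  · intro e
    refine im_faithful _ fun c => pr_fix.mpr ?_
    obtain ⟨c, ⟨x, rfl⟩⟩ := c
    exact e.2 x x.2

instance : Finite (Im Y a) := Finite.of_surjective _ pr_surj

theorem card_im_le : Nat.card (Im Y a) ≤ ♯Y := Nat.card_le_card_of_surjective _ pr_surj

theorem inv_pr (h : SE G Ω) (hy : ∃ y ∈ Y, y • a ≠ a) {u : Y} (hu : Inv (u : G)) :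
    Inv (pr Y a u) :=
  ⟨fun e => hu.not_mem_odd (odd_Ker h hy) (pr_eq_one.mp e), by
    rw [← map_mul, show u * u = 1 from Subtype.ext hu.2, map_one]⟩

theorem exists_lift (h : SE G Ω) (hy : ∃ y ∈ Y, y • a ≠ a) {x : Im Y a} (hx : Inv x) :
    ∃ u : Y, Inv (u : G) ∧ pr Y a u = x := by
  obtain ⟨y, rfl⟩ := pr_surj x
  obtain ⟨m, hm⟩ := odd_Ker h hy
  have h1 : ((y * y : Y) : G) ∈ Ker Y a := pr_eq_one.mp (by rw [map_mul, hx.2])
  have h2 : pr Y a (y ^ (2 * m + 1)) = pr Y a y := by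
    rw [map_pow, pow_succ, pow_mul, pow_two, hx.2, one_pow, one_mul]
  refine ⟨y ^ (2 * m + 1), ⟨fun e => hx.1 ?_, ?_⟩, h2⟩
  · rw [← h2, show y ^ (2 * m + 1) = 1 from Subtype.ext e, map_one]
  · have := pow_card_eq_one' (G := Ker Y a) (x := ⟨_, h1⟩)
    rw [hm] at this
    have h3 : ((y : G) * y) ^ (2 * m + 1) = 1 := congrArg Subtype.val this
    rw [Subgroup.coe_pow, ← (Commute.refl (y : G)).mul_pow, h3]

theorem se_im (h : SE G Ω) (h4 : Four Y a) (hy : ∃ y ∈ Y, y • a ≠ a) :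
    SE (Im Y a) (orbit Y a) := by
  obtain ⟨u, hu, v, hv, hiu, hiv, -, -, hua, -⟩ := h4
  refine ⟨fun z hz => ?_, fun z hz b c hb hc => ?_, fun c => ?_⟩
  · obtain ⟨w, hw, rfl⟩ := exists_lift h hy hz
    obtain ⟨c, hc⟩ := h.ex w hw
    by_cases e : a = c
    · exact ⟨base Y a, pr_fix.mpr (by rw [← e] at hc; exact hc)⟩
    · obtain ⟨t, -, -, e2, hY⟩ := h.exists_swap hiu hw hua hc e
      exact ⟨⟨c, ⟨⟨t, hY Y hu w.2⟩, e2⟩⟩, pr_fix.mpr hc⟩
  · obtain ⟨w, hw, rfl⟩ := exists_lift h hy hz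
    exact Subtype.ext (h.uniq w hw _ _ (pr_fix.mp hb) (pr_fix.mp hc))
  · obtain ⟨c, ⟨x, rfl⟩⟩ := c
    exact ⟨pr Y a (x * ⟨u, hu⟩ * x⁻¹), inv_pr h hy (hiu.conj x), pr_fix.mpr (conj_fix hua)⟩

theorem rank2_im (h : SE G Ω) (h4 : Four Y a) (hy : ∃ y ∈ Y, y • a ≠ a) : Rank2 (Im Y a) := by
  obtain ⟨u, hu, v, hv, hiu, hiv, hne, hc, -, -⟩ := h4
  have h1 := inv_pr h hy (u := ⟨u, hu⟩) hiu
  have h2 := inv_pr h hy (u := ⟨v, hv⟩) hiv
  have h3 := inv_pr h hy (u := ⟨u, hu⟩ * ⟨v, hv⟩) (hiu.mul hiv hne hc)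
  refine ⟨_, _, h1.1, h2.1, fun e => h3.1 (by rw [map_mul, e, h2.2]), h1.2, h2.2, ?_⟩
  rw [← map_mul, ← map_mul]
  exact congrArg _ (Subtype.ext hc)

theorem nontrivial_orbit (hy : ∃ y ∈ Y, y • a ≠ a) : Nontrivial (orbit Y a) := by
  obtain ⟨y, hy, hya⟩ := hy
  exact ⟨⟨y • a, ⟨⟨y, hy⟩, rfl⟩⟩, base Y a, fun e => hya (congrArg Subtype.val e)⟩

theorem ls_of_hyp (h : SE G Ω) (hy : ∃ y ∈ Y, y • a ≠ a) {t : Im Y a} {Q : Subgroup (Im Y a)}
    {s r : Im Y a} (hH : Hyp (Im Y a) (orbit Y a) (base Y a) t Q s r) :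
    LS Y a ((Q.comap (pr Y a)).map Y.subtype) := by
  have hm : ∀ {x : G}, x ∈ (Q.comap (pr Y a)).map Y.subtype ↔ ∃ hx : x ∈ Y, pr Y a ⟨x, hx⟩ ∈ Q :=
    fun {x} => ⟨fun ⟨y, hy, e⟩ => by subst e; exact ⟨y.2, hy⟩, fun ⟨hx, e⟩ => ⟨⟨x, hx⟩, e, rfl⟩⟩
  refine ⟨map_subtype_le _, fun x hx => ?_, fun x hx => ?_, fun y hy hya => ?_, fun x hx => ?_,
    fun y hy y' hy' h1 h2 => ?_, fun u hu hi hua => ?_, fun u hu hi hua x hx => ?_⟩
  · obtain ⟨hx, e⟩ := hm.mp hx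
    exact pr_fix.mp (H21.RankOne.Q_fix hH.setup e)
  · refine hm.mpr ⟨hx.1, ?_⟩
    rw [pr_eq_one.mpr hx]; exact one_mem _
  · refine mem_N_of_finite fun x hx => ?_
    obtain ⟨hx, e⟩ := hm.mp hx
    refine hm.mpr ⟨Y.mul_mem (Y.mul_mem hy hx) (Y.inv_mem hy), ?_⟩
    have := H21.RankOne.conj_mem_Q hH.setup (h := pr Y a ⟨y, hy⟩) (pr_fix.mpr hya) e
    rwa [← map_inv, ← map_mul, ← map_mul] at this
  · obtain ⟨hx, e⟩ := hm.mp hx
    obtain ⟨n, hn⟩ := hH.struct'.two ⟨_, e⟩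
    have h1 : pr Y a ⟨x, hx⟩ ^ 2 ^ n = 1 := congrArg Subtype.val hn
    rw [← map_pow] at h1
    exact ⟨n, pr_eq_one.mp h1⟩
  · obtain ⟨q, hq, e⟩ := H21.RankOne.exists_Q_smul hH.setup (b := ⟨y • a, ⟨⟨y, hy⟩, rfl⟩⟩)
      (c := ⟨y' • a, ⟨⟨y', hy'⟩, rfl⟩⟩) (fun e => h1 (congrArg Subtype.val e))
      (fun e => h2 (congrArg Subtype.val e))
    obtain ⟨x, rfl⟩ := pr_surj q
    exact ⟨x, hm.mpr ⟨x.2, hq⟩, congrArg Subtype.val e⟩
  · exact hm.mpr ⟨hu, H21.RankOne.invol_mem_Q hH.setup (pr_fix.mpr hua)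
      (inv_pr h hy (u := ⟨u, hu⟩) hi).2⟩
  · obtain ⟨hx, e⟩ := hm.mp hx
    have h1 := hH.central (H21.RankOne.invol_mem_Q hH.setup (s := pr Y a ⟨u, hu⟩) (pr_fix.mpr hua)
      (inv_pr h hy (u := ⟨u, hu⟩) hi).2) (inv_pr h hy (u := ⟨u, hu⟩) hi).2 e
    refine (pr_eq_one (a := a) (y := ⟨u, hu⟩ * ⟨x, hx⟩ * ⟨u, hu⟩⁻¹ * ⟨x, hx⟩⁻¹)).mp ?_
    rw [map_mul, map_mul, map_mul, map_inv, map_inv, h1]
    group

end Image

/-- the statement proved by induction -/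
def BS (n : ℕ) : Prop :=
  ∀ (G Ω : Type u) [Group G] [Finite G] [MulAction G Ω] [Finite Ω] [Nontrivial Ω],
    Nat.card G ≤ n → SE G Ω → (∀ g : G, (∀ c : Ω, g • c = c) → g = 1) → Rank2 G →
      ∀ a : Ω, ∃ t Q s r, Hyp G Ω a t Q s r

variable {G Ω : Type u} [Group G] [Finite G] [MulAction G Ω] [Finite Ω] {a : Ω} {Y : Subgroup G}

theorem BS.ls {n : ℕ} (ih : BS.{u} n) (h : SE G Ω) (hn : ♯Y ≤ n) (h4 : Four Y a)
    (hy : ∃ y ∈ Y, y • a ≠ a) : ∃ Q, LS Y a Q := by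
  have := nontrivial_orbit hy
  obtain ⟨t, Q, s, r, hH⟩ := ih (Im Y a) (orbit Y a) (card_im_le.trans hn) (se_im h h4 hy)
    im_faithful (rank2_im h h4 hy) (base Y a)
  exact ⟨_, ls_of_hyp h hy hH⟩

/-- the induction step, given the main step for simple groups -/
theorem bs_step (main : ∀ (G Ω : Type u) [Group G] [Finite G] [MulAction G Ω] [Finite Ω],
    Min G Ω → ∀ a : Ω, ∃ Q : Subgroup G, Reg a Q) (n : ℕ) : BS.{u} n := by
  induction n with
  | zero =>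
    intro G Ω _ _ _ _ _ hn
    exact absurd (Nat.card_pos (α := G)) (by omega)
  | succ n ih =>
    intro G Ω _ _ _ _ _ hn h hf hr a
    have hlt : ∀ Y : Subgroup G, Y ≠ ⊤ → ♯Y ≤ n := fun Y hY => by
      have := card_lt (lt_top_iff_ne_top.mpr hY)
      rw [card_top] at this
      omega
    have : FaithfulSMul G Ω := ⟨fun {g g'} e => by
      have : g'⁻¹ * g = 1 := hf _ fun x => by rw [mul_smul, e, inv_smul_smul]
      exact (inv_mul_eq_one.mp this).symm⟩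
    obtain ⟨Q, hQ⟩ : ∃ Q : Subgroup G, Reg a Q := by
      by_cases hs : IsSimpleGroup G
      · exact main G Ω ⟨h, hs, inferInstance, four_of_rank2 h hr,
          fun Y c hY h4 hy => ih.ls h (hlt Y hY) h4 hy⟩ a
      · obtain ⟨z, hz, hza⟩ := h.pt a
        have : Nontrivial G := ⟨z, 1, hz.1⟩
        obtain ⟨N, hN, h1, h2⟩ : ∃ N : Subgroup G, N.Normal ∧ N ≠ ⊥ ∧ N ≠ ⊤ := by
          by_contra e
          push Not at e
          exact hs ⟨fun N hN => or_iff_not_imp_left.mpr (e N hN)⟩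
        have hev : ¬ Odd ♯N := fun ho => h1 (eq_bot_iff.mpr fun g hg => hf g fun c =>
          h.le_stab_of_four ho (by rw [normalizer_eq_top_iff.mpr hN]; exact four_of_rank2 h hr c) hg)
        have hI : ∀ u : G, H3.B71.Inv u → u ∈ N := fun u hu => by
          obtain ⟨w, hw, h3, h4⟩ := H21.exists_invol_of_even_card (Nat.not_odd_iff_even.mp hev)
          obtain ⟨g, rfl⟩ := conj_inv h ⟨h3, h4⟩ hu
          exact hN.conj_mem w hw g
        obtain ⟨u, -, v, -, hu, hv, h5⟩ := four_of_rank2 h hr a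
        obtain ⟨b, hb⟩ := exists_ne a
        obtain ⟨t, ht, e⟩ := h.exists_inv_smul hb.symm
        obtain ⟨Q, hQ⟩ := ih.ls h (hlt N h2) ⟨u, hI u hu, v, hI v hv, hu, hv, h5⟩
          ⟨t, hI t ht, e ▸ hb⟩
        exact ⟨Q, reg_of_ls h hf hN hI hQ⟩
    obtain ⟨t, hS⟩ := setup_of_reg h hQ
    obtain ⟨s, r, hH⟩ := exists_hyp hS hr
    exact ⟨t, Q, s, r, hH⟩

theorem se_cosets {G : Type*} [Group G] [Finite G] {H : Subgroup G} (hH : IsStronglyEmbedded H) :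
    SE G (G ⧸ H) := by
  have hm : ∀ g x : G, g • (x : G ⧸ H) = (x : G ⧸ H) ↔ x⁻¹ * g * x ∈ H := fun g x => by
    rw [show g • (x : G ⧸ H) = ((g * x : G) : G ⧸ H) from rfl, eq_comm, QuotientGroup.eq, mul_assoc]
  obtain ⟨z, hz, hz1, hz2⟩ := H21.exists_invol_of_even_card hH.2.1
  have huniq : ∀ z : G, Inv z → ∀ a b : G ⧸ H, z • a = a → z • b = b → a = b := by
    intro z hz a b ha hb
    obtain ⟨x, rfl⟩ := QuotientGroup.mk_surjective a
    obtain ⟨y, rfl⟩ := QuotientGroup.mk_surjective b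
    rw [hm] at ha hb
    rw [QuotientGroup.eq]
    by_contra e
    refine (hz.conj x⁻¹).not_mem_odd (hH.2.2 _ e) ⟨by simpa using ha, ?_⟩
    show _ ∈ cj (x⁻¹ * y) H
    rw [mem_cj]
    simpa [mul_assoc] using hb
  refine ⟨fun u hu => ?_, huniq, fun a => ?_⟩
  · -- the index is odd
    by_contra e
    push Not at e
    have hz0 : z • ((1 : G) : G ⧸ H) = ((1 : G) : G ⧸ H) := (hm z 1).mpr (by simpa using hz)
    have h1 := ncard_modEq_one (S := (Set.univ : Set (G ⧸ H))) Nat.prime_two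
      (isPi_of_card_prime Nat.prime_two (Inv.card_zpowers ⟨hz1, hz2⟩)) (fun _ _ _ _ => trivial)
      (Set.mem_univ _) (zpowers_le.mpr hz0)
      fun c _ hc => huniq z ⟨hz1, hz2⟩ _ _ (hc (mem_zpowers z)) hz0
    refine not_dvd_of_modEq_one Nat.prime_two h1 (dvd_ncard_of_no_fix Nat.prime_two
      (isPi_of_card_prime Nat.prime_two hu.card_zpowers) (fun _ _ _ _ => trivial)
      fun c _ hc => e c (hc (mem_zpowers u)))
  · obtain ⟨x, rfl⟩ := QuotientGroup.mk_surjective a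
    exact ⟨x * z * x⁻¹, Inv.conj ⟨hz1, hz2⟩ x, (hm _ _).mpr (by simpa [mul_assoc] using hz)⟩

theorem nontrivial_cosets {G : Type*} [Group G] {H : Subgroup G} (hH : H ≠ ⊤) :
    Nontrivial (G ⧸ H) := by
  obtain ⟨g, hg⟩ : ∃ g, g ∉ H := by
    by_contra e
    push Not at e
    exact hH (eq_top_iff.mpr fun g _ => e g)
  exact ⟨((1 : G) : G ⧸ H), g, fun e => hg (by simpa using QuotientGroup.eq.mp e)⟩

end BR
end H26
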