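import Mathlib
import Cfsg.Prelude.Def_TwoFusion
import Cfsg.Prelude.Def_Involutions
import Cfsg.Agent.H26.Coprime
import Cfsg.Agent.H25.Rank

/-!
# Strongly closed abelian 2-subgroups: vocabulary
-/

set_option autoImplicit false

namespace H26
namespace Gold

open Cfsg H24 Subgroup

universe u

/-- largest normal subgroup of odd order -/
scoped notation:max "Od[" H "]" => Cfsg.piCoreOf ({2}ᶜ : Set ℕ) H

variable {G : Type u} [Group G]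

/-- group of odd order -/
abbrev OddG (H : Subgroup G) : Prop := IsPi ({2}ᶜ : Set ℕ) H
/-- `2`-group -/
abbrev TwoG (H : Subgroup G) : Prop := IsPi {2} H
/-- element of odd order -/
abbrev OddE (x : G) : Prop := PiElt ({2}ᶜ : Set ℕ) x
/-- `2`-element -/
abbrev TwoE (x : G) : Prop := PiElt {2} x
/-- elementary abelian `2`-group -/
abbrev EA (A : Subgroup G) : Prop := IsElementaryAbelian 2 A

/-- `D` is a normal set of involutions meeting every `2`-subgroup in the nonidentity elements of a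
subgroup. -/
structure SC (D : Set G) : Prop where
  ne : ∀ d ∈ D, d ≠ 1
  sq : ∀ d ∈ D, d * d = 1
  conj : ∀ d ∈ D, ∀ g : G, g * d * g⁻¹ ∈ D
  mul : ∀ d ∈ D, ∀ e ∈ D, TwoE (d * e) → d * e = 1 ∨ d * e ∈ D

/-- `H°`, the subgroup generated by the `D`-elements of `H` -/
def Og (D : Set G) (H : Subgroup G) : Subgroup G := closure (D ∩ (H : Set G))

/-- the centraliser of `K / O(K)` -/
def Ck (K : Subgroup G) : Subgroup G := centQ K Od[K]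

/-- `K` is perfect and `K / O(K)` is quasisimple -/
structure QS (K : Subgroup G) : Prop where
  perf : ⁅K, K⁆ = K
  ne : K ≠ ⊥
  nml : ∀ M, M ⊴ K → M = K ∨ M ≤ Ck K

/-- `K` is a (normal) `2`-component of `H°` -/
structure Piece (D : Set G) (H K : Subgroup G) : Prop where
  le : K ≤ Og D H
  norm : Og D H ≤ N[K]
  qs : QS K

/-- `A` is a maximal `D`-subgroup of `H` -/
structure MaxD (D : Set G) (H A : Subgroup G) : Prop where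
  le : A ≤ H
  mem : ∀ a ∈ A, a = 1 ∨ a ∈ D
  max : ∀ d ∈ D, d ∈ H → d ∈ C[A] → d ∈ A

/-- `K0` is a perfect subgroup covering `K / O(K)` -/
structure Cov (K0 K : Subgroup G) : Prop where
  le : K0 ≤ K
  perf : ⁅K0, K0⁆ = K0
  cov : K ≤ K0 ⊔ Od[K]

/-- `T` is a Sylow `2`-subgroup of `L` whose involutions are the nonidentity elements of `Z`,
permuted transitively by `N_L(T)`. -/
structure TZ (L T Z : Subgroup G) : Prop where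
  syl : Syl 2 L T
  memZ : ∀ x, x ∈ Z ↔ x ∈ T ∧ x * x = 1
  four : 4 ≤ ♯Z
  trans : ∀ x ∈ Z, x ≠ 1 → ∀ y ∈ Z, y ≠ 1 → ∃ k ∈ L, k ∈ N[T] ∧ y = k * x * k⁻¹

/-- Bender groups -/
structure Ty1 (L T Z : Subgroup G) : Prop where
  ti : ∀ g ∈ L, T ⊓ cj g T ≠ ⊥ → g ∈ N[T]
  bru : ∀ g ∈ L, g ∉ N[T] → ∀ g' ∈ L, g' ∉ N[T] → ∃ f ∈ T, cj g' T = cj f (cj g T)
  u34 : ♯Z = 4 → T ≠ Z → ♯T = 64 ∧ (∀ x ∈ T, x * x ∈ Z) ∧
    ∃ v ∈ L, v ∈ N[T] ∧ v ∈ C[Z] ∧ orderOf v = 5 ∧ ∀ x ∈ T, v * x * v⁻¹ * x⁻¹ ∈ Z → x ∈ Z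

/-- elementary abelian Sylow `2`-subgroup, not strongly embedded -/
structure Ty2 (L T Z : Subgroup G) : Prop where
  eq : T = Z
  gen : ∀ M : Subgroup G, L ⊓ N[T] ≤ M → (∀ a ∈ T, a ≠ 1 → L ⊓ C{a} ≤ M) → L ≤ M

/-- the conclusion of the structure theorem for a simple group `L` -/
def TypeG (L : Subgroup G) : Prop := ∃ T Z, TZ L T Z ∧ (Ty1 L T Z ∨ Ty2 L T Z)

/-- the induction hypothesis -/
def IH (n : ℕ) : Prop :=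
  ∀ (X : Type u) [Group X] [Finite X], Nat.card X < n → IsSimpleGroup X → ¬ IsMulCommutative X →
    ∀ D : Set X, SC D → D.Nonempty → TypeG (⊤ : Subgroup X)

/-- `B` is cocyclic in `A` -/
def Cocyc (B A : Subgroup G) : Prop := B ≤ A ∧ ∃ a ∈ A, A ≤ B ⊔ zpowers a

/-- The data of the linear algebra lemma: `M` acts irreducibly on the elementary abelian `A`,
`U ≤ C_M(B)` is transitive on the nonidentity elements of `A / B`. -/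
structure Trs (M A B U : Subgroup G) : Prop where
  le : B ≤ A
  four : 4 ≤ B.relIndex A
  leM : U ≤ M
  cent : U ≤ C[B]
  trans : ∀ x ∈ A, x ∉ B → ∀ y ∈ A, y ∉ B → ∃ u ∈ U, OddE u ∧ u * x * u⁻¹ * y ∈ B
  two : ∀ u ∈ U, TwoE u → ⁅A, zpowers u⁆ ≤ B

/-- standing hypotheses for the local analysis of `H` -/
structure Ctx (D : Set G) (H A : Subgroup G) : Prop where
  sc : SC D
  ih : IH.{u} (♯H + 1)
  max : MaxD D H A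

/-- `2`-subgroups centralising `A` induce inner automorphisms from `A` on `K / O(K)` -/
def Flat (A K : Subgroup G) : Prop := ∀ P, TwoG P → P ≤ N[K] ⊓ C[A] → P ≤ A ⊔ Ck K

/-- centralisers of involutions in a Bender piece -/
def Loc1 (D : Set G) (A K : Subgroup G) : Prop :=
  ∀ a ∈ A, a ∉ Ck K → Og D (N[K] ⊓ C{a}) ≤ A ⊔ Ck K

/-- generation of a piece of the second type -/
def Gen2 (D : Set G) (A K : Subgroup G) : Prop :=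
  ∀ K0, Cov K0 K → A ≤ N[K0] → ∀ M : Subgroup G,
    (∀ a ∈ A, a ∉ Ck K → Og D (K0 ⊓ C{a}) ≤ M) → K ≤ M ⊔ Ck K

/-- the minimal counterexample -/
structure MC (D : Set G) (A : Subgroup G) : Prop where
  simple : IsSimpleGroup G
  nab : ¬ IsMulCommutative G
  sc : SC D
  ih : IH.{u} (Nat.card G)
  max : MaxD D ⊤ A
  ne : A ≠ ⊥
  irr : ∀ X ≤ A, N[A] ≤ N[X] → X = ⊥ ∨ X = A
  gen : ∀ M : Subgroup G, (∀ a ∈ A, a ≠ 1 → C{a} ≤ M) → M = ⊤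

/-- the configuration `|A| = 4`: `𝒮` is a set of involutions `e` whose centralisers have a piece
`L` of the second type, `ρ e = Ck L`. -/
structure R2 (D : Set G) (A S : Subgroup G) (𝒮 : Set G) (ρ : G → Subgroup G) : Prop where
  sc : SC D
  max : MaxD D ⊤ A
  card : ♯A = 4
  syl : Syl 2 ⊤ S
  le : A ≤ S
  cent : S ≤ C[A]
  noidx : ∀ L : Subgroup G, L.index ≠ 2
  ca : ∀ a ∈ A, a ≠ 1 → C{a} ≤ Od[C{a}] ⊔ C[A]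
  inv : ∀ e ∈ 𝒮, e * e = 1 ∧ e ∈ C[A] ∧ e ∉ A ∧ e ∈ ρ e
  conj : ∀ e ∈ 𝒮, ∀ n ∈ N[A], n * e * n⁻¹ ∈ 𝒮 ∧ ρ (n * e * n⁻¹) = cj n (ρ e)
  disj : ∀ e ∈ 𝒮, A ⊓ ρ e = ⊥
  split : ∀ e ∈ 𝒮, ∀ P, TwoG P → A ≤ P → P ≤ C{e} → P ≤ A ⊔ (P ⊓ ρ e)
  exk : ∀ e ∈ 𝒮, ∀ P, TwoG P → P ≤ C{e} ⊓ C[A] ⊓ ρ e → ∃ k ∈ N[A], k ∉ C[A] ∧ k ∈ C[P]
  pump : ∀ e ∈ 𝒮, ∀ x ∈ C{e} ⊓ C[A] ⊓ ρ e, x ≠ 1 → x * x = 1 →
    x ∈ 𝒮 ∧ ∀ P, TwoG P → P ≤ C{e} ⊓ C{x} ⊓ C[A] → P ⊓ ρ e ≤ ρ x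
  coset : ∀ z ∈ C[A], z ∉ A → z * z = 1 → ∃ a ∈ A, z * a ∈ 𝒮
  perf : ∀ e ∈ 𝒮, ⁅Og D C{e}, Og D C{e}⁆ = Og D C{e} ∧ Syl 2 (Og D C{e}) A
  nosyl : ∀ e ∈ 𝒮, ∀ P, Syl 2 ⊤ P → ¬ P ≤ C{e}

/-- the configuration `|A| = 8` with pieces of type `U₃(4)`, read modulo `O(C(A))` -/
structure E8 (M A : Subgroup G) (T V Z : G → Subgroup G) : Prop where
  ea : EA A
  card : ♯A = 8
  le : A ≤ M
  norm : M ≤ N[A]
  trans : ∀ x ∈ A, x ≠ 1 → ∀ y ∈ A, y ≠ 1 → ∃ g ∈ M, y = g * x * g⁻¹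
  equiv : ∀ a ∈ A, a ≠ 1 → ∀ g ∈ M, T (g * a * g⁻¹) = cj g (T a) ∧ V (g * a * g⁻¹) = cj g (V a) ∧
    Z (g * a * g⁻¹) = cj g (Z a)
  leV : ∀ a ∈ A, a ≠ 1 → V a ≤ M ⊓ C{a}
  syl : ∀ a ∈ A, a ≠ 1 → Syl 2 (V a ⊓ C[A]) (T a)
  leZ : ∀ a ∈ A, a ≠ 1 → Z a ≤ M ⊓ C[A] ⊓ C[V a]
  memZ : ∀ a ∈ A, a ≠ 1 → a ∈ Z a
  idx : ∀ a ∈ A, a ≠ 1 → (A ⊔ Z a).relIndex (T a) = 16
  sq : ∀ a ∈ A, a ≠ 1 → ∀ x ∈ T a, x * x ∈ A ⊔ Z a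
  nsq : ∀ a ∈ A, a ≠ 1 → ∀ x ∈ T a, x * x ∈ Z a → x ∈ A ⊔ Z a
  exv : ∀ a ∈ A, a ≠ 1 → ∃ v ∈ V a ⊓ C[A],
    (∀ x ∈ T a, v ^ 5 * x * (v ^ 5)⁻¹ * x⁻¹ ∈ A ⊔ Z a) ∧
    ∀ x ∈ T a, v * x * v⁻¹ * x⁻¹ ∈ A ⊔ Z a → x ∈ A ⊔ Z a
  exk : ∀ a ∈ A, a ≠ 1 → ∀ y ∈ A, y ∉ Z a → ∃ k ∈ V a, k * y ≠ y * k

end Gold
end H26
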