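import Mathlib
import Cfsg.Agent.H26.GDefs
import Cfsg.Agent.H8.SuzWrap

/-! GOLD: the rank one set-up of Suzuki's theorem gives the local data `TZ`, `Ty1`. -/

set_option autoImplicit false
set_option linter.unusedSectionVars false
set_option linter.unusedVariables false

namespace H26
namespace Gold

open Cfsg H24 Subgroup H8.Suz MulAction

universe u

variable {G : Type u} [Group G] [Finite G] {Ω : Type*} [MulAction G Ω] {a : Ω} {t : G}
  {Q : Subgroup G} {s r : G}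

/-- a fixed point free automorphism of order three -/
theorem comm_of_fpf3 {Q : Subgroup G} {k : G} (hk : ∀ x ∈ Q, k⁻¹ * x * k ∈ Q) (h3 : k * k * k = 1)
    (hf : ∀ x ∈ Q, k * x = x * k → x = 1) {x : G} (hx : x ∈ Q) :
    x * (k⁻¹ * x * k) = (k⁻¹ * x * k) * x := by
  have key : ∀ x ∈ Q, x * (k⁻¹ * x * k) * (k * x * k⁻¹) = 1 := by
    intro x hx
    let f : Q → Q := fun y => ⟨(y : G)⁻¹ * (k⁻¹ * y * k), Q.mul_mem (Q.inv_mem y.2) (hk _ y.2)⟩
    have hinj : Function.Injective f := by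
      intro y z e
      have e' : (y : G)⁻¹ * (k⁻¹ * y * k) = (z : G)⁻¹ * (k⁻¹ * z * k) := congrArg Subtype.val e
      have h1 : (z : G) * (y : G)⁻¹ = 1 := by
        refine hf _ (Q.mul_mem z.2 (Q.inv_mem y.2)) ?_
        calc k * ((z : G) * (y : G)⁻¹) = k * z * ((y : G)⁻¹ * (k⁻¹ * y * k)) * (k⁻¹ * (y : G)⁻¹ * k) := by
              group
          _ = k * z * ((z : G)⁻¹ * (k⁻¹ * z * k)) * (k⁻¹ * (y : G)⁻¹ * k) := by rw [e']
          _ = _ := by group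
      exact Subtype.ext (mul_inv_eq_one.mp h1).symm
    obtain ⟨y, hy⟩ := (Finite.injective_iff_surjective.mp hinj) ⟨x, hx⟩
    have hy' : x = (y : G)⁻¹ * (k⁻¹ * y * k) := (congrArg Subtype.val hy).symm
    calc x * (k⁻¹ * x * k) * (k * x * k⁻¹)
        = (y : G)⁻¹ * (k⁻¹ * k⁻¹) * y * (k * k * k) * (y : G)⁻¹ * k⁻¹ * y := by
          rw [hy']; group
      _ = (y : G)⁻¹ * (k * k * k)⁻¹ * y := by
          conv_lhs => rw [h3]
          group
      _ = 1 := by rw [h3]; group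
  have h1 := key x hx
  have h2 := key x⁻¹ (Q.inv_mem hx)
  have h4 : x * (k⁻¹ * x * k) = (k * x * k⁻¹)⁻¹ := eq_inv_of_mul_eq_one_left h1
  have h5 : (k⁻¹ * x * k) * x = (k * x * k⁻¹)⁻¹ := by
    calc (k⁻¹ * x * k) * x = (k * x * k⁻¹)⁻¹ * (x⁻¹ * (k⁻¹ * x⁻¹ * k) * (k * x⁻¹ * k⁻¹))⁻¹ := by group
      _ = _ := by rw [h2]; group
  rw [h4, h5]

theorem N_eq_stab (hG : Hyp G Ω a t Q s r) : N[Q] = stabilizer G a :=
  (H21.RankOne.s1118 hG.setup).2.1

theorem tz_of_hyp (hG : Hyp G Ω a t Q s r) : TZ ⊤ Q (Q0 Q) := by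
  refine ⟨Syl.mk' Nat.prime_two le_top (isPi_of_isPGroup Nat.prime_two hG.struct'.two) ?_,
    fun x => hG.mem_Q0, hG.four_le_card_Q0, fun x hx hx1 y hy hy1 => ?_⟩
  · rw [relIndex_top_right, ← even_iff_two_dvd, Nat.not_even_iff_odd]
    exact H21.RankOne.odd_index_Q hG.setup
  · obtain ⟨k, hk, rfl⟩ := hG.exists_K_conj_s hx hx1
    obtain ⟨l, hl, rfl⟩ := hG.exists_K_conj_s hy hy1
    refine ⟨l⁻¹ * k, mem_top _, ?_, by group⟩
    rw [N_eq_stab hG]
    exact mul_mem (inv_mem (KK_le hl).1) (KK_le hk).1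

theorem not_sq_four (hG : Hyp G Ω a t Q s r) (h4 : ♯(Q0 Q) = 4) (hc : ♯Q = ♯(Q0 Q) ^ 2) :
    ∀ x ∈ Q, ∀ y ∈ Q, x * y = y * x := by
  intro x hx y hy
  by_cases hx0 : x ∈ Q0 Q
  · exact hG.Q0_central hx0 hy
  by_cases hy0 : y ∈ Q0 Q
  · exact (hG.Q0_central hy0 hx).symm
  have hKQ : ∀ k ∈ KK a t, ∀ x ∈ Q, k⁻¹ * x * k ∈ Q := fun k hk x hx => hG.conj_Q (KK_le hk) hx
  obtain ⟨k, hk, z, hz, rfl⟩ := hG.exists_K_conj_of_sq le_rfl Q0_le hKQ hc hx hx0 hy hy0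
  have hxz : x * z ∈ Q := Q.mul_mem hx (Q0_le hz)
  have hzz : z * z = 1 := (hG.mem_Q0.mp hz).2
  have key : x * z * (k⁻¹ * (x * z) * k) = (k⁻¹ * (x * z) * k) * (x * z) := by
    by_cases hk1 : k = 1
    · simp [hk1]
    · have hK : ♯(KK a t) = 3 := by have := hG.card_KK; omega
      have h3 : k ^ 3 = 1 := by
        have := pow_card_eq_one' (G := KK a t) (x := ⟨k, hk⟩)
        rw [hK] at this
        exact congrArg Subtype.val this
      exact comm_of_fpf3 (hKQ k hk) (by rw [← h3, pow_succ, pow_two])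
        (fun y hy e => hG.K_fpf hk hk1 hy e) hxz
  have hc1 := hG.Q0_central hz hy
  calc x * (k⁻¹ * (x * z) * k) = x * (z * z) * (k⁻¹ * (x * z) * k) := by rw [hzz, mul_one]
    _ = x * z * (z * (k⁻¹ * (x * z) * k)) := by simp only [mul_assoc]
    _ = x * z * (k⁻¹ * (x * z) * k) * z := by rw [hc1]; simp only [mul_assoc]
    _ = (k⁻¹ * (x * z) * k) * x * (z * z) := by rw [key]; simp only [mul_assoc]
    _ = _ := by rw [hzz, mul_one]

theorem ty1_of_hyp (hG : Hyp G Ω a t Q s r) : Ty1 ⊤ Q (Q0 Q) := by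
  have hN := N_eq_stab hG
  refine ⟨fun g _ h => ?_, fun g _ hg g' _ hg' => ?_, fun h4 hne => ?_⟩
  · rw [hN]
    by_contra hg
    apply h
    rw [eq_bot_iff]
    intro x hx
    have h1 : (g⁻¹ * x * g) • a = a := H21.RankOne.Q_fix hG.setup (mem_cj.mp hx.2)
    refine H21.RankOne.eq_one_of_mem_Q_of_fix hG.setup hx.1 (c := g • a) hg ?_
    rw [mul_smul, mul_smul, inv_smul_eq_iff] at h1
    exact h1
  · rw [hN] at hg hg'
    obtain ⟨f, hf, e⟩ := H21.RankOne.exists_Q_smul hG.setup (b := g • a) (c := g' • a) hg hg'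
    refine ⟨f, hf, ?_⟩
    rw [← cj_mul, cj_eq_cj_iff, hN, mem_stabilizer_iff, mul_smul, ← e, ← mul_smul f, inv_smul_smul]
  · rcases hG.cases with h | ⟨⟨x, hx, y, hy, hxy⟩, hc⟩ | ⟨hC, -⟩
    · exact absurd (le_antisymm (fun x hx => hG.mem_Q0.mpr ⟨hx, h x hx⟩) Q0_le) hne
    · exact absurd (not_sq_four hG h4 hc x hx y hy) hxy
    · have hKQ : ∀ k ∈ KK a t, ∀ x ∈ Q, k⁻¹ * x * k ∈ Q := fun k hk x hx => hG.conj_Q (KK_le hk) hx
      refine ⟨by rw [hC.card, h4]; rfl, (hG.higman le_rfl Q0_le hC.two hKQ hC.nonab).1, ?_⟩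
      obtain ⟨⟨v, hv⟩, hv1⟩ := (Subgroup.ne_bot_iff_exists_ne_one).mp hC.W_ne
      have hv1' : v ≠ 1 := fun e => hv1 (Subtype.ext e)
      have h5 : ♯(WW a t Q) ∣ 5 := by have := hG.DD_inf_LL.2.2.1; rwa [h4] at this
      have : Fact (Nat.Prime 5) := ⟨by norm_num⟩
      have hv5 : v ^ 5 = 1 := by
        have := orderOf_dvd_iff_pow_eq_one.mp
          ((orderOf_dvd_natCard (G := WW a t Q) ⟨v, hv⟩).trans h5)
        exact congrArg Subtype.val this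
      refine ⟨v, mem_top _, by rw [hN]; exact (WW_le hv).1, hv.2, orderOf_eq_prime hv5 hv1',
        fun x hx e => ?_⟩
      have := hG.W_fpf hC (inv_mem hv) (inv_ne_one.mpr hv1') (Q.inv_mem hx) (by
        have := (Q0 Q).inv_mem e
        simpa only [mul_inv_rev, inv_inv, mul_assoc] using this)
      exact (Q0 Q).inv_mem_iff.mp this

theorem ty1_of_setup [IsSimpleGroup G] (hS : IsRankOneSetup G Ω a t Q) :
    ∃ T Z : Subgroup G, TZ ⊤ T Z ∧ Ty1 ⊤ T Z := by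
  obtain ⟨s, r, hG⟩ := exists_hyp_of_simple hS
  exact ⟨Q, Q0 Q, tz_of_hyp hG, ty1_of_hyp hG⟩

end Gold
end H26
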