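import Mathlib
import Cfsg.Agent.H3.B71Red
import Cfsg.Agent.H26.GBen0
import Cfsg.Agent.H2.Quaternion
import Cfsg.Agent.H6.TI

/-! Consequences of Bender's theorem on strongly embedded subgroups. -/

set_option autoImplicit false
set_option linter.unusedSectionVars false
set_option linter.unusedVariables false

namespace H26
namespace BR

open H24 Subgroup MulAction Cfsg H3.B71 H8.Suz

universe u

variable {G : Type u} [Group G] [Finite G] {H : Subgroup G}

omit [Finite G] in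
theorem fix_one {g : G} : g • ((1 : G) : G ⧸ H) = ((1 : G) : G ⧸ H) ↔ g ∈ H := by
  rw [← mem_stabilizer_iff, stabilizer_quotient]

omit [Finite G] in
theorem no_comm_of_not_rank2 (hr : ¬ Rank2 G) :
    ∀ u ∈ (⊤ : Subgroup G), ∀ v ∈ (⊤ : Subgroup G), H3.B71.Inv u → H3.B71.Inv v →
      u * v = v * u → u = v := fun u _ v _ hu hv hc => by
  by_contra e
  exact hr ⟨u, v, hu.1, hv.1, e, hu.2, hv.2, hc⟩

omit [Finite G] in
theorem exists_move (hH : H ≠ ⊤) :
    ∃ y ∈ (⊤ : Subgroup G), y • ((1 : G) : G ⧸ H) ≠ ((1 : G) : G ⧸ H) := by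
  by_contra e
  push Not at e
  exact hH (eq_top_iff.mpr fun g hg => fix_one.mp (e g hg))

theorem ls_top (hH : IsStronglyEmbedded H) (hr : Rank2 G) :
    ∃ Q, LS (⊤ : Subgroup G) ((1 : G) : G ⧸ H) Q :=
  ls_of_se (se_cosets hH) (four_of_rank2 (se_cosets hH) hr _) (exists_move hH.1)

theorem sup_eq_top_of_not_rank2 (hH : IsStronglyEmbedded H) (hr : ¬ Rank2 G) :
    O[{2}ᶜ, (⊤ : Subgroup G)] ⊔ H = ⊤ := by
  have h := se_cosets hH
  obtain ⟨z, hz, hza⟩ := h.pt ((1 : G) : G ⧸ H)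
  refine eq_top_iff.mpr fun g _ => ?_
  by_cases hg : g ∈ H
  · exact mem_sup_right hg
  obtain ⟨t, -, -, e, hY⟩ := h.exists_swap hz (hz.conj g) hza (conj_fix hza)
    (fun e => hg (fix_one.mp e.symm))
  have h1 := zstar_sub (no_comm_of_not_rank2 hr) hz (mem_top _) (mem_top g)
  have hz' : z ∈ O[{2}ᶜ, (⊤ : Subgroup G)] ⊔ H := mem_sup_right (fix_one.mp hza)
  have ht : t ∈ O[{2}ᶜ, (⊤ : Subgroup G)] ⊔ H := hY _ hz' (by
    have := mul_mem (inv_mem hz') (mem_sup_left (T := H) h1)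
    rw [hz.inv] at this
    simpa only [← mul_assoc, hz.2, one_mul] using this)
  rw [← mul_inv_cancel_left t g]
  exact mul_mem ht (mem_sup_right (fix_one.mp (by rw [mul_smul, ← e, inv_smul_smul])))

theorem s1220 (hH : IsStronglyEmbedded H) :
    (∀ g₁ g₂ : G, g₁ ∉ H → g₂ ∉ H → ∃ h ∈ H, g₂⁻¹ * (h * g₁) ∈ H) ∨
    ((∀ S : Sylow 2 G, IsCyclic S ∨
      ∃ m : ℕ, 1 ≤ m ∧ Nonempty ((S : Subgroup G) ≃* QuaternionGroup (2 ^ m))) ∧
      oddCore G ⊔ H = ⊤) := by
  by_cases hr : Rank2 G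
  · obtain ⟨Q, hQ⟩ := ls_top hH hr
    refine Or.inl fun g₁ g₂ h1 h2 => ?_
    obtain ⟨x, hx, e⟩ := hQ.trans g₁ (mem_top _) g₂ (mem_top _) (mt fix_one.mp h1) (mt fix_one.mp h2)
    exact ⟨x, fix_one.mp (hQ.fix x hx), fix_one.mp (by rw [mul_smul, mul_smul, e, inv_smul_smul])⟩
  · refine Or.inr ⟨fun S => ?_, ?_⟩
    · have hu : H2.UniqueOrderP 2 S := fun x y hx hx2 hy2 => by
        by_cases hy : y = 1
        · rw [hy]; exact one_mem _
        have hp : IsPGroup 2 S := S.isPGroup'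
        rw [pow_two] at hx2 hy2
        obtain ⟨z, hz, hzp⟩ : ∃ z ∈ center S, orderOf z = 2 := by
          have : Nontrivial S := ⟨x, 1, hx⟩
          obtain ⟨z, hz⟩ := exists_prime_orderOf_dvd_card' (G := center S) 2
            (((hp.to_subgroup _).card_eq_or_dvd).resolve_left (mt card_eq_one.mp hp.bot_lt_center.ne'))
          exact ⟨z, z.2, (orderOf_coe z).trans hz⟩
        have hzi : H3.B71.Inv (z : G) := ⟨fun e => by
          rw [show z = 1 from Subtype.ext e, orderOf_one] at hzp; omega, by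
          have := pow_orderOf_eq_one z
          rw [hzp, pow_two] at this
          exact congrArg Subtype.val this⟩
        have key : ∀ w : S, w ≠ 1 → w * w = 1 → (w : G) = z := fun w hw hw2 =>
          no_comm_of_not_rank2 hr _ (mem_top _) _ (mem_top _)
            ⟨fun e => hw (Subtype.ext e), congrArg Subtype.val hw2⟩ hzi
            (congrArg Subtype.val (mem_center_iff.mp hz w))
        rw [show y = x from Subtype.ext ((key y hy hy2).trans (key x hx hx2).symm)]
        exact mem_zpowers x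
      rcases hu.isCyclic_or_quaternion S.isPGroup' with h | ⟨-, n, h⟩
      · exact Or.inl h
      · exact Or.inr ⟨n + 1, by omega, h⟩
    · rw [← sup_eq_top_of_not_rank2 hH hr, pcore_compl_singleton_top Nat.prime_two]

theorem s1221 (hH : IsStronglyEmbedded H) : (oddCore H).map H.subtype ≤ oddCore G := by
  rw [← pcore_compl_singleton Nat.prime_two, oddCore, ← pcore_compl_singleton_top Nat.prime_two]
  have h := se_cosets hH
  by_cases hr : Rank2 G
  · obtain ⟨Q, hQ⟩ := ls_top hH hr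
    refine (LS.le_Ker h hQ (exists_move hH.1) (odd_O H) le_top
      (fun x hx => fix_one.mpr (pcore_le _ _ hx))
      fun x hx => (pcore_nml _ H).2 (fix_one.mp (hQ.fix x hx))).trans ?_
    exact pcore_max (odd_iff_isPi.mp (odd_Ker h (exists_move hH.1))) (Ker_nml _ _)
  · have h1 := (pcore_nml ({2}ᶜ : Set ℕ) (⊤ : Subgroup G)).2
    refine le_sup_right.trans (pcore_max' (K := O[{2}ᶜ, (⊤ : Subgroup G)] ⊔ O[{2}ᶜ, H])
      ((odd_iff_isPi.mp (odd_O _)).sup (odd_iff_isPi.mp (odd_O _)) (le_top.trans h1)) le_top ?_)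
    nth_rewrite 1 [← sup_eq_top_of_not_rank2 hH hr]
    exact sup_le (le_sup_left.trans le_normalizer) (norm_sup (le_top.trans h1) (pcore_nml _ H).2)

theorem s1223 (hH : IsStronglyEmbedded H) (hcore : H.normalCore = ⊥) {u : G} (hu : orderOf u = 2)
    (huH : u ∉ H) {j : G} (hj : j ∈ H ⊓ H.map (MulAut.conj u).toMonoidHom) (hj1 : j ≠ 1)
    (hinv : u * j * u⁻¹ = j⁻¹) : Odd (Nat.card (centralizer ({j} : Set G))) := by
  have h := se_cosets hH
  have hui : H3.B71.Inv u := ⟨fun e => by rw [e, orderOf_one] at hu; omega, by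
    rw [← pow_two, ← hu, pow_orderOf_eq_one]⟩
  have hjo : Odd (orderOf j) := odd_orderOf_of_mem (hH.2.2 u huH) hj
  have hjj : j * j ≠ 1 := fun e => hj1 (H21.eq_one_of_sq_of_odd hjo (pow_orderOf_eq_one _) e)
  by_cases hr : Rank2 G
  · have := nontrivial_cosets hH.1
    obtain ⟨t, Q, s, r, hG⟩ := bender h (fun g hg => by
      have : g ∈ H.normalCore := by
        rw [normalCore_eq_ker]; exact Equiv.ext hg
      rwa [hcore] at this) hr ((1 : G) : G ⧸ H)
    exact hG.odd_centralizer hui.1 hui.2 hjj (by rwa [hui.inv] at hinv)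
  · refine odd_of_no_inv fun v hv hvi => ?_
    have hc : j * v = v * j := mem_centralizer_iff.mp hv j rfl
    have ho : Odd (orderOf (u * v)) := odd_orderOf_of_mem (odd_O _)
      (mul_mem_O (no_comm_of_not_rank2 hr) hui (mem_top _) hvi (mem_top _))
    have e1 : (u * v) * j * (u * v)⁻¹ = j⁻¹ := by
      calc _ = u * (v * j) * v⁻¹ * u⁻¹ := by group
        _ = u * j * u⁻¹ := by rw [← hc]; group
        _ = _ := hinv
    have e2 := H21.eq_inv_of_odd_inverts ho (pow_orderOf_eq_one _) e1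
    exact hjj (by nth_rewrite 2 [e2]; simp)

theorem isBender_of_se [IsSimpleGroup G] (hH : IsStronglyEmbedded H) :
    IsBender G ∧ ∃ S : Sylow 2 G, H = normalizer ((S : Subgroup G) : Set G) := by
  obtain ⟨t, Q, s, r, hG⟩ := bender_simple hH
  obtain ⟨S, hS⟩ := (Gold.tz_of_hyp hG).syl.exists_sylow_top Nat.prime_two
  exact ⟨isBender_of_setup hG.setup, S, by rw [hS, Gold.N_eq_stab hG, stabilizer_quotient]⟩

/-- all involutions are conjugate -/
theorem conj_of_se (hH : IsStronglyEmbedded H) {u v : G} (hu : orderOf u = 2) (hv : orderOf v = 2) :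
    ∃ g, g * u * g⁻¹ = v := by
  have := nontrivial_cosets hH.1
  have aux : ∀ u : G, orderOf u = 2 → H3.B71.Inv u := fun u hu =>
    ⟨fun e => by rw [e, orderOf_one] at hu; omega, by rw [← pow_two, ← hu, pow_orderOf_eq_one]⟩
  exact conj_inv (se_cosets hH) (aux u hu) (aux v hv)

theorem two_trans_conj [IsSimpleGroup G] (hH : IsStronglyEmbedded H) {a b c d : G}
    (h1 : cj a H ≠ cj b H) (h2 : cj c H ≠ cj d H) :
    ∃ g : G, cj g (cj a H) = cj c H ∧ cj g (cj b H) = cj d H := by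
  obtain ⟨t, Q, s, r, hG⟩ := bender_simple hH
  have aux : ∀ x y : G, (x : G ⧸ H) = y → cj x H = cj y H := fun x y e =>
    (cj_eq_cj_iff.mpr (le_normalizer (QuotientGroup.eq.mp e))).symm
  obtain ⟨g, e1, e2⟩ := H21.RankOne.two_trans hG.setup (mt (aux a b) h1) (mt (aux c d) h2)
  exact ⟨g, by rw [← cj_mul]; exact aux _ _ e1, by rw [← cj_mul]; exact aux _ _ e2⟩

end BR
end H26
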