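import Mathlib
import Cfsg.Agent.H26.GDefs
import Cfsg.Agent.H27.PF14
import Cfsg.Agent.H17.ZStar
import Cfsg.Agent.H6.Dihedral

/-! GOLD: basic facts about `SC`, `Og`, `MaxD`, `Ck`, `QS`, `Piece`, `Cov`. -/

set_option autoImplicit false
set_option linter.unusedSectionVars false
set_option linter.unusedVariables false

namespace H26
namespace Gold

open Cfsg H24 Subgroup
open scoped commutatorElement

universe u

variable {G : Type u} [Group G] [Finite G] {D : Set G} {A B H H' K K' K0 L M P S T V X Y Z : Subgroup G}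
  {a b d e g x y z : G}

/-! ### odd groups, `2`-groups -/

theorem oddG_iff : OddG X ↔ Odd ♯X := by
  rw [OddG, isPi_compl_iff Nat.prime_two, Nat.two_dvd_ne_zero, Nat.odd_iff]

theorem oddE_iff : OddE x ↔ Odd (orderOf x) := by
  rw [OddE, PiElt, piNat_compl_singleton Nat.prime_two, Nat.two_dvd_ne_zero, Nat.odd_iff]

theorem OddG.sol (h : OddG X) : Sol X := H27.Feit_Thompson X (oddG_iff.1 h)

theorem twoE_of_sq (h : x * x = 1) : TwoE x :=
  piElt_of_pow_eq_one (piNat_self Nat.prime_two) (by rwa [pow_two])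

theorem EA.two (h : EA A) : TwoG A := H25.Cfsg.IsElementaryAbelian.isPi h Nat.prime_two

theorem EA.abl (h : EA A) : Abl A := h.1

theorem EA.le_C (h : EA A) : A ≤ C[A] := h.abl.le_C

theorem EA.of_le (h : EA A) (hB : B ≤ A) : EA B := ⟨h.abl.of_le hB, fun b hb => h.2 b (hB hb)⟩

theorem EA.sq (h : EA A) (ha : a ∈ A) : a * a = 1 := by
  have := h.2 a ha; rwa [pow_two] at this

theorem EA.inv (h : EA A) (ha : a ∈ A) : a⁻¹ = a := H6.inv_eq_of_mul_self (h.sq ha)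

theorem EA.comm (h : EA A) (ha : a ∈ A) (hb : b ∈ A) : a * b = b * a := h.abl.comm ha hb

theorem ea_of_sq (h : ∀ a ∈ A, a * a = 1) : EA A := by
  refine ⟨H25.abl_iff.2 fun a ha b hb => ?_, fun a ha => by rw [pow_two, h a ha]⟩
  have h1 := H6.inv_eq_of_mul_self (h _ (A.mul_mem ha hb))
  rw [mul_inv_rev, H6.inv_eq_of_mul_self (h a ha), H6.inv_eq_of_mul_self (h b hb)] at h1
  exact h1.symm

theorem cop (hX : OddG X) (hP : TwoG P) : (♯X).Coprime ♯P := hX.coprime' hP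

theorem Od_odd (H : Subgroup G) : OddG Od[H] := pcore_pi _ H

theorem Od_sol (H : Subgroup G) : Sol Od[H] := (Od_odd H).sol

theorem eq_one_of_odd_sq (h : OddE x) (h2 : x * x = 1) : x = 1 := (twoE_of_sq h2).eq_one h

theorem TwoG.exists_inv (hP : TwoG P) (h : P ≠ ⊥) : ∃ x ∈ P, x ≠ 1 ∧ x * x = 1 := by
  obtain ⟨x, hx, ho⟩ := exists_orderOf_eq Nat.prime_two (hP.dvd_card h)
  exact ⟨x, hx, H6.ne_one_of_orderOf_two ho, H6.mul_self_of_orderOf_two ho⟩

theorem perfect_eq_bot (hp : ⁅K, K⁆ = K) (hs : Sol K) : K = ⊥ := by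
  by_contra h
  exact (hs.der1_lt h).ne hp

/-- a perfect subgroup lies in every normal subgroup with solvable quotient -/
theorem perfect_le_of_sol (hp : ⁅K, K⁆ = K) (hn : K ≤ N[M]) (hK : K ≤ X ⊔ M) (hX : X ≤ N[M])
    (hs : Sol X) : K ≤ M := by
  have h1 : quo K M ≤ quo X M := by
    rw [quo_le_quo_iff hn hX]; exact hK
  have h2 : ⁅quo K M, quo K M⁆ = quo K M := by rw [← quo_comm hn hn, hp]
  exact (quo_eq_bot hn).1 (perfect_eq_bot h2 ((hs.quo M).of_le h1))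

/-- `Z*`-theorem inside a subgroup, commuting form -/
theorem zstar_sub' (hz : z ∈ H) (h1 : z ≠ 1) (h2 : z * z = 1)
    (hiso : ∀ g ∈ H, z * (g * z * g⁻¹) = g * z * g⁻¹ * z → g * z * g⁻¹ = z) :
    ⁅zpowers z, H⁆ ≤ Od[H] := by
  have hI : IsIsolatedInvolution (⟨z, hz⟩ : H) := by
    refine ⟨?_, fun g hg => Subtype.ext (hiso g g.2 (congrArg Subtype.val hg))⟩
    rw [← orderOf_coe]; exact H6.orderOf_eq_two_of h2 h1
  have hn : H ≤ N[Od[H]] := (pcore_nml _ H).norm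
  refine ((le_centQ hn).1 (zpowers_le.2 ((mem_centQ hn).2 ⟨hn hz, fun u hu => ?_⟩))).2
  rw [pcore_compl_singleton Nat.prime_two]
  exact ⟨_, H17.zstar hI ⟨u, hu⟩, rfl⟩

/-- `Z*`-theorem inside a subgroup -/
theorem zstar_sub (hP : Syl 2 H P) (hz : z ∈ P) (h1 : z ≠ 1) (h2 : z * z = 1)
    (hiso : ∀ g ∈ H, g * z * g⁻¹ ∈ P → g * z * g⁻¹ = z) : ⁅zpowers z, H⁆ ≤ Od[H] := by
  refine zstar_sub' (hP.le hz) h1 h2 fun g hg hc => ?_
  have hw : g * z * g⁻¹ * (g * z * g⁻¹) = 1 := by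
    calc g * z * g⁻¹ * (g * z * g⁻¹) = g * (z * z) * g⁻¹ := by group
      _ = 1 := by rw [h2]; group
  have hcent : zpowers (g * z * g⁻¹) ≤ C[zpowers z] := by
    rw [C_zpowers, zpowers_le, mem_C1]; exact hc.symm
  have h2g : TwoG (zpowers z ⊔ zpowers (g * z * g⁻¹)) :=
    (twoE_of_sq h2).isPi.sup (twoE_of_sq hw).isPi (norm_of_cent hcent)
  have hH : zpowers z ⊔ zpowers (g * z * g⁻¹) ≤ H :=
    sup_le (zpowers_le.2 (hP.le hz)) (zpowers_le.2 (H.mul_mem (H.mul_mem hg (hP.le hz)) (H.inv_mem hg)))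
  obtain ⟨h, hh, hle⟩ := Sylow_Jsub Nat.prime_two hP h2g hH
  have e1 := hiso h hh (hle (conj_mem_cj h (mem_sup_left (mem_zpowers z))))
  have e2 := hiso (h * g) (H.mul_mem hh hg) (by
    have := hle (conj_mem_cj h (mem_sup_right (mem_zpowers (g * z * g⁻¹))))
    simpa [mul_assoc] using this)
  calc g * z * g⁻¹ = h⁻¹ * (h * g * z * (h * g)⁻¹) * h := by group
    _ = h⁻¹ * (h * z * h⁻¹) * h := by rw [e2, e1]
    _ = z := by group

/-! ### `SC` and `Og` -/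

theorem SC.inv (hD : SC D) (hd : d ∈ D) : d⁻¹ = d := H6.inv_eq_of_mul_self (hD.sq d hd)

theorem SC.orderOf (hD : SC D) (hd : d ∈ D) : orderOf d = 2 :=
  H6.orderOf_eq_two_of (hD.sq d hd) (hD.ne d hd)

theorem SC.two (hD : SC D) (hd : d ∈ D) : TwoE d := twoE_of_sq (hD.sq d hd)

theorem SC.conj' (hD : SC D) (hd : d ∈ D) (g : G) : g⁻¹ * d * g ∈ D := by
  simpa using hD.conj d hd g⁻¹

theorem SC.conj_iff (hD : SC D) : g * d * g⁻¹ ∈ D ↔ d ∈ D :=
  ⟨fun h => by simpa [mul_assoc] using hD.conj' h g, fun h => hD.conj d h g⟩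

theorem SC.comm (hD : SC D) (hd : d ∈ D) (he : e ∈ D) (h : TwoE (d * e)) : d * e = e * d := by
  have key : d * e * (d * e) = 1 := by
    rcases hD.mul d hd e he h with h1 | h1
    · rw [h1, one_mul]
    · exact hD.sq _ h1
  have := H6.inv_eq_of_mul_self key
  rw [mul_inv_rev, hD.inv hd, hD.inv he] at this
  exact this.symm

theorem SC.mul_of_comm (hD : SC D) (hd : d ∈ D) (he : e ∈ D) (h : d * e = e * d) :
    d * e = 1 ∨ d * e ∈ D := by
  exact hD.mul d hd e he ((hD.two hd).mul (hD.two he) h)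

/-- the product of two elements of `D` has odd order or twice odd order -/
theorem SC.even (hD : SC D) (hd : d ∈ D) (he : e ∈ D) (h : ¬ OddE (d * e)) :
    ∃ m, Odd m ∧ _root_.orderOf (d * e) = 2 * m ∧ (d * e) ^ m ∈ D ∧ (d * e) ^ m * d = d * (d * e) ^ m ∧
      (d * e) ^ m * e = e * (d * e) ^ m := by
  obtain ⟨k, m, hm, hk⟩ := Nat.exists_eq_two_pow_mul_odd (orderOf_pos (d * e)).ne'
  have hd2 := hD.sq d hd
  have he2 := hD.sq e he
  have hr : TwoE ((d * e) ^ m) := by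
    refine piElt_of_pow_eq_one (piNat_self_pow Nat.prime_two k) ?_
    rw [← pow_mul, mul_comm m, ← hk, pow_orderOf_eq_one]
  obtain ⟨j, hj⟩ := hm
  have hconj : (d * e) ^ m * e = (d * e) ^ j * d * ((d * e) ^ j)⁻¹ := by
    have h1 := H6.zpow_mul_left hd2 he2 (-(j : ℤ))
    simp only [neg_neg, zpow_natCast, zpow_neg] at h1
    calc (d * e) ^ m * e = (d * e) ^ j * ((d * e) ^ j * d) * (e * e) := by
          rw [hj, pow_succ, two_mul, pow_add]; simp only [mul_assoc]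
      _ = (d * e) ^ j * (d * ((d * e) ^ j)⁻¹) := by
        rw [he2, mul_one]; congr 1
        calc (d * e) ^ j * d = (d * e) ^ j * d * ((d * e) ^ j * ((d * e) ^ j)⁻¹) := by group
          _ = (d * e) ^ j * (d * (d * e) ^ j) * ((d * e) ^ j)⁻¹ := by group
          _ = d * ((d * e) ^ j)⁻¹ := by rw [← h1]; group
      _ = _ := by group
  have hd' : (d * e) ^ m * e ∈ D := hconj ▸ hD.conj d hd _
  have hre : (d * e) ^ m * e * e = (d * e) ^ m := by rw [mul_assoc, he2, mul_one]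
  have hr1 : (d * e) ^ m ≠ 1 := fun h1 => h (oddE_iff.2 (Odd.of_dvd_nat ⟨j, hj⟩
    (orderOf_dvd_of_pow_eq_one h1)))
  have hrD : (d * e) ^ m ∈ D := by
    have := hD.mul _ hd' e he (hre.symm ▸ hr)
    rw [hre] at this
    exact this.resolve_left hr1
  have hsq : (d * e) ^ (2 * m) = 1 := by rw [two_mul, pow_add]; exact hD.sq _ hrD
  have hord : _root_.orderOf (d * e) = 2 * m := by
    have h1 := orderOf_dvd_of_pow_eq_one hsq
    rw [hk] at h1 ⊢
    have hm0 : 0 < m := by omega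
    have h2 : 2 ^ k ∣ 2 ^ 1 := by simpa using Nat.dvd_of_mul_dvd_mul_right hm0 h1
    have h3 := (Nat.pow_dvd_pow_iff_le_right (by norm_num : 1 < 2)).1 h2
    interval_cases k
    · exact absurd (by rw [← pow_orderOf_eq_one (d * e), hk]; simp) hr1
    · rfl
  have hce : (d * e) ^ m * e = e * (d * e) ^ m := by
    have := hD.comm hd' he (hre.symm ▸ hr)
    rw [hre] at this
    calc (d * e) ^ m * e = e * ((d * e) ^ m * e) * e := by rw [← this]
      _ = e * (d * e) ^ m := by rw [mul_assoc, hre]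
  refine ⟨m, ⟨j, hj⟩, hord, hrD, ?_, hce⟩
  have h5 : (d * e) ^ m * (d * e) = d * e * (d * e) ^ m := (Commute.self_pow _ m).symm
  calc (d * e) ^ m * d = (d * e) ^ m * (d * e) * e := by rw [mul_assoc, mul_assoc, he2, mul_one]
    _ = d * (e * (d * e) ^ m * e) := by rw [h5]; group
    _ = d * (d * e) ^ m := by rw [← hce, mul_assoc, he2, mul_one]

theorem Og_le (D : Set G) (H : Subgroup G) : Og D H ≤ H := by
  exact (closure_le _).2 Set.inter_subset_right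

theorem mem_Og (hd : d ∈ D) (h : d ∈ H) : d ∈ Og D H := by
  exact subset_closure ⟨hd, h⟩

theorem Og_le_iff : Og D H ≤ M ↔ ∀ d ∈ D, d ∈ H → d ∈ M := by
  exact ⟨fun h d hd hH => h (mem_Og hd hH), fun h => (closure_le _).2 fun d hd => h d hd.1 hd.2⟩

theorem Og_mono (D : Set G) (h : H ≤ H') : Og D H ≤ Og D H' := by
  exact Og_le_iff.2 fun d hd hH => mem_Og hd (h hH)

theorem Og_Og (D : Set G) (H : Subgroup G) : Og D (Og D H) = Og D H := by
  exact le_antisymm (Og_le _ _) (Og_le_iff.2 fun d hd hH => mem_Og hd (mem_Og hd hH))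

theorem SC.cj_Og (hD : SC D) (g : G) (H : Subgroup G) : cj g (Og D H) = Og D (cj g H) := by
  have key : ∀ (g : G) (H : Subgroup G), cj g (Og D H) ≤ Og D (cj g H) := fun g H =>
    cj_le_iff.2 (Og_le_iff.2 fun d hd hH => mem_cj.2 (by
      simpa using mem_Og (hD.conj d hd g) (conj_mem_cj g hH)))
  refine le_antisymm (key g H) (le_cj_iff.2 ?_)
  simpa using key g⁻¹ (cj g H)

theorem SC.norm_Og (hD : SC D) (h : X ≤ N[H]) : X ≤ N[Og D H] := by
  exact norm_of_cj_eq fun g hg => by rw [hD.cj_Og, cj_of_mem_N (h hg)]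

theorem SC.Og_nml (hD : SC D) (H : Subgroup G) : Og D H ⊴ H := by
  exact ⟨Og_le D H, hD.norm_Og (norm_self H)⟩

theorem SC.mem_Og_two (hD : SC D) (hP : TwoG P) : x ∈ Og D P ↔ x ∈ P ∧ (x = 1 ∨ x ∈ D) := by
  refine ⟨fun hx => ⟨Og_le D P hx, ?_⟩, fun ⟨h1, h2⟩ => h2.elim (fun h => h ▸ one_mem _) (mem_Og · h1)⟩
  induction hx using closure_induction with
  | mem x hx => exact Or.inr hx.1
  | one => exact Or.inl rfl
  | mul x y hx hy ihx ihy =>
    rcases ihx with rfl | ihx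
    · simpa using ihy
    rcases ihy with rfl | ihy
    · simpa using Or.inr ihx
    exact hD.mul x ihx y ihy (hP.piElt (P.mul_mem (Og_le D P hx) (Og_le D P hy)))
  | inv x hx ih =>
    rcases ih with rfl | ih
    · simp
    · exact Or.inr (by rwa [hD.inv ih])

theorem SC.ea_Og (hD : SC D) (hP : TwoG P) : EA (Og D P) := by
  refine ea_of_sq fun a ha => ?_
  rcases ((hD.mem_Og_two hP).1 ha).2 with rfl | h
  · simp
  · exact hD.sq a h

/-- the image of `D` under a homomorphism -/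
def imD {G' : Type u} [Group G'] (D : Set G) {H : Subgroup G} (f : H →* G') : Set G' :=
  {y | y ≠ 1 ∧ ∃ d ∈ D, d ∈ H ∧ ap f d = y}

theorem SC.imD (hD : SC D) {G' : Type u} [Group G'] [Finite G'] {f : H →* G'}
    (hf : Function.Surjective f) : SC (imD D f) := by
  refine ⟨fun d hd => hd.1, ?_, ?_, ?_⟩
  · rintro _ ⟨-, d, hd, hH, rfl⟩
    rw [← ap_mul f hH hH, hD.sq d hd, ap_one]
  · rintro _ ⟨h1, d, hd, hH, rfl⟩ g
    obtain ⟨g, rfl⟩ := hf g
    refine ⟨by rwa [Ne, conj_eq_one_iff'], _, hD.conj d hd g,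
      H.mul_mem (H.mul_mem g.2 hH) (H.inv_mem g.2), ?_⟩
    rw [ap_conj f g.2 hH, ap_coe]
  · rintro _ ⟨-, d, hd, hH, rfl⟩ _ ⟨-, e, he, heH, rfl⟩ h2
    have hde := H.mul_mem hH heH
    rw [← ap_mul f hH heH] at h2 ⊢
    by_cases ho : OddE (d * e)
    · exact Or.inl (h2.eq_one (ho.ap f hde))
    obtain ⟨m, ⟨j, hj⟩, hord, hmD, -, -⟩ := hD.even hd he ho
    have hsq : ap f (d * e) ^ 2 = 1 := by
      refine (h2.pow 2).eq_one (piElt_of_pow_eq_one (n := m) ?_ ?_)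
      · rw [piNat_compl_singleton Nat.prime_two]; omega
      · rw [← pow_mul, ← hord, ← ap_pow f hde, pow_orderOf_eq_one, ap_one]
    by_cases h1 : ap f (d * e) = 1
    · exact Or.inl h1
    · refine Or.inr ⟨h1, _, hmD, H.pow_mem hde m, ?_⟩
      rw [ap_pow f hde, hj, pow_succ, pow_mul, hsq, one_pow, one_mul]

theorem SC.sub (hD : SC D) (H : Subgroup G) : SC {x : H | (x : G) ∈ D} := by
  refine ⟨fun d hd h => hD.ne d hd (congrArg Subtype.val h), fun d hd => Subtype.ext (hD.sq d hd),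
    fun d hd g => hD.conj d hd g, fun d hd e he h => ?_⟩
  exact (hD.mul d hd e he (h.map H.subtype)).imp (fun h => Subtype.ext h) id

/-! ### `MaxD` -/

theorem MaxD.ea (hD : SC D) (h : MaxD D H A) : EA A := by
  refine ea_of_sq fun a ha => ?_
  rcases h.mem a ha with rfl | h
  · simp
  · exact hD.sq a h

theorem MaxD.two (hD : SC D) (h : MaxD D H A) : TwoG A := (h.ea hD).two

theorem MaxD.memD (h : MaxD D H A) (ha : a ∈ A) (h1 : a ≠ 1) : a ∈ D := (h.mem a ha).resolve_left h1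

theorem MaxD.mono (h : MaxD D H A) (h1 : A ≤ H') (h2 : H' ≤ H) : MaxD D H' A :=
  ⟨h1, h.mem, fun d hd hH => h.max d hd (h2 hH)⟩

theorem MaxD.le_Og (h : MaxD D H A) : A ≤ Og D H := by
  intro a ha
  rcases h.mem a ha with rfl | h1
  · exact one_mem _
  · exact mem_Og h1 (h.le ha)

theorem MaxD.og (h : MaxD D H A) : MaxD D (Og D H) A := h.mono h.le_Og (Og_le D H)

theorem MaxD.cj (hD : SC D) (h : MaxD D H A) (g : G) : MaxD D (cj g H) (cj g A) := by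
  refine ⟨cj_mono g h.le, fun a ha => ?_, fun d hd hH hC => ?_⟩
  · obtain ⟨b, hb, rfl⟩ := mem_cj'.1 ha
    exact (h.mem b hb).imp (fun h => by simp [h]) (hD.conj b · g)
  · rw [← cj_C] at hC
    exact mem_cj.2 (h.max _ (hD.conj' hd g) (mem_cj.1 hH) (mem_cj.1 hC))

/-- `D`-elements of a `2`-group normalising `A` lie in `A` -/
theorem MaxD.mem_of_two (hD : SC D) (h : MaxD D H A) (hP : TwoG P) (hA : A ≤ P) (hPH : P ≤ H)
    (hd : d ∈ D) (hdP : d ∈ P) : d ∈ A := by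
  refine h.max d hd (hPH hdP) (mem_C.2 fun a ha => ?_)
  exact (hD.ea_Og hP).comm ((hD.mem_Og_two hP).2 ⟨hA ha, h.mem a ha⟩) (mem_Og hd hdP)

theorem MaxD.Og_eq (hD : SC D) (h : MaxD D H A) (hP : TwoG P) (hA : A ≤ P) (hPH : P ≤ H) :
    Og D P = A := by
  exact le_antisymm (Og_le_iff.2 fun d hd hdP => h.mem_of_two hD hP hA hPH hd hdP)
    (h.mono hA hPH).le_Og

theorem MaxD.norm_of_two (hD : SC D) (h : MaxD D H A) (hP : TwoG P) (hA : A ≤ P) (hPH : P ≤ H) :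
    P ≤ N[A] := by
  rw [← h.Og_eq hD hP hA hPH]; exact (hD.Og_nml P).norm

theorem MaxD.mem_of_norm (hD : SC D) (h : MaxD D H A) (hd : d ∈ D) (hH : d ∈ H) (hn : d ∈ N[A]) :
    d ∈ A := by
  exact h.mem_of_two hD ((h.two hD).sup (hD.two hd).isPi (zpowers_le.2 hn)) le_sup_left
    (sup_le h.le (zpowers_le.2 hH)) hd (mem_sup_right (mem_zpowers d))

theorem maxD_of_syl (hD : SC D) (hS : Syl 2 H S) : MaxD D H (Og D S) := by
  refine ⟨(Og_le D S).trans hS.le, fun a ha => ((hD.mem_Og_two hS.pi).1 ha).2, fun d hd hH hC => ?_⟩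
  have h2 : TwoG (Og D S ⊔ zpowers d) :=
    (hD.ea_Og hS.pi).two.sup (hD.two hd).isPi (zpowers_le.2 (C_le_N _ hC))
  obtain ⟨g, hg, hle⟩ := Sylow_subJ Nat.prime_two hS h2
    (sup_le ((Og_le D S).trans hS.le) (zpowers_le.2 hH))
  have h3 : Og D S ≤ Og D (cj g S) := by
    rw [← Og_Og D S]; exact Og_mono D (le_sup_left.trans hle)
  rw [eq_of_card_ge h3 (by rw [← hD.cj_Og, card_cj])]
  exact mem_Og hd (hle (mem_sup_right (mem_zpowers d)))

theorem exists_maxD (hD : SC D) (hB : B ≤ H) (h : ∀ b ∈ B, b = 1 ∨ b ∈ D) :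
    ∃ A, MaxD D H A ∧ B ≤ A := by
  have hB2 : TwoG B := (ea_of_sq fun b hb => by
    rcases h b hb with rfl | h1
    · simp
    · exact hD.sq b h1).two
  obtain ⟨S, hS, hle⟩ := Sylow_superset Nat.prime_two hB2 hB
  exact ⟨_, maxD_of_syl hD hS, fun b hb => (hD.mem_Og_two hS.pi).2 ⟨hle hb, h b hb⟩⟩

theorem MaxD.exists_syl (hD : SC D) (h : MaxD D H A) : ∃ S, Syl 2 H S ∧ A ≤ S ∧ S ≤ N[A] := by
  obtain ⟨S, hS, hle⟩ := Sylow_superset Nat.prime_two (h.two hD) h.le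
  exact ⟨S, hS, hle, h.norm_of_two hD hS.pi hle hS.le⟩

theorem MaxD.conj (hD : SC D) (h : MaxD D H A) (h' : MaxD D H B) : ∃ g ∈ Og D H, B = H24.cj g A := by
  obtain ⟨S, hS, hle, -⟩ := h.og.exists_syl hD
  obtain ⟨S', hS', hle', -⟩ := h'.og.exists_syl hD
  obtain ⟨g, hg, rfl⟩ := Sylow_trans Nat.prime_two hS hS'
  refine ⟨g, hg, ?_⟩
  rw [← h'.og.Og_eq hD hS'.pi hle' hS'.le, ← hD.cj_Og, h.og.Og_eq hD hS.pi hle hS.le]

theorem MaxD.conj_mem (hD : SC D) (h : MaxD D H A) (hd : d ∈ D) (hH : d ∈ H) :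
    ∃ g ∈ Og D H, g * d * g⁻¹ ∈ A := by
  obtain ⟨B, hB, hle⟩ := exists_maxD (B := zpowers d) hD (zpowers_le.2 hH) (fun b hb => by
    classical
    rw [mem_zpowers_iff_mem_range_orderOf, hD.orderOf hd] at hb
    simp only [Finset.mem_image, Finset.mem_range] at hb
    obtain ⟨i, hi, rfl⟩ := hb
    interval_cases i <;> simp [hd])
  obtain ⟨g, hg, rfl⟩ := hB.conj hD h
  exact ⟨g, hg, conj_mem_cj g (hle (mem_zpowers d))⟩

/-- Frattini argument -/
theorem MaxD.frattini (hD : SC D) (h : MaxD D H A) : IsProd (Og D H) (H ⊓ N[A]) H := by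
  refine isProd_of_trans (Og_le D H) fun m hm => ?_
  have := h.cj hD m
  rw [cj_of_mem hm] at this
  exact h.conj hD this

/-- fusion in the centraliser of `A` is controlled by `N(A)` -/
theorem MaxD.fusion_cent (hD : SC D) (h : MaxD D H A) (hx : x ∈ C[A]) (hg : g ∈ H)
    (hy : g * x * g⁻¹ ∈ C[A]) : ∃ n ∈ H ⊓ N[A], g * x * g⁻¹ = n * x * n⁻¹ := by
  have h1 : MaxD D (H ⊓ C{x}) A := h.mono (le_inf h.le (mem_C_iff_le_C1.1 hx)) inf_le_left
  have h2 : MaxD D (H ⊓ C{x}) (H24.cj g⁻¹ A) := by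
    have := h.cj hD g⁻¹
    rw [cj_of_mem (H.inv_mem hg)] at this
    refine this.mono (le_inf this.le (cj_le_iff.2 ?_)) inf_le_left
    rw [inv_inv, cj_C1]; exact mem_C_iff_le_C1.1 hy
  obtain ⟨c, hc, e⟩ := h1.conj hD h2
  have hc' := Og_le _ _ hc
  refine ⟨g * c, ⟨H.mul_mem hg hc'.1, mem_N_iff_cj.2 (by rw [cj_mul, ← e, cj_cj_inv])⟩, ?_⟩
  calc g * x * g⁻¹ = g * (c * x * c⁻¹) * g⁻¹ := by rw [mem_C1_iff_conj.1 hc'.2]
    _ = _ := by group

/-! ### `Ck` -/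

theorem mem_Ck : x ∈ Ck K ↔ ∀ k ∈ K, ⁅x, k⁆ ∈ Od[K] := by
  have hn : K ≤ N[Od[K]] := (pcore_nml _ K).norm
  rw [Ck, mem_centQ hn]
  refine ⟨fun h => h.2, fun h => ⟨N_le_N_pcore _ K (mem_N_of_finite fun k hk => ?_), h⟩⟩
  have := K.mul_mem (pcore_le _ K (h k hk)) hk
  simpa [commutatorElement_def] using this

theorem le_Ck : X ≤ Ck K ↔ ⁅X, K⁆ ≤ Od[K] := by
  rw [commutator_le]
  exact ⟨fun h x hx => mem_Ck.1 (h hx), fun h x hx => mem_Ck.2 (h x hx)⟩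

theorem Ck_le_N (K : Subgroup G) : Ck K ≤ N[K] := by
  exact norm_of_comm_le_right ((le_Ck.1 le_rfl).trans (pcore_le _ K))

theorem Od_le_Ck (K : Subgroup G) : Od[K] ≤ Ck K := by
  exact le_Ck.2 (comm_le_left (pcore_nml _ K).norm)

theorem C_le_Ck (K : Subgroup G) : C[K] ≤ Ck K := by
  exact le_Ck.2 (by rw [comm_eq_bot.2 le_rfl]; exact bot_le)

theorem norm_Ck (h : X ≤ N[K]) : X ≤ N[Ck K] := by
  exact norm_centQ h (norm_pcore _ h)

theorem Ck_nml (K : Subgroup G) : Ck K ⊴ N[K] := ⟨Ck_le_N K, norm_Ck le_rfl⟩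

theorem cj_Ck (g : G) (K : Subgroup G) : cj g (Ck K) = Ck (cj g K) := by
  have key : ∀ (g : G) (K : Subgroup G), cj g (Ck K) ≤ Ck (cj g K) := fun g K =>
    le_Ck.2 (by rw [← cj_comm, pcore_cj]; exact cj_mono g (le_Ck.1 le_rfl))
  refine le_antisymm (key g K) (le_cj_iff.2 ?_)
  simpa using key g⁻¹ (cj g K)

theorem sol_inf_Ck (K : Subgroup G) : Sol (K ⊓ Ck K) := by
  exact sol_of_der1 ((Od_sol K).of_le ((commutator_mono inf_le_right inf_le_left).trans (le_Ck.1 le_rfl)))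

theorem QS.not_sol (h : QS K) : ¬ Sol K := fun hs => h.ne (perfect_eq_bot h.perf hs)

theorem QS.not_le_Ck (h : QS K) : ¬ K ≤ Ck K := by
  exact fun hK => h.not_sol ((sol_inf_Ck K).of_le (le_inf le_rfl hK))

/-- the centraliser of `K Ck K / Ck K` in `N(K) / Ck K` is trivial -/
theorem le_Ck_of_comm (hp : ⁅K, K⁆ = K) (hX : X ≤ N[K]) (h : ⁅X, K⁆ ≤ Ck K) : X ≤ Ck K := by
  have hn : K ≤ N[Od[K]] := (pcore_nml _ K).norm
  have h1 : ⁅⁅X, K⁆, K⁆ ≤ Od[K] := le_Ck.1 h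
  have := three_subgroup_mod (A := K) (B := X) (L := K) hn (norm_pcore _ hX) hn
    (by rwa [commC K X]) h1
  rw [hp, commC] at this
  exact le_Ck.2 this

theorem le_sup_Od (hp : ⁅K, K⁆ = K) (hM : M ≤ K) (h : K ≤ M ⊔ Ck K) : K ≤ M ⊔ Od[K] := by
  have hn : M ≤ N[K ⊓ Ck K] := norm_inf (norm_of_le hM) (norm_Ck (norm_of_le hM))
  have h1 : K ≤ (K ⊓ Ck K) ⊔ M := by
    rw [inf_comm, group_modr (norm_Ck (norm_of_le hM)) hM, sup_comm]
    exact le_inf h le_rfl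
  calc K = ⁅K, K⁆ := hp.symm
    _ ≤ ⁅(K ⊓ Ck K) ⊔ M, (K ⊓ Ck K) ⊔ M⁆ := der1_mono h1
    _ ≤ M ⊔ Od[K] := by
      rw [der1_sup hn]
      refine sup_le (sup_le (le_sup_of_le_right ?_) (le_sup_of_le_right ?_))
        (le_sup_of_le_left (der1_le M))
      · exact (commutator_mono inf_le_right inf_le_left).trans (le_Ck.1 le_rfl)
      · exact (commutator_mono inf_le_right hM).trans (le_Ck.1 le_rfl)

theorem QS.cj (h : QS K) (g : G) : QS (cj g K) := by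
  refine ⟨by rw [← cj_comm, h.perf], by simpa using h.ne, fun M hM => ?_⟩
  have := h.nml (H24.cj g⁻¹ M) (by simpa using hM.cj g⁻¹)
  rw [← cj_Ck, le_cj_iff]
  exact this.imp (fun e => by rw [← e, cj_cj_inv]) id

theorem le_Ck_of_odd (hX : X ≤ N[K]) (hV : OddG V) (hn : K ≤ N[V]) (hc : ⁅X, K⁆ ≤ V) :
    X ≤ Ck K := by
  refine le_Ck.2 ((le_inf hc (comm_le_right hX)).trans ?_)
  exact pcore_max (hV.inf_left K) (nml_inf_of_norm' hn)

/-- elements normalising a subgroup `L` of `K` and centralising `K / O(K)` centralise `L / O(L)` -/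
theorem le_Ck_of_le (hL : L ≤ K) (hX : X ≤ N[L]) (h : X ≤ Ck K) : X ≤ Ck L := by
  exact le_Ck_of_odd hX (Od_odd K) (hL.trans (pcore_nml _ K).norm)
    ((comm_mono_right hL).trans (le_Ck.1 h))

theorem Cov.odd_le (h : Cov K0 K) (hV : OddG V) (hVK : V ≤ K) (hn : K0 ≤ N[V]) : V ≤ Od[K] := by
  have hO := pcore_nml ({2}ᶜ : Set ℕ) K
  refine le_sup_left.trans (pcore_max (hV.sup' (Od_odd K) (hVK.trans hO.norm)) ⟨sup_le hVK hO.le, ?_⟩)
  exact h.cov.trans (sup_le (norm_sup hn (h.le.trans hO.norm)) (norm_of_le le_sup_right))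

theorem Cov.Od_le (h : Cov K0 K) : Od[K0] ≤ Od[K] := by
  exact h.odd_le (Od_odd K0) ((pcore_le _ _).trans h.le) (pcore_nml _ _).norm

theorem Cov.refl (hp : ⁅K, K⁆ = K) : Cov K K := ⟨le_rfl, hp, le_sup_left⟩

theorem Cov.cj (h : Cov K0 K) (g : G) : Cov (cj g K0) (cj g K) := by
  exact ⟨cj_mono g h.le, by rw [← cj_comm, h.perf], by rw [pcore_cj, ← cj_sup]; exact cj_mono g h.cov⟩

theorem Cov.trans (h : Cov K0 K) (h' : Cov K K') : Cov K0 K' := by
  exact ⟨h.le.trans h'.le, h.perf, h'.cov.trans (sup_le (h.cov.trans (sup_le_sup_left h'.Od_le _))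
    le_sup_right)⟩

theorem Cov.not_le_Ck (h : Cov K0 K) (hK : QS K) : ¬ K0 ≤ Ck K := by
  exact fun h0 => hK.not_le_Ck (h.cov.trans (sup_le h0 (Od_le_Ck K)))

theorem Cov.qs (h : Cov K0 K) (hK : QS K) : QS K0 := by
  refine ⟨h.perf, fun h0 => h.not_le_Ck hK (h0 ▸ bot_le), fun M hM => ?_⟩
  have hO := pcore_nml ({2}ᶜ : Set ℕ) K
  have hn : M ⊔ Od[K] ⊴ K := by
    refine ⟨sup_le (hM.le.trans h.le) hO.le, h.cov.trans (sup_le ?_ (norm_of_le le_sup_right))⟩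
    exact norm_sup hM.norm (h.le.trans hO.norm)
  rcases hK.nml _ hn with e | e
  · refine Or.inl (le_antisymm hM.le (perfect_le_of_sol (X := K0 ⊓ Od[K]) h.perf hM.norm ?_
      (inf_le_left.trans hM.norm) ((Od_sol K).of_le inf_le_right)))
    rw [sup_comm, inf_comm, group_modl' ((hM.le.trans h.le).trans hO.norm) hM.le, e]
    exact le_inf h.le le_rfl
  · exact Or.inr (le_Ck_of_le h.le (norm_of_le hM.le) (le_sup_left.trans e))

/-- PL6 -/
theorem Cov.le_Ck (h : Cov K0 K) (hX : X ≤ N[K]) (hV : OddG V) (hn : K0 ≤ N[V]) (hc : ⁅X, K0⁆ ≤ V) :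
    X ≤ Ck K := by
  have hO := pcore_nml ({2}ᶜ : Set ℕ) K
  have h1 : ⁅X, K0⁆ ≤ Od[K] :=
    (le_inf hc ((comm_mono_right h.le).trans (comm_le_right hX))).trans
      (h.odd_le (hV.inf_left K) inf_le_right (norm_inf hn (norm_of_le h.le)))
  have h2 : K ≤ centQ X Od[K] := by
    refine h.cov.trans (sup_le ?_ ?_)
    · exact (le_centQ (norm_pcore _ hX)).2 ⟨h.le.trans hO.norm, by rwa [commC]⟩
    · exact (le_centQ (norm_pcore _ hX)).2 ⟨norm_self _, comm_le_left (norm_pcore _ hX)⟩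
  have := ((le_centQ (norm_pcore _ hX)).1 h2).2
  exact Gold.le_Ck.2 (by rwa [commC])

/-- a perfect cover inside a given supplement -/
theorem exists_cov (hp : ⁅K, K⁆ = K) (hM : M ≤ K) (h : K ≤ M ⊔ Od[K]) (hX : X ≤ N[M]) :
    ∃ K0 ≤ M, Cov K0 K ∧ X ≤ N[K0] := by
  obtain ⟨K0, h1, ⟨h2, h3⟩, h4⟩ := exists_min (P := fun L => K ≤ L ⊔ Od[K] ∧ X ≤ N[L]) ⟨h, hX⟩
  refine ⟨K0, h1, ⟨h1.trans hM, h4 _ ⟨?_, norm_der1 h3⟩ (der1_le K0), h2⟩, h3⟩
  have hO := pcore_nml ({2}ᶜ : Set ℕ) K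
  have hn : K0 ≤ N[Od[K]] := (h1.trans hM).trans hO.norm
  calc K = ⁅K, K⁆ := hp.symm
    _ ≤ ⁅Od[K] ⊔ K0, Od[K] ⊔ K0⁆ := der1_mono (by rwa [sup_comm])
    _ ≤ _ := by
      rw [der1_sup hn]
      exact sup_le (sup_le (le_sup_of_le_right (der1_le _)) (le_sup_of_le_right (comm_le_left hn)))
        le_sup_left

/-- PL4 -/
theorem exists_cov_cent (hp : ⁅K, K⁆ = K) (hP : TwoG P) (h : P ≤ Ck K) (hX : X ≤ N[K])
    (hXP : X ≤ N[P]) : ∃ K0 ≤ C[P], Cov K0 K ∧ X ≤ N[K0] := by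
  have h1 := coprime_isProd_of_comm_le (A := P) (V := Od[K]) (X := K)
    (norm_pcore _ (h.trans (Ck_le_N K))) (cop (Od_odd K) hP) (Or.inl (Od_sol K)) (pcore_le _ K)
    (by rw [commC]; exact le_Ck.1 h)
  obtain ⟨K0, h2, h3, h4⟩ := exists_cov (M := K ⊓ C[P]) hp inf_le_left
    (by rw [sup_comm, h1.sup_eq]) (norm_inf hX (norm_C hXP))
  exact ⟨K0, h2.trans inf_le_right, h3, h4⟩

/-! ### pieces -/

theorem Piece.le' (h : Piece D H K) : K ≤ H := h.le.trans (Og_le D H)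

theorem Piece.perf (h : Piece D H K) : ⁅K, K⁆ = K := h.qs.perf

theorem Piece.normA (h : Piece D H K) (hA : MaxD D H A) : A ≤ N[K] := hA.le_Og.trans h.norm

theorem Piece.cj (hD : SC D) (h : Piece D H K) (g : G) : Piece D (cj g H) (cj g K) := by
  exact ⟨by rw [← hD.cj_Og]; exact cj_mono g h.le, by rw [← hD.cj_Og]; exact norm_cj h.norm g, h.qs.cj g⟩

theorem Piece.Od_le (hD : SC D) (h : Piece D H K) : Od[K] ≤ Od[Og D H] := by
  exact (⟨h.le, h.norm⟩ : K ⊴ Og D H).pcore_le _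

theorem SC.Od_Og_le (hD : SC D) (H : Subgroup G) : Od[Og D H] ≤ Od[H] :=
  (hD.Og_nml H).pcore_le _

/-- PL1 -/
theorem Piece.le_Ck_of_ne (h : Piece D H K) (h' : Piece D H K') (hne : K' ≠ K) : K' ≤ Ck K := by
  have hK : K ⊴ Og D H := ⟨h.le, h.norm⟩
  have hK' : K' ⊴ Og D H := ⟨h'.le, h'.norm⟩
  have hn : ⁅K', K⁆ ⊴ K := (hK'.comm hK).of_le (comm_le_right (h'.le.trans h.norm)) h.le
  rcases h.qs.nml _ hn with e | e
  · have h1 : K ≤ K' := e ▸ comm_le_left (h.le.trans h'.norm)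
    rcases h'.qs.nml K (hK.of_le h1 h'.le) with e' | e'
    · exact absurd e'.symm hne
    · exact absurd (le_Ck_of_le h1 (norm_self K) e') h.qs.not_le_Ck
  · exact le_Ck_of_comm h.perf (h'.le.trans h.norm) e

theorem Piece.Od_le_Ck (hD : SC D) (h : Piece D H K) (hX : X ≤ Od[H]) (hn : X ≤ N[K]) : X ≤ Ck K := by
  exact le_Ck_of_odd hn (Od_odd H) (h.le'.trans (pcore_nml _ H).norm)
    ((comm_mono_left hX).trans (comm_le_left (h.le'.trans (pcore_nml _ H).norm)))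

/-! ### transport of `TypeG` -/

theorem TZ.le (h : TZ L T Z) : Z ≤ T := fun _ hx => ((h.memZ _).1 hx).1

theorem TZ.ea (h : TZ L T Z) : EA Z := ea_of_sq fun _ hx => ((h.memZ _).1 hx).2

theorem TZ.norm (h : TZ L T Z) : N[T] ≤ N[Z] := by
  refine le_N_iff.2 fun a ha x hx => ?_
  obtain ⟨h1, h2⟩ := (h.memZ x).1 hx
  refine (h.memZ _).2 ⟨conj_mem ha h1, ?_⟩
  calc a * x * a⁻¹ * (a * x * a⁻¹) = a * (x * x) * a⁻¹ := by group
    _ = 1 := by rw [h2]; group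

theorem TZ.cent (h : TZ L T Z) : T ≤ C[Z] := by
  have hZ : Z ≠ ⊥ := fun e => by have := h.four; rw [e, card_bot] at this; omega
  obtain ⟨z, hz, h1⟩ := exists_ne_one (IsPi.inf_C_ne_bot Nat.prime_two h.syl.pi h.ea.two
    ((norm_self T).trans h.norm) hZ)
  refine centsC.1 fun y hy => ?_
  by_cases hy1 : y = 1
  · rw [hy1]; exact one_mem _
  obtain ⟨k, -, hk, rfl⟩ := h.trans z hz.1 h1 y hy hy1
  exact conj_mem (N_le_NC T hk) hz.2

theorem TZ.map {G' : Type u} [Group G'] [Finite G'] (h : TZ L T Z) {f : G →* G'}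
    (hf : Function.Injective f) : TZ (L.map f) (T.map f) (Z.map f) := by
  refine ⟨h.syl.map f, fun x => ⟨?_, ?_⟩, by rw [card_map_of_injective hf]; exact h.four, ?_⟩
  · rintro ⟨x, hx, rfl⟩
    obtain ⟨h1, h2⟩ := (h.memZ x).1 hx
    exact ⟨mem_map_of_mem f h1, by rw [← map_mul, h2, map_one]⟩
  · rintro ⟨⟨x, hx, rfl⟩, h2⟩
    exact mem_map_of_mem f ((h.memZ x).2 ⟨hx, hf (by rw [map_mul, h2, map_one])⟩)
  · rintro _ ⟨x, hx, rfl⟩ h1 _ ⟨y, hy, rfl⟩ h2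
    obtain ⟨k, hk, hk', rfl⟩ := h.trans x hx (fun e => h1 (by simp [e])) y hy (fun e => h2 (by simp [e]))
    exact ⟨f k, mem_map_of_mem f hk, norm_map le_rfl f (mem_map_of_mem f hk'), by simp⟩

theorem Ty1.map {G' : Type u} [Group G'] [Finite G'] (h : Ty1 L T Z) {f : G →* G'}
    (hf : Function.Injective f) : Ty1 (L.map f) (T.map f) (Z.map f) := by
  have hN : ∀ g, f g ∈ N[T.map f] ↔ g ∈ N[T] := fun g => by
    rw [mem_N_iff_cj, mem_N_iff_cj, ← map_cj, (map_injective hf).eq_iff]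
  refine ⟨?_, ?_, fun h4 hne => ?_⟩
  · rintro _ ⟨g, hg, rfl⟩ hne
    refine (hN g).2 (h.ti g hg fun e => hne ?_)
    rw [← map_cj, ← map_inf _ _ _ hf, e, Subgroup.map_bot]
  · rintro _ ⟨g, hg, rfl⟩ h1 _ ⟨g', hg', rfl⟩ h2
    obtain ⟨t, ht, e⟩ := h.bru g hg (mt (hN g).2 h1) g' hg' (mt (hN g').2 h2)
    exact ⟨f t, mem_map_of_mem f ht, by rw [← map_cj, ← map_cj, ← map_cj, e]⟩
  · rw [card_map_of_injective hf] at h4 ⊢
    obtain ⟨h1, h2, v, hv, hv1, hv2, hv3, hv4⟩ := h.u34 h4 fun e => hne (by rw [e])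
    refine ⟨h1, ?_, f v, mem_map_of_mem f hv, (hN v).2 hv1, cent_map le_rfl f (mem_map_of_mem f hv2),
      by rw [orderOf_injective f hf, hv3], ?_⟩
    · rintro _ ⟨x, hx, rfl⟩
      rw [← map_mul]; exact mem_map_of_mem f (h2 x hx)
    · rintro _ ⟨x, hx, rfl⟩ h5
      refine mem_map_of_mem f (hv4 x hx ((mem_map_iff_mem hf).1 ?_))
      simpa using h5

theorem Ty2.map {G' : Type u} [Group G'] [Finite G'] (h : Ty2 L T Z) {f : G →* G'}
    (hf : Function.Injective f) : Ty2 (L.map f) (T.map f) (Z.map f) := by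
  refine ⟨by rw [h.eq], fun M h1 h2 => map_le_iff_le_comap.2 (h.gen _ ?_ fun a ha h3 => ?_)⟩
  · rw [← map_le_iff_le_comap, map_inf_N hf]; exact h1
  · rw [← map_le_iff_le_comap, ← C_zpowers, map_inf_C hf, MonoidHom.map_zpowers, C_zpowers]
    exact h2 _ (mem_map_of_mem f ha) fun e => h3 (hf (by rw [e, map_one]))

theorem TypeG.map {G' : Type u} [Group G'] [Finite G'] (h : TypeG L) {f : G →* G'}
    (hf : Function.Injective f) : TypeG (L.map f) := by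
  obtain ⟨T, Z, h1, h2⟩ := h
  exact ⟨_, _, h1.map hf, h2.imp (·.map hf) (·.map hf)⟩

theorem TypeG.of_syl (h : TypeG L) (hT : Syl 2 L T) : ∃ Z, TZ L T Z ∧ (Ty1 L T Z ∨ Ty2 L T Z) := by
  obtain ⟨T0, Z, h1, h2⟩ := h
  obtain ⟨g, hg, rfl⟩ := Sylow_trans Nat.prime_two h1.syl hT
  have e : L.map (MulAut.conj g).toMonoidHom = L := cj_of_mem hg
  have h3 := h1.map (conj_injective' g)
  have h4 := h2.imp (·.map (conj_injective' g)) (·.map (conj_injective' g))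
  rw [e] at h3 h4
  exact ⟨_, h3, h4⟩

theorem IH.mono {m n : ℕ} (h : IH.{u} n) (hm : m ≤ n) : IH.{u} m :=
  fun X _ _ hX => h X (hX.trans_le hm)

theorem IH.typeG {n : ℕ} (h : IH.{u} n) (hD : SC D) (hL : ♯L < n) (hs : IsSimpleGroup L)
    (hna : ¬ Abl L) (hd : d ∈ D) (hdL : d ∈ L) : TypeG L := by
  have := (h L hL hs hna _ (hD.sub L) ⟨⟨d, hdL⟩, hd⟩).map L.subtype_injective
  rwa [map_subtype_top] at this

theorem Ctx.mono (h : Ctx D H A) (h1 : A ≤ H') (h2 : H' ≤ H) : Ctx D H' A :=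
  ⟨h.sc, h.ih.mono (by have := card_le h2; omega), h.max.mono h1 h2⟩

theorem Ctx.ea (h : Ctx D H A) : EA A := h.max.ea h.sc

theorem Ctx.two (h : Ctx D H A) : TwoG A := h.max.two h.sc

theorem MC.ctx (h : MC D A) (hA : A ≤ H) (hH : H ≠ ⊤) : Ctx D H A := by
  refine ⟨h.sc, h.ih.mono ?_, h.max.mono hA le_top⟩
  have := card_lt (lt_top_iff_ne_top.2 hH)
  rwa [card_top] at this

end Gold
end H26
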