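import Mathlib
import Cfsg.Agent.H26.GBen0
import Cfsg.Agent.H3.B71Red

/-! GOLD: what we need from Bender's theorem (README, section BENDER). -/

set_option autoImplicit false
set_option linter.unusedSectionVars false
set_option linter.unusedVariables false

namespace H26
namespace Gold

open Cfsg H24 Subgroup

universe u

variable {G : Type u} [Group G] [Finite G]

theorem ty1_of_stronglyEmbedded [IsSimpleGroup G] (hG : ¬ IsMulCommutative G) {H : Subgroup G}
    (hH : IsStronglyEmbedded H) : ∃ T Z : Subgroup G, TZ ⊤ T Z ∧ Ty1 ⊤ T Z := by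
  obtain ⟨t, Q, s, r, h⟩ := H3.B71.bender_simple hH
  exact ⟨Q, _, tz_of_hyp h, ty1_of_hyp h⟩

end Gold
end H26
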