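import Mathlib
import Cfsg.Agent.H26.GBase
import Cfsg.Agent.H6.Transfer2
import Cfsg.Agent.H26.S01a
import Cfsg.Agent.S0217

/-! GOLD: coprime action, signalizers, transfer (proofs in README, section COP). -/

set_option autoImplicit false
set_option linter.unusedSectionVars false
set_option linter.unusedVariables false

namespace H26
namespace Gold

open Cfsg H24 Subgroup
open scoped commutatorElement

universe u

variable {G : Type u} [Group G] [Finite G]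

theorem cent_le_der1 {B V : Subgroup G} (hBV : B ≤ N[V]) (hc : (♯V).Coprime ♯B) (h : ⁅V, B⁆ = V) :
    V ⊓ C[B] ≤ ⁅V, V⁆ := by
  have h1 : B ≤ N[⁅V, V⁆] := norm_der1 hBV
  have h2 : V ≤ N[⁅V, V⁆] := (der1_nml V).norm
  have h3 := coprime_abel_cent_TI (quo_norm ⁅V, V⁆ hBV) (coprime_quo hc _) (abl_quo_der1 V)
  rw [← quo_comm h2 h1, h] at h3
  rw [← quo_eq_bot (inf_le_left.trans h2)]
  exact eq_bot_of_le h3 (img_inf_C_le _ V B)

theorem comm_le_sup_comm {A V W X : Subgroup G} (h : IsProd W X V) (hA : A ≤ N[W]) :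
    ⁅V, A⁆ ≤ W ⊔ ⁅X, A⁆ := by
  refine commutator_le.2 fun g hg a ha => ?_
  obtain ⟨w, hw, x, hx, rfl⟩ := h.mul g hg
  have : ⁅w * x, a⁆ = w * ⁅x, a⁆ * (a * w⁻¹ * a⁻¹) := by simp only [commutatorElement_def]; group
  rw [this]
  exact mul_mem (mul_mem (mem_sup_left hw) (mem_sup_right (commutator_mem_commutator hx ha)))
    (mem_sup_left (conj_mem (hA ha) (inv_mem hw)))

/-- C0 -/
theorem cop0 {A V L : Subgroup G} (hA : Abl A) (hV : Sol V) (hAV : A ≤ N[V])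
    (hc : (♯V).Coprime ♯A) (h : ∀ B, Cocyc B A → ⁅V ⊓ C[B], A⁆ ⊓ C[A] ≤ L) :
    ⁅V, A⁆ ⊓ C[A] ≤ L := by
  induction V using subgroup_ind with
  | h V ih =>
    have sub : ∀ W, W < V → A ≤ N[W] → ⁅W, A⁆ ⊓ C[A] ≤ L := fun W hW hn =>
      ih W hW (hV.of_le hW.le) hn (hc.coprime_dvd_left (card_dvd hW.le)) fun B hB =>
        (inf_le_inf_right _ (comm_mono_left (inf_le_inf_right _ hW.le))).trans (h B hB)
    rcases (comm_le_left hAV).eq_or_lt with e | e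
    swap
    · rw [← coprime_commGid hAV hc hV]; exact sub _ e (norm_comm_right V A)
    by_cases h0 : V = ⊥
    · rw [e, h0, bot_inf_eq]; exact bot_le
    obtain ⟨B, hB, hne⟩ : ∃ B, Cocyc B A ∧ ⁅V, B⁆ ≠ V := by
      by_contra hne
      push Not at hne
      exact (hV.der1_lt h0).not_ge (coprime_abelian_gen_cent hA hAV hc fun B hB h1 =>
        cent_le_der1 (hB.trans hAV) (hc.coprime_dvd_right (card_dvd hB)) (hne B ⟨hB, h1⟩))
    have hBV := hB.1.trans hAV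
    have hcB := hc.coprime_dvd_right (card_dvd hB.1)
    have hAB : A ≤ N[B] := hA.norm le_rfl hB.1
    have h1 : A ≤ N[⁅V, B⁆] := norm_comm hAV hAB
    have h2 := sub _ (lt_of_le_of_ne (comm_le_left hBV) hne) h1
    have h3 : ⁅V, B⁆ ≤ ⁅⁅V, B⁆, A⁆ := (coprime_commGid hBV hcB hV).ge.trans (comm_mono_right hB.1)
    have h4 : ⁅V ⊓ C[B], A⁆ ≤ V := (comm_mono_left inf_le_left).trans (comm_le_left hAV)
    have h5 := isProd_sup (h4.trans (norm_comm_left V B))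
    have h6 := coprime_cent_mulG h5 h1 (norm_comm_right _ A)
      (hc.coprime_dvd_left (card_dvd (inf_le_right.trans h4))) (Or.inr hA.sol)
    refine (inf_le_inf_right _ (comm_le_sup_comm (coprime_cent_prod hBV hcB hV) h1)).trans ?_
    rw [← h6.sup_eq]
    exact sup_le ((inf_le_inf_right _ h3).trans h2) (h B hB)

/-- C1 -/
theorem cop1 {A F V L : Subgroup G} (hF : Abl F) (hnc : ¬ Cyc F) (hFA : F ≤ C[A]) (hV : Sol V)
    (hAV : A ≤ N[V]) (hFV : F ≤ N[V]) (hcA : (♯V).Coprime ♯A) (hcF : (♯V).Coprime ♯F)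
    (h : ∀ f ∈ F, f ≠ 1 → ⁅V ⊓ C{f}, A⁆ ≤ L) : ⁅V, A⁆ ≤ L := by
  induction V using subgroup_ind with
  | h V ih =>
    have sub : ∀ W, W < V → A ≤ N[W] → F ≤ N[W] → ⁅W, A⁆ ≤ L := fun W hW hn hn' =>
      ih W hW (hV.of_le hW.le) hn hn' (hcA.coprime_dvd_left (card_dvd hW.le))
        (hcF.coprime_dvd_left (card_dvd hW.le)) fun f hf h1 =>
        (comm_mono_left (inf_le_inf_right _ hW.le)).trans (h f hf h1)
    rcases (comm_le_left hAV).eq_or_lt with e | e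
    swap
    · rw [← coprime_commGid hAV hcA hV]
      exact sub _ e (norm_comm_right V A) (norm_comm hFV (norm_of_cent hFA))
    by_cases h0 : V = ⊥
    · rw [e, h0]; exact bot_le
    obtain ⟨f, hf, h1, hne⟩ : ∃ f ∈ F, f ≠ 1 ∧ ⁅V, zpowers f⁆ ≠ V := by
      by_contra hne
      push Not at hne
      refine (hV.der1_lt h0).not_ge (coprime_abelian_gen_cent1 hF hnc hFV hcF fun f hf h1 => ?_)
      rw [← C_zpowers]
      exact cent_le_der1 ((zpowers_le.2 hf).trans hFV)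
        (hcF.coprime_dvd_right (card_dvd (zpowers_le.2 hf))) (hne f hf h1)
    have hB : zpowers f ≤ F := zpowers_le.2 hf
    have hBV := hB.trans hFV
    have hcB := hcF.coprime_dvd_right (card_dvd hB)
    have h1' : A ≤ N[⁅V, zpowers f⁆] := norm_comm hAV (norm_of_cent (cents_symm (hB.trans hFA)))
    have hlt := lt_of_le_of_ne (comm_le_left hBV) hne
    have h2 := sub _ hlt h1' (norm_comm hFV (hF.norm le_rfl hB))
    have h4 : ⁅V ⊓ C[zpowers f], A⁆ ≤ V := (comm_mono_left inf_le_left).trans (comm_le_left hAV)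
    have h5 := comm_le_sup_comm (coprime_cent_prod hBV hcB hV) h1'
    have h6 := coprime_cent_prod h1' (hcA.coprime_dvd_left (card_dvd hlt.le)) (hV.of_le hlt.le)
    have h7 : IsProd (⁅V ⊓ C[zpowers f], A⁆ ⊔ ⁅⁅V, zpowers f⁆, A⁆) (V ⊓ C[A]) V := by
      refine ⟨sup_le h4 ((comm_le_left h1').trans hlt.le), inf_le_left, fun v hv => ?_⟩
      rw [e, sup_comm] at h5
      obtain ⟨w, hw, y, hy, rfl⟩ := (mem_sup_of_norm' (h4.trans (norm_comm_left V _))).1 (h5 hv)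
      obtain ⟨x, hx, c, hc, rfl⟩ := h6.mul y hy
      exact ⟨w * x, mul_mem (mem_sup_left hw) (mem_sup_right hx), c, ⟨hlt.le hc.1, hc.2⟩,
        (mul_assoc _ _ _).symm⟩
    rw [h7.comm_left_of_cent inf_le_right]
    refine (comm_le_left (norm_sup (norm_comm_right _ A) (norm_comm_right _ A))).trans (sup_le ?_ h2)
    rw [C_zpowers]; exact h f hf h1

/-- JOIN -/
theorem cop_join {B V L X : Subgroup G} (hV : Sol V) (hBV : B ≤ N[V]) (hc : (♯V).Coprime ♯B)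
    (h0 : ⁅V, B⁆ ⊓ C[B] ≤ L) {𝒳 : Set (Subgroup G)}
    (h : ∀ Y ∈ 𝒳, Y ≤ V ∧ B ≤ N[Y] ∧ Y ⊓ C[B] ≤ L) (hX : X ≤ sSup 𝒳) : X ⊓ C[B] ≤ L := by
  have h1 : X ≤ ⁅V, B⁆ ⊔ (V ⊓ C[B] ⊓ L) := hX.trans (sSup_le fun Y hY => by
    obtain ⟨h1, h2, h3⟩ := h Y hY
    refine (coprime_cent_prod h2 (hc.coprime_dvd_left (card_dvd h1)) (hV.of_le h1)).sup_eq.ge.trans ?_
    exact sup_le_sup (comm_mono_left h1) (le_inf (inf_le_inf_right _ h1) h3))
  refine (inf_le_inf_right _ h1).trans ?_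
  rw [← group_modr ((inf_le_left.trans inf_le_left).trans (norm_comm_left V B))
    (inf_le_left.trans inf_le_right)]
  exact sup_le h0 inf_le_right

/-- SF: completeness of the signalizer functor of good subgroups -/
theorem sf_good {E : Subgroup G} (hE : EA E) (h8 : 8 ≤ ♯E) (Good : Subgroup G → Prop)
    (down : ∀ X Y, Good X → Y ≤ X → Good Y)
    (h : ∀ t ∈ E, t ≠ 1 → ∃ Θ, OddG Θ ∧ E ≤ N[Θ] ∧ Θ ≤ C{t} ∧ Good Θ ∧
      ∀ X, OddG X → E ≤ N[X] → X ≤ C{t} → Good X → X ≤ Θ) :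
    ∃ W, OddG W ∧ E ≤ N[W] ∧ (∀ t ∈ E, t ≠ 1 → Good (W ⊓ C{t})) ∧
      ∀ X, OddG X → E ≤ N[X] → Good X → X ≤ W := by
  choose! θ h1 h2 h3 h4 h5 using h
  have hC : ∀ t ∈ E, E ≤ N[C{t}] := fun t ht => norm_C1 (mem_C_iff_le_C1.1 (EA.le_C hE ht))
  obtain ⟨k1, k2⟩ := Cfsg.Agent.S0217.result (p := 2) E (fun a ha b hb => EA.comm hE ha hb)
    (fun a ha => by rw [pow_two]; exact EA.sq hE ha) h8 θ h3
    (fun a ha h0 => (isPi_compl_iff Nat.prime_two).1 (h1 a ha h0))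
    (fun a ha h0 => le_N_iff.1 (h2 a ha h0)) (fun a ha h0 => (h1 a ha h0).sol)
    (fun a ha h0 b hb h0' => h5 b hb h0' _ ((h1 a ha h0).inf_left _) (norm_inf (h2 a ha h0) (hC b hb))
      inf_le_right (down _ _ (h4 a ha h0) inf_le_left))
  refine ⟨_, (isPi_compl_iff Nat.prime_two).2 k1, norm_iSup fun a => h2 a a.2.1 a.2.2,
    fun t ht h0 => (k2 t ht h0).symm ▸ h4 t ht h0, fun X hX hn hg => ?_⟩
  refine coprime_abelian_gen_cent1 (EA.abl hE) (fun hc => ?_) hn (cop hX (EA.two hE)) fun a ha h0 => ?_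
  · have := Nat.le_of_dvd two_pos (H25.Cfsg.IsElementaryAbelian.card_dvd_of_cyc hE hc); omega
  · exact (h5 a ha h0 _ (hX.inf_left _) (norm_inf hn (hC a ha)) inf_le_right
      (down _ _ hg inf_le_left)).trans
      (le_iSup (fun b : {a : G // a ∈ E ∧ a ≠ 1} => θ b) ⟨a, ha, h0⟩)

/-- PHI: an `N(A)`-invariant complement to `A` in `C(A)` -/
theorem exists_compl {A S R : Subgroup G} (hA : EA A) (hS : Syl 2 N[A] S) (hR : DP A R S) :
    ∃ Y1, DP A Y1 C[A] ∧ N[A] ≤ N[Y1] := by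
  obtain ⟨H, hH⟩ := Gaschutz_split (nml_N A) (EA.abl hA) hS.le ((EA.two hA).piNat.coprime hS.idx) hR.sd
  refine ⟨H ⊓ C[A], (hH.modl (EA.le_C hA) (C_le_N A)).dp inf_le_right, ?_⟩
  rw [← hH.sup]
  exact sup_le (norm_of_cent (cents_symm inf_le_right)) (norm_inf (norm_self H) (norm_C hH.norm))

/-- complement in a `2`-group -/
theorem exists_dp_of_Phi {A S : Subgroup G} (hA : EA A) (hS : TwoG S) (hAS : A ≤ S)
    (hc : S ≤ C[A]) (h : A ⊓ Phi S = ⊥) : ∃ R, DP A R S := by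
  obtain ⟨R, hR, h1, hmin⟩ := exists_min (P := fun R => A ⊔ R = S) (H := S) (sup_eq_right.2 hAS)
  refine ⟨R, hR.trans hc, eq_bot_of_le h (le_inf inf_le_left (le_trans ?_
    (Phi_mono Nat.prime_two hS hR))), h1⟩
  refine (le_Phi_iff inf_le_right).2 fun K hK => by_contra fun hn => hK.lt.ne (hmin K ?_ hK.le)
  rcases covBy_eq_or hK (le_sup_right : K ≤ A ⊓ R ⊔ K) (sup_le inf_le_right hK.le) with e | e
  · exact absurd (e ▸ le_sup_left) hn
  · rw [← h1, ← e, ← sup_assoc, sup_inf_self]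

theorem SC.odd_cent {D : Set G} (hD : SC D) {P : Subgroup G} (hP : TwoG P) {z : G}
    (hz : z ∈ Og D N[P]) (ho : OddE z) : z ∈ C[P] := by
  have h2 : ∀ d ∈ D, d ∈ N[P] → TwoG (P ⊔ zpowers d) := fun d hd hn =>
    hP.sup (hD.two hd).isPi (zpowers_le.2 hn)
  have h0 : Og D N[P] ≤ C[Og D P] :=
    Og_le_iff.2 fun d hd hn => C_anti (Og_mono D le_sup_left) ((hD.ea_Og (h2 d hd hn)).le_C
      (mem_Og hd (mem_sup_right (mem_zpowers d))))
  have h1 : ⁅Og D N[P], P⁆ ≤ Og D P := by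
    refine ((le_centQ (hD.norm_Og (norm_self P))).1 ?_).2
    refine Og_le_iff.2 fun d hd hn => (mem_centQ (hD.norm_Og (norm_self P))).2
      ⟨hD.norm_Og le_rfl hn, fun q hq => ?_⟩
    have hm : ⁅d, q⁆ ∈ P := comm_le_right le_rfl (commutator_mem_commutator hn hq)
    refine (hD.mem_Og_two hP).2 ⟨hm, ?_⟩
    have e : ⁅d, q⁆ = d * (q * d * q⁻¹) := by rw [commutatorElement_def, hD.inv hd]; group
    rw [e] at hm ⊢
    exact hD.mul d hd _ (hD.conj d hd q) (hP.piElt hm)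
  exact stable_factor_cent (H := Og D P) ((zpowers_le.2 hz).trans h0)
    (by rw [commC]; exact (comm_mono_left (zpowers_le.2 hz)).trans h1) (Og_le _ _)
    (cop ho.isPi (hP.of_le (Og_le _ _))).symm (Or.inr (abl_zpowers z).sol) (mem_zpowers z)

theorem SC.isProd_cent {D : Set G} (hD : SC D) {P S : Subgroup G} (hP : TwoG P) (hS : Syl 2 N[P] S)
    {g : G} (hg : g ∈ Og D N[P]) : ∃ s ∈ S, ∃ c ∈ C[P], g = s * c := by
  have hn := hD.Og_nml N[P]
  have hC : Og D N[P] ≤ N[C[P]] := norm_C hn.le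
  have h1 : TwoG (quo (Og D N[P]) C[P]) := isPi_iff_piElt.2 fun x hx => by
    obtain ⟨x, hx0, hxN, rfl⟩ := mem_quo.1 hx
    obtain ⟨y, z, hy, hz, hyx, hzx, e⟩ := exists_piElt_decomp ({2} : Set ℕ) x
    have hy' := zpowers_le.2 hxN hyx
    have hz' := hD.odd_cent hP (zpowers_le.2 hx0 hzx) hz
    have : cs C[P] x = cs C[P] y := by
      rw [eq_comm, cs_eq_cs hy' hxN, e, inv_mul_cancel_left]; exact hz'
    rw [this]; exact hy.ap _ hy'
  have h2 := (hS.inf_nml hn).isProd_of_idx (inf_le_left : Og D N[P] ⊓ C[P] ≤ _)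
    (by rw [inf_relIndex_left]; exact (isPi_quo_iff hC).1 h1)
  obtain ⟨s, hs, c, hc, e⟩ := h2.mul g hg
  exact ⟨s, hs.1, c, hc.2, e⟩

theorem MaxD.conj_cent {D : Set G} (hD : SC D) {P : Subgroup G} (hP : TwoG P) :
    ∀ A A' : Subgroup G, MaxD D ⊤ A → MaxD D ⊤ A' → P ≤ N[A] → P ≤ N[A'] →
      ∃ c ∈ C[P], A' = H24.cj c A := by
  induction P using subgroup_ind_up with
  | h P ih =>
    intro A A' hA hA' hn hn'
    have key : ∀ A A' : Subgroup G, MaxD D ⊤ A → MaxD D ⊤ A' → P ≤ N[A'] → A ≤ P → A' = A :=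
      fun A A' hA hA' hn' hle => by
        have h2 : TwoG (A' ⊔ P) := (hA'.two hD).sup hP hn'
        rw [← hA'.Og_eq hD h2 le_sup_left le_top, hA.Og_eq hD h2 (hle.trans le_sup_right) le_top]
    by_cases h1 : A ≤ P
    · exact ⟨1, one_mem _, by rw [cj_one, key A A' hA hA' hn' h1]⟩
    by_cases h1' : A' ≤ P
    · exact ⟨1, one_mem _, by rw [cj_one, key A' A hA' hA hn h1']⟩
    have grow : ∀ A : Subgroup G, MaxD D ⊤ A → P ≤ N[A] → ¬ A ≤ P → ¬ A ⊓ N[P] ≤ P :=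
      fun A hA hn h1 h2 => by
        have h3 : Nil (A ⊔ P) := ((hA.two hD).sup hP hn).nil Nat.prime_two
        have h4 := h3.eq_of_norm_le le_sup_right
          (by rw [← group_modr hn (norm_self P)]; exact sup_le h2 le_rfl)
        exact h1 (h4 ▸ le_sup_left)
    have two : ∀ A : Subgroup G, MaxD D ⊤ A → TwoG (P ⊔ A ⊓ N[P]) := fun A hA =>
      hP.sup ((hA.two hD).inf_left _) inf_le_right
    have nrm : ∀ A : Subgroup G, P ≤ N[A] → P ⊔ A ⊓ N[P] ≤ N[A] := fun A hn =>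
      sup_le hn (norm_of_le inf_le_left)
    obtain ⟨S1, hS1, hle⟩ := Sylow_superset Nat.prime_two (two A hA) (sup_le (norm_self P) inf_le_right)
    obtain ⟨S, hS, hle'⟩ := Sylow_superset Nat.prime_two hS1.pi le_top
    have hB := maxD_of_syl hD hS
    have hSB : S1 ≤ N[Og D S] := hle'.trans (hD.norm_Og (norm_self S))
    obtain ⟨c1, hc1, e1⟩ := ih _ (left_lt_sup.2 (grow A hA hn h1)) (two A hA) A _ hA hB (nrm A hn)
      (hle.trans hSB)
    obtain ⟨B', hB', hle2⟩ := exists_maxD (H := N[P]) hD inf_le_right fun b hb => hA'.mem b hb.1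
    obtain ⟨g, hg, e2⟩ := hB'.conj hD (maxD_of_syl hD hS1)
    obtain ⟨s, hs, c, hc, rfl⟩ := hD.isProd_cent hP hS1 hg
    have h3 : H24.cj c (A' ⊓ N[P]) ≤ Og D S := by
      refine (cj_mono c hle2).trans (le_trans ?_ (Og_mono D hle'))
      rw [cj_mul, eq_comm, cj_eq_iff, cj_of_mem_N (hD.norm_Og (norm_self S1) (inv_mem hs))] at e2
      exact e2.le
    have hcP : H24.cj c P = P := cj_of_mem_C hc
    have hA'' := hA'.cj hD c
    rw [cj_top] at hA''
    obtain ⟨c2, hc2, e3⟩ := ih (H24.cj c (P ⊔ A' ⊓ N[P]))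
      (by nth_rewrite 1 [← hcP]; exact cj_lt_cj.2 (left_lt_sup.2 (grow A' hA' hn' h1')))
      ((two A' hA').cj c) _ _ hB hA''
      (by rw [cj_sup, hcP]; exact sup_le ((le_sup_left.trans hle).trans hSB) (norm_of_le h3))
      (norm_cj (nrm A' hn') c)
    refine ⟨c⁻¹ * c2 * c1, mul_mem (mul_mem (inv_mem hc) (C_anti ?_ hc2)) (C_anti le_sup_left hc1), ?_⟩
    · rw [cj_sup, hcP]; exact le_sup_left
    · rw [cj_mul, cj_mul, ← e1, ← e3, cj_inv_cj]

/-- the normaliser of a strongly closed abelian subgroup controls fusion of `2`-elements -/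
theorem MaxD.fusion {D : Set G} (hD : SC D) {A : Subgroup G} (hA : MaxD D ⊤ A) {x g : G}
    (hx : x ∈ N[A]) (h2 : TwoE x) (hg : g * x * g⁻¹ ∈ N[A]) :
    ∃ n ∈ N[A], g * x * g⁻¹ = n * x * n⁻¹ := by
  have hA' := hA.cj hD g⁻¹
  rw [cj_top] at hA'
  obtain ⟨c, hc, e⟩ := MaxD.conj_cent hD h2.isPi A _ hA hA' (zpowers_le.2 hx)
    (zpowers_le.2 (by rw [← cj_N, mem_cj, inv_inv]; exact hg))
  rw [C_zpowers] at hc
  refine ⟨g * c, by rw [mem_N_iff_cj, cj_mul, ← e, cj_cj_inv], ?_⟩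
  conv_lhs => rw [← mem_C1_iff_conj.1 hc]
  group

theorem MaxD.noidx {D : Set G} (hD : SC D) {A : Subgroup G} (hA : MaxD D ⊤ A)
    (hG : commutator G = ⊤) : ∀ L ≤ N[A], L.relIndex N[A] ≠ 2 := by
  intro L hL h2
  have hn : (L.subgroupOf N[A]).Normal := normal_of_index_eq_two h2
  have hn' : L ⊴ N[A] := nml_of_normal hL hn
  have hab : ∀ x ∈ N[A], ∀ y ∈ N[A], x * y * x⁻¹ * y⁻¹ ∈ L := fun x hx y hy =>
    der1_le_of_relIndex_prime hn' (h2 ▸ Nat.prime_two) (commutator_mem_commutator hx hy)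
  obtain ⟨S, hS, -, hSA⟩ := hA.exists_syl hD
  obtain ⟨x, hx, hxL⟩ : ∃ x ∈ N[A], x ∉ L := by
    by_contra hne
    push Not at hne
    rw [relIndex_eq_one.2 hne] at h2
    exact absurd h2 (by norm_num)
  obtain ⟨y, z, hy, hz, hyx, hzx, e⟩ := exists_piElt_decomp ({2} : Set ℕ) x
  have hyN := zpowers_le.2 hx hyx
  have hzL : z ∈ L := le_of_idx_compl' hn' (by rw [h2]; exact piNat_self Nat.prime_two) hz.isPi
    (zpowers_le.2 (zpowers_le.2 hx hzx)) (mem_zpowers z)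
  refine H6.not_mem_commutator_of_fusion (p := 2) N[A] L hn hab ?_ y hyN
    (fun hyL => hxL (e ▸ mul_mem hyL hzL)) (hy.exists_pow Nat.prime_two) (fun m a ha => ?_)
    (hG ▸ mem_top y)
  · rw [← relIndex_top_right]
    exact (piNat_compl_iff_coprime Nat.prime_two).1 (hS.idx_of_ge hSA)
  · obtain ⟨n, hn, e⟩ := hA.fusion hD (zpow_mem hyN m) (hy.zpow m) ha
    rw [e]; exact hab n hn _ (zpow_mem hyN m)

end Gold
end H26
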