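import Mathlib
import Cfsg.Agent.H26.GBase

/-! GOLD: almost simple groups with an `SC` set. -/

set_option autoImplicit false
set_option linter.unusedSectionVars false
set_option linter.unusedVariables false

namespace H26
namespace Gold

open Cfsg H24 Subgroup
open scoped commutatorElement

universe u

variable {G : Type u} [Group G] [Finite G] {D : Set G} {A B H K L M P Q S T V X Y Z : Subgroup G}
  {a b c d e g x y z : G}

theorem syl_sup (hT : Syl 2 L T) (hP : TwoG P) (hTP : T ≤ P) (hn : P ≤ N[L]) : Syl 2 (L ⊔ P) P :=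
  Hall.mk' le_sup_right hP (by rw [(isProd_sup hn).symm.relIndex_eq]; exact hT.idx_of_ge hTP)

theorem fusion_syl (hQ : Syl 2 H Q) (hx : x ∈ C[Q]) (hg : g ∈ H) (hy : g * x * g⁻¹ ∈ C[Q]) :
    ∃ n ∈ H ⊓ N[Q], g * x * g⁻¹ = n * x * n⁻¹ := by
  have h1 : Syl 2 (H ⊓ C{x}) Q := hQ.of_le (le_inf hQ.le (mem_C_iff_le_C1.1 hx)) inf_le_left
  have h2 : Syl 2 (H ⊓ C{x}) (cj g⁻¹ Q) := by
    have := hQ.cj_mem (H.inv_mem hg)
    refine this.of_le (le_inf this.le (cj_le_iff.2 ?_)) inf_le_left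
    rw [inv_inv, cj_C1]; exact mem_C_iff_le_C1.1 hy
  obtain ⟨c, hc, e⟩ := Sylow_trans Nat.prime_two h1 h2
  refine ⟨g * c, ⟨H.mul_mem hg hc.1, mem_N_iff_cj.2 (by rw [cj_mul, ← e, cj_cj_inv])⟩, ?_⟩
  calc g * x * g⁻¹ = g * (c * x * c⁻¹) * g⁻¹ := by rw [mem_C1_iff_conj.1 hc.2]
    _ = _ := by group

theorem conj_sq (h : x * x = 1) (g : G) : g * x * g⁻¹ * (g * x * g⁻¹) = 1 := by
  calc g * x * g⁻¹ * (g * x * g⁻¹) = g * (x * x) * g⁻¹ := by group
    _ = 1 := by rw [h]; group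

theorem comm_of_sq (hx : x * x = 1) (hy : y * y = 1) (h : x * y * (x * y) = 1) : x * y = y * x := by
  have := H6.inv_eq_of_mul_self h
  rw [mul_inv_rev, H6.inv_eq_of_mul_self hx, H6.inv_eq_of_mul_self hy] at this
  exact this.symm

/-- `L` is a nonabelian simple normal subgroup with trivial centraliser -/
structure AS (L : Subgroup G) : Prop where
  nml : ⊤ ≤ N[L]
  simple : ∀ M, M ⊴ L → M = ⊥ ∨ M = L
  nab : ¬ Abl L
  cent : C[L] = ⊥

namespace AS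

theorem norm (h : AS L) (X : Subgroup G) : X ≤ N[L] := le_top.trans h.nml

theorem memN (h : AS L) (x : G) : x ∈ N[L] := h.nml (mem_top x)

theorem perf (h : AS L) : ⁅L, L⁆ = L :=
  (h.simple _ (der1_nml L)).resolve_left fun e => h.nab (der1_eq_bot.1 e)

theorem not_sol (h : AS L) : ¬ Sol L := fun hs => h.nab (perfect_eq_bot h.perf hs ▸ abl_bot)

theorem isSimpleGroup (h : AS L) : IsSimpleGroup L := by
  have : Nontrivial L := (nontrivial_iff_ne_bot L).2 fun e => h.nab (e ▸ abl_bot)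
  refine ⟨fun M hM => ?_⟩
  rcases h.simple _ (nml_map_subtype M) with e | e
  · exact Or.inl ((map_eq_bot_iff_of_injective _ L.subtype_injective).1 e)
  · exact Or.inr (map_injective L.subtype_injective (e.trans (map_subtype_top L).symm))

theorem eq_bot_of_sol (h : AS L) (hV : Sol V) (hn : L ≤ N[V]) : V = ⊥ := by
  have h1 : L ⊓ V = ⊥ := (h.simple _ (nml_inf_of_norm hn)).resolve_right fun e =>
    h.not_sol (hV.of_le (e ▸ inf_le_right))
  exact eq_bot_of_le h.cent (cents_symm (cents_of_inf_eq_bot hn (h.norm V) h1))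

theorem eq_one (h : AS L) (hx : L ≤ C{x}) : x = 1 := by
  have : x ∈ C[L] := mem_C_iff_le_C1.2 hx
  rwa [h.cent, mem_bot] at this

theorem not_zstar (h : AS L) (hL : L ≤ H) (h1 : z ≠ 1) (hz : ⁅zpowers z, H⁆ ≤ Od[H]) : False := by
  rw [h.eq_bot_of_sol (Od_sol H) (hL.trans (pcore_nml _ H).norm), le_bot_iff, comm_eq_bot'
    , C_zpowers] at hz
  exact h1 (h.eq_one (hL.trans hz))

/-- A1 -/
theorem exists_mem (h : AS L) (hD : SC D) (hd : d ∈ D) : ∃ e ∈ D, e ∈ L := by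
  by_contra hne
  push Not at hne
  refine h.not_zstar (H := L ⊔ zpowers d) le_sup_left (hD.ne d hd)
    (zstar_sub' (mem_sup_right (mem_zpowers d)) (hD.ne d hd) (hD.sq d hd) fun g hg hc => ?_)
  obtain ⟨l, hl, y, hy, rfl⟩ := (mem_sup_of_norm (h.norm _)).1 hg
  have e1 : l * y * d * (l * y)⁻¹ = l * d * l⁻¹ := by
    calc l * y * d * (l * y)⁻¹ = l * (y * d * y⁻¹) * l⁻¹ := by group
      _ = _ := by rw [mem_C1_iff_conj.1 (zpowers_le_C1 d hy)]
  rw [e1] at hc ⊢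
  rcases hD.mul_of_comm hd (hD.conj d hd l) hc with e | e
  · rw [← hD.inv hd, eq_inv_iff_mul_eq_one, hD.inv hd, ← hc, e]
  · refine absurd ?_ (hne _ e)
    have := L.mul_mem (conj_mem (h.memN d) hl) (L.inv_mem hl)
    rw [hD.inv hd] at this
    simpa [mul_assoc] using this

/-- A3 -/
theorem le_of_cent (h : AS L) (hT : Syl 2 L T) (hab : Abl T) (hP : TwoG P) (hc : P ≤ C[T]) :
    P ≤ T := by
  intro x hx
  by_contra hxT
  have hxC : zpowers x ≤ C[T] := zpowers_le.2 (hc hx)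
  have hQ2 : TwoG (T ⊔ zpowers x) := hT.pi.sup (hP.piElt hx).isPi (norm_of_cent hxC)
  have hQa : Abl (T ⊔ zpowers x) := hab.sup (abl_zpowers x) (cents_symm hxC)
  set Q := T ⊔ zpowers x with hQ
  have hS : Syl 2 (L ⊔ Q) Q := syl_sup hT hQ2 le_sup_left (h.norm _)
  obtain ⟨R, hR⟩ := Hall.exists_sd hS.subnorm inf_le_right
  have hRodd : OddG R := hR.isPi_right hS.subnorm
  have hdp := coprime_abelian_cent_dprod hR.norm (cop hRodd hQ2).symm hQa
  have hcomm : ⁅Q, R⁆ ≤ T := by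
    have h1 : ⁅Q, R⁆ ≤ L := by
      have : ⁅L ⊔ Q, L ⊔ Q⁆ ≤ L := by
        rw [der1_sup (h.norm _), der1_eq_bot.2 hQa]
        exact sup_le (sup_le (der1_le L) (comm_le_left (h.norm _))) bot_le
      exact (commutator_mono le_sup_right (hR.right_le.trans inf_le_left)).trans this
    have h2 : Q ⊓ L = T := hT.eq_of_le (hQ2.inf_left L) (le_inf le_sup_left hT.le) inf_le_right
    exact h2 ▸ le_inf (comm_le_left hR.norm) h1
  have hne : Q ⊓ C[R] ≠ ⊥ := fun e => by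
    have := hdp.sup
    rw [e, sup_bot_eq] at this
    exact hxT (hcomm (this.ge (mem_sup_right (mem_zpowers x))))
  obtain ⟨y, hy, hy1, hy2⟩ := TwoG.exists_inv (hQ2.inf_left _) hne
  refine h.not_zstar (H := L ⊔ Q) le_sup_left hy1 (zstar_sub hS hy.1 hy1 hy2 fun g hg hgy => ?_)
  obtain ⟨n, hn, e⟩ := fusion_syl hS (hQa.le_C hy.1) hg (hQa.le_C hgy)
  rw [e]
  have hC : (L ⊔ Q) ⊓ N[Q] ≤ C{y} := by
    rw [← hR.sup]
    exact sup_le (mem_C_iff_le_C1.1 (hQa.le_C hy.1)) (mem_C_iff_le_C1.1 hy.2)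
  exact mem_C1_iff_conj.1 (hC hn)

end AS

theorem TZ.ne_bot (h : TZ L T Z) : Z ≠ ⊥ := fun e => by
  have := h.four; rw [e, card_bot] at this; omega

/-- all involutions of `L` lie in `D` -/
theorem TZ.mem_D (h : TZ L T Z) (hD : SC D) (he : e ∈ D) (heL : e ∈ L) (hz : z ∈ L) (h1 : z ≠ 1)
    (h2 : z * z = 1) : z ∈ D := by
  obtain ⟨g, hg, hle⟩ := Sylow_Jsub Nat.prime_two h.syl (hD.two he).isPi (zpowers_le.2 heL)
  obtain ⟨g', hg', hle'⟩ := Sylow_Jsub Nat.prime_two h.syl (twoE_of_sq h2).isPi (zpowers_le.2 hz)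
  have he' := hD.conj e he g
  obtain ⟨k, -, -, e1⟩ := h.trans _ ((h.memZ _).2 ⟨hle (conj_mem_cj g (mem_zpowers e)), hD.sq _ he'⟩)
    (hD.ne _ he') _ ((h.memZ _).2 ⟨hle' (conj_mem_cj g' (mem_zpowers z)), conj_sq h2 g'⟩)
    (by rwa [Ne, conj_eq_one_iff'])
  exact hD.conj_iff.1 (e1 ▸ hD.conj _ he' k)

section ty1

variable (h : AS L) (hT : TZ L T Z) (h1 : Ty1 L T Z)
include h hT h1

theorem AS.ti (hg : T ⊓ cj g T ≠ ⊥) : g ∈ N[T] := by
  obtain ⟨l, hl, e⟩ := Sylow_trans Nat.prime_two hT.syl (hT.syl.cj_mem_N (h.memN g))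
  rw [mem_N_iff_cj, e]
  exact cj_of_mem_N (h1.ti l hl (e ▸ hg))

theorem AS.ti' {g' : G} (hx : x ∈ cj g T) (hx' : x ∈ cj g' T) (hx1 : x ≠ 1) : cj g' T = cj g T := by
  refine cj_eq_cj_iff.2 (h.ti hT h1 (ne_bot_of_mem (x := g⁻¹ * x * g) ⟨mem_cj.1 hx, ?_⟩ ?_))
  · rw [cj_mul]; simpa using conj_mem_cj g⁻¹ hx'
  · simpa using (conj_eq_one_iff' (g := g⁻¹)).not.2 hx1

theorem AS.norm_of_comm (hx : x ∈ cj g T) (hx1 : x ≠ 1) (hc : c * x = x * c) : c ∈ N[cj g T] := by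
  rw [mem_N_iff_cj, ← cj_mul]
  refine h.ti' hT h1 hx ?_ hx1
  rw [cj_mul]
  have := conj_mem_cj c hx
  rwa [hc, mul_inv_cancel_right] at this

omit h1 in
theorem AS.mem_of_norm (hc : c ∈ L) (h2 : TwoE c) (hn : c ∈ N[cj g T]) : c ∈ cj g T :=
  (hT.syl.cj_mem_N (h.memN g)).le_of_norm h2.isPi (zpowers_le.2 hc) (zpowers_le.2 hn) (mem_zpowers c)

theorem AS.eq_one_of_norm (hg : g ∉ N[T]) (hc : c ∈ L) (h2 : TwoE c) (hn : c ∈ N[T])
    (hn' : c ∈ N[cj g T]) : c = 1 := by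
  by_contra hc1
  refine hg (h.ti hT h1 (ne_bot_of_mem ⟨?_, h.mem_of_norm hT hc h2 hn'⟩ hc1))
  simpa using h.mem_of_norm hT (g := 1) hc h2 (by simpa using hn)

omit h1 in
theorem AS.not_le_N : ¬ L ≤ N[T] := fun hn => by
  rcases h.simple T ⟨hT.syl.le, hn⟩ with e | e
  · exact hT.ne_bot (eq_bot_of_le e hT.le)
  · exact h.not_sol (e ▸ hT.syl.pi.sol Nat.prime_two)

/-- an element of `D` normalising two Sylow subgroups of a Bender group -/
theorem AS.two_points (hD : SC D) (hZ : ∀ z ∈ Z, z ≠ 1 → z ∈ D) {w0 : G} (hw0 : w0 ∈ L)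
    (hw0' : w0 ∉ N[T]) (hb : b ∈ D) (hbT : b ∈ N[T]) (hbT' : b ∈ N[cj w0 T]) : False := by
  have hb2 := hD.sq b hb
  -- `b` centralises `Z` and `T / Z`, for each normalised Sylow subgroup
  have key : ∀ g : G, b ∈ N[cj g T] → (∀ z ∈ cj g Z, b * z = z * b) ∧
      ∀ t ∈ cj g T, t⁻¹ * (b * t * b⁻¹) ∈ cj g Z := fun g hg => by
    have h2 : TwoG (cj g T ⊔ zpowers b) := (hT.syl.pi.cj g).sup (hD.two hb).isPi (zpowers_le.2 hg)
    have hbm : b ∈ cj g T ⊔ zpowers b := mem_sup_right (mem_zpowers b)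
    refine ⟨fun z hz => ?_, fun t ht => ?_⟩
    · by_cases hz1 : z = 1
      · simp [hz1]
      have hzD : z ∈ D := by
        obtain ⟨y, hy, rfl⟩ := mem_cj'.1 hz
        exact hD.conj y (hZ y hy fun e => hz1 (by simp [e])) g
      exact hD.comm hb hzD (h2.piElt (mul_mem hbm (mem_sup_left (cj_mono g hT.le hz))))
    · have hm : t⁻¹ * (b * t * b⁻¹) ∈ cj g T := mul_mem (inv_mem ht) (conj_mem hg ht)
      have e : t⁻¹ * (b * t * b⁻¹) = t⁻¹ * b * t * b := by rw [hD.inv hb]; group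
      have h3 := hD.mul _ (hD.conj' hb t) b hb (e ▸ (hT.syl.pi.cj g).piElt hm)
      rw [← e] at h3
      have h4 : t⁻¹ * (b * t * b⁻¹) * (t⁻¹ * (b * t * b⁻¹)) = 1 := by
        rcases h3 with h3 | h3
        · rw [h3, one_mul]
        · exact hD.sq _ h3
      refine mem_cj.2 ((hT.memZ _).2 ⟨mem_cj.1 hm, ?_⟩)
      simpa using conj_sq h4 g⁻¹
  obtain ⟨k1, k2⟩ := key 1 (by simpa using hbT)
  simp only [cj_one] at k1 k2
  -- an element `w ∈ C_L(b)` moving `T` to `T'`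
  obtain ⟨w, hw, hwb, hwT⟩ : ∃ w ∈ L, b * w = w * b ∧ cj w T = cj w0 T := by
    obtain ⟨z, hz, hz1⟩ := exists_ne_one hT.ne_bot
    have hz2 := hT.ea.sq hz
    have hzL := hT.syl.le (hT.le hz)
    have hz' : w0 * z * w0⁻¹ ∈ cj w0 Z := conj_mem_cj w0 hz
    have hz'1 : w0 * z * w0⁻¹ ≠ 1 := by rwa [Ne, conj_eq_one_iff']
    have hz'L : w0 * z * w0⁻¹ ∈ L := conj_mem (h.memN w0) hzL
    have hzD := hZ z hz hz1
    have hodd : OddE (z * (w0 * z * w0⁻¹)) := by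
      by_contra ho
      obtain ⟨m, -, -, hm, c1, c2⟩ := hD.even hzD (hD.conj z hzD w0) ho
      refine hD.ne _ hm (h.eq_one_of_norm hT h1 hw0' (pow_mem (mul_mem hzL hz'L) m) (hD.two hm) ?_
        (h.norm_of_comm hT h1 (cj_mono w0 hT.le hz') hz'1 c2))
      simpa using h.norm_of_comm hT h1 (g := 1) (by simpa using hT.le hz) hz1 c1
    obtain ⟨k, hk⟩ := H6.exists_zpow_conj_of_odd hz2 (conj_sq hz2 w0) (oddE_iff.1 hodd)
    refine ⟨_, zpow_mem (mul_mem hzL hz'L) k, ?_, h.ti' hT h1 (cj_mono w0 hT.le hz')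
      (by have := conj_mem_cj ((z * (w0 * z * w0⁻¹)) ^ k) (hT.le hz); rwa [hk] at this) hz'1⟩
    exact ((Commute.mul_right (k1 z hz) ((key w0 hbT').1 _ hz')).zpow_right k)
  have hwN : w ∉ N[T] := fun hn => hw0' (by rw [mem_N_iff_cj, ← hwT, cj_of_mem_N hn])
  rw [← hwT] at hbT'
  obtain ⟨k1', k2'⟩ := key w hbT'
  -- `b` centralises the two-point stabiliser
  have hH0 : ∀ y ∈ L, y ∈ N[T] → y ∈ N[cj w T] → b * y = y * b := fun y hy hyT hyT' => by
    set c := y * b * y⁻¹ * b⁻¹ with hc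
    have hcL : c ∈ L := by
      have := L.mul_mem hy (conj_mem (h.memN b) (L.inv_mem hy))
      simpa [hc, mul_assoc] using this
    have hcT : c ∈ N[T] := mul_mem (mul_mem (mul_mem hyT hbT) (inv_mem hyT)) (inv_mem hbT)
    have hcT' : c ∈ N[cj w T] :=
      mul_mem (mul_mem (mul_mem hyT' hbT') (inv_mem hyT')) (inv_mem hbT')
    have hco : OddE c := constt_eq_one_iff.1 (h.eq_one_of_norm hT h1 hwN (constt_mem _ hcL)
      (piElt_constt _ c) (constt_mem _ hcT) (constt_mem _ hcT'))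
    have hR : ∀ x ∈ C[Z] ⊓ centQ T Z, ∀ n ∈ N[T], n * x * n⁻¹ ∈ C[Z] ⊓ centQ T Z := fun x hx n hn =>
      conj_mem (norm_inf (norm_C hT.norm) (norm_centQ le_rfl hT.norm) hn) hx
    have hTZ : T ≤ N[Z] := (norm_self T).trans hT.norm
    have hbR : b ∈ C[Z] ⊓ centQ T Z := by
      refine ⟨mem_C'.2 k1, (mem_centQ hTZ).2 ⟨hT.norm hbT, fun u hu => ?_⟩⟩
      have := conj_mem (hTZ hu) (k2 u hu)
      simpa [commutatorElement_def, mul_assoc] using this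
    have hcR : c ∈ C[Z] ⊓ centQ T Z := mul_mem (hR b hbR y hyT) (inv_mem hbR)
    have hcC : zpowers c ≤ C[T] := stable_factor_cent (zpowers_le.2 hcR.1)
      (by rw [commC]; exact ((le_centQ hTZ).1 (zpowers_le.2 hcR.2)).2) hT.le
      (cop hco.isPi hT.ea.two).symm (Or.inr (abl_zpowers c).sol)
    have hcC' : c ∈ C[T] := hcC (mem_zpowers c)
    have hker : L ⊓ ⨅ g : L, N[cj (g : G) T] ⊴ L := by
      refine nml_inf_of_norm (le_N_iff.2 fun a ha x hx => mem_iInf.2 fun g => ?_)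
      have := mem_iInf.1 hx ⟨a⁻¹ * g, L.mul_mem (L.inv_mem ha) g.2⟩
      have h5 := conj_mem_cj a this
      rwa [cj_N, ← cj_mul, mul_inv_cancel_left] at h5
    have hc1 : c = 1 := by
      rcases h.simple _ hker with e | e
      · refine mem_bot.1 (e ▸ ⟨hcL, mem_iInf.2 fun g => ?_⟩)
        by_cases hg : (g : G) ∈ N[T]
        · rw [cj_of_mem_N hg]; exact hcT
        · obtain ⟨f, hf, e⟩ := h1.bru w hw hwN g g.2 hg
          rw [e, ← cj_N, mem_cj, mul_assoc, mem_C'.1 hcC' f hf, inv_mul_cancel_left]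
          exact hcT'
      · refine absurd ?_ (h.not_le_N hT)
        have := (e.ge.trans inf_le_right).trans (iInf_le _ 1)
        simpa using this
    rw [hc, mul_inv_eq_one, mul_inv_eq_iff_eq_mul] at hc1
    exact hc1.symm
  have hdec : ∀ n ∈ L, n ∈ N[T] → ∃ f ∈ T, b * (f⁻¹ * n) = f⁻¹ * n * b := fun n hn hnT => by
    obtain ⟨f, hf, e⟩ := h1.bru w hw hwN (n * w) (L.mul_mem hn hw)
      (fun h2 => hwN ((mul_mem_cancel_left hnT).1 h2))
    refine ⟨f, hf, hH0 _ (L.mul_mem (L.inv_mem (hT.syl.le hf)) hn)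
      (mul_mem (inv_mem (norm_self T hf)) hnT) (cj_eq_cj_iff.1 ?_)⟩
    rw [← e, cj_mul]
  have hstar : ∀ n ∈ L, n ∈ N[T] → n⁻¹ * (b * n * b⁻¹) ∈ Z := fun n hn hnT => by
    obtain ⟨f, hf, e⟩ := hdec n hn hnT
    have h3 := conj_mem' (hT.norm (mul_mem (inv_mem (norm_self T hf)) hnT)) (k2 f hf)
    have e2 : b⁻¹ * (f⁻¹ * n) = f⁻¹ * n * b⁻¹ := by rw [hD.inv hb, e]
    convert h3 using 1
    calc n⁻¹ * (b * n * b⁻¹) = n⁻¹ * b * f * (f⁻¹ * n * b⁻¹) := by group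
      _ = _ := by rw [← e2]; group
  have hbru : ∀ g ∈ L, g ∉ N[T] → ∃ f ∈ T, ∃ n ∈ L, n ∈ N[T] ∧ g = f * w * n := fun g hg hgN => by
    obtain ⟨f, hf, e⟩ := h1.bru w hw hwN g hg hgN
    rw [← cj_mul] at e
    exact ⟨f, hf, (f * w)⁻¹ * g, L.mul_mem (L.inv_mem (L.mul_mem (hT.syl.le hf) hw)) hg,
      cj_eq_cj_iff.1 e, by group⟩
  have hT'L : cj w T ≤ L := cj_le_of_mem hT.syl.le hw
  -- `b` centralises `T'`
  have hcT' : ∀ s ∈ cj w T, b * s = s * b := fun s hs => by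
    by_contra hne
    have hsL := hT'L hs
    have hsN : s ∉ N[T] := fun hn => hne (by
      rw [h.eq_one_of_norm hT h1 hwN hsL ((hT.syl.pi.cj w).piElt hs) hn (norm_self _ hs)]; simp)
    obtain ⟨f, hf, n, hn, hnT, e⟩ := hbru s hsL hsN
    have hz1 := k2' s hs
    have hz2 := k2 f hf
    have hz3 := hstar n hn hnT
    set z1 := s⁻¹ * (b * s * b⁻¹) with e1
    set z2 := f⁻¹ * (b * f * b⁻¹) with e2
    set z3 := n⁻¹ * (b * n * b⁻¹) with e3
    have hz11 : z1 ≠ 1 := fun e0 => hne (by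
      rw [e1, inv_mul_eq_one, eq_mul_inv_iff_mul_eq] at e0; exact e0.symm)
    have e4 : z1 * z3⁻¹ = (w * n)⁻¹ * z2 * (w * n) := by
      have : b⁻¹ * w = w * b⁻¹ := by rw [hD.inv hb, hwb]
      calc z1 * z3⁻¹ = (w * n)⁻¹ * f⁻¹ * b * f * (w * b⁻¹) * b * n * b⁻¹ * z3⁻¹ := by
            rw [e1, e]; group
        _ = _ := by rw [← this, e2, e3]; group
    have hz1sq : z1 * z1 = 1 := by
      obtain ⟨y, hy, e5⟩ := mem_cj'.1 hz1
      rw [e5]; exact conj_sq (hT.ea.sq hy) w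
    have hz1T := cj_mono w hT.le hz1
    by_cases hz31 : z3 = 1
    · rw [hz31, inv_one, mul_one] at e4
      have h5 : cj (w * n)⁻¹ T = cj w T := h.ti' hT h1 hz1T
        (by rw [e4]; simpa using conj_mem_cj (w * n)⁻¹ (hT.le hz2)) hz11
      apply hwN
      rw [mem_N_iff_cj, ← cj_of_mem hs, ← h5, ← cj_mul, e]
      have : f * w * n * (w * n)⁻¹ = f := by group
      rw [this, cj_of_mem hf]
    · have hc : z1 * z3 = z3 * z1 := by
        refine comm_of_sq hz1sq (hT.ea.sq hz3) ?_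
        rw [hT.ea.inv hz3] at e4
        rw [e4]; simpa using conj_sq (hT.ea.sq hz2) (w * n)⁻¹
      refine hz11 (h.eq_one_of_norm hT h1 hwN (hT'L hz1T) (twoE_of_sq hz1sq) ?_ (norm_self _ hz1T))
      simpa using h.norm_of_comm hT h1 (g := 1) (by simpa using hT.le hz3) hz31 hc
  have hcT : ∀ t ∈ T, b * t = t * b := fun t ht => by
    have := hcT' _ (conj_mem_cj w ht)
    calc b * t = w⁻¹ * (w * b) * t := by group
      _ = w⁻¹ * (b * (w * t * w⁻¹)) * w := by rw [← hwb]; group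
      _ = t * (w⁻¹ * (b * w)) := by rw [this]; group
      _ = t * b := by rw [hwb]; group
  have hcN : ∀ n ∈ L, n ∈ N[T] → b * n = n * b := fun n hn hnT => by
    obtain ⟨f, hf, e⟩ := hdec n hn hnT
    have := Commute.mul_right (hcT f hf) e
    rwa [mul_inv_cancel_left] at this
  refine hD.ne b hb (h.eq_one fun g hg => mem_C1.2 (Eq.symm ?_))
  by_cases hgN : g ∈ N[T]
  · exact hcN g hg hgN
  · obtain ⟨f, hf, n, hn, hnT, rfl⟩ := hbru g hg hgN
    exact Commute.mul_right (Commute.mul_right (hcT f hf) hwb) (hcN n hn hnT)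

theorem AS.mem_of_ty1 (hD : SC D) (hZ : ∀ z ∈ Z, z ≠ 1 → z ∈ D) (hd : d ∈ D) (hdT : d ∈ N[T]) :
    d ∈ L := by
  by_contra hdL
  obtain ⟨l, hl, hlN⟩ := SetLike.not_le_iff_exists.1 (h.not_le_N hT)
  obtain ⟨z, hz, hz1⟩ := exists_ne_one hT.ne_bot
  have hz' := hD.conj z (hZ z hz hz1) l
  have hz'T : l * z * l⁻¹ ∈ cj l T := conj_mem_cj l (hT.le hz)
  have hodd : ¬ OddE (d * (l * z * l⁻¹)) := fun ho => by
    obtain ⟨g, -, e⟩ := H6.exists_conj_of_odd (hD.sq d hd) (hD.sq _ hz') (oddE_iff.1 ho)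
    exact hdL ((conj_mem_iff (h.memN g)).1 (e ▸ conj_mem (h.memN l) (hT.syl.le (hT.le hz))))
  obtain ⟨m, -, -, hm, c1, c2⟩ := hD.even hd hz' hodd
  set c := (d * (l * z * l⁻¹)) ^ m
  have hcT' := h.norm_of_comm hT h1 hz'T (hD.ne _ hz') c2
  by_cases hcT : c ∈ N[T]
  · exact h.two_points hT h1 hD hZ hl hlN hm hcT hcT'
  · obtain ⟨l', hl', e⟩ := Sylow_trans Nat.prime_two hT.syl (hT.syl.cj_mem_N (h.memN c))
    refine h.two_points hT h1 hD hZ hl' (fun hn => hcT ?_) hd hdT ?_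
    · rw [mem_N_iff_cj, e, cj_of_mem_N hn]
    · rw [← e, mem_N_iff_cj, ← cj_mul, ← c1, cj_mul, cj_of_mem_N hdT]

end ty1

/-- A2: the elements of `D` induce inner automorphisms -/
theorem AS.mem (h : AS L) (hL : TypeG L) (hD : SC D) (hd : d ∈ D) : d ∈ L := by
  obtain ⟨e, he, heL⟩ := h.exists_mem hD hd
  obtain ⟨P, hP, hdP⟩ := Sylow_superset Nat.prime_two (hD.two hd).isPi (le_top : zpowers d ≤ ⊤)
  have hdP' := hdP (mem_zpowers d)
  have hT : Syl 2 L (P ⊓ L) := hP.inf_nml ⟨le_top, h.nml⟩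
  obtain ⟨Z, hZ, h12⟩ := hL.of_syl hT
  have hZD : ∀ z ∈ Z, z ≠ 1 → z ∈ D := fun z hz h1 =>
    hZ.mem_D hD he heL (hZ.le hz).2 h1 (hZ.ea.sq hz)
  rcases h12 with h1 | h2
  · exact h.mem_of_ty1 hZ h1 hD hZD hd (norm_inf (norm_self P) (h.norm P) hdP')
  · refine (h.le_of_cent hT (h2.eq ▸ hZ.ea.abl) (hD.two hd).isPi
      (zpowers_le.2 (mem_C'.2 fun z hz => ?_)) (mem_zpowers d)).2
    by_cases hz1 : z = 1
    · simp [hz1]
    exact hD.comm hd (hZD z (h2.eq ▸ hz) hz1) (hP.pi.piElt (P.mul_mem hdP' hz.1))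

end Gold
end H26
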