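import Mathlib
import Cfsg.Agent.H26.GAlm

/-! GOLD: the almost simple group `N(K) / Ck K` attached to a piece `K`. -/

set_option autoImplicit false
set_option linter.unusedSectionVars false
set_option linter.unusedVariables false

namespace H26
namespace Gold

open Cfsg H24 Subgroup
open scoped commutatorElement

universe u

variable {G : Type u} [Group G] [Finite G] {D : Set G} {A B H K K0 L M P Q S T V Y Z : Subgroup G}
  {a b c d e g t x y z : G}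

theorem exists_sq_mem (hP : TwoG P) (hn : P ≤ N[Z]) (h : ¬ P ≤ Z) : ∃ x ∈ P, x ∉ Z ∧ x * x ∈ Z := by
  obtain ⟨y, hy, h1, h2⟩ := TwoG.exists_inv (hP.quo Z) (mt (quo_eq_bot hn).1 h)
  obtain ⟨x, hx, hxN, rfl⟩ := mem_quo.1 hy
  refine ⟨x, hx, mt (cs_eq_one hxN).2 h1, (cs_eq_one (mul_mem hxN hxN)).1 ?_⟩
  rw [← h2]; exact ap_mul _ hxN hxN

theorem exists_pow_inv (h : TwoE x) (h1 : x ≠ 1) : ∃ n : ℕ, x ^ n ≠ 1 ∧ x ^ n * x ^ n = 1 := by
  obtain ⟨y, hy, h2, h3⟩ := TwoG.exists_inv h.isPi (by rwa [Ne, zpowers_eq_bot])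
  obtain ⟨n, rfl⟩ := (mem_powers_iff_mem_zpowers.2 hy : y ∈ Submonoid.powers x)
  exact ⟨n, h2, h3⟩

theorem TZ.conj_inv (h : TZ L T Z) (hx : x ∈ L) (hx1 : x ≠ 1) (hx2 : x * x = 1) (hy : y ∈ L)
    (hy1 : y ≠ 1) (hy2 : y * y = 1) : ∃ k ∈ L, y = k * x * k⁻¹ := by
  obtain ⟨g, hg, hle⟩ := Sylow_Jsub Nat.prime_two h.syl (twoE_of_sq hx2).isPi (zpowers_le.2 hx)
  obtain ⟨g', hg', hle'⟩ := Sylow_Jsub Nat.prime_two h.syl (twoE_of_sq hy2).isPi (zpowers_le.2 hy)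
  obtain ⟨k, hk, -, e1⟩ := h.trans _ ((h.memZ _).2 ⟨hle (conj_mem_cj g (mem_zpowers x)), conj_sq hx2 g⟩)
    (by rwa [Ne, conj_eq_one_iff']) _
    ((h.memZ _).2 ⟨hle' (conj_mem_cj g' (mem_zpowers y)), conj_sq hy2 g'⟩)
    (by rwa [Ne, conj_eq_one_iff'])
  refine ⟨g'⁻¹ * k * g, L.mul_mem (L.mul_mem (L.inv_mem hg') hk) hg, ?_⟩
  calc y = g'⁻¹ * (g' * y * g'⁻¹) * g' := by group
    _ = _ := by rw [e1]; group

theorem TZ.exists_conj (h : TZ L T Z) (hP : TwoG P) (hPL : P ≤ L) (hn : P ≤ N[Z]) :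
    ∃ l ∈ L, P ≤ cj l T ∧ cj l Z = Z := by
  obtain ⟨l, hl, hle⟩ := Sylow_subJ Nat.prime_two h.syl (h.ea.two.sup hP hn)
    (sup_le (h.le.trans h.syl.le) hPL)
  refine ⟨l, hl, le_sup_right.trans hle, (eq_of_card_ge (fun z hz => ?_) (card_cj l Z).le).symm⟩
  refine mem_cj.2 ((h.memZ _).2 ⟨mem_cj.1 (hle (mem_sup_left hz)), ?_⟩)
  simpa using conj_sq (h.ea.sq hz) l⁻¹

theorem TZ.cent_of_two (h : TZ L T Z) (hP : TwoG P) (hPL : P ≤ L) (hn : P ≤ N[Z]) : P ≤ C[Z] := by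
  obtain ⟨l, -, h1, h2⟩ := h.exists_conj hP hPL hn
  rw [← h2]; exact h1.trans (cent_cj h.cent l)

theorem TZ.mem_of_norm (h : TZ L T Z) (hz : z ∈ L) (h2 : z * z = 1) (hn : z ∈ N[Z]) : z ∈ Z := by
  obtain ⟨l, -, h1, h3⟩ := h.exists_conj (twoE_of_sq h2).isPi (zpowers_le.2 hz) (zpowers_le.2 hn)
  rw [← h3]
  refine mem_cj.2 ((h.memZ _).2 ⟨mem_cj.1 (h1 (mem_zpowers z)), ?_⟩)
  simpa using conj_sq h2 l⁻¹

theorem TZ.exists_ne (h : TZ L T Z) (x : G) : ∃ y ∈ Z, y ≠ 1 ∧ y ≠ x := by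
  by_contra hne
  push Not at hne
  have : (Z : Set G) ⊆ {1, x} := fun y hy => by
    by_cases h1 : y = 1
    · exact Or.inl h1
    · exact Or.inr (hne y hy h1)
  have h1 := Set.ncard_le_ncard this
  have h2 := Set.ncard_insert_le (1 : G) {x}
  have h3 := h.four
  rw [← Nat.card_coe_set_eq] at h1
  simp only [Set.ncard_singleton, SetLike.coe_sort_coe] at h1 h2
  omega

variable {X : Type u} [Group X] [Finite X] {π : N[K] →* X}

/-- `π : N(K) → N(K) / Ck K` -/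
structure Hat (K : Subgroup G) (π : N[K] →* X) : Prop where
  surj : Function.Surjective π
  ker : pre π ⊥ = Ck K

theorem exists_hat (K : Subgroup G) :
    ∃ (X : Type u) (_ : Group X) (_ : Finite X) (π : N[K] →* X), Hat K π := by
  have := (Ck_nml K).normal
  refine ⟨N[K] ⧸ (Ck K).subgroupOf N[K], inferInstance, inferInstance, QuotientGroup.mk' _,
    QuotientGroup.mk'_surjective _, ?_⟩
  ext x
  rw [mem_pre_bot]
  refine ⟨fun ⟨h1, h2⟩ => ?_, fun h => ⟨Ck_le_N K h, ?_⟩⟩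
  · rw [ap_of_mem _ h1, QuotientGroup.mk'_apply, QuotientGroup.eq_one_iff] at h2; exact h2
  · rw [ap_of_mem _ (Ck_le_N K h), QuotientGroup.mk'_apply, QuotientGroup.eq_one_iff]; exact h

namespace Hat

theorem eq_one (h : Hat K π) (hx : x ∈ N[K]) : ap π x = 1 ↔ x ∈ Ck K := by
  rw [← h.ker, mem_pre_bot]; exact ⟨fun e => ⟨hx, e⟩, fun e => e.2⟩

theorem le_iff (h : Hat K π) (hA : A ≤ N[K]) (hB : B ≤ N[K]) : img π A ≤ img π B ↔ A ≤ B ⊔ Ck K := by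
  rw [img_le_img_iff hA hB, h.ker]

theorem pre_img (h : Hat K π) (hA : A ≤ N[K]) : pre π (img π A) = A ⊔ Ck K := by
  rw [H24.pre_img π hA, h.ker]

theorem mem_iff (h : Hat K π) (hx : x ∈ N[K]) (hB : B ≤ N[K]) : ap π x ∈ img π B ↔ x ∈ B ⊔ Ck K := by
  rw [← h.pre_img hB, mem_pre]; exact ⟨fun e => ⟨hx, e⟩, fun e => e.2⟩

theorem exists_ap (h : Hat K π) (y : X) : ∃ x ∈ N[K], ap π x = y := by
  obtain ⟨x, rfl⟩ := h.surj y
  exact ⟨x, x.2, ap_coe π x⟩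

theorem img_top (h : Hat K π) : img π N[K] = ⊤ := by
  rw [img_dom, MonoidHom.range_eq_top.2 h.surj]

theorem cov (h : Hat K π) (h0 : Cov K0 K) : img π K0 = img π K :=
  le_antisymm (img_mono π h0.le) ((h.le_iff (norm_self K) (norm_of_le h0.le)).2
    (h0.cov.trans (sup_le_sup_left (Od_le_Ck K) _)))

theorem as (h : Hat K π) (hK : QS K) : AS (img π K) := by
  refine ⟨by rw [← h.img_top]; exact img_norm π le_rfl, fun M hM => ?_, fun hab => ?_, ?_⟩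
  · have hn : K ⊓ pre π M ⊴ K := nml_inf_of_norm (norm_pre (norm_self K) hM.norm)
    have e := img_inf_pre π K M
    rw [inf_eq_right.2 hM.le] at e
    rcases hK.nml _ hn with h1 | h1
    · exact Or.inr (by rw [← e, h1])
    · exact Or.inl (by rw [← e, img_eq_bot (inf_le_left.trans (norm_self K)), h.ker]; exact h1)
  · rw [abl_img_iff (norm_self K), hK.perf, h.ker] at hab
    exact hK.not_le_Ck hab
  · refine eq_bot_iff.2 fun y hy => ?_
    obtain ⟨x, hx, rfl⟩ := h.exists_ap y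
    have h1 := (comm_le_ker (f := π) (zpowers_le.2 hx) (norm_self K)).2
      (by rw [img_zpowers π hx]; exact zpowers_le.2 hy)
    rw [h.ker] at h1
    exact (h.eq_one hx).2 (le_Ck_of_comm hK.perf (zpowers_le.2 hx) h1 (mem_zpowers x))

theorem memD (h : Hat K π) (hd : d ∈ D) (hN : d ∈ N[K]) (h1 : d ∉ Ck K) : ap π d ∈ imD D π :=
  ⟨mt (h.eq_one hN).1 h1, d, hd, hN, rfl⟩

/-- lifting an involution to `D` -/
theorem lift (h : Hat K π) (hD : SC D) {T Z : Subgroup X} (hT : TZ (img π K) T Z) (he : e ∈ D)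
    (heN : e ∈ N[K]) (he1 : e ∉ Ck K) (heL : ap π e ∈ img π K) (h0 : Cov K0 K) {z : X}
    (hz : z ∈ img π K) (h1 : z ≠ 1) (h2 : z * z = 1) : ∃ d ∈ D, d ∈ K0 ∧ ap π d = z := by
  have hKN := norm_self K
  have hDh := hD.imD h.surj
  have heD := h.memD he heN he1
  -- one element of `D ∩ K` outside `Ck K`
  obtain ⟨d, hd, hdK, hd1⟩ : ∃ d ∈ D, d ∈ K ∧ d ∉ Ck K := by
    obtain ⟨g, hg, hle⟩ := Sylow_Jsub Nat.prime_two hT.syl (hDh.two heD).isPi (zpowers_le.2 heL)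
    have hgZ := (hT.memZ _).2 ⟨hle (conj_mem_cj g (mem_zpowers _)), conj_sq (hDh.sq _ heD) g⟩
    obtain ⟨y, hy, hy1, hy2⟩ := hT.exists_ne (g * ap π e * g⁻¹)
    have hy' : g⁻¹ * y * g ∈ img π K :=
      mul_mem (mul_mem (inv_mem hg) (hT.syl.le (hT.le hy))) hg
    obtain ⟨k, hk, e1⟩ := hT.conj_inv heL heD.1 (hDh.sq _ heD) hy'
      (by simpa using (conj_eq_one_iff' (g := g⁻¹)).not.2 hy1)
      (by simpa using conj_sq (hT.ea.sq hy) g⁻¹)
    obtain ⟨k, hkK, rfl⟩ := (mem_img_of_le hKN).1 hk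
    have hm : e * (k * e * k⁻¹) ∈ K := by
      have := K.mul_mem (conj_mem heN hkK) (K.inv_mem hkK)
      rw [hD.inv he] at this
      simpa [mul_assoc] using this
    have hap : ap π (e * (k * e * k⁻¹)) = g⁻¹ * (g * ap π e * g⁻¹ * y) * g := by
      rw [ap_mul π heN (conj_mem (norm_N (norm_self K) hkK) heN), ap_conj π (hKN hkK) heN, ← e1]
      group
    have hsq : ap π (e * (k * e * k⁻¹)) ^ 2 = 1 := by
      rw [hap, pow_two]; simpa using conj_sq (hT.ea.sq (mul_mem hgZ hy)) g⁻¹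
    have hne : ap π (e * (k * e * k⁻¹)) ≠ 1 := by
      rw [hap]
      refine fun e0 => hy2 ?_
      have e2 : g * ap π e * g⁻¹ * y = 1 := by simpa using (conj_eq_one_iff' (g := g⁻¹)).1 (by simpa using e0)
      rw [← hT.ea.inv hgZ, eq_inv_iff_mul_eq_one, hT.ea.comm hy hgZ, e2]
    have ho : ¬ OddE (e * (k * e * k⁻¹)) := fun ho =>
      hne (eq_one_of_odd_sq (ho.ap π (hKN hm)) (by rwa [pow_two] at hsq))
    obtain ⟨m, ⟨j, hj⟩, -, hmD, -, -⟩ := hD.even he (hD.conj e he k) ho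
    refine ⟨_, hmD, pow_mem hm m, fun hc => hne ?_⟩
    rw [← h.eq_one (hKN (pow_mem hm m)), ap_pow π (hKN hm), hj, pow_succ, pow_mul, hsq, one_pow,
      one_mul] at hc
    exact hc
  have hdD := h.memD hd (hKN hdK) hd1
  obtain ⟨k, hk, rfl⟩ := hT.conj_inv (ap_mem_img π hdK (hKN hdK)) hdD.1 (hDh.sq _ hdD) hz h1 h2
  rw [← h.cov h0] at hk
  obtain ⟨k, hkK, rfl⟩ := (mem_img_of_le (norm_of_le h0.le)).1 hk
  -- move `d` into the cover
  have hO := pcore_nml ({2}ᶜ : Set ℕ) K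
  have hp : IsProd K0 Od[K] K := by
    have := isProd_sup' (h0.le.trans hO.norm)
    rwa [le_antisymm (sup_le h0.le hO.le) h0.cov] at this
  obtain ⟨T0, hT0⟩ := Sylow_exists Nat.prime_two K0
  have hT0' : Syl 2 K T0 := hT0.of_idx h0.le ((Od_odd K).piNat.dvd hp.relIndex_dvd)
  obtain ⟨l, hl, hle⟩ := Sylow_Jsub Nat.prime_two hT0' (hD.two hd).isPi (zpowers_le.2 hdK)
  obtain ⟨l0, hl0, o, ho, rfl⟩ := hp.mul l hl
  have hod : o * d * o⁻¹ ∈ K0 := by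
    have := conj_mem' (norm_self K0 hl0) (hT0.le (hle (conj_mem_cj _ (mem_zpowers d))))
    simpa [mul_assoc] using this
  refine ⟨k * (o * d * o⁻¹) * k⁻¹, hD.conj _ (hD.conj d hd o) k, conj_mem (norm_self K0 hkK) hod, ?_⟩
  rw [ap_conj π (hKN (h0.le hkK)) (hKN (h0.le hod)), ap_conj π (hKN (hO.le ho)) (hKN hdK),
    (h.eq_one (hKN (hO.le ho))).2 (Od_le_Ck K ho)]
  simp

end Hat

/-- all the information about a piece read in `N(K) / Ck K` -/
structure HD (D : Set G) (A K T : Subgroup G) (π : N[K] →* X) : Prop where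
  hat : Hat K π
  sc : SC D
  qs : QS K
  syl : Syl 2 K T
  TA : T ≤ N[A]
  AT : A ≤ N[T]
  AK : A ≤ N[K]
  max : MaxD D (K ⊔ A) A
  tz : TZ (img π K) (img π T) (img π A)
  ty : Ty1 (img π K) (img π T) (img π A) ∨ Ty2 (img π K) (img π T) (img π A)
  mem : ∀ d ∈ D, d ∈ N[K] → ap π d ∈ img π K
  lift : ∀ K0, Cov K0 K → ∀ z ∈ img π K, z ≠ 1 → z * z = 1 → ∃ d ∈ D, d ∈ K0 ∧ ap π d = z

theorem Ctx.exists_hd (h : Ctx D H A) (hK : Piece D H K) (hπ : Hat K π) (hP : TwoG P) (hPK : P ≤ K)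
    (hPA : P ≤ N[A]) : ∃ T, P ≤ T ∧ HD D A K T π := by
  have hD := h.sc
  have hAK := hK.normA h.max
  have hKN := norm_self K
  have has := hπ.as hK.qs
  have hDh := hD.imD hπ.surj
  obtain ⟨e, he, heH, he1⟩ : ∃ e ∈ D, e ∈ H ∧ e ∉ Ck K := by
    by_contra hne
    push Not at hne
    exact hK.qs.not_le_Ck (hK.le.trans (Og_le_iff.2 hne))
  have heN : e ∈ N[K] := hK.norm (mem_Og he heH)
  obtain ⟨e', he', he'L⟩ := has.exists_mem hDh (hπ.memD he heN he1)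
  have hty : TypeG (img π K) := h.ih.typeG hDh
    (Nat.lt_succ_of_le ((Nat.le_of_dvd (card_pos K) (card_img_dvd π K)).trans (card_le hK.le')))
    has.isSimpleGroup has.nab he' he'L
  have hmem : ∀ d ∈ D, d ∈ N[K] → ap π d ∈ img π K := fun d hd hN => by
    by_cases h1 : d ∈ Ck K
    · rw [(hπ.eq_one hN).2 h1]; exact one_mem _
    · exact has.mem hty hDh (hπ.memD hd hN h1)
  have hmax : MaxD D (K ⊔ A) A := h.max.mono le_sup_right (sup_le hK.le' h.max.le)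
  obtain ⟨S, hS, hle⟩ := Sylow_superset Nat.prime_two (h.two.sup hP hPA)
    (sup_le le_sup_right (hPK.trans le_sup_left) : A ⊔ P ≤ K ⊔ A)
  have hAS : A ≤ S := le_sup_left.trans hle
  have hSA : S ≤ N[A] := hmax.norm_of_two hD hS.pi hAS hS.le
  have hT : Syl 2 K (S ⊓ K) := hS.inf_nml (nml_sup_left hAK)
  have hAT : A ≤ N[S ⊓ K] := norm_inf (norm_of_le hAS) hAK
  have hTh : Syl 2 (img π K) (img π (S ⊓ K)) := hT.img π hKN
  obtain ⟨Z, hZ, hty'⟩ := hty.of_syl hTh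
  have hlift : ∀ K0, Cov K0 K → ∀ z ∈ img π K, z ≠ 1 → z * z = 1 → ∃ d ∈ D, d ∈ K0 ∧ ap π d = z :=
    fun K0 h0 z hz h1 h2 => hπ.lift hD hZ he heN he1 (hmem e he heN) h0 hz h1 h2
  have hAZ : img π A = Z := by
    refine le_antisymm (fun y hy => ?_) fun z hz => ?_
    · obtain ⟨a, ha, rfl⟩ := (mem_img_of_le hAK).1 hy
      have hsq : ap π a * ap π a = 1 := by rw [← ap_mul π (hAK ha) (hAK ha), h.ea.sq ha, ap_one]
      refine hZ.mem_of_norm ?_ hsq (hZ.norm (ap_mem_N π (hAT ha) (hAK ha)))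
      rcases h.max.mem a ha with rfl | h1
      · rw [ap_one]; exact one_mem _
      · exact hmem a h1 (hAK ha)
    · by_cases hz1 : z = 1
      · rw [hz1]; exact one_mem _
      obtain ⟨d, hd, hdK, rfl⟩ := hlift K (Cov.refl hK.perf) z (hTh.le (hZ.le hz)) hz1 (hZ.ea.sq hz)
      -- conjugate `d` into `S` inside the preimage of `Z`
      have hS' : Syl 2 (K ⊓ ((S ⊓ K) ⊔ Ck K)) (S ⊓ K) :=
        hT.of_le (le_inf inf_le_right le_sup_left) inf_le_left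
      have hdm : d ∈ K ⊓ ((S ⊓ K) ⊔ Ck K) :=
        ⟨hdK, (hπ.mem_iff (hKN hdK) (inf_le_right.trans hKN)).1 (hZ.le hz)⟩
      obtain ⟨m, hm, hle'⟩ := Sylow_Jsub Nat.prime_two hS' (hD.two hd).isPi (zpowers_le.2 hdm)
      have hmA : m * d * m⁻¹ ∈ A := hmax.mem_of_two hD hS.pi hAS hS.le (hD.conj d hd m)
        (hle' (conj_mem_cj m (mem_zpowers d))).1
      have := ap_mem_img π hmA (hAK hmA)
      rwa [ap_conj π (hKN hm.1) (hKN hdK), conj_eq_of_mem_C (hZ.cent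
        ((hπ.mem_iff (hKN hm.1) (inf_le_right.trans hKN)).2 hm.2)) hz] at this
  rw [← hAZ] at hZ hty'
  exact ⟨S ⊓ K, le_inf (le_sup_right.trans hle) hPK, hπ, hD, hK.qs, hT, inf_le_left.trans hSA, hAT, hAK,
    hmax, hZ, hty', hmem, hlift⟩

end Gold
end H26
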