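import Mathlib
import Cfsg.Agent.H26.GHat

/-! GOLD: facts about one piece. -/

set_option autoImplicit false
set_option linter.unusedSectionVars false
set_option linter.unusedVariables false

namespace H26
namespace Gold

open Cfsg H24 Subgroup
open scoped commutatorElement

universe u

variable {G : Type u} [Group G] [Finite G] {D : Set G} {A B H K K0 L M P Q S T V Y Z : Subgroup G}
  {a b c d e g t u x y z : G}

variable {X : Type u} [Group X] [Finite X] {π : N[K] →* X}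

theorem relIndex_inf_self (A B : Subgroup G) : (A ⊓ B).relIndex A = B.relIndex A := by
  rw [inf_comm, inf_relIndex_right]

namespace HD

theorem ea (h : HD D A K T π) : EA A := h.max.ea h.sc

theorem as (h : HD D A K T π) : AS (img π K) := h.hat.as h.qs

theorem TN (h : HD D A K T π) : T ≤ N[K] := h.syl.le.trans (norm_self K)

theorem card (h : HD D A K T π) : ♯(img π A) = (Ck K).relIndex A := by
  rw [card_img π h.AK, h.hat.ker]

theorem apA (h : HD D A K T π) (ha : a ∈ A) : ap π a ∈ img π A := ap_mem_img π ha (h.AK ha)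

theorem sq (h : HD D A K T π) (hd : d ∈ D) (hN : d ∈ N[K]) : ap π d * ap π d = 1 := by
  rw [← ap_mul π hN hN, h.sc.sq d hd, ap_one]

/-- lifting commuting involutions -/
theorem lift_comm (h : HD D A K T π) (h0 : Cov K0 K) (hA : A ≤ N[K0]) (hB : B ≤ A) {z : X}
    (hz : z ∈ img π K) (h1 : z ≠ 1) (h2 : z * z = 1) (hc : z ∈ C[img π B]) :
    ∃ d ∈ D, d ∈ K0 ∧ d ∈ C[B] ∧ ap π d = z := by
  obtain ⟨d, hd, hdK, rfl⟩ := h.lift K0 h0 z hz h1 h2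
  have hK0N : K0 ≤ N[K] := norm_of_le h0.le
  have hBN := hB.trans h.AK
  set W := img π B ⊔ zpowers (ap π d)
  have hW : Abl W := ((h.ea.abl.of_le hB).img π).sup (abl_zpowers _) (cents_symm (zpowers_le.2 hc))
  obtain ⟨A', hA', hle⟩ := exists_maxD (H := (K0 ⊔ B) ⊓ pre π W) h.sc
    (le_inf le_sup_right ((le_pre_img π hBN).trans (pre_mono π le_sup_left)))
    fun b hb => h.max.mem b (hB hb)
  obtain ⟨m, hm, hmd⟩ := hA'.conj_mem h.sc hd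
    ⟨mem_sup_left hdK, mem_pre.2 ⟨hK0N hdK, mem_sup_right (mem_zpowers _)⟩⟩
  have hm' := Og_le _ _ hm
  refine ⟨_, h.sc.conj d hd m, conj_mem ((nml_sup_left (hB.trans hA)).norm hm'.1) hdK,
    cents_of_le (hA'.ea h.sc).le_C hle hmd, ?_⟩
  rw [ap_conj π (mem_pre.1 hm'.2).1 (hK0N hdK),
    conj_eq_of_mem_C (hW.le_C (mem_pre.1 hm'.2).2) (mem_sup_right (mem_zpowers _))]

theorem le_sup (h : HD D A K T π) (h0 : Cov K0 K) (hA : A ≤ N[K0]) : A ≤ (A ⊓ K0) ⊔ (A ⊓ Ck K) := by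
  have h1 : A ≤ (A ⊓ K0) ⊔ Ck K := fun a ha => by
    by_cases hc : a ∈ Ck K
    · exact mem_sup_right hc
    obtain ⟨d, hd, hdK, hdC, e⟩ := h.lift_comm h0 hA le_rfl (h.tz.syl.le (h.tz.le (h.apA ha)))
      (mt (h.hat.eq_one (h.AK ha)).1 hc) (h.tz.ea.sq (h.apA ha)) (h.tz.ea.le_C (h.apA ha))
    have hdA : d ∈ A := h.max.max d hd (mem_sup_left (h0.le hdK)) hdC
    rw [← h.hat.mem_iff (h.AK ha) (inf_le_left.trans h.AK), ← e]
    exact ap_mem_img π ⟨hdA, hdK⟩ (h.AK hdA)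
  rw [inf_comm A (Ck K), group_modl' (norm_Ck (inf_le_left.trans h.AK)) inf_le_left]
  exact le_inf h1 le_rfl

/-- lifting elements normalising the image of `A` -/
theorem lift_norm (h : HD D A K T π) (h0 : Cov K0 K) (hA : A ≤ N[K0]) {k : X} (hk : k ∈ img π K)
    (hn : k ∈ N[img π A]) : ∃ u ∈ K0 ⊓ N[A], ∃ z ∈ img π A, ap π u = z * k := by
  have hK0N : K0 ≤ N[K] := norm_of_le h0.le
  rw [← h.hat.cov h0] at hk
  obtain ⟨k, hkK, rfl⟩ := (mem_img_of_le hK0N).1 hk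
  have hM : MaxD D ((K0 ⊔ A) ⊓ pre π (img π A)) A :=
    h.max.mono (le_inf le_sup_right (le_pre_img π h.AK)) (inf_le_left.trans (sup_le_sup_right h0.le A))
  have hkM : zpowers k ≤ N[(K0 ⊔ A) ⊓ pre π (img π A)] :=
    norm_inf (norm_of_le (zpowers_le.2 (mem_sup_left hkK)))
      (norm_pre (zpowers_le.2 (hK0N hkK)) (by rw [img_zpowers π (hK0N hkK)]; exact zpowers_le.2 hn))
  have hM' := hM.cj h.sc k
  rw [cj_of_mem_N (hkM (mem_zpowers k))] at hM'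
  obtain ⟨m, hm, e⟩ := hM.conj h.sc hM'
  have hm' := Og_le _ _ hm
  have hmk : m⁻¹ * k ∈ N[A] := cj_eq_cj_iff.1 e
  obtain ⟨a, ha, u, hu, e2⟩ := (mem_sup_of_norm' hA).1
    (show m⁻¹ * k ∈ A ⊔ K0 by rw [sup_comm]; exact mul_mem (inv_mem hm'.1) (mem_sup_left hkK))
  have hmN := (mem_pre.1 hm'.2).1
  refine ⟨u, ⟨hu, (mul_mem_cancel_left (norm_self A ha)).1 (e2 ▸ hmk)⟩, (ap π a)⁻¹ * (ap π m)⁻¹,
    mul_mem (inv_mem (h.apA ha)) (inv_mem (mem_pre.1 hm'.2).2), ?_⟩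
  rw [mul_assoc, ← ap_inv π hmN, ← ap_mul π (inv_mem hmN) (hK0N hkK), e2,
    ap_mul π (h.AK ha) (hK0N hu), inv_mul_cancel_left]

theorem two_cent (h : HD D A K T π) (hu : u ∈ K ⊓ N[A]) (h2 : TwoE u) : ap π u ∈ C[img π A] :=
  h.tz.cent_of_two (h2.ap π (norm_self K hu.1)).isPi
    (zpowers_le.2 (ap_mem_img π hu.1 (norm_self K hu.1)))
    (zpowers_le.2 (ap_mem_N π hu.2 (norm_self K hu.1))) (mem_zpowers _)

theorem comm_le (h : HD D A K T π) (hu : u ∈ N[K]) (hn : u ∈ N[A]) (hc : ap π u ∈ C[img π A]) :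
    ⁅A, zpowers u⁆ ≤ A ⊓ Ck K := by
  refine le_inf (comm_le_left (zpowers_le.2 hn)) ?_
  rw [← h.hat.ker, comm_le_ker h.AK (zpowers_le.2 hu), img_zpowers π hu]
  exact cents_symm (zpowers_le.2 hc)

theorem trans_cov (h : HD D A K T π) (h0 : Cov K0 K) (hA : A ≤ N[K0])
    (hx : x ∈ A) (hx' : x ∉ Ck K) (hy : y ∈ A) (hy' : y ∉ Ck K) :
    ∃ u ∈ K0 ⊓ N[A], OddE u ∧ u * x * u⁻¹ * y ∈ Ck K := by
  obtain ⟨k, hk, hkN, e⟩ := h.tz.trans _ (h.apA hx) (mt (h.hat.eq_one (h.AK hx)).1 hx') _ (h.apA hy)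
    (mt (h.hat.eq_one (h.AK hy)).1 hy')
  obtain ⟨u, hu, z, hz, e2⟩ := h.lift_norm h0 hA hk (h.tz.norm hkN)
  have hKN : K0 ⊓ N[A] ≤ N[K] := inf_le_left.trans (norm_of_le h0.le)
  have hu1 := constt_mem ({2}ᶜ : Set ℕ) hu
  have hu2 := constt_mem ({2} : Set ℕ) hu
  refine ⟨_, hu1, piElt_constt _ u, ?_⟩
  have hc := h.two_cent ⟨h0.le hu2.1, hu2.2⟩ (piElt_constt _ u)
  have hux := conj_mem hu1.2 hx
  rw [← h.hat.eq_one (mul_mem (h.AK hux) (h.AK hy)), ap_mul π (h.AK hux) (h.AK hy), mul_eq_one_iff_eq_inv,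
    h.tz.ea.inv (h.apA hy), ← conj_eq_of_mem_C hc (h.apA hux), ap_conj π (hKN hu1) (h.AK hx)]
  have e3 : ap π (constt {2} u) * ap π (constt {2}ᶜ u) = z * k := by
    rw [← ap_mul π (hKN hu2) (hKN hu1), constt_mul_constt, e2]
  calc _ = (ap π (constt {2} u) * ap π (constt {2}ᶜ u)) * ap π x *
        (ap π (constt {2} u) * ap π (constt {2}ᶜ u))⁻¹ := by group
    _ = z * (k * ap π x * k⁻¹) * z⁻¹ := by rw [e3]; group
    _ = _ := by rw [← e, conj_eq_of_mem_C (h.tz.ea.le_C hz) (h.apA hy)]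

theorem cent_B (h : HD D A K T π) : K ⊓ N[A] ≤ C[A ⊓ Ck K] := by
  refine comm_eq_bot'.1 (eq_bot_of_le ((Od_odd K).inf_eq_bot' h.ea.two) (le_inf ?_ ?_))
  · exact (commutator_mono inf_le_right inf_le_left).trans (le_Ck.1 le_rfl)
  · exact (comm_mono_left inf_le_left).trans (comm_le_left inf_le_right)

theorem cent_of_mem (h : HD D A K T π) (ht : t ∈ K ⊓ N[A]) (h1 : t ∈ A ⊔ Ck K) : t ∈ C[A] := by
  obtain ⟨a, ha, c, hc, rfl⟩ := (mem_sup_of_norm' (norm_Ck h.AK)).1 h1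
  have hcN : c ∈ N[A] := (mul_mem_cancel_left (norm_self A ha)).1 ht.2
  refine C_anti (h.le_sup (Cov.refl h.qs.perf) h.AK) (cents_sup (X := zpowers (a * c)) ?_
    (zpowers_le.2 (h.cent_B ht)) (mem_zpowers _))
  refine zpowers_le.2 (mul_mem (C_anti inf_le_left (h.ea.le_C ha)) ?_)
  refine zpowers_le.1 (comm_eq_bot.1 (eq_bot_of_le ((Od_odd K).inf_eq_bot' h.ea.two) (le_inf ?_ ?_)))
  · exact (commutator_mono (zpowers_le.2 hc) inf_le_right).trans (le_Ck.1 le_rfl)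
  · exact (comm_mono_right inf_le_left).trans (comm_le_right (zpowers_le.2 hcN))

theorem cent_of_odd (h : HD D A K T π) (hu : u ∈ K ⊓ N[A]) (ho : OddE u)
    (hc : ⁅A, zpowers u⁆ ≤ A ⊓ Ck K) : u ∈ C[A] :=
  stable_factor_cent (zpowers_le.2 (h.cent_B hu)) hc inf_le_left
    (cop ho.isPi (h.ea.two.inf_left _)).symm (Or.inr (abl_zpowers u).sol) (mem_zpowers u)

theorem flat (h : HD D A K T π) (e : img π T = img π A) : Flat A K := fun P hP hle => by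
  rw [← h.hat.le_iff (hle.trans inf_le_left) h.AK, ← e]
  exact h.as.le_of_cent h.tz.syl (e ▸ h.tz.ea.abl) (hP.img π) (e ▸ img_cent π (hle.trans inf_le_right))

/-- the element of order five -/
theorem exists_v (h : HD D A K T π) {v : X} (hv : v ∈ img π K) (hc : v ∈ C[img π A])
    (h5 : orderOf v = 5) : ∃ u ∈ K ⊓ C[A], ap π u = v := by
  obtain ⟨u, hu, z, hz, e⟩ := h.lift_norm (Cov.refl h.qs.perf) h.AK hv (C_le_N _ hc)
  have hu1 := constt_mem ({2}ᶜ : Set ℕ) hu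
  have e2 : ap π (constt {2}ᶜ u) = v := by
    rw [constt_ap π _ (norm_self K hu.1), e]
    exact constt_mul_of' (h.tz.ea.two.piElt hz) (oddE_iff.2 (by rw [h5]; decide)) (mem_C.1 hc z hz)
  exact ⟨_, ⟨hu1.1, h.cent_of_odd hu1 (piElt_constt _ u)
    (h.comm_le (norm_self K hu1.1) hu1.2 (e2 ▸ hc))⟩, e2⟩

theorem ty1 (h : HD D A K T π) (e : img π T ≠ img π A) : Ty1 (img π K) (img π T) (img π A) :=
  h.ty.resolve_right fun h2 => e h2.eq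

theorem n4 (h : HD D A K T π) (ht : t ∈ T) (hc : ⁅A, zpowers t⁆ ≤ A ⊓ Ck K) (hn : t ∉ C[A]) :
    (Ck K).relIndex A ≠ 4 ∧ ∃ y ∈ A, y ∉ Ck K ∧ t * y = y * t := by
  have htK : t ∈ K ⊓ N[A] := ⟨h.syl.le ht, h.TA ht⟩
  have htN := h.TN ht
  have ht1 : t ∉ A ⊔ Ck K := fun h1 => hn (h.cent_of_mem htK h1)
  refine ⟨fun h4 => ?_, ?_⟩
  · have hne : img π T ≠ img π A := fun e =>
      ht1 ((h.hat.mem_iff htN h.AK).1 (e ▸ ap_mem_img π ht htN))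
    obtain ⟨-, -, v, hv, hvT, hvZ, hv5, hfpf⟩ := (h.ty1 hne).u34 (h.card.trans h4) hne
    obtain ⟨w, hw, rfl⟩ := h.exists_v hv hvZ hv5
    have hwN := norm_self K hw.1
    have hTZ : img π T ≤ N[img π A] := (norm_self _).trans h.tz.norm
    have hvZN : zpowers (ap π w) ≤ N[img π A] := zpowers_le.2 (C_le_N _ hvZ)
    have h1 : img π T ≤ ⁅img π T, zpowers (ap π w)⁆ ⊔ img π A := by
      rw [← quo_le_quo_iff hTZ ((comm_le_left (zpowers_le.2 hvT)).trans hTZ), quo_comm hTZ hvZN]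
      refine (comm_eq_of_fpf (cs_mem_quo (mem_zpowers _) (C_le_N _ hvZ))
        (quo_norm _ (zpowers_le.2 hvT)) (eq_bot_iff.2 fun s hs => ?_)).ge
      obtain ⟨s, hsT, hsN, rfl⟩ := mem_quo.1 hs.1
      refine (cs_eq_one hsN).2 (hfpf s hsT ((cs_eq_one ?_).1 ?_))
      · exact mul_mem (mul_mem (mul_mem (C_le_N _ hvZ) hsN) (inv_mem (C_le_N _ hvZ))) (inv_mem hsN)
      · have := ap_commutator (coset (img π A)) (C_le_N _ hvZ) hsN
        rw [commutatorElement_def] at this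
        rw [cs, this, commutatorElement_eq_one_iff_mul_comm]
        exact (mem_C1.1 hs.2).symm
    set M := K ⊓ N[A] ⊓ pre π (img π T) with hM
    have hMN : M ≤ N[K] := inf_le_right.trans (pre_le _ _)
    have hTM : T ≤ M := le_inf (le_inf h.syl.le h.TA) (le_pre_img π h.TN)
    have hMT : img π M = img π T := le_antisymm (img_le_of_le_pre inf_le_right) (img_mono π hTM)
    have hwM : zpowers w ≤ N[M] := norm_inf (norm_of_le (zpowers_le.2 ⟨hw.1, C_le_N _ hw.2⟩))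
      (norm_pre (zpowers_le.2 hwN) (by rw [img_zpowers π hwN]; exact zpowers_le.2 hvT))
    have hAM : ⁅A, M⁆ ≤ A := comm_le_left (inf_le_left.trans inf_le_right)
    have h2 : ⁅M, zpowers w⁆ ≤ C[A] := by
      refine comm_eq_bot.1 (three_subgroup (A := zpowers w) (B := A) (K := M) ?_ ?_)
      · rw [comm_eq_bot.2 (zpowers_le.2 hw.2), commutator_bot_left]
      · exact comm_eq_bot'.2 (cents_of_le (zpowers_le.2 hw.2) hAM)
    have h3 : T ≤ ⁅M, zpowers w⁆ ⊔ A ⊔ Ck K := by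
      have h4 : ⁅M, zpowers w⁆ ≤ N[K] := (comm_le_left hwM).trans hMN
      rw [← h.hat.le_iff h.TN (sup_le h4 h.AK), img_sup π h4 h.AK, img_comm π hMN (zpowers_le.2 hwN),
        hMT, img_zpowers π hwN]
      exact h1
    have h5 := h3 ht
    rw [sup_assoc] at h5
    obtain ⟨m, hm, s, hs, rfl⟩ := (mem_sup_of_norm' (norm_sup (norm_of_cent h2)
      (norm_Ck ((comm_le_left hwM).trans hMN)))).1 h5
    exact hn (mul_mem (h2 hm) (h.cent_of_mem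
      ((mul_mem_cancel_left ((comm_le_left hwM).trans inf_le_left hm)).1 htK) hs))
  · obtain ⟨n, hn1, hn2⟩ := exists_pow_inv ((h.syl.pi.piElt ht).ap π htN)
      (fun e => ht1 (mem_sup_right ((h.hat.eq_one htN).1 e)))
    rw [← ap_pow π htN] at hn1 hn2
    have hz : ap π (t ^ n) ∈ img π A :=
      (h.tz.memZ _).2 ⟨ap_mem_img π (pow_mem ht n) (pow_mem htN n), hn2⟩
    obtain ⟨y, hy, c, hc, e⟩ := (mem_sup_of_norm' (norm_Ck h.AK)).1
      ((h.hat.mem_iff (pow_mem htN n) h.AK).1 hz)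
    refine ⟨y, hy, fun hyc => hn1 ((h.hat.eq_one (pow_mem htN n)).2 (e ▸ mul_mem hyc hc)), ?_⟩
    have h6 : y⁻¹ * (t * y * t⁻¹) = ⁅c, t⁆ := by
      have e2 : t * (y * c) = y * c * t := by rw [← e]; exact (Commute.self_pow t n)
      calc y⁻¹ * (t * y * t⁻¹) = y⁻¹ * (t * (y * c)) * c⁻¹ * t⁻¹ := by group
        _ = _ := by rw [e2, commutatorElement_def]; group
    have h7 : y⁻¹ * (t * y * t⁻¹) ∈ Od[K] ⊓ A :=
      ⟨h6 ▸ mem_Ck.1 hc t htK.1, A.mul_mem (A.inv_mem hy) (conj_mem htK.2 hy)⟩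
    rw [(Od_odd K).inf_eq_bot' h.ea.two, mem_bot, inv_mul_eq_one, eq_mul_inv_iff_mul_eq] at h7
    exact h7.symm

theorem loc1 (h : HD D A K T π) (h1 : Ty1 (img π K) (img π T) (img π A)) : Loc1 D A K := by
  refine fun a ha hc => Og_le_iff.2 fun d hd hdN => ?_
  rw [← h.hat.mem_iff hdN.1 h.AK]
  refine h.tz.mem_of_norm (h.mem d hd hdN.1) (h.sq hd hdN.1) (h.tz.norm ?_)
  simpa using h.as.norm_of_comm h.tz h1 (g := 1) (by simpa using h.tz.le (h.apA ha))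
    (mt (h.hat.eq_one (h.AK ha)).1 hc)
    (by rw [← ap_mul π hdN.1 (h.AK ha), ← ap_mul π (h.AK ha) hdN.1, mem_C1.1 hdN.2])

theorem gen2 (h : HD D A K T π) (h2 : Ty2 (img π K) (img π T) (img π A)) : Gen2 D A K := by
  intro K0 h0 hA M hM
  have hK0N : K0 ≤ N[K] := norm_of_le h0.le
  have hDh := h.sc.imD h.hat.surj
  have hZD : ∀ z ∈ img π K, z ≠ 1 → z * z = 1 → z ∈ imD D π := fun z hz h1 h2 => by
    obtain ⟨d, hd, hdK, e⟩ := h.lift K (Cov.refl h.qs.perf) z hz h1 h2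
    exact ⟨h1, d, hd, norm_self K hdK, e⟩
  have hZL := h.tz.le.trans h.tz.syl.le
  have hmax : MaxD (imD D π) (img π K) (img π A) := by
    refine ⟨hZL, fun z hz => ?_, fun z hz hzL hzC => h.tz.mem_of_norm hzL (hDh.sq z hz) (C_le_N _ hzC)⟩
    by_cases h1 : z = 1
    · exact Or.inl h1
    · exact Or.inr (hZD z (hZL hz) h1 (h.tz.ea.sq hz))
  set M1 : Subgroup X := ⨆ z : {z // z ∈ img π A ∧ z ≠ 1}, Og (imD D π) (img π K ⊓ C{(z : X)}) with hM1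
  have h3 : M1 ≤ img π (M ⊓ K0) := by
    refine iSup_le fun ⟨z, hz, hz1⟩ => Og_le_iff.2 fun s hs hsC => ?_
    obtain ⟨a, ha, rfl⟩ := (mem_img_of_le h.AK).1 hz
    obtain ⟨d, hd, hdK, hdC, rfl⟩ := h.lift_comm h0 hA (zpowers_le.2 ha) hsC.1 hs.1 (hDh.sq s hs)
      (by rw [img_zpowers π (h.AK ha), C_zpowers]; exact hsC.2)
    rw [C_zpowers] at hdC
    exact ap_mem_img π ⟨hM a ha (mt (h.hat.eq_one (h.AK ha)).2 hz1) (mem_Og hd ⟨hdK, hdC⟩), hdK⟩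
      (hK0N hdK)
  have h4 : img π K ⊓ N[img π A] ≤ N[M1] := fun n hn => by
    refine mem_N_of_cj_le (cj_le_iff.2 (iSup_le fun ⟨z, hz, hz1⟩ => cj_le_iff.1 ?_))
    rw [hDh.cj_Og, cj_inf, cj_of_mem hn.1, cj_C1]
    exact le_iSup (fun z : {z // z ∈ img π A ∧ z ≠ 1} => Og (imD D π) (img π K ⊓ C{(z : X)}))
      ⟨_, conj_mem hn.2 hz, by rwa [Ne, conj_eq_one_iff']⟩
  have h5 : img π K ≤ N[M1] := by
    refine h2.gen _ (by rw [h2.eq]; exact h4) fun z hz hz1 => ?_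
    rw [h2.eq] at hz
    have hm : MaxD (imD D π) (img π K ⊓ C{z}) (img π A) :=
      hmax.mono (le_inf hZL (mem_C_iff_le_C1.1 (h.tz.ea.le_C hz))) inf_le_left
    rw [← (hm.frattini hDh).sup_eq]
    refine sup_le (norm_of_le ?_) ((inf_le_inf_right _ inf_le_left).trans h4)
    exact le_iSup (fun z : {z // z ∈ img π A ∧ z ≠ 1} => Og (imD D π) (img π K ⊓ C{(z : X)})) ⟨z, hz, hz1⟩
  rcases h.as.simple M1 ⟨iSup_le fun z => (Og_le _ _).trans inf_le_left, h5⟩ with e | e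
  · obtain ⟨z, hz, hz1⟩ := exists_ne_one h.tz.ne_bot
    refine absurd (mem_bot.1 (e ▸ ?_)) hz1
    exact le_iSup (fun z : {z // z ∈ img π A ∧ z ≠ 1} => Og (imD D π) (img π K ⊓ C{(z : X)})) ⟨z, hz, hz1⟩
      (mem_Og (hZD z (hZL hz) hz1 (h.tz.ea.sq hz)) ⟨hZL hz, self_mem_C1 z⟩)
  · rw [e, h.hat.le_iff (norm_self K) (inf_le_right.trans hK0N)] at h3
    exact h3.trans (sup_le_sup_right inf_le_left _)

end HD

/-! ### facts about one piece (`B = A ⊓ Ck K`, `U = K ⊓ N[A]`) -/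

theorem Ctx.hd (h : Ctx D H A) (hK : Piece D H K) (hP : TwoG P) (hPK : P ≤ K) (hPA : P ≤ N[A]) :
    ∃ (X : Type u) (_ : Group X) (_ : Finite X) (π : N[K] →* X) (T : Subgroup G),
      P ≤ T ∧ HD D A K T π := by
  obtain ⟨X, _, _, π, hπ⟩ := exists_hat K
  exact ⟨X, _, ‹_›, π, h.exists_hd hK hπ hP hPK hPA⟩

theorem Ctx.hd0 (h : Ctx D H A) (hK : Piece D H K) :
    ∃ (X : Type u) (_ : Group X) (_ : Finite X) (π : N[K] →* X) (T : Subgroup G), HD D A K T π := by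
  obtain ⟨X, _, _, π, T, -, h⟩ := h.hd hK (isPi_bot _) bot_le bot_le
  exact ⟨X, _, ‹_›, π, T, h⟩

theorem Ctx.le_sup_cov (h : Ctx D H A) (hK : Piece D H K) (h0 : Cov K0 K) (hA : A ≤ N[K0]) :
    A ≤ (A ⊓ K0) ⊔ (A ⊓ Ck K) := by
  obtain ⟨X, _, _, π, T, h⟩ := h.hd0 hK
  exact h.le_sup h0 hA

theorem Ctx.le_sup (h : Ctx D H A) (hK : Piece D H K) : A ≤ (A ⊓ K) ⊔ (A ⊓ Ck K) :=
  h.le_sup_cov hK (Cov.refl hK.perf) (hK.normA h.max)

theorem Ctx.four (h : Ctx D H A) (hK : Piece D H K) : 4 ≤ (Ck K).relIndex A := by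
  obtain ⟨X, _, _, π, T, h⟩ := h.hd0 hK
  exact h.card ▸ h.tz.four

theorem Ctx.not_le_Ck' (h : Ctx D H A) (hK : Piece D H K) : ¬ A ≤ Ck K := fun hle => by
  have := h.four hK
  rw [relIndex_eq_one.2 hle] at this
  omega

theorem Ctx.not_le_Ck (h : Ctx D H A) (hK : Piece D H K) : ¬ A ⊓ K ≤ Ck K := fun hle =>
  h.not_le_Ck' hK ((h.le_sup hK).trans (sup_le hle inf_le_right))

/-- transitivity inside a cover -/
theorem Ctx.trans_cov (h : Ctx D H A) (hK : Piece D H K) (h0 : Cov K0 K) (hA : A ≤ N[K0])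
    (hx : x ∈ A) (hx' : x ∉ Ck K) (hy : y ∈ A) (hy' : y ∉ Ck K) :
    ∃ u ∈ K0 ⊓ N[A], OddE u ∧ u * x * u⁻¹ * y ∈ Ck K := by
  obtain ⟨X, _, _, π, T, h⟩ := h.hd0 hK
  exact h.trans_cov h0 hA hx hx' hy hy'

theorem Ctx.trs (h : Ctx D H A) (hK : Piece D H K) : Trs N[A] A (A ⊓ Ck K) (K ⊓ N[A]) := by
  have h4 := h.four hK
  obtain ⟨X, _, _, π, T, h⟩ := h.hd0 hK
  refine ⟨inf_le_left, by rwa [relIndex_inf_self], inf_le_right, h.cent_B,
    fun x hx hx' y hy hy' => ?_, fun u hu h2 => h.comm_le (norm_self K hu.1) hu.2 (h.two_cent hu h2)⟩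
  obtain ⟨u, hu, ho, e⟩ := h.trans_cov (Cov.refl h.qs.perf) h.AK hx (fun e => hx' ⟨hx, e⟩) hy
    (fun e => hy' ⟨hy, e⟩)
  exact ⟨u, hu, ho, mul_mem (conj_mem hu.2 hx) hy, e⟩

theorem Ctx.n4 (h : Ctx D H A) (hK : Piece D H K)
    (hu : ∃ u ∈ K ⊓ N[A], ⁅A, zpowers u⁆ ≤ A ⊓ Ck K ∧ u ∉ C[A]) :
    (A ⊓ Ck K).relIndex A ≠ 4 ∧ ∃ u ∈ K ⊓ N[A], ⁅A, zpowers u⁆ ≤ A ⊓ Ck K ∧ u ∉ C[A] ∧
      ∃ y ∈ A, y ∉ A ⊓ Ck K ∧ u * y = y * u := by
  obtain ⟨u, hu, hc, hn⟩ := hu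
  have hu2 := constt_mem ({2} : Set ℕ) hu
  obtain ⟨X, _, _, π, T, hT, h⟩ := h.hd hK (piElt_constt {2} u).isPi (zpowers_le.2 hu2.1)
    (zpowers_le.2 hu2.2)
  have hc2 : ∀ ρ : Set ℕ, ⁅A, zpowers (constt ρ u)⁆ ≤ A ⊓ Ck K := fun ρ =>
    (comm_mono_right (zpowers_le.2 (constt_mem_zpowers ρ u))).trans hc
  have hn2 : constt {2} u ∉ C[A] := fun h2 => hn (by
    rw [← constt_mul_constt {2} u]
    exact mul_mem h2 (h.cent_of_odd (constt_mem _ hu) (piElt_constt _ u) (hc2 _)))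
  obtain ⟨h4, y, hy, hy1, e⟩ := h.n4 (hT (mem_zpowers _)) (hc2 _) hn2
  exact ⟨by rwa [relIndex_inf_self], _, hu2, hc2 _, hn2, y, hy, fun h5 => hy1 h5.2, e⟩

theorem Ctx.Og_le_sup (h : Ctx D H A) (hK : Piece D H K) : Og D N[K] ≤ K ⊔ Ck K := by
  obtain ⟨X, _, _, π, T, h⟩ := h.hd0 hK
  exact Og_le_iff.2 fun d hd hN => (h.hat.mem_iff hN (norm_self K)).1 (h.mem d hd hN)

theorem Ctx.cov_le_Og (h : Ctx D H A) (hK : Piece D H K) (h0 : Cov K0 K) : K0 ≤ Og D K0 := by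
  obtain ⟨X, _, _, π, T, h⟩ := h.hd0 hK
  rcases (h0.qs h.qs).nml _ (h.sc.Og_nml K0) with e | e
  · exact e.ge
  · obtain ⟨z, hz, hz1⟩ := exists_ne_one h.tz.ne_bot
    obtain ⟨d, hd, hdK, rfl⟩ := h.lift K0 h0 z (h.tz.syl.le (h.tz.le hz)) hz1 (h.tz.ea.sq hz)
    refine absurd ((h.hat.eq_one (norm_of_le h0.le hdK)).2 ?_) hz1
    exact h0.le_Ck ((Og_le D K0).trans (norm_of_le h0.le)) (Od_odd K0) (pcore_nml _ K0).norm
      (le_Ck.1 e) (mem_Og hd hdK)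

theorem Ctx.dichotomy (h : Ctx D H A) (hK : Piece D H K) : Loc1 D A K ∨ (Flat A K ∧ Gen2 D A K) := by
  obtain ⟨X, _, _, π, T, h⟩ := h.hd0 hK
  exact h.ty.imp h.loc1 fun h2 => ⟨h.flat h2.eq, h.gen2 h2⟩

theorem Ctx.flat_or (h : Ctx D H A) (hK : Piece D H K) :
    Flat A K ∨ ∃ t ∈ K ⊓ N[A], TwoE t ∧ t * t ∈ A ⊔ Ck K ∧ t * t ∉ Ck K := by
  obtain ⟨X, _, _, π, T, h⟩ := h.hd0 hK
  by_cases e : img π T = img π A
  · exact Or.inl (h.flat e)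
  obtain ⟨s, hs, h1, h2⟩ := exists_sq_mem h.tz.syl.pi ((norm_self _).trans h.tz.norm)
    fun hle => e (le_antisymm hle h.tz.le)
  obtain ⟨t, ht, rfl⟩ := (mem_img_of_le h.TN).1 hs
  have htN := h.TN ht
  rw [← ap_mul π htN htN] at h2
  refine Or.inr ⟨t, ⟨h.syl.le ht, h.TA ht⟩, h.syl.pi.piElt ht,
    (h.hat.mem_iff (mul_mem htN htN) h.AK).1 h2, fun hc => h1 ((h.tz.memZ _).2 ⟨hs, ?_⟩)⟩
  rw [← ap_mul π htN htN, (h.hat.eq_one (mul_mem htN htN)).2 hc]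

theorem Ctx.u34 (h : Ctx D H A) (hK : Piece D H K) (h4 : (Ck K).relIndex A = 4) (hf : ¬ Flat A K) :
    ∃ T, Syl 2 K T ∧ T ≤ N[A] ∧ N[K] ⊓ C[A] ≤ N[T ⊔ Ck K] ∧ (A ⊔ Ck K).relIndex T = 16 ∧
      (∀ x ∈ T, x * x ∈ A ⊔ Ck K) ∧ (∀ x ∈ T, x * x ∈ Ck K → x ∈ A ⊔ Ck K) ∧
      ∃ v ∈ K ⊓ C[A], (∀ x ∈ T, v ^ 5 * x * (v ^ 5)⁻¹ * x⁻¹ ∈ A ⊔ Ck K) ∧
        ∀ x ∈ T, v * x * v⁻¹ * x⁻¹ ∈ A ⊔ Ck K → x ∈ A ⊔ Ck K := by
  obtain ⟨X, _, _, π, T, h⟩ := h.hd0 hK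
  have hne : img π T ≠ img π A := fun e => hf (h.flat e)
  have h1 := h.ty1 hne
  obtain ⟨h64, hsq, v, hv, hvT, hvZ, hv5, hfpf⟩ := h1.u34 (h.card.trans h4) hne
  obtain ⟨w, hw, rfl⟩ := h.exists_v hv hvZ hv5
  have hwN := norm_self K hw.1
  refine ⟨T, h.syl, h.TA, fun x hx => ?_, ?_, fun x hx => ?_, fun x hx hc => ?_, w, hw,
    fun x hx => ?_, fun x hx hc => ?_⟩
  · obtain ⟨z, hz, hz1⟩ := exists_ne_one h.tz.ne_bot
    rw [← h.hat.pre_img h.TN]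
    refine norm_pre (zpowers_le.2 hx.1) ?_ (mem_zpowers x)
    rw [img_zpowers π hx.1, zpowers_le]
    simpa using h.as.norm_of_comm h.tz h1 (g := 1) (by simpa using h.tz.le hz) hz1
      (mem_C'.1 (ap_mem_C π hx.2 hx.1) z hz)
  · have := card_mul_relIndex h.tz.le
    rw [relIndex_img π h.AK h.TN, h.hat.ker, h64, h.card, h4] at this
    omega
  · have hN := h.TN hx
    rw [← h.hat.mem_iff (mul_mem hN hN) h.AK, ap_mul π hN hN]
    exact hsq _ (ap_mem_img π hx hN)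
  · have hN := h.TN hx
    rw [← h.hat.mem_iff hN h.AK]
    refine (h.tz.memZ _).2 ⟨ap_mem_img π hx hN, ?_⟩
    rw [← ap_mul π hN hN, (h.hat.eq_one (mul_mem hN hN)).2 hc]
  · have hN := h.TN hx
    have h5 : w ^ 5 ∈ Ck K := by
      rw [← h.hat.eq_one (pow_mem hwN 5), ap_pow π hwN, ← hv5, pow_orderOf_eq_one]
    exact mem_sup_right (Od_le_Ck K (mem_Ck.1 h5 x (h.syl.le hx)))
  · have hN := h.TN hx
    rw [← h.hat.mem_iff hN h.AK]
    refine hfpf _ (ap_mem_img π hx hN) ?_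
    have h6 : ⁅w, x⁆ ∈ N[K] := mul_mem (mul_mem (mul_mem hwN hN) (inv_mem hwN)) (inv_mem hN)
    have := (h.hat.mem_iff h6 h.AK).2 hc
    rwa [ap_commutator π hwN hN] at this

end Gold
end H26
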