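import Mathlib
import Cfsg.Agent.H26.GFacts
import Cfsg.Agent.H23.Components

/-! GOLD: the structure of a group generated by `D` with trivial core. -/

set_option autoImplicit false
set_option linter.unusedSectionVars false
set_option linter.unusedVariables false

namespace H26
namespace Gold

open Cfsg H24 Subgroup
open scoped commutatorElement

universe u

variable {G : Type u} [Group G] [Finite G] {D : Set G} {A B H K L M P S T V W X Y : Subgroup G}
  {a b d e g x y z : G}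

theorem norm_sup_of_comm (h : ⁅X, K⁆ ≤ W) (hK : K ≤ N[W]) : K ≤ N[X ⊔ W] := fun k hk => by
  refine mem_N_of_cj_le ?_
  rw [cj_sup, cj_of_mem_N (hK hk)]
  refine sup_le (fun y hy => ?_) le_sup_right
  obtain ⟨x, hx, rfl⟩ := mem_cj'.1 hy
  have : k * x * k⁻¹ = x * ⁅x⁻¹, k⁆ := by rw [commutatorElement_def]; group
  rw [this]
  exact mul_mem (mem_sup_left hx) (mem_sup_right (h (commutator_mem_commutator (inv_mem hx) hk)))

theorem sol_of_perfect (h : ∀ L ≤ X, ⁅L, L⁆ = L → L = ⊥) : Sol X := by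
  induction X using subgroup_ind with
  | h X ih =>
    by_cases e : ⁅X, X⁆ = X
    · rw [h X le_rfl e]; exact sol_bot
    · exact sol_of_der1 (ih _ (lt_of_le_of_ne (der1_le X) e) fun L hL => h L (hL.trans (der1_le X)))

theorem MaxD.img (hD : SC D) (h : MaxD D H A) {G' : Type u} [Group G'] [Finite G'] {f : H →* G'} :
    MaxD (imD D f) ⊤ (img f A) := by
  refine ⟨le_top, fun y hy => ?_, fun y hy _ hc => ?_⟩
  · obtain ⟨a, ha, rfl⟩ := (mem_img_of_le h.le).1 hy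
    by_cases h1 : ap f a = 1
    · exact Or.inl h1
    · exact Or.inr ⟨h1, a, h.memD ha (by rintro rfl; exact h1 (ap_one f)), h.le ha, rfl⟩
  · obtain ⟨-, d, hd, hdH, rfl⟩ := hy
    have hm : MaxD D (pre f C{ap f d}) A :=
      h.mono ((img_le_iff h.le).1 (mem_C_iff_le_C1.1 hc)) (pre_le f _)
    obtain ⟨g, hg, hga⟩ := hm.conj_mem hD hd (mem_pre.2 ⟨hdH, self_mem_C1 _⟩)
    obtain ⟨hgH, hgC⟩ := mem_pre.1 (Og_le _ _ hg)
    have := ap_mem_img f hga (h.le hga)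
    rwa [ap_conj f hgH hdH, mem_C1_iff_conj.1 hgC] at this

theorem Og_imD {G' : Type u} [Group G'] [Finite G'] {f : Og D H →* G'} (hf : Function.Surjective f) :
    Og (imD D f) ⊤ = ⊤ := by
  refine eq_top_iff.2 ((MonoidHom.range_eq_top.2 hf).ge.trans ?_)
  rw [← img_dom, img_le_iff le_rfl]
  refine Og_le_iff.2 fun d hd hH => mem_pre.2 ⟨mem_Og hd hH, ?_⟩
  by_cases h1 : ap f d = 1
  · rw [h1]; exact one_mem _
  · exact mem_Og ⟨h1, d, hd, mem_Og hd hH, rfl⟩ (mem_top _)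

section core

variable (hO : Od[(⊤ : Subgroup G)] = ⊥)
include hO

theorem comp_Od (hL : IsComponent L) : Od[L] = ⊥ :=
  eq_bot_of_le hO ((sbn_top_iff.2 hL.1).pcore_le _)

theorem comp_Ck (hL : IsComponent L) : Ck L = C[L] := by
  refine le_antisymm ?_ (C_le_Ck L)
  have := (le_Ck (X := Ck L) (K := L)).1 le_rfl
  rwa [comp_Od hO hL, le_bot_iff, comm_eq_bot] at this

theorem comp_qs (hL : IsComponent L) : QS L := by
  obtain ⟨h1, h2, h3⟩ := H23.isQuasisimple_subgroup_iff.1 hL.2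
  exact ⟨h1, h2, fun M hM => (h3 M hM.le hM.norm).imp_right fun e =>
    (comm_eq_bot.1 e).trans (C_le_Ck L)⟩

theorem comp_center_two (hL : IsComponent L) : TwoG Z[L] := by
  have h1 := ((abl_center L).nil.pcoreC ({2} : Set ℕ)).sup
  rw [eq_bot_of_le (comp_Od hO hL) ((center_nml L).pcore_le _), sup_bot_eq] at h1
  exact isPi_of_pcore_eq h1

theorem comp_norm (hD : SC D) (hL : IsComponent L) (hd : d ∈ D) : d ∈ N[L] := by
  by_contra hn
  have hc : cj d L ≤ C[L] := comm_eq_bot.1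
    ((H23.IsComponent.eq_or_comm (H23.IsComponent.conj hL d) hL).resolve_left
      fun e => hn (mem_N_iff_cj.2 e))
  have hcomm : ∀ x ∈ L, ∀ l ∈ L, d * x * d⁻¹ * l = l * (d * x * d⁻¹) := fun x hx l hl =>
    (mem_C'.1 (hc (conj_mem_cj d hx))) l hl
  obtain ⟨Q, _, _, π, hπ⟩ := exists_hat L
  have has := hπ.as (comp_qs hO hL)
  have hLN := norm_self L
  obtain ⟨T, hT⟩ := Sylow_exists Nat.prime_two L
  have hT' : Syl 2 (img π L) (img π T) := hT.img π hLN
  obtain ⟨z, hz, hz1, hz2⟩ := TwoG.exists_inv hT'.pi fun e =>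
    has.not_sol (OddG.sol (hT'.isPi_compl_of_eq_bot e))
  obtain ⟨g, hg, hgz, hne⟩ : ∃ g ∈ img π L, g * z * g⁻¹ ∈ img π T ∧ g * z * g⁻¹ ≠ z := by
    by_contra hne
    push Not at hne
    exact has.not_zstar le_rfl hz1 (zstar_sub hT' hz hz1 hz2 hne)
  obtain ⟨x, hx, rfl⟩ := (mem_img_of_le (hT.le.trans hLN)).1 hz
  obtain ⟨l, hl, rfl⟩ := (mem_img_of_le hLN).1 hg
  have hxL := hT.le hx
  have hlx : l * x * l⁻¹ ∈ L := conj_mem (hLN hl) hxL
  rw [← ap_conj π (hLN hl) (hLN hxL)] at hgz hne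
  have hlT : l * x * l⁻¹ ∈ T := by
    rw [hπ.mem_iff (hLN hlx) (hT.le.trans hLN), comp_Ck hO hL] at hgz
    have h1 : l * x * l⁻¹ ∈ (T ⊔ C[L]) ⊓ L := ⟨hgz, hlx⟩
    rw [← group_modl' (norm_C (hT.le.trans hLN)) hT.le] at h1
    exact (sup_le le_rfl (inf_comm L C[L] ▸ hT.nml_le (comp_center_two hO hL) (center_nml L)) :
      T ⊔ C[L] ⊓ L ≤ T) h1
  -- `e = x^d x⁻¹`
  have he : ∀ w, w = d * x * d⁻¹ * x⁻¹ → w = 1 ∨ w ∈ D := by
    rintro w rfl
    have e : d * x * d⁻¹ * x⁻¹ = d * (x * d * x⁻¹) := by rw [hD.inv hd]; group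
    rw [e]
    refine hD.mul d hd _ (hD.conj d hd x) (e ▸ ?_)
    exact ((hT.pi.piElt hx).conj d).mul (hT.pi.piElt hx).inv (hcomm x hxL _ (inv_mem hxL))
  have hcen : ∀ y ∈ L, y * d = d * y → ap π y = 1 := fun y hy e => by
    rw [hπ.eq_one (hLN hy), comp_Ck hO hL]
    exact hc (mem_cj.2 (by rwa [mul_assoc, e, inv_mul_cancel_left]))
  rcases he _ rfl with e | e
  · exact hz1 (hcen x hxL (by rw [mul_inv_eq_one, mul_inv_eq_iff_eq_mul] at e; exact e.symm))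
  have e1 : (d * x * d⁻¹ * x⁻¹) * (l * (d * x * d⁻¹ * x⁻¹) * l⁻¹) = x * (l * x * l⁻¹)⁻¹ := by
    have e2 : l * (d * x * d⁻¹ * x⁻¹) * l⁻¹ = d * x * d⁻¹ * (l * x * l⁻¹)⁻¹ := by
      calc _ = l * (d * x * d⁻¹) * x⁻¹ * l⁻¹ := by group
        _ = _ := by rw [← hcomm x hxL l hl]; group
    rw [e2]
    nth_rewrite 1 [← hD.inv e]
    group
  have hyT : x * (l * x * l⁻¹)⁻¹ ∈ T := mul_mem hx (inv_mem hlT)
  have hy1 : ap π (x * (l * x * l⁻¹)⁻¹) ≠ 1 := by
    rw [ap_mul π (hLN hxL) (hLN (inv_mem hlx)), ap_inv π (hLN hlx), Ne, mul_inv_eq_one]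
    exact hne.symm
  rcases hD.mul _ e _ (hD.conj _ e l) (e1 ▸ hT.pi.piElt hyT) with e3 | e3
  · rw [e1] at e3; exact hy1 (by rw [e3, ap_one])
  rw [e1] at e3
  set y := x * (l * x * l⁻¹)⁻¹
  refine hy1 (hcen y (hT.le hyT) (hD.comm hd e3 ?_).symm)
  refine piElt_of_pow_eq_one (n := 2 ^ 2) (piNat_self_pow Nat.prime_two 2) ?_
  have e4 : (d * y) ^ 2 = d * y * d⁻¹ * y := by rw [hD.inv hd, pow_two]; group
  rw [pow_two 2, pow_mul, e4, pow_two]
  calc d * y * d⁻¹ * y * (d * y * d⁻¹ * y) = d * y * d⁻¹ * (y * (d * y * d⁻¹)) * y := by group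
    _ = d * (y * y) * d⁻¹ * (y * y) := by rw [← hcomm y (hT.le hyT) y (hT.le hyT)]; group
    _ = 1 := by rw [hD.sq y e3]; group

variable (hJ : Og D ⊤ = ⊤)
include hJ

theorem comp_nml (hD : SC D) (hL : IsComponent L) : ⊤ ≤ N[L] := by
  rw [← hJ]; exact Og_le_iff.2 fun d hd _ => comp_norm hO hD hL hd

theorem comp_piece (hD : SC D) (hL : IsComponent L) : Piece D ⊤ L :=
  ⟨hJ.symm ▸ le_top, hJ.symm ▸ comp_nml hO hJ hD hL, comp_qs hO hL⟩

theorem C_layer_two (hD : SC D) : TwoG C[layer G] := by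
  set Q := O[{2}, (⊤ : Subgroup G)] with hQ
  have hQ2 : TwoG Q := pcore_pi _ _
  have hQn : ∀ X : Subgroup G, X ≤ N[Q] := fun X => le_top.trans (pcore_nml _ _).norm
  have h2 : ∀ d ∈ D, TwoG (Q ⊔ zpowers d) := fun d hd => hQ2.sup (hD.two hd).isPi (hQn _)
  have h0 : ⊤ ≤ C[Og D Q] := by
    rw [← hJ]
    exact Og_le_iff.2 fun d hd _ => C_anti (Og_mono D le_sup_left) ((hD.ea_Og (h2 d hd)).le_C
      (mem_Og hd (mem_sup_right (mem_zpowers d))))
  have h1 : ⁅(⊤ : Subgroup G), Q⁆ ≤ Og D Q := by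
    refine ((le_centQ (hD.norm_Og (norm_self Q))).1 ?_).2
    rw [← hJ]
    refine Og_le_iff.2 fun d hd _ => (mem_centQ (hD.norm_Og (norm_self Q))).2
      ⟨hD.norm_Og (hQn ⊤) (mem_top d), fun q hq => ?_⟩
    have hm : ⁅d, q⁆ ∈ Q := comm_le_right (hQn ⊤) (commutator_mem_commutator (mem_top d) hq)
    refine (hD.mem_Og_two hQ2).2 ⟨hm, ?_⟩
    have e : ⁅d, q⁆ = d * (q * d * q⁻¹) := by rw [commutatorElement_def, hD.inv hd]; group
    rw [e] at hm ⊢
    exact hD.mul d hd _ (hD.conj d hd q) (hQ2.piElt hm)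
  have hF : fittingSubgroup G = Q := by rw [← Fitting_top, Fitting_eq_pcore Nat.prime_two hO]
  refine isPi_iff_piElt.2 fun x hx => ?_
  obtain ⟨y, z, hy, hz, -, hzx, e⟩ := exists_piElt_decomp ({2} : Set ℕ) x
  have h3 : zpowers z ≤ C[Q] := stable_factor_cent (H := Og D Q) (le_top.trans h0)
    (by rw [commC]; exact (comm_mono_left le_top).trans h1) (Og_le _ _)
    (cop hz.isPi (hQ2.of_le (Og_le _ _))).symm (Or.inr (abl_zpowers z).sol)
  have h4 : zpowers z ≤ Q := hF ▸ H23.le_fitting_of_comm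
    (comm_eq_bot.2 (zpowers_le.2 (zpowers_le.2 hx hzx))) (hF ▸ comm_eq_bot.2 h3)
  rw [e, (hQ2.piElt (h4 (mem_zpowers z))).eq_one hz, mul_one]
  exact hy

theorem Ctx.le_layer (h : Ctx D ⊤ A) : ⊤ ≤ A ⊔ layer G := by
  have hD := h.sc
  have key : ∀ 𝒮 : Set (Subgroup G), 𝒮.Finite → (∀ L ∈ 𝒮, IsComponent L) →
      ⊤ ≤ sSup 𝒮 ⊔ C[sSup 𝒮] := by
    intro 𝒮 hf
    induction 𝒮, hf using Set.Finite.induction_on with
    | empty => intro _; rw [sSup_empty, C_bot]; exact le_sup_right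
    | @insert L 𝒮 hL _ ih =>
      intro hc
      have hLc := hc L (Set.mem_insert _ _)
      have h1 : L ≤ C[sSup 𝒮] := cents_symm (sSup_le fun L' hL' => comm_eq_bot.1
        ((H23.IsComponent.eq_or_comm (hc L' (Set.mem_insert_of_mem _ hL')) hLc).resolve_left
          fun e => hL (e ▸ hL')))
      have h2 : ⊤ ≤ L ⊔ C[L] := by
        have := h.Og_le_sup (comp_piece hO hJ hD hLc)
        rwa [top_le_iff.1 (comp_nml hO hJ hD hLc), hJ, comp_Ck hO hLc] at this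
      rw [sSup_insert, C_sup]
      refine (ih fun L' hL' => hc L' (Set.mem_insert_of_mem _ hL')).trans
        (sup_le (le_sup_right.trans le_sup_left) ?_)
      have h3 := group_modl (C_le_N L) h1
      rw [top_le_iff.1 h2, top_inf_eq] at h3
      rw [← h3]
      exact sup_le (le_sup_left.trans le_sup_left) (h3.symm ▸ le_sup_right)
  have h1 : ⊤ ≤ layer G ⊔ C[layer G] := key _ (Set.toFinite _) fun _ hL => hL
  have hE : ∀ X : Subgroup G, X ≤ N[layer G] := fun X => norm_of_normal X _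
  obtain ⟨S, hS, hAS, hSA⟩ := h.max.exists_syl hD
  have h2 : C[layer G] ≤ S := hS.nml_le (C_layer_two hO hJ hD) ⟨le_top, norm_C (hE _)⟩
  rw [← hJ]
  refine Og_le_iff.2 fun d hd _ => ?_
  obtain ⟨g, -, hg⟩ := h.max.conj_mem hD hd (mem_top d)
  obtain ⟨s, hs, e, he, rfl⟩ := (mem_sup_of_norm' (hE S)).1
    ((h1.trans (sup_le le_sup_right (h2.trans le_sup_left) : _ ≤ S ⊔ layer G)) (mem_top g))
  have h3 := mem_sup_left (T := layer G) (conj_mem' (hSA hs) hg)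
  have h4 := conj_mem' (norm_self _ (mem_sup_right he)) h3
  simpa [mul_assoc] using h4

end core

end Gold
end H26
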