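import Mathlib
import Cfsg.Agent.H26.GLayer

/-! GOLD: structure of `H°` and of its pieces, given the induction hypothesis. -/

set_option autoImplicit false
set_option linter.unusedSectionVars false
set_option linter.unusedVariables false

namespace H26
namespace Gold

open Cfsg H24 Subgroup
open scoped commutatorElement

universe u

variable {G : Type u} [Group G] [Finite G] {D : Set G} {A B H H' K K' K0 L M P S T V X Y : Subgroup G}
  {a b d e g x y z : G}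

/-! ### several pieces -/

/-- two pieces whose centralisers cover... : `A ⊓ Ck K' ≤ Ck K` forces `K' = K` -/
theorem Ctx.eq_of_le (h : Ctx D H A) (hK : Piece D H K) (hK' : Piece D H K')
    (hle : A ⊓ Ck K' ≤ Ck K) : K' = K := by
  by_contra hne
  exact h.not_le_Ck' hK ((h.le_sup hK').trans
    (sup_le (inf_le_right.trans (hK.le_Ck_of_ne hK' hne)) hle))

/-- PL2a -/
theorem Ctx.norm_of_cent (h : Ctx D H A) (hK : Piece D H K) : H ⊓ C[A] ≤ N[K] := by
  intro x hx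
  by_contra hn
  have h1 := hK.cj h.sc x
  rw [cj_of_mem hx.1] at h1
  refine h.not_le_Ck hK fun a ha => hK.le_Ck_of_ne h1 (fun e => hn (mem_N_iff_cj.2 e)) ?_
  rw [← conj_eq_of_mem_C hx.2 ha.1]
  exact conj_mem_cj x ha.2

/-- PL2b -/
theorem Ctx.norm_of_odd (h : Ctx D H A) (hK : Piece D H K) (hX : OddG X) (hXH : X ≤ H)
    (hA : A ≤ N[X]) : X ≤ N[K] := by
  rw [← (coprime_cent_prod hA (cop hX h.two) hX.sol).sup_eq]
  refine sup_le (le_trans ?_ hK.norm) ((inf_le_inf_right _ hXH).trans (h.norm_of_cent hK))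
  exact (comm_mono_right h.max.le_Og).trans (comm_le_right (hXH.trans (h.sc.Og_nml H).norm))

/-- the structure theorem -/
theorem Ctx.struct (h : Ctx D H A) : Og D H ≤ Od[Og D H] ⊔ A ⊔ sSup {K | Piece D H K} := by
  have hD := h.sc
  set J := Og D H with hJ
  have hO := pcore_nml ({2}ᶜ : Set ℕ) J
  have := hO.normal
  let f : J →* J ⧸ Od[J].subgroupOf J := QuotientGroup.mk' _
  have hf : Function.Surjective f := QuotientGroup.mk'_surjective _
  have hker : pre f ⊥ = Od[J] := by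
    ext x
    rw [mem_pre_bot]
    refine ⟨fun ⟨h1, h2⟩ => ?_, fun h => ⟨hO.le h, ?_⟩⟩
    · rw [ap_of_mem _ h1, QuotientGroup.mk'_apply, QuotientGroup.eq_one_iff] at h2; exact h2
    · rw [ap_of_mem _ (hO.le h), QuotientGroup.mk'_apply, QuotientGroup.eq_one_iff]; exact h
  have htop : img f J = ⊤ := by rw [img_dom, MonoidHom.range_eq_top.2 hf]
  have hO' : Od[(⊤ : Subgroup (J ⧸ Od[J].subgroupOf J))] = ⊥ := by
    rw [← htop, ← img_pcore_of_inj _ f le_rfl (by rw [hker]; exact (Od_odd J).inf_left J), img_eq_bot hO.le, hker]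
  have hc : Ctx (imD D f) ⊤ (img f A) := by
    refine ⟨hD.imD hf, h.ih.mono (Nat.succ_le_succ ?_), h.max.og.img hD⟩
    rw [← htop]
    exact (Nat.le_of_dvd (card_pos J) (card_img_dvd f J)).trans (card_le (Og_le D H))
  have hE : sSup {K | Piece D H K} ≤ J := sSup_le fun K hK => hK.le
  have hA : A ≤ J := h.max.le_Og
  have h1 := hc.le_layer hO' (Og_imD hf)
  have h2 : layer (J ⧸ Od[J].subgroupOf J) ≤ img f (sSup {K | Piece D H K}) := by
    refine H23.layer_le fun L hL => ?_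
    have hLn : img f J ≤ N[L] := htop ▸ comp_nml hO' (Og_imD hf) hc.sc hL
    obtain ⟨K, hK, ⟨hKJ, hn, hi⟩, hmin⟩ := exists_min
      (P := fun K => K ≤ J ∧ J ≤ N[K] ∧ img f K = L) (H := pre f L)
      ⟨pre_le f L, norm_pre le_rfl hLn, img_pre_of_le (by rw [← img_dom, htop]; exact le_top)⟩
    have hp : ⁅K, K⁆ = K := hmin _ ⟨(der1_le K).trans hKJ, norm_der1 hn, by
      rw [img_comm f hKJ hKJ, hi, H23.IsComponent.perfect hL]⟩ (der1_le K)
    refine hi ▸ img_mono f (le_sSup ⟨hKJ, hn, hp, fun e => ?_, fun M hM => ?_⟩)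
    · rw [e, img_bot] at hi; exact H23.IsComponent.ne_bot hL hi.symm
    have hMJ := hM.le.trans hKJ
    have hM' := hM.img f
    rw [hi] at hM'
    rcases H23.IsQuasisimple.eq_or_comm hL.2 hM'.le hM'.norm with e | e
    · have h3 : K ≤ M ⊔ Od[J] := by rw [← hker, ← img_le_img_iff hKJ hMJ, hi, e]
      have h4 := group_modl' (hMJ.trans hO.norm) hM.le
      rw [inf_eq_right.2 h3] at h4
      refine Or.inl (le_antisymm hM.le (perfect_le_of_sol hp hM.norm (by rw [sup_comm, h4])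
        (inf_le_right.trans hM.norm) ((Od_sol J).of_le inf_le_left)))
    · refine Or.inr (le_Ck_of_odd (norm_of_le hM.le) (Od_odd J) (hKJ.trans hO.norm) ?_)
      rw [← hker, comm_le_ker hMJ hKJ, hi]
      exact comm_eq_bot.1 e
  have h3 : img f J ≤ img f (A ⊔ sSup {K | Piece D H K}) := by
    rw [htop, img_sup f hA hE]
    exact h1.trans (sup_le_sup_left h2 _)
  rw [img_le_img_iff le_rfl (sup_le hA hE), hker, sup_comm, ← sup_assoc] at h3
  exact h3

/-- GEN -/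
theorem Ctx.gen (h : Ctx D H A) (hA : A ≤ M) (hO : ⁅Od[Og D H], A⁆ ≤ M)
    (hK : ∀ K, Piece D H K → K ≤ (K ⊓ M) ⊔ Od[Og D H]) : Og D H ≤ M := by
  set J := Og D H with hJ
  have hn := pcore_nml ({2}ᶜ : Set ℕ) J
  have hAJ : A ≤ J := h.max.le_Og
  have h1 : J ≤ Od[J] ⊔ (J ⊓ M) := h.struct.trans (sup_le (sup_le le_sup_left
    ((le_inf hAJ hA).trans le_sup_right)) (sSup_le fun K hK' => (hK K hK').trans
      (sup_le ((inf_le_inf_right M hK'.le).trans le_sup_right) le_sup_left)))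
  refine Og_le_iff.2 fun d hd hH => ?_
  obtain ⟨g, hg, hga⟩ := h.max.conj_mem h.sc hd hH
  obtain ⟨o, ho, m, hm, rfl⟩ := (mem_sup_of_norm (inf_le_left.trans hn.norm)).1 (h1 hg)
  obtain ⟨c, hc, x, hx, rfl⟩ :=
    (coprime_cent_prod (hAJ.trans hn.norm) (cop (Od_odd J) h.two) (Od_sol J)).symm.mul o ho
  have h2 := conj_mem' (C_le_N A hc.2) hga
  have h3 := conj_mem' (norm_self M (mul_mem (hO hx) hm.2)) (hA h2)
  simpa [mul_assoc] using h3

/-- S4 -/
theorem Ctx.le_Od_Og (h : Ctx D H A) (hX : OddG X) (hXH : X ≤ Og D H) (hA : A ≤ N[X])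
    (hK : ∀ K, Piece D H K → X ≤ Ck K) : X ≤ Od[Og D H] := by
  have hn := pcore_nml ({2}ᶜ : Set ℕ) (Og D H)
  refine le_sup_left.trans (pcore_max' (hX.sup' (Od_odd _) (hXH.trans hn.norm)) (sup_le hXH hn.le)
    (h.struct.trans (sup_le (sup_le (norm_of_le le_sup_right)
      (norm_sup hA (h.max.le_Og.trans hn.norm))) (sSup_le fun K hK' => ?_))))
  exact norm_sup_of_comm ((le_Ck.1 (hK K hK')).trans (hK'.Od_le h.sc)) (hK'.le.trans hn.norm)

/-- BAL -/
theorem Ctx.bal (h : Ctx D H A) (hX : OddG X) (hXH : X ≤ H) (hA : A ≤ N[X])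
    (hY : X ⊓ C[A] ≤ Od[C[A]]) (hK : ∀ K, Piece D H K → X ≤ Ck K) : X ≤ Od[H] := by
  have hD := h.sc
  have hn := pcore_nml ({2}ᶜ : Set ℕ) H
  have hJ := hD.Og_nml H
  refine (coprime_cent_prod hA (cop hX h.two) hX.sol).sup_eq.ge.trans
    (sup_le ((h.le_Od_Og (hX.of_le (comm_le_left hA))
    ((comm_mono_right h.max.le_Og).trans (comm_le_right (hXH.trans hJ.norm)))
    (norm_comm_right X A) fun K hK' => (comm_le_left hA).trans (hK K hK')).trans (hD.Od_Og_le H)) ?_)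
  set V := H ⊓ Od[C[A]] ⊓ ⨅ K : {K // Piece D H K}, Ck K.1 with hV
  have hVH : V ≤ H := inf_le_left.trans inf_le_left
  have hVO : V ≤ Od[C[A]] := inf_le_left.trans inf_le_right
  have h1 : X ⊓ C[A] ≤ V :=
    le_inf (le_inf (inf_le_left.trans hXH) hY) (le_iInf fun K => inf_le_left.trans (hK K.1 K.2))
  have hVA : A ≤ C[V] := cents_symm (hVO.trans (pcore_le _ _))
  have hVK : ∀ K, Piece D H K → V ≤ Ck K := fun K hK' =>
    inf_le_right.trans (iInf_le (fun K : {K // Piece D H K} => Ck K.1) ⟨K, hK'⟩)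
  have hVN : H ⊓ N[A] ≤ N[V] := by
    refine norm_inf (norm_inf (norm_of_le inf_le_left) (norm_pcore _ (norm_C inf_le_right)))
      fun g hg => mem_N_of_cj_le (le_iInf fun K => cj_le_iff.2 ?_)
    have h2 := K.2.cj hD g⁻¹
    rw [cj_of_mem (inv_mem hg.1)] at h2
    rw [cj_Ck]
    exact iInf_le (fun K : {K // Piece D H K} => Ck K.1) ⟨_, h2⟩
  have hVo : OddG V := (Od_odd _).of_le hVO
  clear_value V
  have h3 : H ≤ N[V ⊔ Od[H]] := by
    refine (h.max.frattini hD).sup_eq.ge.trans (sup_le (h.struct.trans (sup_le (sup_le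
      (norm_of_le ((hD.Od_Og_le H).trans le_sup_right))
      (norm_sup (H24.norm_of_cent hVA) (h.max.le.trans hn.norm)))
      (sSup_le fun K hK' => ?_))) (norm_sup hVN (inf_le_left.trans hn.norm)))
    exact norm_sup_of_comm ((le_Ck.1 (hVK K hK')).trans
      ((hK'.Od_le hD).trans (hD.Od_Og_le H))) (hK'.le'.trans hn.norm)
  exact h1.trans (le_sup_left.trans (pcore_max' (hVo.sup' (Od_odd H) (hVH.trans hn.norm))
    (sup_le hVH hn.le) h3))

/-- a perfect subgroup of `H°` lies in the product of the pieces it does not centralise -/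
theorem Ctx.perfect_le (h : Ctx D H A) (hp : ⁅L, L⁆ = L) (hL : L ≤ Og D H) {W : Subgroup G}
    (hO : Od[Og D H] ≤ W) (hW : Og D H ≤ N[W]) (hK : ∀ K, Piece D H K → K ≤ W ∨ L ≤ Ck K) :
    L ≤ W := by
  have hn := pcore_nml ({2}ᶜ : Set ℕ) (Og D H)
  have hE : Og D H ≤ N[sSup {K | Piece D H K}] := norm_sSup fun K hK' => hK'.norm
  have hM := norm_sup hn.norm hE
  have h1 : L ≤ Od[Og D H] ⊔ sSup {K | Piece D H K} :=
    perfect_le_of_sol hp (hL.trans hM) (hL.trans (h.struct.trans (by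
      rw [sup_comm Od[Og D H] A, sup_assoc]))) (h.max.le_Og.trans hM) h.ea.abl.sol
  have hLW := hL.trans hW
  have h2 : W ≤ centQ L W := (le_centQ hLW).2 ⟨norm_self W, comm_le_left hLW⟩
  rw [← hp]
  refine ((le_centQ hLW).1 (h1.trans (sup_le (hO.trans h2) (sSup_le fun K hK' => ?_)))).2
  rcases hK K hK' with e | e
  · exact e.trans h2
  · exact (le_centQ hLW).2 ⟨hK'.le.trans hW, by
      rw [commC]; exact (le_Ck.1 e).trans ((hK'.Od_le h.sc).trans hO)⟩

/-- pump-up -/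
theorem Ctx.pump (h : Ctx D H A) (h' : Ctx D H' A) (hK : Piece D H K) (h0 : Cov K0 K)
    (hA : A ≤ N[K0]) (hH' : K0 ≤ H') :
    ∃ K', Piece D H' K' ∧ K0 ≤ K' ∧ A ⊓ Ck K' ≤ Ck K ∧
      (Ck K).relIndex K ≤ (Ck K').relIndex K' ∧
      ((Ck K').relIndex K' ≤ (Ck K).relIndex K → Cov K0 K') := by
  have hD := h.sc
  have hq := h0.qs hK.qs
  have hJ : K0 ≤ Og D H' := (h.cov_le_Og hK h0).trans (Og_mono D hH')
  have hn := pcore_nml ({2}ᶜ : Set ℕ) (Og D H')
  have hO0 := (pcore_nml ({2}ᶜ : Set ℕ) K0).norm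
  have up : ∀ X, X ≤ N[K] → X ≤ Ck K0 → X ≤ Ck K := fun X h1 h2 =>
    h0.le_Ck h1 (Od_odd K0) hO0 (le_Ck.1 h2)
  have k1 : ∀ K', Piece D H' K' → ¬ K0 ≤ Ck K' → K0 ⊓ Ck K' ≤ Ck K0 := fun K' hK' hne =>
    (hq.nml _ (nml_inf_of_norm (norm_Ck (hJ.trans hK'.norm)))).resolve_left
      fun e => hne (e ▸ inf_le_right)
  have k2 : ∀ K', Piece D H' K' → ¬ K0 ≤ Ck K' → A ⊓ Ck K' ≤ Ck K := fun K' hK' hne =>
    up _ (inf_le_left.trans (hK.normA h.max)) (le_Ck_of_comm h0.perf (inf_le_left.trans hA)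
      ((le_inf (comm_le_right (inf_le_left.trans hA)) ((comm_mono_left inf_le_right).trans
        (comm_le_left (norm_Ck (hJ.trans hK'.norm))))).trans (k1 K' hK' hne)))
  obtain ⟨K', hK', hne⟩ : ∃ K', Piece D H' K' ∧ ¬ K0 ≤ Ck K' := by
    by_contra hne
    push Not at hne
    exact hq.not_sol ((Od_sol _).of_le
      (h'.perfect_le h0.perf hJ le_rfl hn.norm fun K' hK' => Or.inr (hne K' hK')))
  have hle : K0 ≤ K' := by
    refine perfect_le_of_sol h0.perf (hJ.trans hK'.norm) ?_ (hn.le.trans hK'.norm) (Od_sol _)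
    refine h'.perfect_le h0.perf hJ le_sup_left (norm_sup hn.norm hK'.norm) fun K'' hK'' => ?_
    by_cases e : K' = K''
    · exact Or.inl (e ▸ le_sup_right)
    refine Or.inr (by_contra fun hne' => h.not_le_Ck' hK ((h'.le_sup hK').trans (sup_le ?_ (k2 K' hK' hne))))
    exact (inf_le_inf_left A (hK''.le_Ck_of_ne hK' e)).trans (k2 K'' hK'' hne')
  obtain ⟨Q, _, _, π, hπ⟩ := exists_hat K
  obtain ⟨Q', _, _, π', hπ'⟩ := exists_hat K'
  have e1 : (Ck K).relIndex K ≤ ♯(img π' K0) := by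
    rw [← hπ.ker, ← card_img π (norm_self K), ← hπ.cov h0, card_img π (norm_of_le h0.le),
      card_img π' (norm_of_le hle), hπ.ker, hπ'.ker, ← relIndex_inf_self K0 (Ck K')]
    exact relIndex_le_of_le_left (up _ (norm_of_le (inf_le_left.trans h0.le)) (k1 K' hK' hne))
      (relIndex_ne_zero' _ _)
  have e2 : (Ck K').relIndex K' = ♯(img π' K') := by rw [card_img π' (norm_self K'), hπ'.ker]
  refine ⟨K', hK', hle, k2 K' hK' hne, e1.trans (e2 ▸ card_le (img_mono π' hle)), fun e3 =>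
    ⟨hle, h0.perf, le_sup_Od hK'.perf hle ?_⟩⟩
  rw [← hπ'.le_iff (norm_self K') (norm_of_le hle),
    eq_of_card_ge (img_mono π' hle) (e2 ▸ e3.trans e1)]

/-- `H° ∩ Ck K` is solvable when `K` is the only piece -/
theorem Ctx.sol_of_unique (h : Ctx D H A) (hK : Piece D H K) (hu : ∀ K', Piece D H K' → K' = K) :
    Sol (Og D H ⊓ (A ⊔ Ck K)) := by
  have hn := pcore_nml ({2}ᶜ : Set ℕ) (Og D H)
  have hA := norm_Ck (hK.normA h.max)
  rw [inf_comm, ← group_modl' hA h.max.le_Og, sup_comm]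
  refine Sol.sup (sol_of_perfect fun L hL hp => perfect_eq_bot hp ((Od_sol _).of_le
    (h.perfect_le hp (hL.trans inf_le_right) le_rfl hn.norm fun K' hK' => Or.inr ?_)))
    h.ea.abl.sol (norm_inf hA (norm_of_le h.max.le_Og))
  rw [hu K' hK']; exact hL.trans inf_le_left

/-! ### the minimal counterexample -/

theorem MC.ea (h : MC D A) : EA A := h.max.ea h.sc

theorem MC.eq_bot_of_odd (h : MC D A) (hX : OddG X) (hn : N[X] = ⊤) : X = ⊥ := by
  have := h.simple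
  have hX' : X.Normal := nml_top_iff.1 ⟨le_top, hn.ge⟩
  refine (hX'.eq_bot_or_eq_top).resolve_right fun e => h.ne ?_
  exact h.ea.two.eq_bot (hX.of_le (e ▸ le_top))

theorem MC.C1_ne_top (h : MC D A) (hx : x ≠ 1) : C{x} ≠ ⊤ := by
  intro e
  have := h.simple
  have hX' : (zpowers x).Normal := nml_top_iff.1 ⟨le_top, norm_zpowers_of_cent e.ge⟩
  rcases hX'.eq_bot_or_eq_top with e1 | e1
  · exact hx (zpowers_eq_bot.1 e1)
  · exact h.nab (abl_top_iff.1 (e1 ▸ abl_zpowers x))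

theorem MC.C_ne_top (h : MC D A) (hX : X ≠ ⊥) : C[X] ≠ ⊤ := by
  obtain ⟨x, hx, h1⟩ := exists_ne_one hX
  exact fun e => h.C1_ne_top h1 (top_le_iff.1 (e ▸ C_le_C1 hx))

theorem MC.N_ne_top (h : MC D A) : N[A] ≠ ⊤ := by
  intro e
  have := h.simple
  have hX' : A.Normal := nml_top_iff.1 ⟨le_top, e.ge⟩
  exact h.nab (abl_top_iff.1 (hX'.eq_bot_or_eq_top.resolve_left h.ne ▸ h.ea.abl))

/-- no isolated involutions -/
theorem MC.exists_conj (h : MC D A) (hS : Syl 2 ⊤ S) (hz : z ∈ S) (h1 : z ≠ 1) (h2 : z * z = 1) :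
    ∃ g : G, g * z * g⁻¹ ∈ S ∧ g * z * g⁻¹ ≠ z := by
  by_contra hne
  push Not at hne
  have h3 := zstar_sub hS hz h1 h2 fun g _ => hne g
  rw [h.eq_bot_of_odd (Od_odd ⊤) (top_le_iff.1 (pcore_nml _ _).norm), le_bot_iff, comm_eq_bot',
    C_zpowers] at h3
  exact h.C1_ne_top h1 (top_le_iff.1 h3)

theorem MC.not_cyc (h : MC D A) : ¬ Cyc A := by
  classical
  intro hc
  obtain ⟨a, ha, rfl⟩ := hc.exists_gen
  have h1 : a ≠ 1 := mt zpowers_eq_bot.2 h.ne
  obtain ⟨S, hS, hAS, -⟩ := h.max.exists_syl h.sc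
  obtain ⟨g, hg, hne⟩ := h.exists_conj hS (hAS ha) h1 (h.ea.sq ha)
  have h2 := h.max.mem_of_two h.sc hS.pi hAS le_top (h.sc.conj a (h.max.memD ha h1) g) hg
  rw [mem_zpowers_iff_mem_range_orderOf, h.sc.orderOf (h.max.memD ha h1)] at h2
  simp only [Finset.mem_image, Finset.mem_range] at h2
  obtain ⟨n, hn, e⟩ := h2
  interval_cases n
  · exact h1 (conj_eq_one_iff'.1 (by rw [← e, pow_zero]))
  · exact hne (by rw [← e, pow_one])

theorem MC.gen_N (h : MC D A) (hN : N[A] ≤ M) (hM : ∀ a ∈ A, a ≠ 1 → Og D C{a} ≤ M) : M = ⊤ := by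
  refine h.gen M fun a ha h1 => ?_
  rw [← ((h.max.mono (mem_C_iff_le_C1.1 (h.ea.le_C ha)) le_top).frattini h.sc).sup_eq]
  exact sup_le (hM a ha h1) (inf_le_right.trans hN)

theorem MC.gen_Og (h : MC D A) (hM : ∀ a ∈ A, a ≠ 1 → Og D C{a} ≤ M) : M = ⊤ := by
  have := h.simple
  set M0 : Subgroup G := ⨆ a : {a // a ∈ A ∧ a ≠ 1}, Og D C{(a : G)} with hM0
  have h1 : ∀ a ∈ A, a ≠ 1 → Og D C{a} ≤ M0 := fun a ha h1 =>
    le_iSup (fun a : {a // a ∈ A ∧ a ≠ 1} => Og D C{(a : G)}) ⟨a, ha, h1⟩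
  have h2 : N[M0] = ⊤ := by
    refine h.gen_N (fun n hn => mem_N_of_cj_le (cj_le_iff.2 (iSup_le fun ⟨a, ha, ha1⟩ => cj_le_iff.1 ?_)))
      fun a ha ha1 => norm_of_le (h1 a ha ha1)
    rw [h.sc.cj_Og, cj_C1]
    exact h1 _ (conj_mem hn ha) (by rwa [Ne, conj_eq_one_iff'])
  have hX' : M0.Normal := nml_top_iff.1 ⟨le_top, h2.ge⟩
  obtain ⟨a, ha, ha1⟩ := exists_ne_one h.ne
  have h3 := hX'.eq_bot_or_eq_top.resolve_left
    (ne_bot_of_mem (h1 a ha ha1 (mem_Og (h.max.memD ha ha1) (self_mem_C1 a))) ha1)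
  exact top_le_iff.1 (h3 ▸ iSup_le fun ⟨a, ha, ha1⟩ => hM a ha ha1)

end Gold
end H26
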