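import Mathlib
import Cfsg.Agent.H26.GStruct
import Cfsg.Agent.H26.GCop

/-! GOLD: common lemmas for the signalizer arguments. -/

set_option autoImplicit false
set_option linter.unusedSectionVars false
set_option linter.unusedVariables false

namespace H26
namespace Gold

open Cfsg H24 Subgroup
open scoped commutatorElement

universe u

variable {G : Type u} [Group G] [Finite G] {D : Set G} {A B B' H K K0 L M P V X : Subgroup G}
  {a b x y : G}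

theorem mem_zpowers_sq (hx : x * x = 1) (hy : y ∈ zpowers x) : y = 1 ∨ y = x := by
  obtain ⟨n, rfl⟩ := (mem_powers_iff_mem_zpowers.2 hy : y ∈ Submonoid.powers x)
  clear hy
  induction n with
  | zero => exact Or.inl (pow_zero x)
  | succ n ih =>
    rcases ih with e | e <;> simp only [pow_succ] at e ⊢ <;> rw [e]
    · exact Or.inr (one_mul x)
    · exact Or.inl hx

theorem EA.not_cyc (h : EA A) (h4 : 4 ≤ ♯A) : ¬ Cyc A := fun hc => by
  have := Nat.le_of_dvd two_pos (H25.Cfsg.IsElementaryAbelian.card_dvd_of_cyc h hc); omega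

theorem Cocyc.exists_ne (h : Cocyc B A) (hc : ¬ Cyc A) : ∃ b ∈ B, b ≠ 1 := by
  refine exists_ne_one ?_
  rintro rfl
  obtain ⟨-, a, -, h1⟩ := h
  rw [bot_sup_eq] at h1
  exact hc ((cyc_zpowers a).of_le h1)

theorem Cocyc.le_sup (h : Cocyc B' A) (hA : EA A) (hB : B ≤ A) (hn : ¬ B ≤ B') : A ≤ B ⊔ B' := by
  obtain ⟨h0, a, ha, h1⟩ := h
  obtain ⟨b, hb, hb'⟩ := SetLike.not_le_iff_exists.1 hn
  obtain ⟨c, hc, y, hy, rfl⟩ := (mem_sup_of_norm (hA.abl.norm (zpowers_le.2 ha) h0)).1 (h1 (hB hb))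
  rcases mem_zpowers_sq (hA.sq ha) hy with rfl | rfl
  · exact absurd (by rwa [mul_one]) hb'
  · exact h1.trans (sup_le le_sup_right (zpowers_le.2
      ((mul_mem_cancel_left (mem_sup_right hc)).1 (mem_sup_left hb))))

theorem Cocyc.relIndex_le (h : Cocyc B A) (hA : EA A) (hX : B ≤ X) : X.relIndex A ≤ 2 := by
  obtain ⟨h0, a, ha, h1⟩ := h
  refine (relIndex_le_of_le_left hX (relIndex_ne_zero' _ _)).trans ?_
  have h2 := isProd_sup (hA.abl.norm (zpowers_le.2 ha) h0)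
  rw [le_antisymm (sup_le h0 (zpowers_le.2 ha)) h1] at h2
  refine Nat.le_of_dvd two_pos (h2.relIndex_dvd.trans ?_)
  rw [card_zpowers']
  exact orderOf_dvd_of_pow_eq_one (by rw [pow_two, hA.sq ha])

theorem MC.ctxC (h : MC D A) (hX : X ≠ ⊥) (hA : A ≤ C[X]) : Ctx D C[X] A := h.ctx hA (h.C_ne_top hX)

theorem MC.ctx1 (h : MC D A) (hx : x ≠ 1) (hA : x ∈ C[A]) : Ctx D C{x} A :=
  h.ctx (mem_C_iff_le_C1.1 hA) (h.C1_ne_top hx)

theorem MC.ctxA (h : MC D A) (ha : a ∈ A) (h1 : a ≠ 1) : Ctx D C{a} A := h.ctx1 h1 (h.ea.le_C ha)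

theorem MC.eq_top_of_norm (h : MC D A) (hX : X ≠ ⊥) (hn : N[X] = ⊤) : X = ⊤ := by
  have := h.simple
  exact (nml_top_iff.1 ⟨le_top, hn.ge⟩ : X.Normal).eq_bot_or_eq_top.resolve_left hX

theorem Ctx.comm_le_Og (h : Ctx D H A) (hX : X ≤ H) : ⁅X, A⁆ ≤ Og D H :=
  (comm_mono_right h.max.le_Og).trans (comm_le_right (hX.trans (h.sc.Og_nml H).norm))

theorem Ctx.le_of_cent (h : Ctx D H A) (hK : Piece D H K) (hP : TwoG P) (hPK : P ≤ Ck K)
    (hA : A ≤ N[P]) (hM : Og D (H ⊓ C[P]) ≤ M) : K ≤ (K ⊓ M) ⊔ Od[Og D H] := by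
  obtain ⟨K0, h1, h0, -⟩ := exists_cov_cent hK.perf hP hPK (hK.normA h.max) hA
  exact h0.cov.trans (sup_le_sup (le_inf h0.le ((h.cov_le_Og hK h0).trans
    ((Og_mono D (le_inf (h0.le.trans hK.le') h1)).trans hM))) (hK.Od_le h.sc))

theorem Ctx.comm_le_Ck (h : Ctx D H A) (hK : Piece D H K) (hPK : P ≤ Ck K) (hX : OddG X) (hXH : X ≤ H)
    (hA : A ≤ N[X]) : ⁅X, P⁆ ≤ Ck K :=
  (comm_mono_right hPK).trans (comm_le_right (norm_Ck (h.norm_of_odd hK hX hXH hA)))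

theorem Ctx.le_Ck_of_pump (h : Ctx D H A) (hK : Piece D H K) (hP : TwoG P) (hPK : P ≤ Ck K)
    (h' : Ctx D C[P] A) (hX : OddG X) (hXH : X ≤ H) (hA : A ≤ N[X]) (hPX : P ≤ N[X])
    (hg : ∀ K', Piece D C[P] K' → X ⊓ C[P] ≤ Ck K') : X ≤ Ck K := by
  obtain ⟨K0, h1, h0, h2⟩ := exists_cov_cent hK.perf hP hPK (hK.normA h.max)
    (H24.norm_of_cent h'.max.le)
  obtain ⟨K', hK', h3, -⟩ := h.pump h' hK h0 h2 h1
  refine (coprime_cent_prod hPX (cop hX hP) hX.sol).sup_eq.ge.trans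
    (sup_le (h.comm_le_Ck hK hPK hX hXH hA) ?_)
  exact h0.le_Ck (inf_le_left.trans (h.norm_of_odd hK hX hXH hA)) (Od_odd K')
    (h3.trans (pcore_nml _ K').norm) ((comm_mono_right h3).trans (le_Ck.1 (hg K' hK')))

/-- G1 -/
theorem MC.comm_inf_le (h : MC D A) (hV : OddG V) (hA : A ≤ N[V]) : ⁅V, A⁆ ⊓ C[A] ≤ Od[C[A]] := by
  refine cop0 h.ea.abl hV.sol hA (cop hV h.ea.two) fun B hB => ?_
  obtain ⟨b, hb, h1⟩ := hB.exists_ne h.not_cyc
  have hc := h.ctxC (ne_bot_of_mem hb h1) (cents_of_le h.ea.le_C hB.1)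
  have h2 := hc.le_Od_Og (hV.of_le ((comm_mono_left (inf_le_left (b := C[B]))).trans (comm_le_left hA)))
    (hc.comm_le_Og inf_le_right) (norm_comm_right _ A) fun K hK => by
      have h3 := hc.four hK
      have h4 := hB.relIndex_le h.ea ((cents_symm hK.le').trans (C_le_Ck K))
      omega
  exact (inf_le_inf_right _ (h2.trans (h.sc.Od_Og_le _))).trans (pcore_inf_le _ (C_anti hB.1))

theorem MC.join_le (h : MC D A) (hV : OddG V) (hA : A ≤ N[V]) {𝒳 : Set (Subgroup G)}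
    (h1 : ∀ Y ∈ 𝒳, Y ≤ V ∧ A ≤ N[Y] ∧ Y ⊓ C[A] ≤ Od[C[A]]) (hX : X ≤ sSup 𝒳) :
    X ⊓ C[A] ≤ Od[C[A]] :=
  cop_join hV.sol hA (cop hV h.ea.two) (h.comm_inf_le hV hA) h1 hX

theorem Od_inf_le (ha : C[A] ≤ H) (hX : X ≤ Od[H]) : X ⊓ C[A] ≤ Od[C[A]] :=
  (inf_le_inf_right _ hX).trans (pcore_inf_le _ ha)

end Gold
end H26
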