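import Mathlib
import Cfsg.Agent.H26.GCase0

/-! GOLD: case (D) and the case without pieces. -/

set_option autoImplicit false
set_option linter.unusedSectionVars false
set_option linter.unusedVariables false

namespace H26
namespace Gold

open Cfsg H24 Subgroup
open scoped commutatorElement

universe u

variable {G : Type u} [Group G] [Finite G] {D : Set G} {A B B' K L L' M V X : Subgroup G} {a b v : G}

/-- the hypotheses of case (D) -/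
structure Fam (D : Set G) (A : Subgroup G) (𝓕 : Set (Subgroup G × Subgroup G)) : Prop where
  mc : MC D A
  p1 : ∀ p ∈ 𝓕, Piece D C[p.1] p.2 ∧ A ⊓ Ck p.2 = p.1
  p2 : ∀ p ∈ 𝓕, ∀ q ∈ 𝓕, 4 ≤ ♯(p.1 ⊓ q.1)
  p3 : ∀ p ∈ 𝓕, ∀ b ∈ p.1, b ≠ 1 → ∃ K, Piece D C{b} K ∧ Cov p.2 K ∧ p.1 ≤ Ck K
  p4 : ∀ p ∈ 𝓕, ∀ g ∈ N[A], (cj g p.1, cj g p.2) ∈ 𝓕
  p5 : ∀ b ∈ A, b ≠ 1 → ∀ K, Piece D C{b} K → ∃ p ∈ 𝓕, p.1 ≤ Ck K

/-- good subgroups -/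
def GoodD (A : Subgroup G) (𝓕 : Set (Subgroup G × Subgroup G)) (X : Subgroup G) : Prop :=
  X ⊓ C[A] ≤ Od[C[A]] ∧ ∀ p ∈ 𝓕, X ⊓ C[p.1] ≤ Ck p.2

/-- auxiliary subgroup -/
def RD (D : Set G) (V B L : Subgroup G) : Subgroup G :=
  sSup {X | ∃ v ∈ B, v ≠ 1 ∧ ∃ K, Piece D C{v} K ∧ Cov L K ∧ B ≤ Ck K ∧ X = V ⊓ C{v} ⊓ Ck K}

variable {𝓕 : Set (Subgroup G × Subgroup G)}

theorem GoodD.of_le (h : GoodD A 𝓕 X) (hV : V ≤ X) : GoodD A 𝓕 V :=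
  ⟨(inf_le_inf_right _ hV).trans h.1, fun p hp => (inf_le_inf_right _ hV).trans (h.2 p hp)⟩

namespace Fam

theorem le (h : Fam D A 𝓕) (hp : (B, L) ∈ 𝓕) : B ≤ A := (h.p1 _ hp).2.ge.trans inf_le_left

theorem ea (h : Fam D A 𝓕) (hp : (B, L) ∈ 𝓕) : EA B := h.mc.ea.of_le (h.le hp)

theorem cent (h : Fam D A 𝓕) (hp : (B, L) ∈ 𝓕) : A ≤ C[B] := cents_of_le h.mc.ea.le_C (h.le hp)

theorem nc2 (h : Fam D A 𝓕) (hp : (B, L) ∈ 𝓕) (hq : (B', L') ∈ 𝓕) : ¬ Cyc (B ⊓ B') :=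
  ((h.ea hp).of_le inf_le_left).not_cyc (h.p2 _ hp _ hq)

theorem nc (h : Fam D A 𝓕) (hp : (B, L) ∈ 𝓕) : ¬ Cyc B := by simpa using h.nc2 hp hp

theorem ne_bot (h : Fam D A 𝓕) (hp : (B, L) ∈ 𝓕) : B ≠ ⊥ := fun e => h.nc hp (e ▸ cyc_bot)

theorem ctx (h : Fam D A 𝓕) (hp : (B, L) ∈ 𝓕) : Ctx D C[B] A := h.mc.ctxC (h.ne_bot hp) (h.cent hp)

theorem uniq (h : Fam D A 𝓕) (hp : (B, L) ∈ 𝓕) (hK : Piece D C[B] K) : L = K :=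
  (h.ctx hp).eq_of_le hK (h.p1 _ hp).1 ((h.p1 _ hp).2.le.trans ((cents_symm hK.le').trans (C_le_Ck K)))

theorem norm (h : Fam D A 𝓕) (hp : (B, L) ∈ 𝓕) : C[B] ≤ N[L] := fun g hg => by
  have h1 := (h.p1 _ hp).1.cj h.mc.sc g
  rw [cj_of_mem hg] at h1
  exact mem_N_iff_cj.2 (h.uniq hp h1).symm

theorem down (h : Fam D A 𝓕) (hp : (B, L) ∈ 𝓕) (h0 : Cov L K) (hX : X ≤ Ck K) : X ⊓ C[B] ≤ Ck L :=
  le_Ck_of_le h0.le (inf_le_right.trans (h.norm hp)) (inf_le_left.trans hX)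

theorem inf_Ck (h : Fam D A 𝓕) (hp : (B, L) ∈ 𝓕) (h0 : Cov L K) (hB : B ≤ Ck K) : A ⊓ Ck K = B :=
  le_antisymm ((le_inf inf_le_left ((le_inf inf_le_right (inf_le_left.trans (h.cent hp))).trans
    (h.down hp h0 le_rfl))).trans (h.p1 _ hp).2.le) (le_inf (h.le hp) hB)

theorem g2 (h : Fam D A 𝓕) (ha : a ∈ A) (h1 : a ≠ 1) (hK : Piece D C{a} K) (hX : OddG X)
    (hXa : X ≤ C{a}) (hA : A ≤ N[X]) (hg : GoodD A 𝓕 X) : X ≤ Ck K := by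
  obtain ⟨⟨B, L⟩, hp, hB⟩ := h.p5 a ha h1 K hK
  exact (h.mc.ctxA ha h1).le_Ck_of_pump hK (h.ea hp).two hB (h.ctx hp) hX hXa hA ((h.le hp).trans hA)
    fun K' hK' => h.uniq hp hK' ▸ hg.2 _ hp

theorem g2' (h : Fam D A 𝓕) (ha : a ∈ A) (h1 : a ≠ 1) (hX : OddG X)
    (hXa : X ≤ C{a}) (hA : A ≤ N[X]) (hg : GoodD A 𝓕 X) : X ≤ Od[C{a}] :=
  (h.mc.ctxA ha h1).bal hX hXa hA hg.1 fun K hK => h.g2 ha h1 hK hX hXa hA hg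

theorem g3 (h : Fam D A 𝓕) (hp : (B, L) ∈ 𝓕) (hV : OddG V) (hA : A ≤ N[V]) :
    ⁅V, B⁆ ⊓ C[B] ≤ Ck L := by
  refine cop0 (h.ea hp).abl hV.sol ((h.le hp).trans hA) (cop hV (h.ea hp).two) fun B' hB' => ?_
  obtain ⟨b, hb, h1⟩ := hB'.exists_ne (h.nc hp)
  obtain ⟨K, hK, h0, hB⟩ := h.p3 _ hp b (hB'.1 hb) h1
  exact h.down hp h0 ((h.mc.ctxA (h.le hp (hB'.1 hb)) h1).comm_le_Ck hK hB (hV.inf_left _)
    (inf_le_right.trans (C_le_C1 hb))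
    (norm_inf hA (norm_of_le (cents_of_le (h.cent hp) hB'.1))))

theorem join (h : Fam D A 𝓕) (hV : OddG V) (hA : A ≤ N[V]) {𝒳 : Set (Subgroup G)}
    (h1 : ∀ Y ∈ 𝒳, Y ≤ V ∧ A ≤ N[Y] ∧ GoodD A 𝓕 Y) : GoodD A 𝓕 (sSup 𝒳) :=
  ⟨h.mc.join_le hV hA (fun Y hY => ⟨(h1 Y hY).1, (h1 Y hY).2.1, (h1 Y hY).2.2.1⟩) le_rfl,
    fun ⟨B, L⟩ hp => cop_join hV.sol ((h.le hp).trans hA) (cop hV (h.ea hp).two) (h.g3 hp hV hA)
      (fun Y hY => ⟨(h1 Y hY).1, (h.le hp).trans (h1 Y hY).2.1, (h1 Y hY).2.2.2 _ hp⟩) le_rfl⟩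

theorem RD_le (h : Fam D A 𝓕) (hp : (B, L) ∈ 𝓕) (hV : OddG V) (hA : A ≤ N[V]) :
    RD D V B L ⊓ C[B] ≤ Ck L := by
  refine cop_join hV.sol ((h.le hp).trans hA) (cop hV (h.ea hp).two) (h.g3 hp hV hA) ?_ le_rfl
  rintro _ ⟨v, hv, h1, K, hK, h0, hB, rfl⟩
  exact ⟨inf_le_left.trans inf_le_left, norm_inf (norm_inf ((h.le hp).trans hA)
    (norm_of_le (mem_C_iff_le_C1.1 ((h.ea hp).le_C hv)))) (norm_of_le hB), h.down hp h0 inf_le_right⟩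

theorem exists_W (h : Fam D A 𝓕) (h8 : 8 ≤ ♯A) : ∃ W, OddG W ∧ A ≤ N[W] ∧ GoodD A 𝓕 W ∧
    ∀ X, OddG X → A ≤ N[X] → GoodD A 𝓕 X → X ≤ W := by
  have hE := h.mc.ea
  have hC : ∀ t ∈ A, A ≤ C{t} := fun t ht => mem_C_iff_le_C1.1 (hE.le_C ht)
  obtain ⟨W, h1, h2, h3, h4⟩ := sf_good hE h8 (GoodD A 𝓕) (fun X Y hX hY => hX.of_le hY)
    fun t ht h1 => by
      have hO : A ≤ N[Od[C{t}]] := (hC t ht).trans (pcore_nml _ _).norm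
      have h3 : sSup {X | X ≤ Od[C{t}] ∧ A ≤ N[X] ∧ GoodD A 𝓕 X} ≤ Od[C{t}] := sSup_le fun X hX => hX.1
      exact ⟨_, (Od_odd _).of_le h3, norm_sSup fun X hX => hX.2.1, h3.trans (pcore_le _ _),
        h.join (Od_odd _) hO fun X hX => hX,
        fun X hX hn hXt hg => le_sSup ⟨h.g2' ht h1 hX hXt hn hg, hn, hg⟩⟩
  refine ⟨W, h1, h2, (h.join (𝒳 := {X | X ≤ W ∧ A ≤ N[X] ∧ GoodD A 𝓕 X}) h1 h2 fun X hX => hX).of_le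
    (coprime_abelian_gen_cent1 hE.abl h.mc.not_cyc h2 (cop h1 hE.two) fun a ha ha1 => le_sSup
      ⟨inf_le_left, norm_inf h2 (norm_of_le (hC a ha)), h3 a ha ha1⟩), h4⟩

section W

variable {W : Subgroup G} (h : Fam D A 𝓕) (h1 : OddG W) (h2 : A ≤ N[W]) (h3 : GoodD A 𝓕 W)
  (h4 : ∀ X, OddG X → A ≤ N[X] → GoodD A 𝓕 X → X ≤ W)
include h h1 h2 h3 h4

theorem norm_W : N[A] ≤ N[W] := fun n hn => by
  refine mem_N_of_cj_le (h4 _ (h1.cj n) (cj_of_mem_N hn ▸ norm_cj h2 n) ⟨?_, fun ⟨B, L⟩ hp => ?_⟩)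
  · have := cj_mono n h3.1
    rwa [cj_inf, ← pcore_cj, cj_C, cj_of_mem_N hn] at this
  · have := cj_mono n (h3.2 _ (h.p4 _ hp n⁻¹ (inv_mem hn)))
    rwa [cj_inf, cj_C, cj_Ck, cj_cj_inv, cj_cj_inv] at this

theorem g5 (hp : (B, L) ∈ 𝓕) : Og D C[B] ≤ N[W] := by
  have hD := h.mc.sc
  have hAJ := (h.ctx hp).max.le_Og
  have hBA := h.le hp
  have hA1 : ∀ v ∈ B, A ≤ N[W ⊓ C{v}] := fun v hv =>
    norm_inf h2 (norm_of_le ((h.cent hp).trans (C_le_C1 hv)))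
  intro j hj
  refine mem_N_of_cj_le (cj_le_iff.2 (coprime_abelian_gen_cent1 (h.ea hp).abl (h.nc hp) (hBA.trans h2)
    (cop h1 (h.ea hp).two) fun b hb hb1 => cj_le_iff.1 ?_))
  have hJO : Og D C[B] ≤ N[Od[C{b}]] := ((Og_le _ _).trans (C_le_C1 hb)).trans (pcore_nml _ _).norm
  have hWb : W ⊓ C{b} ≤ Od[C{b}] :=
    h.g2' (hBA hb) hb1 (h1.inf_left _) inf_le_right (hA1 b hb) (h3.of_le inf_le_left)
  set U : Subgroup G := ⨆ j : Og D C[B], cj (j : G) (W ⊓ C{b}) with hU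
  have hUle : ∀ R, W ⊓ C{b} ≤ R → Og D C[B] ≤ N[R] → U ≤ R := fun R hR hn =>
    iSup_le fun j => cj_le_of_mem_N hR (hn j.2)
  have hUO := hUle _ hWb hJO
  refine (le_iSup (fun j : Og D C[B] => cj (j : G) (W ⊓ C{b})) ⟨j, hj⟩).trans
    (h4 U ((Od_odd _).of_le hUO) (fun a ha => mem_N_of_cj_le (cj_le_iff.2 (iSup_le fun j =>
      cj_le_iff.1 ?_))) ⟨Od_inf_le (C_le_C1 (hBA hb)) hUO, fun ⟨B', L'⟩ hq => ?_⟩)
  · rw [← cj_mul]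
    exact le_iSup (fun j : Og D C[B] => cj (j : G) (W ⊓ C{b})) ⟨_, mul_mem (hAJ ha) j.2⟩
  refine le_trans (inf_le_inf_right _ ?_) (h.RD_le hq (Od_odd C{b}) (hAJ.trans hJO))
  set R := sSup {X | ∃ v ∈ B ⊓ B', v ≠ 1 ∧ ∃ K, Piece D C{v} K ∧ Cov L' K ∧ B' ≤ Ck K ∧
    X = Od[C{b}] ⊓ C{v} ⊓ Ck K} with hR
  refine (hUle R ?_ (norm_sSup ?_)).trans (sSup_le_sSup ?_)
  · refine coprime_abelian_gen_cent1 ((h.ea hp).abl.of_le inf_le_left) (h.nc2 hp hq)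
      ((inf_le_left.trans hBA).trans (hA1 b hb))
      (cop (h1.inf_left _) ((h.ea hp).two.inf_left _)) fun v hv hv1 => ?_
    obtain ⟨K, hK, h0, hB⟩ := h.p3 _ hq v hv.2 hv1
    refine le_trans ?_ (le_sSup ⟨v, hv, hv1, K, hK, h0, hB, rfl⟩)
    exact le_inf (inf_le_inf_right _ hWb) (h.g2 (hBA hv.1) hv1 hK ((h1.inf_left _).inf_left _)
      inf_le_right (norm_inf (hA1 b hb) (norm_of_le ((h.cent hp).trans (C_le_C1 hv.1))))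
      (h3.of_le (inf_le_left.trans inf_le_left)))
  · rintro _ ⟨v, hv, hv1, K, hK, h0, hB, rfl⟩
    exact norm_inf (norm_inf hJO (norm_of_le ((Og_le _ _).trans (C_le_C1 hv.1))))
      (norm_Ck ((Og_mono D (C_le_C1 hv.1)).trans hK.norm))
  · rintro _ ⟨v, hv, hv1, K, hK, h0, hB, rfl⟩
    exact ⟨v, hv.2, hv1, K, hK, h0, hB, rfl⟩

theorem g6 (hN : N[A] ≤ M) (hW : W ≤ M) (hJ : ∀ p ∈ 𝓕, Og D C[p.1] ≤ M) : M = ⊤ := by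
  have hD := h.mc.sc
  have hE := h.mc.ea
  refine h.mc.gen_N hN fun a ha ha1 => ?_
  have hc := h.mc.ctxA ha ha1
  have hAO : A ≤ N[Od[Og D C{a}]] := hc.max.le_Og.trans (pcore_nml _ _).norm
  refine hc.gen ((norm_self A).trans hN) ((comm_le_left hAO).trans ?_) fun K hK => ?_
  · refine coprime_abelian_gen_cent hE.abl hAO (cop (Od_odd _) hE.two) fun B' hB' h5 => ?_
    have hX : OddG (Od[Og D C{a}] ⊓ C[B']) := (Od_odd _).inf_left _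
    have hAX : A ≤ N[Od[Og D C{a}] ⊓ C[B']] := norm_inf hAO (norm_of_le (cents_of_le hE.le_C hB'))
    refine (coprime_cent_prod hAX (cop hX hE.two) hX.sol).sup_eq.ge.trans
      (sup_le ?_ (inf_le_right.trans ((C_le_N A).trans hN)))
    by_cases h6 : ∃ p ∈ 𝓕, p.1 ≤ B'
    · obtain ⟨⟨B, L⟩, hp, h7⟩ := h6
      exact ((h.ctx hp).comm_le_Og (inf_le_right.trans (C_anti h7))).trans (hJ (B, L) hp)
    push Not at h6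
    refine (h4 _ (hX.of_le (comm_le_left hAX)) (norm_comm_right _ A) ⟨h.mc.comm_inf_le hX hAX,
      fun ⟨B, L⟩ hp => ?_⟩).trans hW
    have h7 := isProd_sup (hE.abl.norm hB' (h.le hp))
    rw [le_antisymm (sup_le (h.le hp) hB') (Cocyc.le_sup ⟨hB', h5⟩ hE (h.le hp) (h6 _ hp))] at h7
    rw [h7.comm_right_of_cent (cents_symm inf_le_right)]
    exact h.g3 hp hX hAX
  · obtain ⟨⟨B, L⟩, hp, hB⟩ := h.p5 a ha ha1 K hK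
    exact hc.le_of_cent hK (h.ea hp).two hB (H24.norm_of_cent (h.cent hp))
      ((Og_mono D inf_le_right).trans (hJ (B, L) hp))

theorem W_eq_bot : W = ⊥ :=
  h.mc.eq_bot_of_odd h1 (h.g6 h1 h2 h3 h4 (h.norm_W h1 h2 h3 h4) (norm_self W)
    fun ⟨B, L⟩ hp => h.g5 h1 h2 h3 h4 hp)

theorem g7 (hp : (B, L) ∈ 𝓕) (hb : b ∈ B) (hb1 : b ≠ 1) : Piece D C{b} L := by
  have hD := h.mc.sc
  have hE := h.mc.ea
  have hBA := h.le hp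
  have hL := (h.p1 _ hp).1
  obtain ⟨K, hK, h0, hB⟩ := h.p3 _ hp b hb hb1
  have hc := h.mc.ctxA (hBA hb) hb1
  have hAO : A ≤ N[Od[C{b}]] := hc.max.le.trans (pcore_nml _ _).norm
  have hOK : Od[C{b}] ≤ N[K] := hc.norm_of_odd hK (Od_odd _) (pcore_le _ _) hAO
  have h5 : ⁅Od[C{b}], A ⊓ L⁆ ≤ Od[C{b}] := comm_le_left (inf_le_left.trans hAO)
  have h6 : ⁅Od[C{b}], A ⊓ L⁆ ≤ W := by
    refine h4 _ ((Od_odd _).of_le h5) (norm_comm hAO (hE.abl.norm le_rfl inf_le_left))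
      ⟨Od_inf_le (C_le_C1 (hBA hb)) h5, fun ⟨B', L'⟩ hq => ?_⟩
    by_cases e : B' = B
    · subst e
      rw [show L' = L from h.uniq hq hL]
      exact h.down hp h0 (h5.trans (hK.Od_le_Ck hD le_rfl hOK))
    refine le_trans (inf_le_inf_right _ ?_) (h.RD_le hq (Od_odd C{b}) hAO)
    refine cop1 ((h.ea hp).abl.of_le inf_le_left) (h.nc2 hp hq)
      (hE.abl.cents (inf_le_left.trans hBA) inf_le_left) (Od_sol _) (inf_le_left.trans hAO)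
      ((inf_le_left.trans hBA).trans hAO) (cop (Od_odd _) (hE.two.inf_left _))
      (cop (Od_odd _) ((h.ea hp).two.inf_left _)) fun v hv hv1 => ?_
    obtain ⟨K1, hK1, k0, k1⟩ := h.p3 _ hp v hv.1 hv1
    obtain ⟨K2, hK2, l0, l1⟩ := h.p3 _ hq v hv.2 hv1
    have hcv := h.mc.ctxA (hBA hv.1) hv1
    have hAX : A ≤ N[Od[C{b}] ⊓ C{v}] := norm_inf hAO (norm_of_le hcv.max.le)
    refine le_trans (le_inf (comm_le_left (inf_le_left.trans hAX)) ?_)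
      (le_sSup ⟨v, hv.2, hv1, K2, hK2, l0, l1, rfl⟩)
    refine ((comm_mono_right (inf_le_right.trans k0.le)).trans (comm_le_right
      (hcv.norm_of_odd hK1 ((Od_odd _).inf_left _) inf_le_right hAX))).trans
      (hK2.le_Ck_of_ne hK1 fun e1 => e ?_)
    rw [← h.inf_Ck hq l0 l1, ← e1, h.inf_Ck hp k0 k1]
  rw [h.W_eq_bot h1 h2 h3 h4, le_bot_iff, comm_eq_bot'] at h6
  have h7 : K ≤ C[Od[C{b}]] := by
    rcases hK.qs.nml _ (nml_inf_of_norm (norm_C (hK.le'.trans (pcore_nml _ _).norm))) with e | e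
    · exact e ▸ inf_le_right
    · exact absurd (le_Ck_of_le h0.le (norm_of_le inf_le_right)
        ((le_inf (inf_le_right.trans h0.le) h6).trans e)) ((h.ctx hp).not_le_Ck hL)
  have h8 : Od[K] ≤ N[L] := H24.norm_of_cent (cents_symm (h0.le.trans
    (cents_of_le h7 ((hK.Od_le hD).trans (hD.Od_Og_le _)))))
  have h9 : K ≤ L := perfect_le_of_sol hK.perf (h0.cov.trans (sup_le (norm_self _) h8))
    (sup_comm L Od[K] ▸ h0.cov) h8 (Od_sol K)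
  exact le_antisymm h9 h0.le ▸ hK

end W

theorem false (h : Fam D A 𝓕) (h8 : 8 ≤ ♯A) : False := by
  have hD := h.mc.sc
  obtain ⟨W, h1, h2, h3, h4⟩ := h.exists_W h8
  have hW := h.W_eq_bot h1 h2 h3 h4
  rcases 𝓕.eq_empty_or_nonempty with e | ⟨⟨B, L⟩, hp⟩
  · exact h.mc.N_ne_top (h.g6 h1 h2 h3 h4 le_rfl (hW ▸ bot_le) fun p hp => by simp [e] at hp)
  set M0 : Subgroup G := ⨆ p : 𝓕, Og D C[p.1.1] with hM0
  have h5 : ∀ p ∈ 𝓕, Og D C[p.1] ≤ M0 := fun p hp => le_iSup (fun p : 𝓕 => Og D C[p.1.1]) ⟨p, hp⟩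
  have h6 : M0 = ⊤ := by
    refine h.mc.eq_top_of_norm (ne_bot_of_le h.mc.ne ((h.ctx hp).max.le_Og.trans (h5 (B, L) hp)))
      (h.g6 h1 h2 h3 h4 (fun n hn => mem_N_of_cj_le (cj_le_iff.2 (iSup_le fun p => cj_le_iff.1 ?_)))
        (hW ▸ bot_le) fun p hp => norm_of_le (h5 p hp))
    rw [hD.cj_Og, cj_C]
    exact h5 (cj n p.1.1, cj n p.1.2) (h.p4 _ p.2 n hn)
  have h7 : N[L] = ⊤ := by
    refine top_le_iff.1 (h6.ge.trans (iSup_le fun ⟨⟨B', L'⟩, hq⟩ => ?_))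
    obtain ⟨v, hv, hv1⟩ := exists_ne_one (H := B ⊓ B') fun e => h.nc2 hp hq (e ▸ cyc_bot)
    exact (Og_mono D (C_le_C1 hv.2)).trans (h.g7 h1 h2 h3 h4 hp hv.1 hv1).norm
  have hL := (h.p1 _ hp).1
  exact h.mc.C_ne_top (h.ne_bot hp) (top_le_iff.1 ((h.mc.eq_top_of_norm hL.qs.ne h7).ge.trans hL.le'))

end Fam

theorem MC.caseD (h : MC D A) (h8 : 8 ≤ ♯A) (𝓕 : Set (Subgroup G × Subgroup G))
    (p1 : ∀ p ∈ 𝓕, Piece D C[p.1] p.2 ∧ A ⊓ Ck p.2 = p.1)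
    (p2 : ∀ p ∈ 𝓕, ∀ q ∈ 𝓕, 4 ≤ ♯(p.1 ⊓ q.1))
    (p3 : ∀ p ∈ 𝓕, ∀ b ∈ p.1, b ≠ 1 → ∃ K, Piece D C{b} K ∧ Cov p.2 K ∧ p.1 ≤ Ck K)
    (p4 : ∀ p ∈ 𝓕, ∀ g ∈ N[A], (cj g p.1, cj g p.2) ∈ 𝓕)
    (p5 : ∀ b ∈ A, b ≠ 1 → ∀ K, Piece D C{b} K → ∃ p ∈ 𝓕, p.1 ≤ Ck K) : False :=
  Fam.false ⟨h, p1, p2, p3, p4, p5⟩ h8

end Gold
end H26
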