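import Mathlib
import Cfsg.Agent.H26.GDefs
import Cfsg.Agent.H20.GoldLA4

/-! GOLD: the "linear algebra" lemmas (pure finite group theory, proofs in README, section LA). -/

set_option autoImplicit false
set_option linter.unusedSectionVars false

namespace H26
namespace Gold

open Cfsg H24 Subgroup

universe u

variable {G : Type u} [Group G] [Finite G] {M A B U : Subgroup G}

/-- LA1 -/
theorem la1 (hA : EA A) (hM : M ≤ N[A])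
    (irr : ∀ X ≤ A, M ≤ N[X] → X = ⊥ ∨ X = A)
    (noidx : ∀ L ≤ M, L.relIndex M ≠ 2)
    (hB : B ≠ ⊥) (hT : Trs M A B U)
    (n1 : ∀ g ∈ M, cj g B = B → cj g U = U)
    (n2 : ∀ g ∈ M, cj g B ≠ B → cj g B ⊓ B ≠ ⊥ → ⁅A, cj g U⁆ ≤ B)
    (n4 : (∃ u ∈ U, ⁅A, zpowers u⁆ ≤ B ∧ u ∉ C[A]) → B.relIndex A ≠ 4 ∧
      ∃ u ∈ U, ⁅A, zpowers u⁆ ≤ B ∧ u ∉ C[A] ∧ ∃ y ∈ A, y ∉ B ∧ u * y = y * u) :
    (∀ g ∈ M, 4 ≤ ♯(cj g B ⊓ B)) ∨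
      (♯A = 8 ∧ ♯B = 2 ∧ (∀ x ∈ A, x ≠ 1 → ∀ y ∈ A, y ≠ 1 → ∃ g ∈ M, y = g * x * g⁻¹) ∧
        ∀ s ∈ M, TwoE s → s ∈ C[A]) :=
  H20.LA.la1' hA hM irr noidx hB hT n1 n2 n4

/-- LA2 -/
theorem la2 (hA : EA A) (hM : M ≤ N[A])
    (irr : ∀ X ≤ A, M ≤ N[X] → X = ⊥ ∨ X = A)
    (hT : Trs M A B U)
    (orth : ∀ g ∈ M, cj g B ≠ B → ⁅A, cj g U⁆ ≤ B)
    {B' U' : Subgroup G} (hT' : Trs M A B' U') (hle : B'.relIndex A ≤ B.relIndex A) :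
    ∃ g ∈ M, cj g B ≤ B' :=
  H20.LA.la2' hA hM irr hT orth hT' hle

end Gold
end H26
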