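import Mathlib
import Cfsg.Agent.H26.GBase
import Cfsg.Agent.H22.SuzII1
import Cfsg.Agent.H12.Thompson

/-! GOLD, `|A| = 8`: no pieces of type `U₃(4)` (README, section E8c). -/

set_option autoImplicit false
set_option linter.unusedSectionVars false
set_option linter.unusedVariables false

namespace H26
namespace Gold

open Cfsg H24 Subgroup
open scoped commutatorElement

universe u

variable {G : Type u} [Group G] [Finite G]

/-- least invariant subgroup of `T` not contained in `B` -/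
structure Lst (T B X Q : Subgroup G) : Prop where
  le : Q ≤ T
  norm : X ≤ N[Q]
  ne : ¬ Q ≤ B
  min : ∀ I, I ≤ T → X ≤ N[I] → ¬ I ≤ B → Q ≤ I

theorem Lst.eq {T B X Q Q' : Subgroup G} (h : Lst T B X Q) (h' : Lst T B X Q') : Q = Q' :=
  le_antisymm (h.min _ h'.le h'.norm h'.ne) (h'.min _ h.le h.norm h.ne)

theorem Lst.cj {T B X Q : Subgroup G} (h : Lst T B X Q) (g : G) :
    Lst (cj g T) (cj g B) (cj g X) (cj g Q) :=
  ⟨cj_mono g h.le, norm_cj h.norm g, fun h' => h.ne (cj_le_cj.1 h'), fun I h1 h2 h3 =>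
    cj_le_iff.2 (h.min _ (le_cj_iff.1 h1) (by simpa [cj_inv_cj] using norm_cj h2 g⁻¹)
      fun h4 => h3 (le_cj_iff.2 h4))⟩

namespace E8

variable {M A : Subgroup G} {T V Z : G → Subgroup G} (h : E8 M A T V Z) {a b : G}
include h

theorem normT (ha : a ∈ A) (h1 : a ≠ 1) : M ⊓ C{a} ≤ N[T a] := fun g hg => by
  have := (h.equiv a ha h1 g hg.1).1
  rw [mem_C1_iff_conj.1 hg.2] at this
  exact mem_N_iff_cj.2 this.symm

theorem normV (ha : a ∈ A) (h1 : a ≠ 1) : M ⊓ C{a} ≤ N[V a] := fun g hg => by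
  have := (h.equiv a ha h1 g hg.1).2.1
  rw [mem_C1_iff_conj.1 hg.2] at this
  exact mem_N_iff_cj.2 this.symm

theorem normX (ha : a ∈ A) (h1 : a ≠ 1) : M ⊓ C{a} ≤ N[V a ⊓ C[A]] :=
  norm_inf (h.normV ha h1) (inf_le_left.trans (norm_C h.norm))

theorem XY (ha : a ∈ A) (h1 : a ≠ 1) : V a ⊓ C[A] ≤ M ⊓ C[A] :=
  inf_le_inf_right _ ((h.leV a ha h1).trans inf_le_left)

theorem YC (hb : b ∈ A) : M ⊓ C[A] ≤ M ⊓ C{b} := inf_le_inf_left _ (C_le_C1 hb)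

theorem TX (ha : a ∈ A) (h1 : a ≠ 1) : T a ≤ V a ⊓ C[A] := (h.syl a ha h1).le

theorem TY (ha : a ∈ A) (h1 : a ≠ 1) : T a ≤ M ⊓ C[A] := (h.TX ha h1).trans (h.XY ha h1)

theorem YT (ha : a ∈ A) (h1 : a ≠ 1) : M ⊓ C[A] ≤ N[T a] := (h.YC ha).trans (h.normT ha h1)

theorem XT (ha : a ∈ A) (h1 : a ≠ 1) : V a ⊓ C[A] ≤ N[T a] := (h.XY ha h1).trans (h.YT ha h1)

theorem XB (ha : a ∈ A) (h1 : a ≠ 1) : V a ⊓ C[A] ≤ C[A ⊔ Z a] :=
  cents_sup inf_le_right (inf_le_left.trans (cents_symm ((h.leZ a ha h1).trans inf_le_right)))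

theorem le_T (ha : a ∈ A) (h1 : a ≠ 1) {P : Subgroup G} (hP : TwoG P) (hl : P ≤ V a ⊓ C[A]) :
    P ≤ T a := (h.syl a ha h1).le_of_nml (h.XT ha h1) hP hl

theorem comm_mem (ha : a ∈ A) (h1 : a ≠ 1) {x y : G} (hx : x ∈ T a) (hy : y ∈ T a) :
    ⁅x, y⁆ ∈ A ⊔ Z a := by
  have hc : ∀ w ∈ A ⊔ Z a, ∀ t ∈ T a, w * t = t * w := fun w hw t ht =>
    mem_C.1 (h.XB ha h1 (h.TX ha h1 ht)) w hw
  have e1 := h.sq a ha h1 _ ((T a).mul_mem hx hy)
  have e2 := h.sq a ha h1 _ ((T a).inv_mem hx)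
  have e3 := h.sq a ha h1 _ ((T a).inv_mem hy)
  have e4 := hc _ e2 _ hy
  have : ⁅x, y⁆ = (x * y * (x * y)) * (y⁻¹ * y⁻¹) * (x⁻¹ * x⁻¹) := by
    rw [commutatorElement_def]
    calc x * y * x⁻¹ * y⁻¹ = x * y * x * ((x⁻¹ * x⁻¹) * y) * y⁻¹ * y⁻¹ := by group
      _ = x * y * x * (y * (x⁻¹ * x⁻¹)) * (y⁻¹ * y⁻¹) := by rw [e4]; group
      _ = x * y * x * y * ((x⁻¹ * x⁻¹) * (y⁻¹ * y⁻¹)) := by group
      _ = _ := by rw [hc _ e2 _ ((T a).mul_mem ((T a).inv_mem hy) ((T a).inv_mem hy))]; group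
  rw [this]
  exact mul_mem (mul_mem e1 e3) e2

theorem comm_le (ha : a ∈ A) (h1 : a ≠ 1) : ⁅T a, T a⁆ ≤ A ⊔ Z a :=
  commutator_le.2 fun _ hx _ hy => h.comm_mem ha h1 hx hy

theorem not_le (ha : a ∈ A) (h1 : a ≠ 1) : ¬ T a ≤ A ⊔ Z a := fun h0 => by
  have := h.idx a ha h1
  rw [relIndex_eq_one.2 h0] at this
  omega

/-- the element of order five acts irreducibly -/
theorem irr (ha : a ∈ A) (h1 : a ≠ 1) {I : Subgroup G} (hI : I ≤ T a)
    (hn : V a ⊓ C[A] ≤ N[I]) (hne : ¬ I ≤ A ⊔ Z a) : T a ≤ I ⊔ (A ⊔ Z a) := by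
  obtain ⟨v, hv, h5, hf⟩ := h.exv a ha h1
  set B := A ⊔ Z a with hB
  have hXB : V a ⊓ C[A] ≤ N[B] := norm_of_cent (h.XB ha h1)
  have hTB : T a ≤ N[B] := (h.TX ha h1).trans hXB
  have hIB : I ≤ N[B] := hI.trans hTB
  rw [← quo_le_quo_iff hTB hIB]
  have : Fact (Nat.Prime 5) := ⟨Nat.prime_five⟩
  -- the five-part of `v`
  obtain ⟨y, z, hy, hz, hyv, hzv, e⟩ := exists_piElt_decomp {5} v
  have hz5 : z ∈ zpowers (v ^ 5) := by
    have hc : (orderOf z).Coprime 5 := ((piNat_compl_iff_coprime Nat.prime_five).1 hz).symm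
    obtain ⟨k, rfl⟩ := mem_zpowers_iff.1 hzv
    obtain ⟨m, hm⟩ := exists_pow_eq_self_of_coprime hc.symm
    rw [← hm, ← zpow_natCast (v ^ k) 5, ← zpow_mul, mul_comm, zpow_mul, zpow_natCast]
    exact pow_mem (zpow_mem (mem_zpowers _) _) _
  have hc5 : v ^ 5 ∈ centQ (T a) B := (mem_centQ hTB).2 ⟨hXB (pow_mem hv 5), h5⟩
  have hzc : z ∈ centQ (T a) B := zpowers_le.2 hc5 hz5
  have hyX : y ∈ V a ⊓ C[A] := zpowers_le.2 hv hyv
  have hP : IsPGroup 5 (quo (zpowers y) B) := (hy.isPi.quo B).isPGroup Nat.prime_five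
  have hm := H22.card_modEq_cent (U := quo I B) hP
    (le_N_iff.1 (quo_norm B ((zpowers_le.2 hyX).trans hn)))
  have hfix : quo I B ⊓ C[quo (zpowers y) B] = ⊥ := by
    rw [eq_bot_iff]
    rintro _ ⟨hx, hc⟩
    obtain ⟨x, hxI, hxN, rfl⟩ := mem_quo.1 hx
    have hxT := hI hxI
    have h2 : zpowers y ≤ centQ (zpowers x) B := (le_centQ (zpowers_le.2 hxN)).2
      ⟨zpowers_le.2 (hXB hyX), (quo_cents (zpowers_le.2 (hXB hyX)) (zpowers_le.2 hxN)).1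
        (cents_symm (by rw [quo_zpowers hxN]; exact zpowers_le.2 hc))⟩
    have h3 : z ∈ centQ (zpowers x) B := (mem_centQ (zpowers_le.2 hxN)).2
      ⟨centQ_le_N _ _ hzc, fun u hu => ((mem_centQ hTB).1 hzc).2 u (zpowers_le.2 hxT hu)⟩
    have h4 : v ∈ centQ (zpowers x) B := e ▸ mul_mem (h2 (mem_zpowers y)) h3
    exact mem_bot.2 (cs_of_mem (hf x hxT (((mem_centQ (zpowers_le.2 hxN)).1 h4).2 x
      (mem_zpowers x))))
  rw [hfix, card_bot] at hm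
  have hc : ♯(quo (T a) B) = 16 := by rw [card_quo hTB, h.idx a ha h1]
  have hd : ♯(quo I B) ∣ 16 := hc ▸ card_dvd (quo_mono B hI)
  have hn1 : ♯(quo I B) ≠ 1 := fun h0 => hne ((quo_eq_bot hIB).1 (card_eq_one'.1 h0))
  refine (eq_of_card_ge (quo_mono B hI) ?_).ge
  rw [hc]
  have hle := Nat.le_of_dvd (by norm_num) hd
  unfold Nat.ModEq at hm
  generalize ♯(quo I B) = n at *
  interval_cases n <;> omega

theorem exists_lst (ha : a ∈ A) (h1 : a ≠ 1) : ∃ H Q : Subgroup G, OddG H ∧ H ≤ V a ⊓ C[A] ∧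
    Q = ⁅T a, H⁆ ∧ Lst (T a) (A ⊔ Z a) (V a ⊓ C[A]) Q := by
  obtain ⟨H, hH⟩ := Hall.exists_sd (h.syl a ha h1) (h.XT ha h1)
  have hHX := hH.right_le
  refine ⟨H, _, hH.isPi_right (h.syl a ha h1), hHX, rfl, comm_le_left hH.norm, ?_, fun h0 => ?_,
    fun I hI hn hne => ?_⟩
  · rw [← hH.sup]
    exact sup_le (norm_comm_left _ _) (norm_comm_right _ _)
  · obtain ⟨v, hv, -, hf⟩ := h.exv a ha h1
    have hXB : V a ⊓ C[A] ≤ N[A ⊔ Z a] := norm_of_cent (h.XB ha h1)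
    have hTB := (h.TX ha h1).trans hXB
    have h2 : V a ⊓ C[A] ≤ centQ (T a) (A ⊔ Z a) := by
      conv_lhs => rw [← hH.sup]
      exact sup_le ((le_centQ hTB).2 ⟨hTB, h.comm_le ha h1⟩)
        ((le_centQ hTB).2 ⟨hHX.trans hXB, by rw [commC]; exact h0⟩)
    exact h.not_le ha h1 fun x hx => hf x hx (((mem_centQ hTB).1 (h2 hv)).2 x hx)
  · have hp : IsProd I (A ⊔ Z a) (I ⊔ (A ⊔ Z a)) :=
      isProd_sup' ((hI.trans (h.TX ha h1)).trans (norm_of_cent (h.XB ha h1)))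
    refine (comm_mono_left (h.irr ha h1 hI hn hne)).trans ?_
    rw [hp.comm_left_of_cent (cents_symm (hHX.trans (h.XB ha h1)))]
    exact comm_le_left (hHX.trans hn)

theorem lst_cj (ha : a ∈ A) (h1 : a ≠ 1) {Q : Subgroup G}
    (hQ : Lst (T a) (A ⊔ Z a) (V a ⊓ C[A]) Q) {g : G} (hg : g ∈ M) :
    Lst (T (g * a * g⁻¹)) (A ⊔ Z (g * a * g⁻¹)) (V (g * a * g⁻¹) ⊓ C[A]) (cj g Q) := by
  obtain ⟨e1, e2, e3⟩ := h.equiv a ha h1 g hg
  have := hQ.cj g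
  rwa [cj_sup, cj_inf, cj_C, cj_of_mem_N (h.norm hg), ← e1, ← e2, ← e3] at this

theorem lst_norm (ha : a ∈ A) (h1 : a ≠ 1) {Q : Subgroup G}
    (hQ : Lst (T a) (A ⊔ Z a) (V a ⊓ C[A]) Q) : M ⊓ C{a} ≤ N[Q] := fun g hg => by
  have := h.lst_cj ha h1 hQ hg.1
  rw [mem_C1_iff_conj.1 hg.2] at this
  exact mem_N_iff_cj.2 (this.eq hQ)

theorem lst_not_abl (ha : a ∈ A) (h1 : a ≠ 1) {Q : Subgroup G}
    (hQ : Lst (T a) (A ⊔ Z a) (V a ⊓ C[A]) Q) : ¬ Abl Q := fun hab => by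
  obtain ⟨v, hv, -, hf⟩ := h.exv a ha h1
  obtain ⟨x, hx, hxB⟩ := SetLike.not_le_iff_exists.1 hQ.ne
  have hx' : v * x * v⁻¹ ∈ Q := conj_mem (hQ.norm hv) hx
  refine hxB (hf x (hQ.le hx) (h.nsq a ha h1 _ (hQ.le (Q.mul_mem hx' (Q.inv_mem hx))) ?_))
  have e1 := hab.comm (Q.inv_mem hx) hx'
  have e2 := conj_eq_of_mem_C (h.XB ha h1 hv) (h.sq a ha h1 x (hQ.le hx))
  have : v * x * v⁻¹ * x⁻¹ * (v * x * v⁻¹ * x⁻¹) = 1 := by
    calc v * x * v⁻¹ * x⁻¹ * (v * x * v⁻¹ * x⁻¹)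
        = v * x * v⁻¹ * (x⁻¹ * (v * x * v⁻¹)) * x⁻¹ := by group
      _ = v * (x * x) * v⁻¹ * (x * x)⁻¹ := by rw [e1]; group
      _ = 1 := by rw [e2]; group
  rw [this]
  exact one_mem _

theorem idx7 (ha : a ∈ A) (h1 : a ≠ 1) : C{a}.relIndex M = 7 := by
  rw [H22.relIndex_centralizer]
  have : {y | ∃ n ∈ M, n * a * n⁻¹ = y} = (A : Set G) \ {1} := by
    ext y
    constructor
    · rintro ⟨n, hn, rfl⟩
      exact ⟨conj_mem (h.norm hn) ha, fun h0 => h1 (conj_eq_one_iff'.1 h0)⟩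
    · rintro ⟨hy, hy1⟩
      obtain ⟨g, hg, e⟩ := h.trans a ha h1 y hy hy1
      exact ⟨g, hg, e.symm⟩
  rw [this, Set.ncard_sdiff_singleton_of_mem (SetLike.mem_coe.2 A.one_mem)]
  have := h.card
  rw [← Nat.card_coe_set_eq, SetLike.coe_sort_coe, this]

theorem case_two (hc : ∀ a ∈ A, a ≠ 1 → ∀ b ∈ A, b ≠ 1 → a ≠ b → T a ⊓ T b ≤ A ⊔ Z a) :
    False := by
  have key : ∀ a ∈ A, a ≠ 1 → ∀ b ∈ A, b ≠ 1 → a ≠ b → ∀ Q,
      Lst (T a) (A ⊔ Z a) (V a ⊓ C[A]) Q → Q ≤ C[T b] := by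
    intro a ha h1 b hb hb1 hab Q hQ
    obtain ⟨H, Q', hH, hHX, rfl, hQ'⟩ := h.exists_lst ha h1
    rw [hQ.eq hQ']
    have hHb : H ≤ N[T b] := (hHX.trans (h.XY ha h1)).trans (h.YT hb hb1)
    have hbX : T b ≤ N[V a ⊓ C[A]] := ((h.TY hb hb1).trans (h.YC ha)).trans (h.normX ha h1)
    have h2 : ⁅T b, H⁆ ≤ T a ⊓ T b := le_inf
      (h.le_T ha h1 ((h.syl b hb hb1).pi.of_le (comm_le_left hHb))
        ((comm_mono_right hHX).trans (comm_le_right hbX))) (comm_le_left hHb)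
    have hHB : A ⊔ Z a ≤ C[H] := cents_symm (hHX.trans (h.XB ha h1))
    have h3 : H ≤ C[T b] := coprime_commGG1P' hHb (cop hH (h.syl b hb hb1).pi).symm
      (Or.inr hH.sol) (comm_eq_bot.2 ((h2.trans (hc a ha h1 b hb hb1 hab)).trans hHB))
    have h4 : ⁅T b, T a⁆ ≤ T a ⊓ T b := le_inf
      (comm_le_right ((h.TY hb hb1).trans (h.YT ha h1)))
      (comm_le_left ((h.TY ha h1).trans (h.YT hb hb1)))
    rw [← comm_eq_bot]
    refine three_subgroup (A := H) (B := T b) (K := T a) ?_ ?_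
    · rw [comm_eq_bot.2 h3, commutator_bot_left]
    · exact comm_eq_bot.2 ((h4.trans (hc a ha h1 b hb hb1 hab)).trans hHB)
  obtain ⟨a, ha, h1⟩ := exists_ne_one (H := A) (by
    intro h0; have := h.card; rw [h0, card_bot] at this; omega)
  have hAZ : ¬ A ≤ Z a := fun h0 => h.not_le ha h1 fun x hx =>
    h.nsq a ha h1 x hx (sup_eq_right.2 h0 ▸ h.sq a ha h1 x hx)
  obtain ⟨b, hb, hbZ⟩ := SetLike.not_le_iff_exists.1 hAZ
  have hb1 : b ≠ 1 := fun h0 => hbZ (h0 ▸ one_mem _)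
  have hba : b ≠ a := fun h0 => hbZ (h0 ▸ h.memZ a ha h1)
  obtain ⟨k, hk, hkb⟩ := h.exk a ha h1 b hb hbZ
  have hkM := h.leV a ha h1 hk
  have hb' : k * b * k⁻¹ ∈ A := conj_mem (h.norm hkM.1) hb
  have hb1' : k * b * k⁻¹ ≠ 1 := fun h0 => hb1 (conj_eq_one_iff'.1 h0)
  obtain ⟨H, Q, -, -, -, hQ⟩ := h.exists_lst hb hb1
  have hQ' := h.lst_cj hb hb1 hQ hkM.1
  have e1 : k * b * k⁻¹ ≠ b := fun h0 => hkb (mul_inv_eq_iff_eq_mul.1 h0)
  have e2 : k * b * k⁻¹ ≠ a := fun h0 => hba (by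
    have := mem_C1_iff_conj.1 hkM.2
    exact mul_left_cancel (mul_right_cancel (h0.trans this.symm)))
  refine h.lst_not_abl hb' hb1' hQ' (abl_iff.2 (cents_of_le
    (cents_sup (key _ hb' hb1' a ha h1 e2 _ hQ') (key _ hb' hb1' b hb hb1 e1 _ hQ')) ?_))
  intro z hz
  obtain ⟨x, hx, rfl⟩ := mem_cj'.1 hz
  have hxT := hQ.le hx
  have hxT' := hQ'.le hz
  have h2 : k * x * k⁻¹ * x⁻¹ ∈ T a := by
    have hP : TwoG (T (k * b * k⁻¹) ⊔ T b) := (h.syl _ hb' hb1').pi.sup (h.syl b hb hb1).pi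
      ((h.TY hb hb1).trans (h.YT hb' hb1'))
    refine h.le_T ha h1 (P := zpowers (k * x * k⁻¹ * x⁻¹)) (hP.of_le (zpowers_le.2
      (mul_mem (mem_sup_left hxT') (mem_sup_right (inv_mem hxT))))) (zpowers_le.2 ⟨?_, ?_⟩)
      (mem_zpowers _)
    · have := conj_mem (h.normV ha h1 (h.YC ha (h.TY hb hb1 hxT))) (inv_mem hk)
      have e : k * x * k⁻¹ * x⁻¹ = k * (x * k⁻¹ * x⁻¹) := by group
      rw [e]
      exact mul_mem hk this
    · exact (C[A]).mul_mem (h.TY hb' hb1' hxT').2 ((C[A]).inv_mem (h.TY hb hb1 hxT).2)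
  have e : k * x * k⁻¹ = k * x * k⁻¹ * x⁻¹ * x := by group
  rw [e]
  exact mul_mem (mem_sup_left h2) (mem_sup_right hxT)

end E8

theorem E8.false {M A : Subgroup G} {T V Z : G → Subgroup G} (h : E8 M A T V Z) : False := by
  refine h.case_two fun a ha h1 b hb hb1 hab => ?_
  by_contra hne
  obtain ⟨H, Q, hH, hHX, hQe, hQ⟩ := h.exists_lst ha h1
  set B := A ⊔ Z a with hB
  have hXB : V a ⊓ C[A] ≤ C[B] := h.XB ha h1
  have hTB : T a ≤ N[B] := (h.TX ha h1).trans (norm_of_cent hXB)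
  -- `Q` is normal in `M`
  have hM : M ≤ N[Q] := by
    have h2 : Q ≤ T b := (hQ.min _ inf_le_left (norm_inf (h.XT ha h1)
      ((h.XY ha h1).trans (h.YT hb hb1))) hne).trans inf_le_right
    obtain ⟨g, hg, rfl⟩ := h.trans a ha h1 b hb hb1
    have hQ' := h.lst_cj ha h1 hQ hg
    have h3 : cj g Q ≤ Q := hQ'.min _ h2 (((h.XY hb hb1).trans (h.YC ha)).trans (h.lst_norm ha h1 hQ))
      fun h0 => h.lst_not_abl ha h1 hQ (abl_iff.2
        (cents_of_le ((h2.trans (h.TX hb hb1)).trans (h.XB hb hb1)) h0))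
    have hcov : C{a} ⊓ M ⋖ M := covBy_of_relIndex_prime inf_le_right (by
      rw [inf_relIndex_right, h.idx7 ha h1]; norm_num)
    rcases covBy_eq_or hcov (L := M ⊓ N[Q]) (le_inf inf_le_right (by
      rw [inf_comm]; exact h.lst_norm ha h1 hQ)) inf_le_left with e | e
    · have : g ∈ C{a} ⊓ M := e ▸ ⟨hg, mem_N_of_cj_le h3⟩
      exact absurd (mem_C1_iff_conj.1 this.1).symm hab
    · exact e.ge.trans inf_le_right
  have hQT := hQ.le
  have hQ2 : TwoG Q := (h.syl a ha h1).pi.of_le hQT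
  have hc : ∀ w ∈ B, ∀ t ∈ T a, w * t = t * w := fun w hw t ht =>
    mem_C.1 (hXB (h.TX ha h1 ht)) w hw
  -- `Q ⊓ B` is elementary
  have hel : ∀ w ∈ Q ⊓ B, w * w = 1 := by
    have hHQ : H ≤ N[Q] := hHX.trans hQ.norm
    have hn : Q ≤ N[⁅Q, Q⁆] := (der1_nml Q).norm
    have hHn : H ≤ N[⁅Q, Q⁆] := norm_der1 hHQ
    have e : ⁅Q, H⁆ = Q := by
      rw [hQe]
      exact coprime_commGid' (hHX.trans (h.XT ha h1)) (cop hH (h.syl a ha h1).pi).symm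
        (Or.inr hH.sol)
    have h2 := coprime_abel_cent_TI (quo_norm ⁅Q, Q⁆ hHQ) (coprime_quo (cop hH hQ2).symm _)
      (abl_quo_der1 Q)
    rw [← quo_comm hn hHn, e] at h2
    have h3 : Q ⊓ B ≤ ⁅Q, Q⁆ := (quo_eq_bot (inf_le_left.trans hn)).1 (eq_bot_of_le h2
      (le_inf (quo_mono _ inf_le_left)
        (quo_cent _ (inf_le_right.trans (cents_symm (hHX.trans hXB))))))
    have hab : Q ⊓ B ≤ C[Q ⊓ B] := inf_le_left.trans ((hQT.trans (h.TX ha h1)).trans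
      (hXB.trans (C_anti inf_le_right)))
    have h4 : ⁅Q, Q⁆ ≤ omegaOne 2 (Q ⊓ B) := commutator_le.2 fun x hx y hy => by
      have hm := h.comm_mem ha h1 (hQT hx) (hQT hy)
      refine H12.mem_omega ⟨der1_le Q (commutator_mem_commutator hx hy), hm⟩ ?_
      have e1 := hc _ hm x (hQT hx)
      have e2 := hc _ (h.sq a ha h1 x (hQT hx)) y (hQT hy)
      rw [commutatorElement_def] at e1 ⊢
      calc (x * y * x⁻¹ * y⁻¹) ^ 2 = (x * y * x⁻¹ * y⁻¹ * x) * y * x⁻¹ * y⁻¹ := by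
            rw [pow_two]; group
        _ = (x * x * y) * x⁻¹ * y⁻¹ * (y * x⁻¹ * y⁻¹) := by rw [e1]; group
        _ = 1 := by rw [e2]; group
    intro w hw
    rw [← pow_two]
    exact ((H12.mem_omega_iff hab).1 (h4 (h3 hw))).2
  have hsq : ∀ x ∈ Q, ∀ y ∈ Q, cs B x = cs B y → x * x = y * y := fun x hx y hy e => by
    have h2 := (cs_eq_cs (hTB (hQT hx)) (hTB (hQT hy))).1 e
    have h3 := hel _ ⟨Q.mul_mem (Q.inv_mem hx) hy, h2⟩
    have h4 := hc _ h2 x (hQT hx)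
    calc x * x = x * x * (x⁻¹ * y * (x⁻¹ * y)) := by rw [h3, mul_one]
      _ = x * (x * (x⁻¹ * y)) * (x⁻¹ * y) := by group
      _ = x * (x⁻¹ * y * x) * (x⁻¹ * y) := by rw [h4]
      _ = y * y := by group
  obtain ⟨v, hv, h5, hf⟩ := h.exv a ha h1
  have hvB : v ∈ N[B] := norm_of_cent hXB hv
  obtain ⟨x, hx, hxB⟩ := SetLike.not_le_iff_exists.1 hQ.ne
  have hs := h.sq a ha h1 x (hQT hx)
  -- at most three conjugates of `x²`
  have hi : C{x * x}.relIndex M ≤ 3 := by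
    rw [H22.relIndex_centralizer]
    set S := {y | ∃ n ∈ M, n * (x * x) * n⁻¹ = y} with hS
    have hex : ∀ y : S, ∃ w ∈ Q, w ∉ ⁅Q, Q⁆ ∧ w * w = y := by
      rintro ⟨_, n, hn, rfl⟩
      refine ⟨n * x * n⁻¹, conj_mem (hM hn) hx, fun h0 => hxB ?_, by simp only; group⟩
      exact h.comm_le ha h1 (der1_mono hQT ((conj_mem_iff (norm_der1 hM hn)).1 h0))
    choose w hw hw' hws using hex
    have hwB : ∀ y, w y ∉ B := fun y h0 => by
      obtain ⟨_, n, hn, rfl⟩ := y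
      have h2 := hel _ ⟨hw _, h0⟩
      rw [hws] at h2
      have h3 : x * x = 1 := conj_eq_one_iff'.1 h2
      exact hxB (h.nsq a ha h1 x (hQT hx) (h3 ▸ one_mem _))
    have hvw : ∀ y (i : ℕ), v ^ i * w y * (v ^ i)⁻¹ ∈ Q := fun y i =>
      conj_mem (hQ.norm (pow_mem hv i)) (hw y)
    let f : S × Fin 5 → quo (T a) B := fun z =>
      ⟨cs B (v ^ (z.2 : ℕ) * w z.1 * (v ^ (z.2 : ℕ))⁻¹), cs_mem_quo (hQT (hvw _ _)) (hTB (hQT (hvw _ _)))⟩
    have hsq' : ∀ y (i : ℕ), v ^ i * w y * (v ^ i)⁻¹ * (v ^ i * w y * (v ^ i)⁻¹) = y := fun y i => by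
      rw [← hws y, ← conj_eq_of_mem_C (hXB (pow_mem hv i)) (h.sq a ha h1 _ (hQT (hw y)))]
      group
    have hlt : ∀ y (i j : ℕ), i < j → j < 5 →
        cs B (v ^ i * w y * (v ^ i)⁻¹) ≠ cs B (v ^ j * w y * (v ^ j)⁻¹) := by
      intro y i j hij hj e
      have hwN : zpowers (w y) ≤ N[B] := zpowers_le.2 (hTB (hQT (hw y)))
      have mem : ∀ u ∈ N[B], ⁅u, w y⁆ ∈ B → u ∈ centQ (zpowers (w y)) B := fun u hu hu' => by
        refine mem_coq.2 ⟨hu, ?_⟩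
        rw [quo_zpowers (hTB (hQT (hw y))), C_zpowers, mem_C1]
        have h2 : ⁅cs B u, cs B (w y)⁆ = 1 :=
          (ap_commutator _ hu (hTB (hQT (hw y)))).symm.trans (cs_of_mem hu')
        exact commutatorElement_eq_one_iff_mul_comm.1 h2
      have h2 := (cs_eq_cs (hTB (hQT (hvw y i))) (hTB (hQT (hvw y j)))).1 e
      obtain ⟨d, rfl⟩ := Nat.exists_eq_add_of_lt hij
      have h3 : v ^ (d + 1) ∈ centQ (zpowers (w y)) B := by
        refine mem _ (pow_mem hvB _) ?_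
        have h4 := conj_mem (hTB (hQT (hw y))) (conj_mem' (pow_mem hvB i) h2)
        convert h4 using 1
        rw [commutatorElement_def, add_assoc, pow_add]
        group
      have h4 : v ^ 5 ∈ centQ (zpowers (w y)) B := mem _ (pow_mem hvB _) (h5 _ (hQT (hw y)))
      have h6 : v ∈ centQ (zpowers (w y)) B := by
        have hd : d = 0 ∨ d = 1 ∨ d = 2 ∨ d = 3 := by omega
        rcases hd with rfl | rfl | rfl | rfl
        · simpa using h3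
        · have : v = v ^ 5 * ((v ^ (1 + 1)) ^ 2)⁻¹ := by group
          rw [this]; exact mul_mem h4 (inv_mem (pow_mem h3 _))
        · have : v = (v ^ (2 + 1)) ^ 2 * (v ^ 5)⁻¹ := by group
          rw [this]; exact mul_mem (pow_mem h3 _) (inv_mem h4)
        · have : v = v ^ 5 * (v ^ (3 + 1))⁻¹ := by group
          rw [this]; exact mul_mem h4 (inv_mem h3)
      exact hwB y (hf _ (hQT (hw y)) (((mem_centQ hwN).1 h6).2 _ (mem_zpowers _)))
    have hinj : Function.Injective f := by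
      rintro ⟨y, i⟩ ⟨y', j⟩ e
      have e1 := congrArg Subtype.val e
      have e2 := hsq _ (hvw _ _) _ (hvw _ _) e1
      rw [hsq', hsq'] at e2
      obtain rfl : y = y' := Subtype.ext e2
      rcases lt_trichotomy (i : ℕ) j with h0 | h0 | h0
      · exact absurd e1 (hlt y i j h0 j.2)
      · rw [Fin.ext h0]
      · exact absurd e1.symm (hlt y j i h0 i.2)
    have := Nat.card_le_card_of_injective f hinj
    rw [Nat.card_prod, card_quo hTB, h.idx a ha h1, Nat.card_coe_set_eq] at this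
    simp only [Nat.card_eq_fintype_card, Fintype.card_fin] at this
    omega
  obtain ⟨y, hy, z, hz, e⟩ := (mem_sup_of_norm (norm_of_cent
    ((h.leZ a ha h1).trans (inf_le_left.trans inf_le_right)))).1 hs
  have hyZ : y ∉ Z a := fun h0 => hxB (h.nsq a ha h1 x (hQT hx) (e ▸ mul_mem h0 hz))
  obtain ⟨k, hk, hky⟩ := h.exk a ha h1 y hy hyZ
  have hkM := (h.leV a ha h1 hk).1
  have hkz : k * z * k⁻¹ = z := by
    rw [mem_C.1 ((h.leZ a ha h1 hz).2) k hk]; group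
  have hu : k * (x * x) * k⁻¹ * (x * x)⁻¹ = k * y * k⁻¹ * y⁻¹ := by
    rw [e]
    calc k * (y * z) * k⁻¹ * (y * z)⁻¹ = k * y * k⁻¹ * (k * z * k⁻¹) * z⁻¹ * y⁻¹ := by group
      _ = _ := by rw [hkz]; group
  have huA : k * y * k⁻¹ * y⁻¹ ∈ A := A.mul_mem (conj_mem (h.norm hkM) hy) (A.inv_mem hy)
  have hu1 : k * y * k⁻¹ * y⁻¹ ≠ 1 := fun h0 => hky (by
    calc k * y = k * y * k⁻¹ * y⁻¹ * (y * k) := by group
      _ = y * k := by rw [h0, one_mul])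
  have h7 := h.idx7 huA hu1
  have hle : C{x * x} ⊓ C{k * (x * x) * k⁻¹} ≤ C{k * y * k⁻¹ * y⁻¹} := fun g hg => by
    rw [← hu, mem_C1_comm]
    exact mul_mem (mem_C1_comm.1 hg.2) (inv_mem (mem_C1_comm.1 hg.1))
  have d1 := relIndex_dvd_of_le_left M hle
  have d2 := relIndex_dvd_of_le_left M
    (inf_le_left : C{x * x} ⊓ C{k * (x * x) * k⁻¹} ≤ C{x * x})
  have d3 := relIndex_inf_le (H := C{x * x}) (K := C{k * (x * x) * k⁻¹}) (L := M)
  have d4 : C{k * (x * x) * k⁻¹}.relIndex M = C{x * x}.relIndex M := by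
    rw [← cj_C1, ← relIndex_cj k C{x * x} M, cj_of_mem hkM]
  have d5 := relIndex_pos (C{x * x} ⊓ C{k * (x * x) * k⁻¹}) M
  have d6 : C{x * x}.relIndex M ≠ 1 := fun h0 => hu1 (by
    rw [← hu, mem_C1_iff_conj.1 (relIndex_eq_one.1 h0 hkM)]; group)
  have d7 := relIndex_pos C{x * x} M
  rw [d4] at d3
  rw [h7] at d1
  generalize C{x * x}.relIndex M = i at *
  generalize (C{x * x} ⊓ C{k * (x * x) * k⁻¹}).relIndex M = j at *
  interval_cases i <;> omega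

end Gold
end H26
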