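import Mathlib
import Cfsg.Agent.H26.GCase0

/-! GOLD: case (P), a four-group in the complement. -/

set_option autoImplicit false
set_option linter.unusedSectionVars false
set_option linter.unusedVariables false

namespace H26
namespace Gold

open Cfsg H24 Subgroup
open scoped commutatorElement

universe u

variable {G : Type u} [Group G] [Finite G] {D : Set G} {A Y1 F H K V : Subgroup G}

theorem Ctx.mem_Ck_of_cent (h : Ctx D H A) (hK : Piece D H K) {a : G} (ha : a ∈ A)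
    (hc : K ⊓ N[A] ≤ C{a}) : a ∈ Ck K := by
  by_contra hn
  obtain ⟨X, _, _, π, T, hd⟩ := h.hd0 hK
  obtain ⟨z, hz, h1, h2⟩ := hd.tz.exists_ne (ap π a)
  obtain ⟨y, hy, rfl⟩ := (mem_img_of_le hd.AK).1 hz
  obtain ⟨u, hu, -, h3⟩ := h.trans_cov hK (Cov.refl hK.perf) hd.AK ha hn hy
    (mt (hd.hat.eq_one (hd.AK hy)).2 h1)
  rw [mem_C1_iff_conj.1 (hc hu), ← hd.hat.eq_one (hd.AK (mul_mem ha hy)), ap_mul π (hd.AK ha) (hd.AK hy),
    mul_eq_one_iff_inv_eq, hd.tz.ea.inv (hd.apA ha)] at h3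
  exact h2 h3.symm

/-- P-a -/
theorem Ctx.le_Ck_of_compl (h : Ctx D H A) (hK : Piece D H K) (hY : DP A Y1 C[A])
    (hN : N[A] ≤ N[Y1]) (h2 : ∀ s ∈ N[A], TwoE s → s ∈ C[A]) :
    Flat A K ∧ ∀ x ∈ Y1 ⊓ H, TwoE x → x ∈ Ck K := by
  have hAK := norm_Ck (hK.normA h.max)
  have key : ∀ a ∈ A, ∀ y ∈ Y1, a * y ∈ Ck K → a ∈ Ck K := fun a ha y hy hc => by
    refine h.mem_Ck_of_cent hK ha fun u hu => ?_
    have h1 : ⁅a * y, u⁆ ∈ Od[K] := mem_Ck.1 hc u hu.1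
    have h3 : u * a⁻¹ * u⁻¹ ∈ A := conj_mem hu.2 (inv_mem ha)
    have h4 : y * (u * y⁻¹ * u⁻¹) ∈ Y1 := mul_mem hy (conj_mem (hN hu.2) (inv_mem hy))
    have e : ⁅a * y, u⁆ = a * (u * a⁻¹ * u⁻¹) * (y * (u * y⁻¹ * u⁻¹)) := by
      rw [mul_assoc a, mem_C.1 (hY.cent h4) _ h3, commutatorElement_def]; group
    have h5 : ⁅a * y, u⁆ ∈ Y1 := le_of_idx_compl' hY.nml_right
      (h.two.piNat.dvd hY.symm.isProd.relIndex_dvd) ((Od_odd K).piElt h1).isPi
      (zpowers_le.2 (e ▸ mul_mem (hY.left_le (mul_mem ha h3)) (hY.right_le h4))) (mem_zpowers _)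
    rw [e, mul_mem_cancel_right h4] at h5
    have h6 : a * (u * a⁻¹ * u⁻¹) ∈ A ⊓ Y1 := ⟨mul_mem ha h3, h5⟩
    rw [hY.inf, mem_bot] at h6
    rw [mem_C1]
    calc u * a = a * (u * a⁻¹ * u⁻¹) * (u * a) := by rw [h6, one_mul]
      _ = a * u := by group
  have key2 : ∀ y ∈ Y1, y ∈ A ⊔ Ck K → y ∈ Ck K := fun y hy h1 => by
    obtain ⟨a, ha, c, hc, rfl⟩ := (mem_sup_of_norm' hAK).1 h1
    exact mul_mem (inv_inv a ▸ inv_mem (key _ (inv_mem ha) _ hy (by simpa using hc))) hc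
  have hf : Flat A K := by
    refine (h.flat_or hK).resolve_right ?_
    rintro ⟨t, ht, h3, h4, h5⟩
    obtain ⟨a, ha, y, hy, rfl⟩ := hY.isProd.mul t (h2 t ht.2 h3)
    have e : a * y * (a * y) = y * y := by
      rw [mul_assoc, ← mul_assoc y, ← mem_C.1 (hY.cent hy) a ha, ← mul_assoc, ← mul_assoc, h.ea.sq ha,
        one_mul]
    rw [e] at h4 h5
    exact h5 (key2 _ (mul_mem hy hy) h4)
  exact ⟨hf, fun x hx h3 => key2 x hx.1 (hf _ h3.isPi (zpowers_le.2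
    ⟨h.norm_of_cent hK ⟨hx.2, hY.right_le hx.1⟩, hY.right_le hx.1⟩) (mem_zpowers x))⟩

section

variable (h : MC D A) (hY : DP A Y1 C[A]) (hN : N[A] ≤ N[Y1])
    (h2 : ∀ s ∈ N[A], TwoE s → s ∈ C[A]) (hF : EA F) (h4 : ♯F = 4) (hFY : F ≤ Y1)
include h hY hN h2 hF h4 hFY

/-- `[O(C(f)°), C(f)°]` meets `C(A)` in `O(C(A))` -/
theorem MC.caseP_aux {f : G} (hf : f ∈ F) (h1 : f ≠ 1)
    (hP : ∀ K, Piece D C{f} K → A ⊓ Ck K = ⊥ → Gen2 D A K) :
    ⁅Od[Og D C{f}], Og D C{f}⁆ ⊓ C[A] ≤ Od[C[A]] := by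
  have hD := h.sc
  have hFA : F ≤ C[A] := hFY.trans hY.right_le
  have hc := h.ctx1 h1 (hFA hf)
  set J := Og D C{f} with hJ
  set O := Od[J] with hO
  have hJO : J ≤ N[O] := (pcore_nml _ J).norm
  have hfO : C{f} ≤ N[O] := norm_pcore _ (hD.Og_nml _).norm
  have hAJ : A ≤ J := hc.max.le_Og
  have hOo : OddG O := Od_odd J
  have hOf : O ≤ C{f} := (pcore_le _ J).trans (Og_le _ _)
  have hAO := hAJ.trans hJO
  set W := ⁅O, A⁆ ⊔ (O ⊓ Od[C[A]]) with hW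
  have hWO : W ≤ O := sup_le (comm_le_left hAO) inf_le_left
  have hOW : O ≤ N[W] := (coprime_cent_prod hAO (cop hOo h.ea.two) hOo.sol).sup_eq.ge.trans
    (sup_le (norm_of_le le_sup_left) (norm_sup (inf_le_left.trans (norm_comm_left O A))
      (norm_inf (norm_of_le inf_le_left) (inf_le_right.trans (pcore_nml _ _).norm))))
  have hM : ∀ R, ⁅O, R⁆ ≤ W → R ≤ centQ O W := fun R hR => (le_centQ hOW).2
    ⟨norm_of_comm_le_left ((comm_mono_left hWO).trans hR), commC O R ▸ hR⟩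
  have hR : ∀ a ∈ A, a ≠ 1 → Og D (C{f} ⊓ C{a}) ≤ centQ O W := fun a ha ha1 => by
    have hca := h.ctxA ha ha1
    set R := Og D (C{f} ⊓ C{a}) with hR
    have hRJ : R ≤ J := Og_mono D inf_le_left
    have hRa : R ≤ C{a} := (Og_le _ _).trans inf_le_right
    have hAR : A ≤ R := (hc.max.mono (le_inf hc.max.le hca.max.le) inf_le_left).le_Og
    have hB : zpowers a ≤ A := zpowers_le.2 ha
    have h5 := coprime_cent_prod (hB.trans hAO) (cop hOo (h.ea.two.of_le hB)) hOo.sol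
    rw [C_zpowers] at h5
    have h6 : ⁅O ⊓ C{a}, R⁆ ≤ O := (comm_mono_left inf_le_left).trans (comm_le_left (hRJ.trans hJO))
    have h7 : ⁅O ⊓ C{a}, R⁆ ≤ Og D C{a} := (comm_le_right (hD.norm_Og (norm_of_le
      (inf_le_inf_right _ hOf)))).trans (Og_mono D inf_le_right)
    have h8 : A ≤ N[⁅O ⊓ C{a}, R⁆] := hAR.trans (norm_comm_right _ R)
    have h9 := hca.le_Od_Og (hOo.of_le h6) h7 h8 fun K hK => by
      obtain ⟨K0, k1, k0, -⟩ := exists_cov_cent (X := ⊥) hK.perf (twoE_of_sq (hF.sq hf)).isPi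
        (zpowers_le.2 ((hca.le_Ck_of_compl hK hY hN h2).2 f
          ⟨hFY hf, C_le_C1 ha (hFA hf)⟩ (twoE_of_sq (hF.sq hf)))) bot_le bot_le
      rw [C_zpowers] at k1
      exact k0.le_Ck (h7.trans hK.norm) hOo (k1.trans hfO)
        ((comm_mono_left h6).trans (comm_le_left (k1.trans hfO)))
    refine hM _ ((comm_le_sup_comm h5 (norm_comm (hRJ.trans hJO) (norm_zpowers_of_cent hRa))).trans
      (sup_le ((comm_mono_right hB).trans le_sup_left) ?_))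
    refine (coprime_cent_prod h8 (cop (hOo.of_le h6) h.ea.two) (hOo.sol.of_le h6)).sup_eq.ge.trans
      (sup_le_sup (comm_mono_left h6) (le_inf (inf_le_left.trans h6) ?_))
    exact Od_inf_le (C_le_C1 ha) (h9.trans (hD.Od_Og_le _))
  have h5 : J ≤ centQ O W := by
    refine hc.gen (hM _ le_sup_left) (le_sup_left.trans (hM W (commC W O ▸ comm_le_left hOW)))
      fun K hK => ?_
    by_cases hB : A ⊓ Ck K = ⊥
    · refine (le_sup_Od hK.perf inf_le_left (hP K hK hB K (Cov.refl hK.perf) (hK.normA hc.max) _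
        fun a ha ha' => le_inf ((Og_le _ _).trans inf_le_left) ?_)).trans
        (sup_le_sup_left (hK.Od_le hD) _)
      exact (Og_mono D (inf_le_inf_right _ hK.le')).trans
        (hR a ha (by rintro rfl; exact ha' (one_mem _)))
    · obtain ⟨a, ha, ha1⟩ := exists_ne_one hB
      refine hc.le_of_cent hK (h.ea.two.of_le (zpowers_le.2 ha.1)) (zpowers_le.2 ha.2)
        (h.ea.abl.norm le_rfl (zpowers_le.2 ha.1)) ?_
      rw [C_zpowers]; exact hR a ha.1 ha1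
  refine (inf_le_inf_right _ (commC J O ▸ ((le_centQ hOW).1 h5).2)).trans ?_
  rw [hW, ← group_modr (inf_le_left.trans (norm_comm_left O A)) (inf_le_right.trans (pcore_le _ _))]
  exact sup_le (h.comm_inf_le hOo hAO) inf_le_right

end

theorem MC.caseP (h : MC D A) (hY : DP A Y1 C[A]) (hN : N[A] ≤ N[Y1])
    (h2 : ∀ s ∈ N[A], TwoE s → s ∈ C[A]) (hF : EA F) (h4 : ♯F = 4) (hFY : F ≤ Y1)
    (hP : ∀ f ∈ F, f ≠ 1 → ∀ K, Piece D C{f} K → A ⊓ Ck K = ⊥ → Gen2 D A K) : False := by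
  have hD := h.sc
  have hFA : F ≤ C[A] := hFY.trans hY.right_le
  have hAF : A ≤ C[F] := cents_symm hFA
  have hF1 : F ≠ ⊥ := by rintro rfl; simp at h4
  have hnc := hF.not_cyc h4.ge
  have hcF := h.ctxC hF1 hAF
  have hE : EA (A ⊔ F) := H25.elem_sup h.ea hF hAF
  have hEA : A ⊔ F ≤ C[A] := cents_of_le hE.le_C le_sup_left
  have hEF : A ⊔ F ≤ C[F] := cents_of_le hE.le_C le_sup_right
  have h8 : 8 ≤ ♯(A ⊔ F) := by
    rw [card_sup_of_inf (H24.norm_of_cent hFA) (eq_bot_of_le hY.inf (inf_le_inf_left A hFY)), h4]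
    have := one_lt_card h.ne
    omega
  have hFK : ∀ t, t ≠ 1 → t ∈ C[A] → t ∈ C[F] → ∀ K, Piece D C{t} K → F ≤ Ck K :=
    fun t h1 htA htF K hK f hf => ((h.ctx1 h1 htA).le_Ck_of_compl hK hY hN h2).2 f
      ⟨hFY hf, mem_C_iff_le_C1.1 htF hf⟩ (twoE_of_sq (hF.sq hf))
  set Good : Subgroup G → Prop := fun X =>
    X ⊓ C[A] ≤ Od[C[A]] ∧ ∀ K, Piece D C[F] K → X ⊓ C[F] ≤ Ck K with hGood
  have g3 : ∀ V, OddG V → A ⊔ F ≤ N[V] → ∀ K, Piece D C[F] K → ⁅V, F⁆ ⊓ C[F] ≤ Ck K :=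
    fun V hV hn K hK => by
      have hFV := le_sup_right.trans hn
      have hAV := le_sup_left.trans hn
      refine cop0 hF.abl hV.sol hFV (cop hV hF.two) fun B hB => ?_
      obtain ⟨f, hf, h1⟩ := hB.exists_ne hnc
      have hc := h.ctx1 h1 (hFA (hB.1 hf))
      obtain ⟨K', hK', h3, -⟩ := hcF.pump hc hK (Cov.refl hK.perf) (hK.normA hcF.max)
        (hK.le'.trans (C_le_C1 (hB.1 hf)))
      have hAB : A ≤ N[V ⊓ C[B]] := norm_inf hAV (norm_C (H24.norm_of_cent (cents_of_le hAF hB.1)))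
      refine le_Ck_of_le h3 (hcF.norm_of_odd hK
        (hV.of_le (inf_le_left.trans ((comm_mono_left inf_le_left).trans (comm_le_left hFV))))
        inf_le_right (norm_inf (norm_comm hAB (H24.norm_of_cent hAF)) (norm_of_le hAF)))
        (inf_le_left.trans (hc.comm_le_Ck hK' (hFK f h1 (hFA (hB.1 hf)) (hF.le_C (hB.1 hf)) K' hK')
          (hV.inf_left _) (inf_le_right.trans (C_le_C1 hf)) hAB))
  obtain ⟨W, hW, -, -, hWm⟩ := sf_good hE h8 Good
    (fun X Y hX hY => ⟨(inf_le_inf_right _ hY).trans hX.1,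
      fun K hK => (inf_le_inf_right _ hY).trans (hX.2 K hK)⟩) fun t ht h1 => by
      have hc := h.ctx1 h1 (hEA ht)
      have hO : A ⊔ F ≤ N[Od[C{t}]] := (mem_C_iff_le_C1.1 (hE.le_C ht)).trans (pcore_nml _ _).norm
      have h3 : sSup {X | X ≤ Od[C{t}] ∧ A ⊔ F ≤ N[X] ∧ Good X} ≤ Od[C{t}] := sSup_le fun X hX => hX.1
      refine ⟨_, (Od_odd _).of_le h3, norm_sSup fun X hX => hX.2.1, h3.trans (pcore_le _ _),
        ⟨h.join_le (Od_odd _) (le_sup_left.trans hO)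
          (fun X hX => ⟨hX.1, le_sup_left.trans hX.2.1, hX.2.2.1⟩) le_rfl,
        fun K hK => cop_join (Od_sol _) (le_sup_right.trans hO) (cop (Od_odd _) hF.two)
          (g3 _ (Od_odd _) hO K hK) (fun X hX => ⟨hX.1, le_sup_right.trans hX.2.1, hX.2.2.2 K hK⟩) le_rfl⟩,
        fun X hX hn hXt hg => le_sSup ⟨hc.bal hX hXt (le_sup_left.trans hn) hg.1 fun K hK => ?_, hn, hg⟩⟩
      exact hc.le_Ck_of_pump hK hF.two (hFK t h1 (hEA ht) (hEF ht) K hK) hcF hX hXt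
        (le_sup_left.trans hn) (le_sup_right.trans hn) hg.2
  set V : G → Subgroup G := fun f => ⁅Od[Og D C{f}], Og D C{f}⁆ with hV
  have hVO : ∀ f, V f ≤ Od[Og D C{f}] := fun f => comm_le_left (pcore_nml _ _).norm
  have hVn : ∀ f, C{f} ≤ N[V f] := fun f =>
    norm_comm (norm_pcore _ (hD.Og_nml _).norm) (hD.Og_nml _).norm
  have hVW : ∀ f ∈ F, f ≠ 1 → V f ≤ W := fun f hf h1 => by
    have hEf : A ⊔ F ≤ C{f} := hEF.trans (C_le_C1 hf)
    refine hWm _ ((Od_odd _).of_le (hVO f)) (hEf.trans (hVn f))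
      ⟨h.caseP_aux hY hN h2 hF h4 hFY hf h1 (hP f hf h1), fun K hK => ?_⟩
    have h3 : K ≤ N[Od[Og D C{f}]] :=
      (hK.le.trans (Og_mono D (C_le_C1 hf))).trans (pcore_nml _ _).norm
    exact le_Ck_of_odd (hcF.norm_of_odd hK (((Od_odd _).of_le (hVO f)).inf_left _) inf_le_right
      (norm_inf ((le_sup_left.trans hEf).trans (hVn f)) (norm_of_le hAF))) (Od_odd _) h3
      ((comm_mono_left (inf_le_left.trans (hVO f))).trans (comm_le_left h3))
  have hJ : ∀ f ∈ F, f ≠ 1 → Og D C{f} ≤ V f ⊔ Og D C[F] := fun f hf h1 => by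
    have hc := h.ctx1 h1 (hFA hf)
    exact hc.gen (hcF.max.le_Og.trans le_sup_right) ((comm_mono_right hc.max.le_Og).trans le_sup_left)
      fun K hK => hc.le_of_cent hK hF.two (hFK f h1 (hFA hf) (hF.le_C hf) K hK) (H24.norm_of_cent hAF)
        ((Og_mono D inf_le_right).trans le_sup_right)
  have hG : ∀ M, (∀ f ∈ F, f ≠ 1 → Og D C{f} ≤ M) → M = ⊤ := fun M hM => by
    obtain ⟨f, hf, h1⟩ := exists_ne_one hF1
    have h3 : Og D C[F] ≤ M := (Og_mono D (C_le_C1 hf)).trans (hM f hf h1)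
    refine h.gen_Og fun a ha ha1 => ?_
    have hc := h.ctxA ha ha1
    refine hc.gen (hcF.max.le_Og.trans h3) ?_ fun K hK => hc.le_of_cent hK hF.two
      (hFK a ha1 (h.ea.le_C ha) (hAF ha) K hK) (H24.norm_of_cent hAF) ((Og_mono D inf_le_right).trans h3)
    refine cop1 hF.abl hnc hFA (Od_sol _) (hc.max.le_Og.trans (pcore_nml _ _).norm)
      ((hFA.trans (C_le_C1 ha)).trans (norm_pcore _ (hD.Og_nml _).norm)) (cop (Od_odd _) h.ea.two)
      (cop (Od_odd _) hF.two) fun f hf h1 => ?_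
    exact ((h.ctx1 h1 (hFA hf)).comm_le_Og inf_le_right).trans (hM f hf h1)
  set W1 : Subgroup G := ⨆ f : {f // f ∈ F ∧ f ≠ 1}, V f with hW1
  have h5 : ∀ f ∈ F, f ≠ 1 → V f ≤ W1 := fun f hf h1 =>
    le_iSup (fun f : {f // f ∈ F ∧ f ≠ 1} => V f) ⟨f, hf, h1⟩
  have h6 : W1 = ⊥ := h.eq_bot_of_odd (hW.of_le (iSup_le fun f => hVW f f.2.1 f.2.2))
    (hG _ fun f hf h1 => (hJ f hf h1).trans (sup_le (norm_of_le (h5 f hf h1))
      (norm_iSup fun f' => ((Og_le _ _).trans (C_le_C1 f'.2.1)).trans (hVn f'))))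
  exact h.C_ne_top hF1 (hG _ fun f hf h1 => (hJ f hf h1).trans
    (sup_le ((h5 f hf h1).trans (h6.le.trans bot_le)) (Og_le _ _)))

end Gold
end H26
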