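import Mathlib
import Cfsg.Agent.H26.GCaseP
import Cfsg.Agent.H13.CyclicMax

/-! GOLD: elementary facts about the minimal counterexample. -/

set_option autoImplicit false
set_option linter.unusedSectionVars false
set_option linter.unusedVariables false

namespace H26
namespace Gold

open Cfsg H24 Subgroup
open scoped commutatorElement

universe u

variable {G : Type u} [Group G] [Finite G] {D : Set G} {A B H K K0 L M P S T X Y1 : Subgroup G}
  {a b e g x y z : G}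

theorem EA.klein (h : EA A) (h4 : ♯A = 4) : IsKleinFour A :=
  H13.isKleinFour_of_card_of_sq h4 fun x hx => by rw [pow_two]; exact h.sq hx

theorem EA.eq_mul (h : EA A) (h4 : ♯A = 4) (ha : a ∈ A) (hb : b ∈ A) (hx : x ∈ A) (a1 : a ≠ 1)
    (b1 : b ≠ 1) (ab : a ≠ b) (x1 : x ≠ 1) (xa : x ≠ a) (xb : x ≠ b) : x = a * b := by
  have := h.klein h4
  exact congrArg Subtype.val (IsKleinFour.eq_mul_of_ne_all (x := (⟨a, ha⟩ : A)) (y := ⟨b, hb⟩)
    (z := ⟨x, hx⟩) (by simpa using a1) (by simpa using b1) (by simpa using ab) (by simpa using x1)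
    (by simpa using xa) (by simpa using xb))

theorem exists_ne_two (h4 : 4 ≤ ♯A) (x : G) : ∃ y ∈ A, y ≠ 1 ∧ y ≠ x := by
  by_contra hne
  push Not at hne
  have : (A : Set G) ⊆ {1, x} := fun y hy => by
    by_cases h1 : y = 1
    · exact Or.inl h1
    · exact Or.inr (hne y hy h1)
  have h1 := Set.ncard_le_ncard this
  have h2 := Set.ncard_insert_le (1 : G) {x}
  rw [← Nat.card_coe_set_eq] at h1
  simp only [Set.ncard_singleton, SetLike.coe_sort_coe] at h1 h2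
  omega

/-- the transfer lemma inside a subgroup -/
theorem not_mem_der1 (hT : Syl 2 L T) (hK : ⁅T, T⁆ ≤ K) (hKT : K ≤ T) (hg : g ∈ T) (hgK : g ∉ K)
    (hc : ∀ y ∈ zpowers g, ∀ l ∈ L, l * y * l⁻¹ ∈ T → l * y * l⁻¹ * y⁻¹ ∈ K) : g ∉ ⁅L, L⁆ := by
  intro hm
  have hn : ((K.subgroupOf L).subgroupOf (T.subgroupOf L)).Normal :=
    Nml.normal ⟨comap_mono hKT, norm_of_map L.subtype_injective (by
      rw [map_subgroupOf' hT.le, map_subgroupOf' (hKT.trans hT.le)]; exact norm_of_der1_le hK hKT)⟩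
  refine H6.not_mem_commutator_of_fusion (p := 2) (T.subgroupOf L) (K.subgroupOf L) hn
    (fun x hx y hy => hK (commutator_mem_commutator hx hy))
    ((piNat_compl_iff_coprime Nat.prime_two).1 hT.idx) ⟨g, hT.le hg⟩ hg hgK ?_
    (fun m l hl => hc _ (zpow_mem_zpowers g m) l l.2 hl) ?_
  · rw [← Subgroup.orderOf_coe]; exact (hT.pi.piElt hg).exists_pow Nat.prime_two
  · rw [commutator_def, ← subgroupOf_self L, ← subgroupOf_comm le_rfl le_rfl]; exact hm

theorem MC.perf (h : MC D A) : commutator G = ⊤ := by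
  have := h.simple
  refine (inferInstance : (commutator G).Normal).eq_bot_or_eq_top.resolve_left fun e => h.nab ?_
  exact abl_top_iff.1 (der1_eq_bot.1 e)

theorem MC.noidx (h : MC D A) : ∀ L ≤ N[A], L.relIndex N[A] ≠ 2 := h.max.noidx h.sc h.perf

theorem MC.noidx' (h : MC D A) (L : Subgroup G) : L.index ≠ 2 := fun h2 => by
  have hn := normal_of_index_eq_two h2
  have h1 := der1_le_of_relIndex_prime (nml_top L) (by rw [relIndex_top_right, h2]; exact Nat.prime_two)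
  rw [← commutator_def, h.perf, top_le_iff] at h1
  rw [h1, index_top] at h2
  exact absurd h2 (by norm_num)

theorem MC.exists_move (h : MC D A) (ha : a ∈ A) (h1 : a ≠ 1) : ∃ n ∈ N[A], n * a * n⁻¹ ≠ a := by
  by_contra hne
  push Not at hne
  rcases h.irr _ (zpowers_le.2 ha) (norm_zpowers_of_cent fun n hn => mem_C1_iff_conj.2 (hne n hn))
    with e | e
  · exact h1 (zpowers_eq_bot.1 e)
  · exact h.not_cyc (e ▸ cyc_zpowers a)

theorem MC.trans4 (h : MC D A) (h4 : ♯A = 4) : ∀ x ∈ A, x ≠ 1 → ∀ y ∈ A, y ≠ 1 →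
    ∃ n ∈ N[A], y = n * x * n⁻¹ := by
  intro x hx x1 y hy y1
  by_contra hne
  push Not at hne
  have xy : x ≠ y := fun e => hne 1 (one_mem _) (by simp [e])
  obtain ⟨n, hn, h1⟩ := h.exists_move hx x1
  obtain ⟨m, hm, h2⟩ := h.exists_move hy y1
  have h3 := h.ea.eq_mul h4 hx hy (conj_mem hn hx) x1 y1 xy (by rwa [Ne, conj_eq_one_iff']) h1
    (hne n hn).symm
  have h5 := h.ea.eq_mul h4 hx hy (conj_mem hm hy) x1 y1 xy (by rwa [Ne, conj_eq_one_iff'])
    (fun e => hne m⁻¹ (inv_mem hm) (by rw [← e]; group)) h2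
  refine hne (m⁻¹ * n) (mul_mem (inv_mem hm) hn) ?_
  calc y = m⁻¹ * (m * y * m⁻¹) * m := by group
    _ = _ := by rw [h5, ← h3]; group

theorem MC.two4 (h : MC D A) (h4 : ♯A = 4) : ∀ s ∈ N[A], TwoE s → s ∈ C[A] := by
  classical
  intro s hs h2
  let Ω := {x : G // x ∈ A ∧ x ≠ 1}
  let _ : MulAction N[A] Ω :=
    { smul := fun n x => ⟨n * x * (n : G)⁻¹, conj_mem n.2 x.2.1, by
        rw [Ne, conj_eq_one_iff']; exact x.2.2⟩
      one_smul := fun x => Subtype.ext (by change (1 : G) * x * 1⁻¹ = x; group)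
      mul_smul := fun n m x => Subtype.ext (by
        change ((n : G) * m) * x * ((n : G) * m)⁻¹ = n * (m * x * (m : G)⁻¹) * (n : G)⁻¹; group) }
  let _ : Fintype Ω := Fintype.ofFinite Ω
  have hΩ : Fintype.card Ω = 3 := by
    have h1 : Nat.card Ω = ((A : Set G) \ {1}).ncard := by rw [← Nat.card_coe_set_eq]; rfl
    rw [← Nat.card_eq_fintype_card, h1, Set.ncard_sdiff_singleton_of_mem (one_mem A),
      ← Nat.card_coe_set_eq]
    change ♯A - 1 = 3
    rw [h4]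
  let φ := MulAction.toPermHom N[A] Ω
  let ψ := Equiv.Perm.sign.comp φ
  have h3 : ψ.ker.index = 1 := by
    have h5 : ψ.ker.index ∣ 2 := by
      rw [index_ker]; simpa using card_subgroup_dvd_card ψ.range
    refine ((Nat.dvd_prime Nat.prime_two).1 h5).resolve_right fun e =>
      h.noidx (ψ.ker.map N[A].subtype) (map_subtype_le' _) ?_
    rw [relIndex, subgroupOf_map_subtype', e]
  have h5 : φ ⟨s, hs⟩ ∈ alternatingGroup Ω := by
    rw [Equiv.Perm.mem_alternatingGroup]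
    exact (index_eq_one.1 h3).ge (mem_top (⟨s, hs⟩ : N[A]))
  have h6 : ♯(alternatingGroup Ω) = 3 := by
    have : Nontrivial Ω := Fintype.one_lt_card_iff_nontrivial.1 (by omega)
    have h7 := two_mul_card_alternatingGroup (α := Ω)
    rw [Fintype.card_perm, hΩ, ← Nat.card_eq_fintype_card] at h7
    simp only [Nat.factorial] at h7
    omega
  have h7 : φ ⟨s, hs⟩ = 1 := by
    refine (PiElt.map (π := {2}) (x := (⟨s, hs⟩ : N[A])) ?_ φ).eq_one
      ((IsPi.compl_of_ne (isPi_of_card_prime Nat.prime_three h6) (by norm_num)).piElt h5)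
    simpa only [PiElt, ← Subgroup.orderOf_coe] using h2
  refine mem_C'.2 fun a ha => ?_
  by_cases h1 : a = 1
  · simp [h1]
  have h8 := congrArg Subtype.val (DFunLike.congr_fun h7 (⟨a, ha, h1⟩ : Ω))
  exact mul_inv_eq_iff_eq_mul.1 h8

theorem cent4 (hA : EA A) (h4 : ♯A = 4) (h2 : ∀ s ∈ N[A], TwoE s → s ∈ C[A]) (ha : a ∈ A)
    (h1 : a ≠ 1) : N[A] ⊓ C{a} ≤ C[A] := by
  intro n hn
  obtain ⟨y, z, hy, hz, hyn, hzn, e⟩ := exists_piElt_decomp ({2} : Set ℕ) n
  have hz' := zpowers_le.2 hn hzn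
  refine e ▸ mul_mem (h2 y (zpowers_le.2 hn.1 hyn) hy) (stable_factor_cent (H := zpowers a)
    (by rw [C_zpowers]; exact zpowers_le.2 hz'.2) ?_ (zpowers_le.2 ha)
    (cop hz.isPi (hA.two.of_le (zpowers_le.2 ha))).symm (Or.inr (abl_zpowers z).sol) (mem_zpowers z))
  refine (comm_mono_right (zpowers_le.2 hz')).trans (commutator_le.2 fun x hx m hm => ?_)
  have hmx : m * x * m⁻¹ ∈ A := conj_mem hm.1 hx
  have e1 : ⁅x, m⁆ = x * (m * x * m⁻¹) := by rw [commutatorElement_def, hA.inv hx]; group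
  rw [e1]
  by_cases h3 : m * x * m⁻¹ = x
  · rw [h3, hA.sq hx]; exact one_mem _
  have x1 : x ≠ 1 := by rintro rfl; simp at h3
  have xa : x ≠ a := by rintro rfl; exact h3 (mem_C1_iff_conj.1 hm.2)
  rw [hA.eq_mul h4 hx ha hmx x1 h1 xa (by rwa [Ne, conj_eq_one_iff']) h3 (fun e => xa (by
    rw [← mem_C1_iff_conj.1 hm.2] at e; simpa using e)), ← mul_assoc, hA.sq hx, one_mul]
  exact mem_zpowers a

/-- a four-group in the complement -/
theorem MC.four_group (h : MC D A) (hS : Syl 2 ⊤ S) (hAS : A ≤ S) (hc : S ≤ C[A])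
    (hY : DP A Y1 C[A]) (hN : N[A] ≤ N[Y1]) (hne : S ≠ A) : ∃ F, EA F ∧ ♯F = 4 ∧ F ≤ S ⊓ Y1 := by
  have h1 := hY.modl hAS hc
  have h2 : Y1 ⊓ S ≠ ⊥ := fun e => hne (by rw [← h1.sup, e, sup_bot_eq])
  obtain ⟨z, hz, z1, z2⟩ := TwoG.exists_inv ((hS.pi.inf_right Y1).inf_left _)
    (IsPi.inf_C_ne_bot Nat.prime_two hS.pi (hS.pi.inf_right Y1) h1.nml_right.norm h2)
  obtain ⟨g, hg, hgz⟩ := h.exists_conj hS hz.1.2 z1 z2
  obtain ⟨n, hn, e⟩ := h.max.fusion_cent h.sc (hc hz.1.2) (mem_top g) (hc hg)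
  have hw : g * z * g⁻¹ ∈ Y1 := e ▸ conj_mem (hN hn.2) hz.1.1
  have hcz : zpowers z ≤ C[zpowers (g * z * g⁻¹)] :=
    cents_of_le (zpowers_le.2 hz.2) (zpowers_le.2 hg)
  have o1 : ∀ w : G, w ≠ 1 → w * w = 1 → ♯(zpowers w) = 2 := fun w w1 w2 => by
    rw [card_zpowers']; exact orderOf_eq_prime (by rwa [pow_two]) w1
  refine ⟨zpowers z ⊔ zpowers (g * z * g⁻¹), H25.elem_sup (H25.elem_zpowers (by rwa [pow_two]))
    (H25.elem_zpowers (by rw [pow_two]; exact conj_sq z2 g)) hcz, ?_,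
    sup_le (zpowers_le.2 ⟨hz.1.2, hz.1.1⟩) (zpowers_le.2 ⟨hg, hw⟩)⟩
  have w1 : g * z * g⁻¹ ≠ 1 := by rwa [Ne, conj_eq_one_iff']
  rw [card_sup_of_inf (H24.norm_of_cent (cents_symm hcz)), o1 z z1 z2, o1 _ w1 (conj_sq z2 g)]
  refine eq_bot_iff.2 fun y hy => ?_
  rcases mem_zpowers_sq z2 hy.1 with e1 | e1
  · exact e1
  · exact (mem_zpowers_sq (conj_sq z2 g) hy.2).resolve_right fun e2 => hgz (e2.symm.trans e1)

end Gold
end H26
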