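import Mathlib
import Cfsg.Agent.H26.GM0
import Cfsg.Agent.H26.GE8c

/-! GOLD: the case `|A| = 8`. -/

set_option autoImplicit false
set_option linter.unusedSectionVars false
set_option linter.unusedVariables false

namespace H26
namespace Gold

open Cfsg H24 Subgroup
open scoped commutatorElement

universe u

variable {G : Type u} [Group G] [Finite G] {D : Set G} {A B H K K' K0 L M P S T X Y1 : Subgroup G}
  {a b e g x y z : G}

theorem inf_Ck_le' (hT : Syl 2 K T) : K ⊓ Ck K ≤ T ⊔ Od[K] := by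
  have hO := pcore_nml ({2}ᶜ : Set ℕ) K
  have h1 : quo (K ⊓ Ck K) Od[K] ≤ Z[quo K Od[K]] := le_inf (quo_mono _ inf_le_left)
    ((quo_cents (inf_le_left.trans hO.norm) hO.norm).2 (le_Ck.1 inf_le_right))
  have h2 := ((abl_center (quo K Od[K])).nil.pcoreC ({2} : Set ℕ)).sup
  rw [eq_bot_of_le (pcore_quo_pcore _ K) ((center_nml _).pcore_le _), sup_bot_eq] at h2
  rw [← quo_le_quo_iff (inf_le_left.trans hO.norm) (hT.le.trans hO.norm)]
  exact h1.trans ((hT.quo hO.norm).nml_le (isPi_of_pcore_eq h2) (center_nml _))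

/-- the configuration with `|A| = 8` -/
structure C8 (D : Set G) (A : Subgroup G) : Prop where
  mc : MC D A
  card : ♯A = 8
  trans : ∀ x ∈ A, x ≠ 1 → ∀ y ∈ A, y ≠ 1 → ∃ g ∈ N[A], y = g * x * g⁻¹
  two : ∀ s ∈ N[A], TwoE s → s ∈ C[A]
  piece : ∀ a ∈ A, a ≠ 1 → ∃ K, Piece D C{a} K ∧ A ⊓ Ck K = zpowers a

/-- the join of the pieces of `C(a)` -/
def KK (D : Set G) (a : G) : Subgroup G := sSup {K | Piece D C{a} K}

theorem SC.cj_KK (hD : SC D) (n a : G) : KK D (n * a * n⁻¹) = cj n (KK D a) := by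
  have key : ∀ a n : G, cj n (KK D a) ≤ KK D (n * a * n⁻¹) := fun a n => cj_le_iff.2 (sSup_le
    fun K hK => cj_le_iff.1 (le_sSup (cj_C1 n a ▸ Piece.cj hD hK n)))
  refine le_antisymm (le_cj_iff.2 ?_) (key a n)
  simpa [mul_assoc] using key (n * a * n⁻¹) n⁻¹

namespace C8

theorem uniq (h : C8 D A) (ha : a ∈ A) (a1 : a ≠ 1) (hK : Piece D C{a} K) (e : A ⊓ Ck K = zpowers a)
    (hK' : Piece D C{a} K') : K' = K :=
  ((h.mc.ctxA ha a1).eq_of_le hK' hK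
    (e ▸ zpowers_le.2 (C_le_Ck _ (mem_C_iff_le_C1.2 hK'.le')))).symm

theorem KK_spec (h : C8 D A) (ha : a ∈ A) (a1 : a ≠ 1) :
    Piece D C{a} (KK D a) ∧ A ⊓ Ck (KK D a) = zpowers a := by
  obtain ⟨K, hK, e⟩ := h.piece a ha a1
  rw [show KK D a = K from le_antisymm (sSup_le fun K' hK' => (h.uniq ha a1 hK e hK').le) (le_sSup hK)]
  exact ⟨hK, e⟩

theorem norm (h : C8 D A) (ha : a ∈ A) : C{a} ≤ N[KK D a] := fun g hg => by
  rw [mem_N_iff_cj, ← h.mc.sc.cj_KK, mem_C1_iff_conj.1 hg]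

theorem relIndex (h : C8 D A) (ha : a ∈ A) (a1 : a ≠ 1) : (Ck (KK D a)).relIndex A = 4 := by
  have h1 := card_inf_mul_relIndex (Ck (KK D a)) A
  rw [inf_comm, (h.KK_spec ha a1).2, h.card, card_zpowers', h.mc.sc.orderOf (h.mc.max.memD ha a1)] at h1
  omega

theorem flat_conj (h : C8 D A) (hn : g ∈ N[A]) (hf : Flat A (KK D a)) : Flat A (KK D (g * a * g⁻¹)) := by
  intro P hP hle
  rw [h.mc.sc.cj_KK] at hle ⊢
  rw [← cj_Ck, ← cj_of_mem_N hn, ← cj_sup, le_cj_iff]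
  refine hf _ (hP.cj _) (le_cj_iff.1 ?_)
  rwa [cj_inf, cj_N, cj_C, cj_of_mem_N hn]

theorem flat (h : C8 D A) (ha : a ∈ A) (a1 : a ≠ 1) : Flat A (KK D a) := by
  by_contra hf0
  have hf : ∀ b ∈ A, b ≠ 1 → ¬ Flat A (KK D b) := fun b hb b1 hf => by
    obtain ⟨g, hg, rfl⟩ := h.trans b hb b1 a ha a1
    exact hf0 (h.flat_conj hg hf)
  clear hf0 ha a1
  have hD := h.mc.sc
  have hA := h.mc.ea
  set O := Od[C[A]] with hO
  have hOn : O ⊴ C[A] := pcore_nml _ _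
  have hNO : N[A] ≤ N[O] := norm_pcore _ (N_le_NC A)
  have hYO : C[A] ≤ N[O] := hOn.norm
  have hAO : A ≤ N[O] := hA.le_C.trans hYO
  have hOA : O ⊓ A = ⊥ := (Od_odd _).inf_eq_bot' hA.two
  have inj : ∀ a ∈ A, ∀ b ∈ A, cs O a = cs O b → a = b := fun a ha b hb e => by
    have h1 : a⁻¹ * b ∈ O ⊓ A := ⟨(cs_eq_cs (hAO ha) (hAO hb)).1 e, A.mul_mem (A.inv_mem ha) hb⟩
    rwa [hOA, mem_bot, inv_mul_eq_one] at h1
  obtain ⟨σ, hσ⟩ : ∃ σ : QN O → G, ∀ a ∈ A, σ (cs O a) = a :=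
    ⟨Function.invFunOn (cs O) A, fun a ha => Set.InjOn.leftInvOn_invFunOn
      (fun a ha b hb => inj a ha b hb) ha⟩
  have all : ∀ {p : QN O → Prop}, (∀ a ∈ A, a ≠ 1 → p (cs O a)) → ∀ y ∈ quo A O, y ≠ 1 → p y :=
    fun hp y hy y1 => by
      obtain ⟨a, ha, -, rfl⟩ := mem_quo.1 hy
      exact hp a ha (by rintro rfl; exact y1 (ap_one _))
  have cA : ∀ n ∈ N[A], cs O n ∈ C[quo A O] → n ∈ C[A] := fun n hn hc => mem_C'.2 fun a ha => by
    have h1 := mem_C'.1 hc _ (cs_mem_quo ha (hAO ha))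
    rw [← mul_inv_eq_iff_eq_mul] at h1 ⊢
    exact inj _ (conj_mem hn ha) _ ha ((ap_conj _ (hNO hn) (hAO ha)).trans h1)
  have VC : ∀ a, quo (KK D a ⊓ N[A]) O ⊓ C[quo A O] = quo (KK D a ⊓ C[A]) O := fun a => by
    refine le_antisymm (fun y hy => ?_) (le_inf (quo_mono _ (inf_le_inf_left _ (C_le_N A)))
      (quo_cent _ inf_le_right))
    obtain ⟨n, hn, hnO, rfl⟩ := mem_quo.1 hy.1
    exact cs_mem_quo ⟨hn.1, cA n hn.2 hy.2⟩ hnO
  choose! T t1 t2 t3 t4 t5 t6 v hv v1 v2 using fun a ha a1 =>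
    (h.mc.ctxA ha a1).u34 (h.KK_spec (a := a) ha a1).1 (h.relIndex ha a1) (hf a ha a1)
  have hTY : ∀ a ∈ A, a ≠ 1 → T a ≤ C[A] := fun a ha a1 s hs =>
    h.two s (t2 a ha a1 hs) ((t1 a ha a1).pi.piElt hs)
  have hYK : ∀ a ∈ A, C[A] ≤ N[KK D a] := fun a ha => (C_le_C1 ha).trans (h.norm ha)
  have hOK : ∀ a ∈ A, a ≠ 1 → Od[KK D a] ⊓ C[A] ≤ O := fun a ha a1 =>
    Od_inf_le (C_le_C1 ha) (((h.KK_spec ha a1).1.Od_le hD).trans (hD.Od_Og_le _))
  have syl : ∀ a ∈ A, a ≠ 1 → Syl 2 (quo (KK D a ⊓ C[A]) O) (quo (T a) O) := fun a ha a1 =>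
    ((t1 a ha a1).of_le (le_inf (t1 a ha a1).le (hTY a ha a1)) inf_le_left).quo
      (inf_le_right.trans hYO)
  have eT : ∀ a ∈ A, a ≠ 1 → O[{2}, quo (KK D a ⊓ N[A]) O ⊓ C[quo A O]] = quo (T a) O :=
    fun a ha a1 => by
      rw [VC]
      refine (syl a ha a1).pcore_eq ?_
      have h1 : quo ((T a ⊔ Ck (KK D a)) ⊓ KK D a ⊓ C[A]) O = quo (T a) O := by
        refine le_antisymm ((quo_le_quo_iff (inf_le_right.trans hYO) ((hTY a ha a1).trans hYO)).2 ?_)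
          (quo_mono _ (le_inf (le_inf le_sup_left (t1 a ha a1).le) (hTY a ha a1)))
        rw [← group_modl' (norm_Ck (norm_of_le (t1 a ha a1).le)) (t1 a ha a1).le, inf_comm (Ck _)]
        refine (inf_le_inf_right _ (sup_le le_sup_left (inf_Ck_le' (t1 a ha a1)))).trans ?_
        rw [← group_modl' ((t1 a ha a1).le.trans (pcore_nml _ _).norm) (hTY a ha a1)]
        exact sup_le_sup_left (hOK a ha a1) _
      rw [← h1]
      exact quo_norm _ (norm_inf (norm_inf ((inf_le_inf_right _ (norm_self _)).trans (t3 a ha a1))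
        (norm_of_le inf_le_left)) (norm_of_le inf_le_right))
  have hAT : ∀ a ∈ A, a ≠ 1 → A ≤ T a ⊔ Ck (KK D a) := fun a ha a1 =>
    ((h.mc.ctxA ha a1).le_sup (h.KK_spec ha a1).1).trans (sup_le_sup ((t1 a ha a1).le_of_norm'
      (hA.two.inf_left _) inf_le_right (norm_inf (t2 a ha a1) (norm_of_le (t1 a ha a1).le)))
      inf_le_right)
  have up : ∀ a ∈ A, ∀ B ≤ A, ∀ w ∈ C[A], w ∈ B ⊔ Ck (KK D a) →
      cs O w ∈ quo B O ⊔ quo (Ck (KK D a) ⊓ C[A]) O := fun a ha B hB w hw h1 => by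
    rw [← quo_sup (hB.trans hAO) (inf_le_right.trans hYO),
      group_modl' (norm_Ck ((hB.trans hA.le_C).trans (hYK a ha))) (hB.trans hA.le_C)]
    exact cs_mem_quo ⟨h1, hw⟩ (hYO hw)
  have down : ∀ a ∈ A, a ≠ 1 → ∀ B ≤ A, ∀ w ∈ C[A], w ∈ T a ⊔ Ck (KK D a) →
      cs O w ∈ quo B O ⊔ quo (Ck (KK D a) ⊓ C[A]) O → w ∈ B ⊔ Ck (KK D a) :=
    fun a ha a1 B hB w hw h1 h2 => by
      have h3 : B ⊔ Ck (KK D a) ⊓ C[A] ≤ N[O] := sup_le (hB.trans hAO) (inf_le_right.trans hYO)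
      rw [← quo_sup (hB.trans hAO) (inf_le_right.trans hYO), ← quo_sup_right h3] at h2
      obtain ⟨c, hc, o, ho, rfl⟩ := (mem_sup_of_norm' h3).1
        (mem_of_cs_mem_quo (nml_sup_right h3) (hYO hw) h2)
      have h5 := (sup_le_sup_left inf_le_left B) hc
      have h6 : T a ≤ N[Ck (KK D a)] := norm_Ck (norm_of_le (t1 a ha a1).le)
      refine mul_mem h5 (mem_sup_right (le_of_idx_compl' (nml_sup_right h6)
        ((t1 a ha a1).pi.piNat.dvd (isProd_sup' h6).symm.relIndex_dvd) ((Od_odd _).piElt ho).isPi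
        (zpowers_le.2 ?_) (mem_zpowers o)))
      exact (mul_mem_cancel_left ((sup_le (hB.trans (hAT a ha a1)) le_sup_right :
        B ⊔ Ck (KK D a) ≤ _) h5)).1 h1
  have mq : ∀ a ∈ A, a ≠ 1 → ∀ y ∈ quo (T a) O, ∃ x ∈ T a, x ∈ C[A] ∧ cs O x = y := fun a ha a1 y hy => by
    obtain ⟨x, hx, -, e⟩ := mem_quo.1 hy
    exact ⟨x, hx, hTY a ha a1 hx, e⟩
  have cm : ∀ x ∈ C[A], ∀ y ∈ C[A], cs O x * cs O y = cs O (x * y) := fun x hx y hy =>
    (ap_mul _ (hYO hx) (hYO hy)).symm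
  have cc : ∀ x ∈ C[A], ∀ y ∈ C[A], cs O x * cs O y * (cs O x)⁻¹ * (cs O y)⁻¹ =
      cs O (x * y * x⁻¹ * y⁻¹) := fun x hx y hy =>
    (ap_commutator _ (hYO hx) (hYO hy)).symm
  refine E8.false (M := quo N[A] O) (A := quo A O)
    (T := fun y => O[{2}, quo (KK D (σ y) ⊓ N[A]) O ⊓ C[quo A O]])
    (V := fun y => quo (KK D (σ y) ⊓ N[A]) O) (Z := fun y => quo (Ck (KK D (σ y)) ⊓ C[A]) O)
    ⟨H25.Cfsg.IsElementaryAbelian.img hA _, by rw [card_quo_of_inf hAO hOA, h.card],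
      quo_mono _ (norm_self A), quo_norm _ le_rfl, all fun a ha a1 => all fun b hb b1 => ?_,
      all fun a ha a1 g hg => ?_, all fun a ha a1 => ?_, all fun a ha a1 => ?_, all fun a ha a1 => ?_,
      all fun a ha a1 => ?_, all fun a ha a1 => ?_, all fun a ha a1 => ?_, all fun a ha a1 => ?_,
      all fun a ha a1 => ?_, all fun a ha a1 => ?_⟩
  · obtain ⟨g, hg, rfl⟩ := h.trans a ha a1 b hb b1
    exact ⟨_, cs_mem_quo hg (hNO hg), ap_conj _ (hNO hg) (hAO ha)⟩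
  · obtain ⟨n, hn, hnO, rfl⟩ := mem_quo.1 hg
    have e1 : cs O n * cs O a * (cs O n)⁻¹ = cs O (n * a * n⁻¹) := (ap_conj _ hnO (hAO ha)).symm
    have e2 : quo (KK D (n * a * n⁻¹) ⊓ N[A]) O = cj (cs O n) (quo (KK D a ⊓ N[A]) O) := by
      rw [← quo_cj hnO, cj_inf, hD.cj_KK, cj_of_mem hn]
    simp only [e1, hσ _ (conj_mem hn ha), hσ a ha]
    refine ⟨?_, e2, ?_⟩
    · rw [e2, ← pcore_cj, cj_inf, cj_C, ← quo_cj hnO A, cj_of_mem_N hn]
    · rw [← quo_cj hnO, cj_inf, hD.cj_KK, cj_Ck, cj_C, cj_of_mem_N hn]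
  · simp only [hσ a ha]
    exact le_inf (quo_mono _ inf_le_right)
      (img_cent1 _ (inf_le_left.trans (h.KK_spec ha a1).1.le') (hAO ha))
  · simp only [hσ a ha]
    rw [eT a ha a1, VC]; exact syl a ha a1
  · simp only [hσ a ha]
    refine le_inf (le_inf (quo_mono _ (inf_le_right.trans (C_le_N A))) (quo_cent _ inf_le_right))
      ((quo_cents (inf_le_right.trans hYO) (inf_le_right.trans hNO)).2 (le_trans (le_inf ?_ ?_) (hOK a ha a1)))
    · exact (commutator_mono inf_le_left inf_le_left).trans (le_Ck.1 le_rfl)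
    · exact (commutator_mono inf_le_right inf_le_right).trans (comm_le_left (N_le_NC A))
  · simp only [hσ a ha]
    exact cs_mem_quo ⟨C_le_Ck _ (mem_C_iff_le_C1.2 (h.KK_spec ha a1).1.le'), hA.le_C ha⟩ (hAO ha)
  · simp only [hσ a ha]
    rw [eT a ha a1, ← relIndex_pre _ _ ((hTY a ha a1).trans hYO), ← t4 a ha a1, ← inf_relIndex_right,
      ← inf_relIndex_right (A ⊔ _)]
    congr 1
    refine le_antisymm (fun x hx => ⟨down a ha a1 A le_rfl x (hTY a ha a1 hx.2) (mem_sup_left hx.2)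
      (mem_pre.1 hx.1).2, hx.2⟩) fun x hx => ⟨mem_pre.2 ⟨hYO (hTY a ha a1 hx.2),
        up a ha A le_rfl x (hTY a ha a1 hx.2) hx.1⟩, hx.2⟩
  · simp only [hσ a ha]
    rw [eT a ha a1]
    intro y hy
    obtain ⟨x, hx, hxY, rfl⟩ := mq a ha a1 y hy
    rw [cm x hxY x hxY]
    exact up a ha A le_rfl _ (mul_mem hxY hxY) (t5 a ha a1 x hx)
  · simp only [hσ a ha]
    rw [eT a ha a1]
    intro y hy h1
    obtain ⟨x, hx, hxY, rfl⟩ := mq a ha a1 y hy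
    rw [cm x hxY x hxY] at h1
    have h2 := down a ha a1 ⊥ bot_le _ (mul_mem hxY hxY) (mem_sup_left (mul_mem hx hx)) (mem_sup_right h1)
    rw [bot_sup_eq] at h2
    exact up a ha A le_rfl _ hxY (t6 a ha a1 x hx h2)
  · simp only [hσ a ha]
    rw [eT a ha a1, VC]
    have hvY := (hv a ha a1).2
    refine ⟨_, cs_mem_quo (hv a ha a1) (hYO hvY), fun y hy => ?_, fun y hy h1 => ?_⟩
    · obtain ⟨x, hx, hxY, rfl⟩ := mq a ha a1 y hy
      rw [show cs O (v a) ^ 5 = cs O (v a ^ 5) from (ap_pow _ (hYO hvY) 5).symm,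
        cc _ (pow_mem hvY 5) x hxY]
      exact up a ha A le_rfl _ (mul_mem (mul_mem (mul_mem (pow_mem hvY 5) hxY)
        (inv_mem (pow_mem hvY 5))) (inv_mem hxY)) (v1 a ha a1 x hx)
    · obtain ⟨x, hx, hxY, rfl⟩ := mq a ha a1 y hy
      rw [cc _ hvY x hxY] at h1
      refine up a ha A le_rfl _ hxY (v2 a ha a1 x hx (down a ha a1 A le_rfl _
        (mul_mem (mul_mem (mul_mem hvY hxY) (inv_mem hvY)) (inv_mem hxY)) ?_ h1))
      exact mul_mem (conj_mem (t3 a ha a1 ⟨hYK a ha hvY, hvY⟩) (mem_sup_left hx))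
        (inv_mem (mem_sup_left hx))
  · simp only [hσ a ha]
    intro y hy h1
    obtain ⟨b, hb, -, rfl⟩ := mem_quo.1 hy
    by_contra hne
    push Not at hne
    refine h1 (cs_mem_quo ⟨(h.mc.ctxA ha a1).mem_Ck_of_cent (h.KK_spec ha a1).1 hb fun u hu => ?_,
      hA.le_C hb⟩ (hAO hb))
    have h2 := hne _ (cs_mem_quo hu (hNO hu.2))
    rw [← mul_inv_eq_iff_eq_mul] at h2
    exact mem_C1_iff_conj.2 (inj _ (conj_mem hu.2 hb) _ hb ((ap_conj _ (hNO hu.2) (hAO hb)).trans h2))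

theorem syl (h : C8 D A) : Syl 2 ⊤ A := by
  have hD := h.mc.sc
  have hA := h.mc.ea
  obtain ⟨S, hS, hAS, hSA⟩ := h.mc.max.exists_syl hD
  have hc : S ≤ C[A] := fun s hs => h.two s (hSA hs) (hS.pi.piElt hs)
  have h1 : ∀ a ∈ A, a ≠ 1 → A ⊓ Phi S ≤ zpowers a := fun a ha a1 => by
    rw [← (h.KK_spec ha a1).2]
    have hN : S ≤ N[KK D a] := (hc.trans (C_le_C1 ha)).trans (h.norm ha)
    have h2 := h.flat ha a1 S hS.pi (le_inf hN hc)
    have h3 := norm_Ck hN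
    have h4 : quo S (Ck (KK D a)) ≤ quo A (Ck (KK D a)) := (quo_le_quo_iff h3 (hAS.trans h3)).2 h2
    exact inf_le_inf_left A (Phi_min Nat.prime_two h3
      (EA.of_le (H25.Cfsg.IsElementaryAbelian.img hA _) h4))
  have h2 : A ⊓ Phi S = ⊥ := by
    obtain ⟨a, ha, a1⟩ := exists_ne_one h.mc.ne
    obtain ⟨b, hb, b1, ba⟩ := exists_ne_two (A := A) (by rw [h.card]; norm_num) a
    refine eq_bot_iff.2 fun x hx => ?_
    rcases mem_zpowers_sq (hA.sq ha) (h1 a ha a1 hx) with e | e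
    · exact e
    · exact (mem_zpowers_sq (hA.sq hb) (h1 b hb b1 hx)).resolve_right fun e2 => ba (e2.symm.trans e)
  obtain ⟨R, hR⟩ := exists_dp_of_Phi hA hS.pi hAS hc h2
  obtain ⟨Y1, hY, hN⟩ := exists_compl hA (hS.of_le hSA le_top) hR
  by_contra hne
  obtain ⟨F, hF, hF4, hFS⟩ := h.mc.four_group hS hAS hc hY hN fun e => hne (e ▸ hS)
  refine h.mc.caseP hY hN h.two hF hF4 (hFS.trans inf_le_right) fun f hf f1 K hK h0 => ?_
  have hcf := h.mc.ctx1 f1 (hc (hFS hf).1)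
  refine ((hcf.dichotomy hK).resolve_left fun hl => ?_).2
  obtain ⟨a, ha, a1⟩ := exists_ne_one h.mc.ne
  have hca := h.mc.ctxA ha a1
  have hKa := (h.KK_spec ha a1).1
  obtain ⟨K0, k1, k0, -⟩ := exists_cov_cent (X := ⊥) hKa.perf (twoE_of_sq (hF.sq hf)).isPi
    (zpowers_le.2 ((hca.le_Ck_of_compl hKa hY hN h.two).2 f
      ⟨(hFS hf).2, C_le_C1 ha (hc (hFS hf).1)⟩ (twoE_of_sq (hF.sq hf)))) bot_le bot_le
  rw [C_zpowers] at k1
  have k2 := hca.cov_le_Og hKa k0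
  have k3 : K0 ≤ Og D C{f} := k2.trans (Og_mono D k1)
  refine (k0.qs hKa.qs).not_sol ((hcf.sol_of_unique hK fun K' hK' =>
    (hcf.eq_of_le hK' hK (h0 ▸ bot_le)).symm).of_le (le_inf k3 (k2.trans (le_trans (Og_mono D
      (le_inf (k3.trans hK.norm) (k0.le.trans hKa.le'))) (hl a ha fun e => a1 ?_)))))
  exact mem_bot.1 (h0 ▸ ⟨ha, e⟩)

end C8

end Gold
end H26
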