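import Mathlib
import Cfsg.Agent.H26.GDefs
import Cfsg.Agent.S0111
import Cfsg.Agent.H20.GoldR2

/-! GOLD, rank two: an involution with Sylow centraliser `E₈` (README, section R2a). -/

set_option autoImplicit false
set_option linter.unusedSectionVars false

namespace H26
namespace Gold

open Cfsg H24 Subgroup

universe u

variable {G : Type u} [Group G] [Finite G]

theorem r2_small {A S : Subgroup G} (hA : EA A) (h4 : ♯A = 4) (hS : Syl 2 ⊤ S) (hAS : A ≤ S)
    (hc : S ≤ C[A]) {e k : G} (he : e * e = 1) (heA : e ∈ C[A]) (hne : ∀ g : G, g * e * g⁻¹ ∉ A)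
    (hT : Syl 2 C{e} (A ⊔ zpowers e)) (hk : k ∈ N[A]) (hkA : k ∉ C[A]) (hke : k ∈ C{e}) :
    ∃ L : Subgroup G, L.index = 2 :=
  H20.GR.Sm.idx ⟨⟨hA, h4, hS, hAS, hc⟩, he, heA, hne, hT⟩ hk hkA hke

end Gold
end H26
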