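import Mathlib
import Cfsg.Agent.H26.GBase
import Cfsg.Agent.H5.DCH
import Cfsg.Agent.H27.R2cA

/-! GOLD, rank two: the counting argument (README, section R2c). -/

set_option autoImplicit false
set_option linter.unusedSectionVars false

namespace H27.R2c

open Cfsg H24 H26.Gold Subgroup
open scoped commutatorElement

universe u

variable {G : Type u} [Group G] [Finite G]

/-- `c` lies in `⟨w⟩ O` -/
def Pz (O : Subgroup G) (w c : G) : Prop := ∃ j : ℤ, (w ^ j)⁻¹ * c ∈ O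

section Pz
variable {O : Subgroup G} {w w' c c' : G}

theorem Pz_iff (hw : w ∈ N[O]) (hc : c ∈ N[O]) : Pz O w c ↔ cs O c ∈ zpowers (cs O w) :=
  exists_congr fun j => by
    rw [← cs_eq_cs (zpow_mem hw j) hc]
    exact Eq.congr_left (ap_zpow _ hw j)

theorem Pz_sat (hw : w ∈ N[O]) (hw' : w' ∈ N[O]) (hc : c ∈ N[O]) (h : w⁻¹ * w' ∈ O) :
    Pz O w c ↔ Pz O w' c := by
  rw [Pz_iff hw hc, Pz_iff hw' hc, (cs_eq_cs hw hw').2 h]

theorem Pz_uniq (hO : OddG O) (hw : w ∈ N[O]) (hc : c ∈ N[O]) (hc' : c' ∈ N[O]) (c2 : c * c = 1)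
    (c2' : c' * c' = 1) (c1 : c ≠ 1) (c1' : c' ≠ 1) (cc : c * c' = c' * c) (h : Pz O w c)
    (h' : Pz O w c') : c = c' := by
  have k : ∀ x ∈ N[O], x * x = 1 → x ≠ 1 → cs O x * cs O x = 1 ∧ cs O x ≠ 1 := fun x hx x2 x1 =>
    ⟨by rw [← ap_mul _ hx hx, x2, ap_one],
      fun e => x1 (eq_one_of_odd_sq (hO.piElt ((cs_eq_one hx).1 e)) x2)⟩
  have := (cs_eq_cs hc hc').1 (inv_uniq ((Pz_iff hw hc).1 h) ((Pz_iff hw hc').1 h')
    (k c hc c2 c1).1 (k c' hc' c2' c1').1 (k c hc c2 c1).2 (k c' hc' c2' c1').2)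
  refine inv_mul_eq_one.1 (eq_one_of_odd_sq (hO.piElt this) ?_)
  rw [inv_eq_of_mul_eq_one_right c2, mul_assoc, ← mul_assoc c', ← cc, mul_assoc, c2', mul_one, c2]

theorem Pz_conj {g : G} (hg : g ∈ N[O]) : Pz O w c ↔ Pz O (g * w * g⁻¹) (g * c * g⁻¹) :=
  exists_congr fun j => by
    rw [← conj_mem_iff hg, conj_zpow]
    exact iff_of_eq (congrArg (· ∈ O) (by group))

end Pz

variable {D : Set G} {A S : Subgroup G} {𝒮 : Set G} {ρ : G → Subgroup G} (h : R2 D A S 𝒮 ρ)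
include h

theorem eaA : EA A := h.max.ea h.sc

theorem N_odd {n v : G} (hn : n ∈ N[A]) (hv : v ∈ A) (v1 : v ≠ 1) (e : n * v * n⁻¹ = v) :
    n ∈ C[A] := by
  obtain ⟨y, z, hy, hz, yn, zn, rfl⟩ := exists_piElt_decomp {2} n
  have yN : y ∈ N[A] := zpowers_le.2 hn yn
  have zN : z ∈ N[A] := zpowers_le.2 hn zn
  obtain ⟨g, hg, hle⟩ := Sylow_subJ Nat.prime_two
    (h.syl.of_le (h.cent.trans (C_le_N A)) le_top) hy.isPi (zpowers_le.2 yN)
  have yC : y ∈ C[A] := cj_le_of_mem_N h.cent (N_le_NC A hg) (hle (mem_zpowers y))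
  have zv : z ∈ C{v} := (mul_mem_cancel_left (C_le_C1 hv yC)).1 (mem_C1_iff_conj.2 e)
  refine mul_mem yC ?_
  obtain ⟨b, hb, b1, bv⟩ := other h.card v
  have e' := mem_C1_iff_conj.1 zv
  have z2 : z ^ 2 ∈ C[A] := by
    rw [← C_two (eaA h) h.card hv hb v1 b1 bv.symm]
    refine ⟨pow_mem zv 2, ?_⟩
    rcases third (eaA h) h.card hv hb (conj_mem zN hb) v1 b1 bv.symm with k | k | k | k
    · exact absurd (conj_eq_one_iff'.1 k) b1
    · exact absurd (by simpa using k.trans e'.symm) bv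
    · exact pow_mem (mem_C1_iff_conj.2 k) 2
    · refine mem_C1_iff_conj.2 ?_
      calc z ^ 2 * b * (z ^ 2)⁻¹ = z * (v * b) * z⁻¹ := by rw [← k, pow_two]; group
        _ = (z * v * z⁻¹) * (z * b * z⁻¹) := by group
        _ = b := by rw [e', k, ← mul_assoc, (eaA h).sq hv, one_mul]
  exact zpowers_le.2 z2 (mem_zpowers_pow_iff.2
    (Nat.coprime_two_left.2 (oddE_iff.1 hz)))

theorem trans3 {k a c : G} (hk : k ∈ N[A]) (hk' : k ∉ C[A]) (ha : a ∈ A) (a1 : a ≠ 1)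
    (hc : c ∈ A) (c1 : c ≠ 1) : ∃ g ∈ zpowers k, c = g * a * g⁻¹ := by
  have hb := conj_mem hk ha
  have b1 : k * a * k⁻¹ ≠ 1 := by simpa using a1
  have ab : a ≠ k * a * k⁻¹ := fun e => hk' (N_odd h hk ha a1 e.symm)
  rcases third (eaA h) h.card ha hb hc a1 b1 ab with e | e | e | e
  · exact absurd e c1
  · exact ⟨1, one_mem _, by simpa using e⟩
  · exact ⟨k, mem_zpowers k, e⟩
  rcases third (eaA h) h.card ha hb (conj_mem hk hb) a1 b1 ab with e' | e' | e' | e'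
  · exact absurd (conj_eq_one_iff'.1 e') b1
  · refine absurd (N_odd h hk hc c1 ?_) hk'
    rw [e, ← conj_mul, e', (eaA h).comm ha hb]
  · exact absurd (N_odd h hk hb b1 e') hk'
  · exact ⟨k * k, mul_mem (mem_zpowers k) (mem_zpowers k), by rw [e, ← e']; group⟩

theorem exk {e : G} (he : e ∈ 𝒮) : ∃ k ∈ N[A], k ∉ C[A] ∧ k ∈ C{e} := by
  obtain ⟨e2, eC, -, eρ⟩ := h.inv e he
  simpa only [C_zpowers] using h.exk e he (zpowers e) (twoE_of_sq e2).isPi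
    (zpowers_le.2 ⟨⟨self_mem_C1 e, eC⟩, eρ⟩)

theorem D_conj {e a d : G} (he : e ∈ 𝒮) (ha : a ∈ A) (a1 : a ≠ 1) (hd : d ∈ D) :
    ∃ g : G, d = g * a * g⁻¹ := by
  obtain ⟨k, hk, hk', -⟩ := exk h he
  obtain ⟨g, -, hg⟩ := h.max.conj_mem h.sc hd (mem_top d)
  obtain ⟨l, -, hl⟩ := trans3 h hk hk' ha a1 hg (by simpa using h.sc.ne d hd)
  exact ⟨g⁻¹ * l, by rw [mul_inv_rev, inv_inv, mul_assoc g⁻¹, mul_assoc, ← mul_assoc (l * a), ← hl]; group⟩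

theorem L_conj {e a d : G} (he : e ∈ 𝒮) (ha : a ∈ A) (a1 : a ≠ 1) (hd : d ∈ D) (de : d ∈ C{e}) :
    ∃ g ∈ C{e}, d = g * a * g⁻¹ := by
  obtain ⟨g, hg, e⟩ := conj_sub (h.perf e he).1 (eaA h) h.card (h.perf e he).2 ha a1
    (mem_Og hd de) (h.sc.sq d hd) (h.sc.ne d hd)
  exact ⟨g, Og_le _ _ hg, e⟩

theorem nmemD {x : G} (hx : x ∈ C[A]) (hx' : x ∉ A) (g : G) : g * x * g⁻¹ ∉ D :=
  fun k => hx' (h.max.max x (h.sc.conj_iff.1 k) (mem_top x) hx)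

/-- the lower bound for `|D|` -/
theorem low {T : Subgroup G} (hA : A ≤ T) (cT : ♯T = 16) (h1 : ∀ e ∈ T, e ∉ A → e ∈ 𝒮) :
    ∃ e ∈ T, e ∉ A ∧ {d | d ∈ D ∧ d ∈ C{e}}.ncard ^ 2 < 3 * D.ncard := by
  obtain ⟨e, ⟨eT, eA⟩, hmin⟩ := Set.exists_min_image {e | e ∈ T ∧ e ∉ A}
    (fun e => {d | d ∈ D ∧ d ∈ C{e}}.ncard) (Set.toFinite _) (by
      by_contra k
      have := card_le (show T ≤ A from fun x hx => by_contra fun hx' => k ⟨x, hx, hx'⟩)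
      rw [cT, h.card] at this
      omega)
  refine ⟨e, eT, eA, ?_⟩
  obtain ⟨a, ha, a1, -⟩ := other h.card 1
  have he := h1 e eT eA
  obtain ⟨e2, eC, -, -⟩ := h.inv e he
  have fA : a * e ∉ A := fun k => eA ((mul_mem_cancel_left ha).1 k)
  have fT := mul_mem (hA ha) eT
  have hf := h1 _ fT fA
  have o := odd_count (h.perf _ hf).1 (eaA h) h.card (h.perf _ hf).2 h.sc h.max.mem ha a1
  have eq : ∀ d, (d ∈ D ∧ d ∈ Og D C{a * e}) ↔ d ∈ D ∧ d ∈ C{a * e} := fun d =>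
    and_congr_right fun hd => ⟨fun k => Og_le _ _ k, mem_Og hd⟩
  simp only [eq] at o
  have key := dc_le (s := {d | d ∈ D ∧ d ∈ C{e}}) (t := D)
    (fun d' d => d ∈ C{d' * e} ∧ OddE (d * d'))
    (m := {d | (d ∈ D ∧ d ∈ C{a * e}) ∧ OddE (d * a)}.ncard) (n := 1) (by
      rintro d' ⟨hd', de⟩
      obtain ⟨g, hg, rfl⟩ := L_conj h he ha a1 hd' de
      refine (nc_eq g g⁻¹ fun d => ?_).le
      have : g * a * g⁻¹ * e = g * (a * e) * g⁻¹ := by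
        rw [← conj_mul, mem_C1_iff_conj.1 hg]
      simp only [Set.mem_setOf_eq, this, h.sc.conj_iff, conj_mul, piElt_conj, ← cj_C1,
        conj_mem_cj_iff, and_assoc]) (by
      intro d hd
      refine (Set.ncard_le_one (Set.toFinite _)).2 ?_
      have k : ∀ x, x ∈ D → x ∈ C{e} → d ∈ C{x * e} → OddE (d * x) →
          constt {2} (d * e) = x * e := fun x xD xe dx o => by
        have c := mem_C1.1 xe
        have : d * e = x * e * (d * x) := by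
          rw [← mul_assoc, ← mem_C1.1 dx, mul_assoc d, mul_assoc x, ← c, ← mul_assoc x,
            h.sc.sq x xD, one_mul]
        rw [this]
        refine constt_mul_of (twoE_of_sq ?_) o (mem_C1.1 (mul_mem dx ?_)).symm
        · rw [mul_assoc, ← mul_assoc e, ← c, mul_assoc, e2, mul_one, h.sc.sq x xD]
        · rw [mem_C1, mul_assoc x e, ← c]
      rintro x ⟨⟨xD, xe⟩, dx, ox⟩ y ⟨⟨yD, ye⟩, dy, oy⟩
      exact mul_right_cancel ((k x xD xe dx ox).symm.trans (k y yD ye dy oy)))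
  have pos : 0 < {d | d ∈ D ∧ d ∈ C{e}}.ncard := (Set.ncard_pos (Set.toFinite _)).2
    ⟨a, h.max.memD ha a1, mem_C1_comm.1 (C_le_C1 ha eC)⟩
  have := hmin _ ⟨fT, fA⟩
  nlinarith

theorem Od_inf {a : G} (ha : a ∈ A) (a1 : a ≠ 1) : Od[C{a}] ⊓ C[A] = Od[C[A]] := by
  have l := C_le_C1 ha
  refine le_antisymm (pcore_inf_le _ l) (le_inf (le_sup_right.trans
    (pcore_max' (K := Od[C{a}] ⊔ Od[C[A]]) ((Od_odd _).sup (Od_odd _)
      (((pcore_le _ _).trans l).trans (pcore_nml _ _).norm))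
    (sup_le (pcore_le _ _) ((pcore_le _ _).trans l)) ((h.ca a ha a1).trans (sup_le
      (norm_of_le le_sup_left) (norm_sup (l.trans (pcore_nml _ _).norm) (pcore_nml _ _).norm)))))
    (pcore_le _ _))

/-- conjugates of `e'` in `C(a)` -/
theorem E_cent {e' a y : G} (he : e' ∈ 𝒮) (ha : a ∈ A) (a1 : a ≠ 1) (hy : ∃ g, y = g * e' * g⁻¹)
    (ya : y ∈ C{a}) : ∃ o ∈ Od[C{a}], ∃ m ∈ C[A], y = o * m * e' * (o * m)⁻¹ := by
  obtain ⟨e2, eC, -, -⟩ := h.inv e' he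
  obtain ⟨k, hk, hk', ke⟩ := exk h he
  obtain ⟨x, rfl⟩ := hy
  have l := C_le_C1 ha
  obtain ⟨g, hg, hle⟩ := Sylow_subJ Nat.prime_two (h.syl.of_le (h.cent.trans l) le_top)
    ((twoE_of_sq e2).conj x).isPi (zpowers_le.2 ya)
  obtain ⟨o, ho, m, hm, rfl⟩ := (mem_sup_of_norm (l.trans (pcore_nml _ _).norm)).1 (h.ca a ha a1 hg)
  have hY : o⁻¹ * x * e' * (o⁻¹ * x)⁻¹ ∈ C[A] := by
    have := mul_mem (mul_mem hm (h.cent (mem_cj.1 (hle (mem_zpowers _))))) (inv_mem hm)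
    convert this using 1; group
  obtain ⟨n, ⟨-, hn⟩, e⟩ := h.max.fusion_cent h.sc eC (mem_top _) hY
  obtain ⟨t, ht, et⟩ := trans3 h hk hk' ha a1 (conj_mem' hn ha)
    (fun k => a1 (by simpa using conj_eq_one_iff'.1 (show n⁻¹ * a * n⁻¹⁻¹ = 1 by simpa using k)))
  refine ⟨o, ho, n * t, N_odd h (mul_mem hn (zpowers_le.2 hk ht)) ha a1 ?_, ?_⟩
  · calc n * t * a * (n * t)⁻¹ = n * (t * a * t⁻¹) * n⁻¹ := by group
      _ = a := by rw [← et]; group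
  · calc x * e' * x⁻¹ = o * (o⁻¹ * x * e' * (o⁻¹ * x)⁻¹) * o⁻¹ := by group
      _ = o * (n * (t * e' * t⁻¹) * n⁻¹) * o⁻¹ := by
        rw [e, mem_C1_iff_conj.1 (zpowers_le.2 ke ht)]
      _ = _ := by group

/-- the three sets `X_c` have the same size -/
theorem X_eq {e e' a c : G} (he : e ∈ 𝒮) (he' : e' ∈ 𝒮) (ha : a ∈ A) (a1 : a ≠ 1) (hc : c ∈ A)
    (c1 : c ≠ 1) :
    {y | (∃ g, y = g * e' * g⁻¹) ∧ y ∈ C{a} ∧ Pz Od[C{a}] (e * y) c}.ncard =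
    {y | (∃ g, y = g * e' * g⁻¹) ∧ y ∈ C{a} ∧ Pz Od[C{a}] (e * y) a}.ncard := by
  have l := C_le_C1 ha
  have nO : C{a} ≤ N[Od[C{a}]] := (pcore_nml _ _).norm
  have lO : Od[C{a}] ≤ C{a} := pcore_le _ _
  have eC := (h.inv e he).2.1
  have cE : ∀ g y : G, (∃ x, g * y * g⁻¹ = x * e' * x⁻¹) ↔ ∃ x, y = x * e' * x⁻¹ := fun g y =>
    ⟨fun ⟨x, k⟩ => ⟨g⁻¹ * x, by rw [mul_inv_rev, inv_inv, mul_assoc g⁻¹, mul_assoc,
      ← mul_assoc (x * e'), ← k]; group⟩, fun ⟨x, k⟩ => ⟨g * x, by rw [k]; group⟩⟩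
  have key : ∀ c ∈ A, {y | (∃ g, y = g * e' * g⁻¹) ∧ y ∈ C{a} ∧ Pz Od[C{a}] (e * y) c}.ncard *
      {o | o ∈ Od[C{a}] ∧ o⁻¹ * e' * o ∈ C[A]}.ncard = ♯Od[C{a}] *
      {y | (∃ g, y = g * e' * g⁻¹) ∧ y ∈ C[A] ∧ Pz Od[C[A]] (e * y) c}.ncard := fun c hc => by
    rw [← nc_sub]
    have cC := (eaA h).le_C hc
    refine dc_eq (fun y o => o⁻¹ * y * o ∈ C[A]) ?_ fun o ho => ?_
    · rintro y ⟨hy, ya, -⟩
      obtain ⟨o, ho, m, hm, rfl⟩ := E_cent h he' ha a1 hy ya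
      refine (nc_eq (o * m) m⁻¹ fun x => ?_).symm
      simp only [Set.mem_setOf_eq, SetLike.mem_coe]
      refine and_congr ?_ ?_
      · rw [mul_assoc o, mul_assoc o, mul_mem_cancel_left ho, conj_mem_iff (nO (l hm))]
      · rw [← conj_mem_iff (C_le_N _ hm |> N_le_NC A)]
        exact iff_of_eq (congrArg (· ∈ C[A]) (by group))
    · refine (nc_eq o o⁻¹ fun y => ?_).symm
      simp only [Set.mem_setOf_eq, cE, show o⁻¹ * (o * y * o⁻¹) * o = y by group]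
      have k : y ∈ C[A] → (Pz Od[C[A]] (e * y) c ↔ Pz Od[C{a}] (e * (o * y * o⁻¹)) c) :=
        fun hy => by
        rw [← Pz_sat (w := e * y) (nO (l (mul_mem eC hy)))
          (nO (mul_mem (l eC) (mul_mem (mul_mem (lO ho) (l hy)) (inv_mem (lO ho))))) (nO (l cC))
          (by
            have := mul_mem (conj_mem' (nO (l hy)) ho) (inv_mem ho)
            convert this using 1; group), ← Od_inf h ha a1]
        exact exists_congr fun j => mem_inf.trans (and_iff_left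
          (mul_mem (inv_mem (zpow_mem (mul_mem eC hy) j)) cC))
      exact ⟨fun ⟨k1, k2, k3⟩ => ⟨⟨k1, mul_mem (mul_mem (lO ho) (l k2)) (inv_mem (lO ho)),
        (k k2).1 k3⟩, k2⟩, fun ⟨⟨k1, _, k3⟩, k2⟩ => ⟨k1, k2, (k k2).2 k3⟩⟩
  obtain ⟨k, hk, hk', ke⟩ := exk h he
  obtain ⟨g, hg, rfl⟩ := trans3 h hk hk' ha a1 hc c1
  have gN := N_le_NC A (zpowers_le.2 hk hg)
  have pos : 0 < {o | o ∈ Od[C{a}] ∧ o⁻¹ * e' * o ∈ C[A]}.ncard :=
    (Set.ncard_pos (Set.toFinite _)).2 ⟨1, one_mem _, by simpa using (h.inv e' he').2.1⟩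
  refine Nat.eq_of_mul_eq_mul_right pos ?_
  rw [key _ hc, key a ha]
  congr 1
  refine (nc_eq g g⁻¹ fun y => ?_).symm
  simp only [Set.mem_setOf_eq, cE, conj_mem_iff gN]
  rw [Pz_conj (N_le_N_pcore _ _ gN), ← conj_mul, mem_C1_iff_conj.1 (zpowers_le.2 ke hg)]

variable {T T' : Subgroup G} (hT : EA T) (hT' : EA T') (cT : ♯T = 16) (cT' : ♯T' = 16)
  (hsup : T ⊔ T' = S) (hinf : T ⊓ T' = A)
  (h1 : ∀ e ∈ T, e ∉ A → e ∈ 𝒮 ∧ Syl 2 C{e} T) (h2 : ∀ e ∈ T', e ∉ A → e ∈ 𝒮 ∧ Syl 2 C{e} T')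
  (hinv : ∀ x ∈ S, x * x = 1 → x ∈ T ∨ x ∈ T') (hcomm : ⁅T, T'⁆ ≤ A)
include hT hT' cT cT' hsup hinf h1 h2 hinv hcomm

theorem nofuse {x g : G} (hx : x ∈ T) (xA : x ∉ A) (hx' : g * x * g⁻¹ ∈ T') : False := by
  have lT : T ≤ S := hsup ▸ le_sup_left
  have lT' : T' ≤ S := hsup ▸ le_sup_right
  have ne : T ≠ T' := by
    rintro rfl
    rw [inf_idem] at hinf
    rw [hinf, h.card] at cT
    omega
  have nT : S ≤ N[T] := hsup ▸ sup_le (norm_self T)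
    (norm_of_comm_le_left (hcomm.trans (hinf ▸ inf_le_left)))
  have nT' : S ≤ N[T'] := hsup ▸ sup_le
    (norm_of_comm_le_right (hcomm.trans (hinf ▸ inf_le_right))) (norm_self T')
  have xA' : g * x * g⁻¹ ∉ A := fun k => (h.max.mem _ k).elim
    (fun e => xA (conj_eq_one_iff'.1 e ▸ one_mem A)) (nmemD h (h.cent (lT hx)) xA g)
  obtain ⟨c, -, e1⟩ := Sylow_trans Nat.prime_two (cj_C1 g x ▸ (h1 x hx xA).2.cj g) (h2 _ hx' xA').2
  rw [← cj_mul] at e1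
  obtain ⟨n, hn, e2⟩ := Sylow_trans Nat.prime_two (M := N[T']) (P := cj (c * g) S)
    ((h.syl.cj_mem (mem_top _)).of_le (e1 ▸ norm_cj nT _) le_top) (h.syl.of_le nT' le_top)
  rw [← cj_mul] at e2
  have e3 : cj (n * (c * g)) T = T' := by rw [cj_mul, ← e1, cj_of_mem_N hn]
  generalize n * (c * g) = t at e2 e3
  have tS := mem_N_iff_cj.2 e2.symm
  have e4 : cj t T' = T := by
    have hi : ∀ y ∈ cj t T', y ∈ T ∨ y ∈ T' := fun y hy => by
      obtain ⟨z, hz, rfl⟩ := mem_cj'.1 hy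
      exact hinv _ (conj_mem tS (lT' hz)) (by rw [conj_mul, hT'.sq hz]; group)
    by_cases k : cj t T' ≤ T
    · exact eq_of_card_eq k (by rw [card_cj, cT, cT'])
    obtain ⟨y, hy, yT⟩ := SetLike.not_le_iff_exists.1 k
    refine absurd (cj_inj.1 (e3.trans (eq_of_card_eq (fun z hz => ?_) (card_cj _ _)).symm)) ne
    have yT' := (hi y hy).resolve_left yT
    rcases hi z hz with k1 | k1
    · exact (mul_mem_cancel_left yT').1 ((hi _ (mul_mem hy hz)).resolve_left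
        fun k2 => yT ((mul_mem_cancel_right k1).1 k2))
    · exact k1
  obtain ⟨y, z, hy, hz, yt, zt, rfl⟩ := exists_piElt_decomp {2} t
  have yT := nT (h.syl.le_of_norm hy.isPi le_top (zpowers_le.2 (zpowers_le.2 tS yt))
    (mem_zpowers y))
  have t2 : (y * z) ^ 2 ∈ N[T] := mem_N_iff_cj.2 (by rw [pow_two, cj_mul, e3, e4])
  have c : Commute y z := (abl_zpowers _).comm yt zt
  rw [c.mul_pow, mul_mem_cancel_left (pow_mem yT 2)] at t2
  exact ne ((cj_of_mem_N (mul_mem yT (zpowers_le.2 t2 (mem_zpowers_pow_iff.2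
    (Nat.coprime_two_left.2 (oddE_iff.1 hz)))))).symm.trans e3)

theorem exz {e e' g : G} (he : e ∈ T) (eA : e ∉ A) (he' : e' ∈ T') (eA' : e' ∉ A) :
    ∃ z ∈ D, z ∈ zpowers (e * (g * e' * g⁻¹)) := by
  have lT : T ≤ S := hsup ▸ le_sup_left
  have lT' : T' ≤ S := hsup ▸ le_sup_right
  have e2 := hT.sq he
  have y2 : g * e' * g⁻¹ * (g * e' * g⁻¹) = 1 := by rw [conj_mul, hT'.sq he']; group
  obtain ⟨k, m, hm, o⟩ := Nat.exists_eq_two_pow_mul_odd (orderOf_pos (e * (g * e' * g⁻¹))).ne'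
  obtain ⟨l, -, el⟩ := conj_of_odd e2 y2 hm
  have wz := pow_mem (mem_zpowers (e * (g * e' * g⁻¹))) m
  have w2 : TwoE ((e * (g * e' * g⁻¹)) ^ m) := piElt_of_pow_eq_one (n := 2 ^ k)
    (piNat_self_pow Nat.prime_two k) (by rw [← pow_mul, mul_comm, ← o, pow_orderOf_eq_one])
  generalize (e * (g * e' * g⁻¹)) ^ m = w at el wz w2
  have ew : e * w * e⁻¹ = w⁻¹ := by
    refine eq_inv_of_mul_eq_one_left ?_
    rw [inv_eq_of_mul_eq_one_right e2, mul_assoc (e * w), el, conj_mul, y2]; group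
  obtain ⟨s, -, hs⟩ := Sylow_Jsub Nat.prime_two h.syl (Q := zpowers w ⊔ zpowers e)
    (w2.isPi.sup (twoE_of_sq e2).isPi (zpowers_le.2 (mem_N_iff_cj.2 (by
      rw [cj_zpowers, ew, zpowers_inv])))) le_top
  have s1 := hs (conj_mem_cj s (mem_sup_right (mem_zpowers e)))
  have s2 := hs (conj_mem_cj s (mul_mem (mem_sup_right (mem_zpowers e))
    (mem_sup_left (mem_zpowers w))))
  have nA : ∀ {x}, x ∈ S → x ∉ A → ∀ g : G, g * x * g⁻¹ ∉ A := fun hx xA g k => (h.max.mem _ k).elim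
    (fun e => xA (conj_eq_one_iff'.1 e ▸ one_mem A)) (nmemD h (h.cent hx) xA g)
  have t1 := (hinv _ s1 (by rw [conj_mul, e2]; group)).resolve_right
    (nofuse h hT hT' cT cT' hsup hinf h1 h2 hinv hcomm he eA)
  have ee : s * (e * w) * s⁻¹ = s * l * g * e' * (s * l * g)⁻¹ := by rw [el]; group
  have t2 : s * (e * w) * s⁻¹ ∈ T' :=
    (hinv _ s2 (by rw [ee, conj_mul, hT'.sq he']; group)).resolve_left fun k =>
      nofuse h hT hT' cT cT' hsup hinf h1 h2 hinv hcomm (g := (s * l * g)⁻¹) k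
        (ee ▸ nA (lT' he') eA' _) (by rw [ee]; simpa [mul_assoc] using he')
  have t3 := hcomm (commutator_mem_commutator t1 t2)
  have t4 : ⁅s * e * s⁻¹, s * (e * w) * s⁻¹⁆ = s * (w * w) * s⁻¹ := by
    rw [commutatorElement_def, hT.inv t1, hT'.inv t2, conj_mul, conj_mul, conj_mul,
      ← mul_assoc e, e2, one_mul, mul_assoc w, ← mul_assoc e, e2, one_mul]
  refine ⟨w * w, h.sc.conj_iff.1 ((h.max.mem _ (t4 ▸ t3)).resolve_left fun k => ?_), mul_mem wz wz⟩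
  have c := mem_C1.2 (commutatorElement_eq_one_iff_mul_comm.1 (t4.trans k)).symm
  have := (h1 _ t1 (nA (lT he) eA s)).2.eq_of_le (K := S ⊓ C{s * e * s⁻¹}) (h.syl.pi.inf_left _)
    (le_inf lT (hT.le_C.trans (C_le_C1 t1))) inf_le_right
  refine nA (lT' he') eA' (s * l * g) ?_
  rw [← ee, ← hinf]
  exact ⟨this.le ⟨s2, c⟩, t2⟩

/-- the upper bound for `|D|` -/
theorem up {e e' : G} (he : e ∈ T) (eA : e ∉ A) (he' : e' ∈ T') (eA' : e' ∉ A) :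
    3 * D.ncard ≤ {d | d ∈ D ∧ d ∈ C{e}}.ncard * {d | d ∈ D ∧ d ∈ C{e'}}.ncard := by
  obtain ⟨a, ha, a1, -⟩ := other h.card 1
  obtain ⟨b, hb, b1, ba⟩ := other h.card a
  have hA := eaA h
  have ab1 : a * b ≠ 1 := fun k => ba (by rw [eq_inv_of_mul_eq_one_right k, hA.inv ha])
  have eS := (h1 e he eA).1
  have eS' := (h2 e' he' eA').1
  have e2 := hT.sq he
  have eC := (h.inv e eS).2.1
  have cE : ∀ g y : G, (∃ x, g * y * g⁻¹ = x * e' * x⁻¹) ↔ ∃ x, y = x * e' * x⁻¹ := fun g y =>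
    ⟨fun ⟨x, k⟩ => ⟨g⁻¹ * x, by rw [mul_inv_rev, inv_inv, mul_assoc g⁻¹, mul_assoc,
      ← mul_assoc (x * e'), ← k]; group⟩, fun ⟨x, k⟩ => ⟨g * x, by rw [k]; group⟩⟩
  have k1 := dc_le (s := {y | ∃ g, y = g * e' * g⁻¹}) (t := {d | d ∈ D ∧ d ∈ C{e}})
    (fun y z => z ∈ zpowers (e * y)) (m := 1)
    (n := {y | (∃ g, y = g * e' * g⁻¹) ∧ a ∈ zpowers (e * y)}.ncard) (by
      rintro _ ⟨g, rfl⟩
      obtain ⟨z, zD, hz⟩ := exz h hT hT' cT cT' hsup hinf h1 h2 hinv hcomm (g := g) he eA he' eA'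
      refine (Set.ncard_pos (Set.toFinite _)).2 ⟨z, ⟨zD, ?_⟩, hz⟩
      obtain ⟨j, rfl⟩ := hz
      have := h.sc.inv zD
      rw [mem_C1_comm, mem_C1_iff_conj]
      simp only at this ⊢
      rw [← conj_zpow, ← this, ← inv_zpow]
      congr 1
      rw [← mul_assoc, e2, one_mul, mul_inv_rev, mul_inv_rev (g * e'), mul_inv_rev g, hT'.inv he',
        inv_inv, mul_assoc g]) (by
      rintro z ⟨zD, ze⟩
      obtain ⟨g, hg, rfl⟩ := L_conj h eS ha a1 zD ze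
      refine (nc_eq g g⁻¹ fun y => ?_).ge
      simp only [Set.mem_setOf_eq, cE]
      rw [← conj_mem_cj_iff (g := g), cj_zpowers, ← conj_mul, mem_C1_iff_conj.1 hg])
  have k2 := dc_eq (s := D) (t := {y | ∃ g, y = g * e' * g⁻¹}) (fun d y => y ∈ C{d})
    (m := {y | (∃ g, y = g * e' * g⁻¹) ∧ y ∈ C{a}}.ncard) (n := {d | d ∈ D ∧ d ∈ C{e'}}.ncard)
    (fun d hd => by
      obtain ⟨g, rfl⟩ := D_conj h eS ha a1 hd
      refine (nc_eq g g⁻¹ fun y => ?_).symm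
      simp only [Set.mem_setOf_eq, cE, ← cj_C1, conj_mem_cj_iff]) (by
      rintro _ ⟨g, rfl⟩
      refine (nc_eq g g⁻¹ fun d => ?_).symm
      simp only [Set.mem_setOf_eq, h.sc.conj_iff, ← cj_C1, conj_mem_cj_iff]
      rw [mem_C1_comm])
  have x1 := X_eq h eS eS' ha a1 hb b1
  have x2 := X_eq h eS eS' ha a1 (mul_mem ha hb) ab1
  have nO : C{a} ≤ N[Od[C{a}]] := (pcore_nml _ _).norm
  have l := hA.le_C.trans (C_le_C1 ha)
  have dj : ∀ c ∈ A, ∀ c' ∈ A, c ≠ 1 → c' ≠ 1 → c ≠ c' → Disjoint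
      {y | (∃ g, y = g * e' * g⁻¹) ∧ y ∈ C{a} ∧ Pz Od[C{a}] (e * y) c}
      {y | (∃ g, y = g * e' * g⁻¹) ∧ y ∈ C{a} ∧ Pz Od[C{a}] (e * y) c'} :=
    fun c hc c' hc' c1 c1' ne => Set.disjoint_left.2 fun y k k' => ne (Pz_uniq (Od_odd _)
      (nO (mul_mem (C_le_C1 ha eC) k.2.1)) (nO (l hc)) (nO (l hc')) (hA.sq hc) (hA.sq hc') c1 c1'
      (hA.comm hc hc') k.2.2 k'.2.2)
  have k3 := Set.ncard_union_eq (dj a ha b hb a1 b1 ba.symm)
  have k4 := Set.ncard_union_eq (Set.disjoint_union_left.2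
    ⟨dj a ha _ (mul_mem ha hb) a1 ab1 (by simpa using b1),
      dj b hb _ (mul_mem ha hb) b1 ab1 (by simpa using a1)⟩)
  have k5 := k4.ge.trans (Set.ncard_le_ncard (t := {y | (∃ g, y = g * e' * g⁻¹) ∧ y ∈ C{a}}) (by
    rintro y ((k | k) | k) <;> exact ⟨k.1, k.2.1⟩))
  have k6 : {y | (∃ g, y = g * e' * g⁻¹) ∧ a ∈ zpowers (e * y)}.ncard ≤
      {y | (∃ g, y = g * e' * g⁻¹) ∧ y ∈ C{a} ∧ Pz Od[C{a}] (e * y) a}.ncard :=
    Set.ncard_le_ncard fun y ⟨k, j, hj⟩ => ⟨k, (mul_mem_cancel_left (C_le_C1 ha eC)).1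
      (C1_le_C1_of_mem_zpowers ⟨j, hj⟩ (self_mem_C1 _)), j, by simp only at hj; simp [hj]⟩
  have pos : 0 < {y | ∃ g, y = g * e' * g⁻¹}.ncard :=
    (Set.ncard_pos (Set.toFinite _)).2 ⟨e', 1, by simp⟩
  rw [k3, x1, x2] at k5
  generalize {y | (∃ g, y = g * e' * g⁻¹) ∧ a ∈ zpowers (e * y)}.ncard = ν at *
  have ν0 : 0 < ν := Nat.pos_of_ne_zero fun k => by rw [k] at k1; omega
  refine Nat.le_of_mul_le_mul_right ?_ ν0
  calc 3 * D.ncard * ν = D.ncard * (3 * ν) := by ring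
    _ ≤ _ := Nat.mul_le_mul_left _ (by omega)
    _ = _ := k2
    _ ≤ _ := Nat.mul_le_mul_right _ ((mul_one _).ge.trans k1)
    _ = _ := by ring

end H27.R2c

namespace H26
namespace Gold

open Cfsg H24 Subgroup

universe u

variable {G : Type u} [Group G] [Finite G]

/-- principal block of a perfect group with Klein four Sylow subgroup -/
theorem klein_count {H A : Subgroup G} (hH : ⁅H, H⁆ = H) (hA : EA A) (h4 : ♯A = 4)
    (hS : Syl 2 H A) {a : G} (ha : a ∈ A) (h1 : a ≠ 1) :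
    3 * (C[A].relIndex (H ⊓ C{a})) ^ 2 < C{a}.relIndex H :=
  H27.R2c.count hH hA h4 hS ha h1

theorem R2.count {D : Set G} {A S : Subgroup G} {𝒮 : Set G} {ρ : G → Subgroup G}
    (h : R2 D A S 𝒮 ρ) {T T' : Subgroup G} (hT : EA T) (hT' : EA T') (cT : ♯T = 16) (cT' : ♯T' = 16)
    (hsup : T ⊔ T' = S) (hinf : T ⊓ T' = A)
    (h1 : ∀ e ∈ T, e ∉ A → e ∈ 𝒮 ∧ Syl 2 C{e} T) (h2 : ∀ e ∈ T', e ∉ A → e ∈ 𝒮 ∧ Syl 2 C{e} T')
    (hinv : ∀ x ∈ S, x * x = 1 → x ∈ T ∨ x ∈ T') (hcomm : ⁅T, T'⁆ ≤ A) : False := by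
  obtain ⟨e, he, eA, k⟩ := H27.R2c.low h (hinf ▸ inf_le_left) cT fun e he eA => (h1 e he eA).1
  obtain ⟨e', he', eA', k'⟩ := H27.R2c.low h (hinf ▸ inf_le_right) cT' fun e he eA => (h2 e he eA).1
  have := H27.R2c.up h hT hT' cT cT' hsup hinf h1 h2 hinv hcomm he eA he' eA'
  nlinarith

end Gold
end H26
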