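import Mathlib
import Cfsg.Agent.H26.GR2a
import Cfsg.Agent.H26.GR2c
import Cfsg.Agent.H20.GoldR4

/-! GOLD, rank two: the main local analysis (README, section R2b). -/

set_option autoImplicit false
set_option linter.unusedSectionVars false

namespace H26
namespace Gold

open Cfsg H24 Subgroup

universe u

variable {G : Type u} [Group G] [Finite G]

theorem R2.false {D : Set G} {A S : Subgroup G} {𝒮 : Set G} {ρ : G → Subgroup G}
    (h : R2 D A S 𝒮 ρ) (hne : 𝒮.Nonempty) : False := by
  obtain ⟨P, T, T', h1, h2, h3, h4, h5, h6, h7, h8, h9, h10, h11⟩ := H20.GR.exists_two h hne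
  exact h1.count h2 h3 h4 h5 h6 h7 h8 h9 h10 h11

end Gold
end H26
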