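import Mathlib
import Cfsg.Agent.H26.GM0
import Cfsg.Agent.H26.GR2b
import Cfsg.Agent.H17.Lyons
import Cfsg.Agent.S0949

/-! GOLD: the case `|A| = 4`. -/

set_option autoImplicit false
set_option linter.unusedSectionVars false
set_option linter.unusedVariables false

namespace H26
namespace Gold

open Cfsg H24 Subgroup
open scoped commutatorElement

universe u

variable {G : Type u} [Group G] [Finite G] {D : Set G} {A B H K K' K0 L M P S T X Y1 : Subgroup G}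
  {a b e g x y z : G}

theorem Ctx.inf_Ck4 (h : Ctx D H A) (h4 : ♯A = 4) (hK : Piece D H K) : A ⊓ Ck K = ⊥ := by
  have h1 := card_inf_mul_relIndex (Ck K) A
  have h2 := h.four hK
  have h3 := card_pos (Ck K ⊓ A)
  rw [inf_comm, ← card_eq_one']
  nlinarith

theorem Ctx.uniq (h : Ctx D H A) (hK : Piece D H K) (h0 : A ⊓ Ck K = ⊥) (hK' : Piece D H K') : K' = K :=
  (h.eq_of_le hK' hK (h0 ▸ bot_le)).symm

theorem Ctx.le_piece (h : Ctx D H A) (hK : Piece D H K) (h0 : A ⊓ Ck K = ⊥) : A ≤ K := by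
  have := h.le_sup hK
  rw [h0, sup_bot_eq] at this
  exact this.trans inf_le_right

theorem Ctx.Og_eq (h : Ctx D H A) (hK : Piece D H K) (h0 : A ⊓ Ck K = ⊥) : Og D H = K := by
  refine le_antisymm (Og_le_iff.2 fun d hd hH => ?_) hK.le
  obtain ⟨g, hg, h1⟩ := h.max.conj_mem h.sc hd hH
  exact (conj_mem_iff (hK.norm hg)).1 (h.le_piece hK h0 h1)

theorem Ctx.norm_piece (h : Ctx D H A) (hK : Piece D H K) (h0 : A ⊓ Ck K = ⊥) : H ≤ N[K] :=
  h.Og_eq hK h0 ▸ (h.sc.Og_nml H).norm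

theorem inf_Ck_le (hT : Syl 2 K T) : K ⊓ Ck K ≤ T ⊔ Od[K] := by
  have hO := pcore_nml ({2}ᶜ : Set ℕ) K
  have h1 : quo (K ⊓ Ck K) Od[K] ≤ Z[quo K Od[K]] := le_inf (quo_mono _ inf_le_left)
    ((quo_cents (inf_le_left.trans hO.norm) hO.norm).2 (le_Ck.1 inf_le_right))
  have h2 := ((abl_center (quo K Od[K])).nil.pcoreC ({2} : Set ℕ)).sup
  rw [eq_bot_of_le (pcore_quo_pcore _ K) ((center_nml _).pcore_le _), sup_bot_eq] at h2
  rw [← quo_le_quo_iff (inf_le_left.trans hO.norm) (hT.le.trans hO.norm)]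
  exact h1.trans ((hT.quo hO.norm).nml_le (isPi_of_pcore_eq h2) (center_nml _))

/-- the set of involutions with a piece of the second type -/
def S2 (D : Set G) (A : Subgroup G) : Set G :=
  {e | e * e = 1 ∧ e ∈ C[A] ∧ e ∉ A ∧ ∃ a ∈ A, a ≠ 1 ∧ ¬ Og D (C{e} ⊓ C{a}) ≤ Od[C{e}] ⊔ A}

/-- `Ck` of the piece of `C(e)` -/
def rho (D : Set G) (e : G) : Subgroup G := sSup {X | ∃ K, Piece D C{e} K ∧ X = Ck K}

theorem S2.ctx (h : MC D A) (he : e ∈ S2 D A) : Ctx D C{e} A :=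
  h.ctx1 (fun e1 => he.2.2.1 (e1 ▸ one_mem A)) he.2.1

theorem S2.piece (h : MC D A) (h4 : ♯A = 4) (he : e ∈ S2 D A) :
    ∃ L, Piece D C{e} L ∧ rho D e = Ck L ∧ Flat A L ∧ Gen2 D A L := by
  have hc := S2.ctx h he
  have hD := h.sc
  obtain ⟨-, -, -, a, ha, a1, hn⟩ := he
  obtain ⟨L, hL⟩ : ∃ L, Piece D C{e} L := by
    by_contra hne
    push Not at hne
    refine hn ((Og_mono D inf_le_left).trans (hc.struct.trans
      (sup_le (sup_le_sup_right (hD.Od_Og_le _) _) (sSup_le fun K hK => absurd hK (hne K)))))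
  have h0 := hc.inf_Ck4 h4 hL
  refine ⟨L, hL, le_antisymm (sSup_le ?_) (le_sSup ⟨L, hL, rfl⟩), (hc.dichotomy hL).resolve_left
    fun h1 => hn (Og_le_iff.2 fun d hd hdC => ?_)⟩
  · rintro _ ⟨K, hK, rfl⟩; rw [hc.uniq hL h0 hK]
  have hAL := hc.le_piece hL h0
  have hdL : d ∈ L := hc.Og_eq hL h0 ▸ mem_Og hd hdC.1
  have h2 : d ∈ (A ⊔ Ck L) ⊓ L := ⟨h1 a ha (fun e1 => a1 (mem_bot.1 (h0 ▸ ⟨ha, e1⟩)))
    (mem_Og hd ⟨norm_self L hdL, hdC.2⟩), hdL⟩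
  obtain ⟨T, hT, hAT⟩ := Sylow_superset Nat.prime_two h.ea.two hAL
  have hO := pcore_nml ({2}ᶜ : Set ℕ) L
  rw [← group_modl' (norm_Ck (norm_of_le hAL)) hAL, inf_comm] at h2
  have h3 : d ∈ T ⊔ Od[L] := (sup_le (hAT.trans le_sup_left) (inf_Ck_le hT) : _ ≤ T ⊔ Od[L]) h2
  have hp := isProd_sup' (hT.le.trans hO.norm)
  obtain ⟨g, hg, h5⟩ := Sylow_subJ Nat.prime_two (hp.hall_left hT.pi (Od_odd L)) (hD.two hd).isPi
    (zpowers_le.2 h3)
  obtain ⟨o, ho, t, ht, rfl⟩ := hp.symm.mul g hg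
  rw [cj_mul, cj_of_mem ht] at h5
  have h6 := h.max.mem_of_two hD hT.pi hAT le_top (hD.conj' hd o) (mem_cj.1 (h5 (mem_zpowers d)))
  have h7 : o ∈ Od[C{e}] := (hL.Od_le hD).trans (hD.Od_Og_le _) ho
  exact (conj_mem_iff' (norm_self _ (mem_sup_left h7))).1 (mem_sup_right h6)

theorem S2.pump (h : MC D A) (h4 : ♯A = 4) (he : e ∈ S2 D A) (hx : x ∈ C{e} ⊓ C[A] ⊓ rho D e)
    (x1 : x ≠ 1) (x2 : x * x = 1) :
    x ∈ S2 D A ∧ ∀ P, TwoG P → P ≤ C{e} ⊓ C{x} ⊓ C[A] → P ⊓ rho D e ≤ rho D x := by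
  have hD := h.sc
  have hc := S2.ctx h he
  obtain ⟨L, hL, e1, hf, hg⟩ := S2.piece h h4 he
  rw [e1] at hx ⊢
  have h0 := hc.inf_Ck4 h4 hL
  have hAL := hL.normA hc.max
  have hcx := h.ctx1 x1 hx.1.2
  have hxS : x ∈ S2 D A := by
    refine ⟨x2, hx.1.2, fun ha => x1 (mem_bot.1 (h0 ▸ ⟨ha, hx.2⟩)), ?_⟩
    by_contra hne
    push Not at hne
    obtain ⟨K0, k1, k0, k2⟩ := exists_cov_cent hL.perf (twoE_of_sq x2).isPi (zpowers_le.2 hx.2) hAL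
      (norm_zpowers_of_cent hcx.max.le)
    rw [C_zpowers] at k1
    refine hL.qs.not_le_Ck (perfect_le_of_sol (X := (Od[C{x}] ⊔ A) ⊓ L) hL.perf (norm_Ck (norm_self L))
      (hg K0 k0 k2 _ fun a ha ha' => le_inf ((Og_mono D (inf_le_inf_right _ k1)).trans
        (hne a ha (by rintro rfl; exact ha' (one_mem _)))) (((Og_le _ _).trans inf_le_left).trans k0.le))
      (norm_Ck (norm_of_le inf_le_right)) (((Od_sol _).sup h.ea.abl.sol
        (hcx.max.le.trans (pcore_nml _ _).norm)).of_le inf_le_left))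
  refine ⟨hxS, fun P hP hPC => ?_⟩
  obtain ⟨L', hL', e2, hf', -⟩ := S2.piece h h4 hxS
  have h0' := hcx.inf_Ck4 h4 hL'
  rw [e2]
  have hPx : P ⊓ Ck L ≤ C{x} := inf_le_left.trans (hPC.trans (inf_le_left.trans inf_le_right))
  have hPA : P ⊓ Ck L ≤ C[A] := inf_le_left.trans (hPC.trans inf_le_right)
  obtain ⟨K0, k1, k0, k2⟩ := exists_cov_cent (P := P ⊓ Ck L ⊔ zpowers x) hL.perf
    ((hP.inf_left _).sup' (twoE_of_sq x2).isPi (norm_zpowers_of_cent hPx))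
    (sup_le inf_le_right (zpowers_le.2 hx.2)) hAL
    (H24.norm_of_cent (cents_symm (sup_le hPA (zpowers_le.2 hx.1.2))))
  rw [C_sup, C_zpowers] at k1
  obtain ⟨K', hK', k3, -⟩ := hc.pump hcx hL k0 k2 (k1.trans inf_le_right)
  rw [hcx.uniq hL' h0' hK'] at k3
  intro q hq
  obtain ⟨a, ha, c, hc', rfl⟩ := (mem_sup_of_norm' (norm_Ck (hL'.normA hcx.max))).1
    (hf' _ (hP.inf_left _) (le_inf (hPx.trans (hcx.norm_piece hL' h0')) hPA) hq)
  by_cases a1 : a = 1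
  · rwa [a1, one_mul]
  obtain ⟨y, hy, y1, ya⟩ := exists_ne_two h4.ge a
  have nc : ∀ w ∈ A, w ≠ 1 → w ∉ Ck L := fun w hw w1 hw' => w1 (mem_bot.1 (h0 ▸ ⟨hw, hw'⟩))
  obtain ⟨u, hu, -, h3⟩ := hc.trans_cov hL k0 k2 ha (nc a ha a1) hy (nc y hy y1)
  have h5 : u * a * u⁻¹ * a⁻¹ ∈ A ⊓ Ck L' := by
    refine ⟨A.mul_mem (conj_mem hu.2 ha) (A.inv_mem ha), ?_⟩
    have e3 : u * (a * c) * u⁻¹ = a * c := mem_C1_iff_conj.1 (C_le_C1 hq (k1 hu.1).1)
    have e4 : u * a * u⁻¹ * a⁻¹ = a * (c * (u * c⁻¹ * u⁻¹)) * a⁻¹ := by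
      calc _ = u * (a * c) * u⁻¹ * (u * c⁻¹ * u⁻¹) * a⁻¹ := by group
        _ = _ := by rw [e3]; group
    rw [e4]
    exact conj_mem (norm_Ck (hL'.normA hcx.max) ha)
      (mul_mem hc' (conj_mem (norm_Ck (norm_of_le k3) hu.1) (inv_mem hc')))
  rw [h0', mem_bot, mul_inv_eq_one] at h5
  rw [h5] at h3
  have h6 : a * y ∈ A ⊓ Ck L := ⟨mul_mem ha hy, h3⟩
  rw [h0, mem_bot, mul_eq_one_iff_inv_eq, h.ea.inv ha] at h6
  exact absurd h6.symm ya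

theorem S2.split (h : MC D A) (h4 : ♯A = 4) (he : e ∈ S2 D A) (hP : TwoG P) (hA : A ≤ P)
    (hPe : P ≤ C{e}) : P ≤ A ⊔ (P ⊓ rho D e) := by
  have hc := S2.ctx h he
  obtain ⟨L, hL, e1, hf, -⟩ := S2.piece h h4 he
  rw [e1, inf_comm, group_modl' (norm_Ck (hL.normA hc.max)) hA]
  exact le_inf (hf P hP (le_inf (hPe.trans (hc.norm_piece hL (hc.inf_Ck4 h4 hL))) fun s hs =>
    h.two4 h4 s (h.max.norm_of_two h.sc hP hA le_top hs) (hP.piElt hs))) le_rfl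

theorem S2.disj (h : MC D A) (h4 : ♯A = 4) (he : e ∈ S2 D A) : A ⊓ rho D e = ⊥ := by
  obtain ⟨L, hL, e1, -⟩ := S2.piece h h4 he
  rw [e1, (S2.ctx h he).inf_Ck4 h4 hL]

theorem S2.perf (h : MC D A) (h4 : ♯A = 4) (he : e ∈ S2 D A) :
    ⁅Og D C{e}, Og D C{e}⁆ = Og D C{e} ∧ Syl 2 (Og D C{e}) A := by
  have hc := S2.ctx h he
  obtain ⟨L, hL, e1, -⟩ := S2.piece h h4 he
  have h0 := hc.inf_Ck4 h4 hL
  rw [hc.Og_eq hL h0]
  obtain ⟨T, hT, hAT⟩ := Sylow_superset Nat.prime_two h.ea.two (hc.le_piece hL h0)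
  have h1 := S2.split h h4 he hT.pi hAT (hT.le.trans hL.le')
  rw [e1] at h1
  have h2 : ∀ y ∈ T ⊓ Ck L, ∀ l ∈ L, l * y * l⁻¹ ∈ T → l * y * l⁻¹ * y⁻¹ = 1 := fun y hy l hl hly => by
    have h3 : l * y * l⁻¹ * y⁻¹ ∈ Od[L] ⊓ T := ⟨by
      have := inv_mem (mem_Ck.1 hy.2 l hl)
      rwa [commutatorElement_inv, commutatorElement_def] at this, T.mul_mem hly (T.inv_mem hy.1)⟩
    rwa [(Od_odd L).inf_eq_bot' hT.pi, mem_bot] at h3
  have h3 : T ≤ C[T ⊓ Ck L] := le_C_iff.2 fun t ht y hy => by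
    have := h2 y hy t (hT.le ht) (conj_mem (norm_self T ht) hy.1)
    rwa [mul_inv_eq_one, mul_inv_eq_iff_eq_mul] at this
  have h5 : Abl T := (h.ea.abl.sup (abl_iff.2 (inf_le_left.trans h3)) (hAT.trans h3)).of_le h1
  refine ⟨hL.perf, le_antisymm (h1.trans (sup_le le_rfl fun g hg => ?_)) hAT ▸ hT⟩
  by_contra hgA
  refine not_mem_der1 hT ((der1_eq_bot.2 h5).le.trans bot_le) hAT hg.1 hgA (fun y hy l hl hly => ?_)
    (hL.perf.ge (hT.le hg.1))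
  rw [h2 y (zpowers_le.2 hg hy) l hl hly]; exact one_mem _

theorem S2.nosyl (h : MC D A) (h4 : ♯A = 4) (he : e ∈ S2 D A) (hP : Syl 2 ⊤ P) : ¬ P ≤ C{e} := by
  intro hPe
  have hc := S2.ctx h he
  obtain ⟨S, hS, hAS⟩ := Sylow_superset Nat.prime_two h.ea.two hc.max.le
  have hS' : Syl 2 ⊤ S := hP.of_card le_top (hS.card_eq (hP.of_le hPe le_top))
  have hSN := h.max.norm_of_two h.sc hS.pi hAS le_top
  have hSC : S ≤ C[A] := fun s hs => h.two4 h4 s (hSN hs) (hS.pi.piElt hs)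
  have hR : DP A (S ⊓ rho D e) S := ⟨inf_le_left.trans hSC,
    eq_bot_of_le (S2.disj h h4 he) (inf_le_inf_left A inf_le_right),
    le_antisymm (sup_le hAS inf_le_left) (S2.split h h4 he hS.pi hAS hS.le)⟩
  obtain ⟨Y1, hY, hN⟩ := exists_compl h.ea (hS'.of_le hSN le_top) hR
  obtain ⟨F, hF, hF4, hFS⟩ := h.four_group hS' hAS hSC hY hN fun e1 => he.2.2.1
    (e1 ▸ hS.le_of_norm (twoE_of_sq he.1).isPi (zpowers_le_C1 e)
      (H24.norm_of_cent (cents_symm (C_zpowers e ▸ hS.le))) (mem_zpowers e))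
  refine h.caseP hY hN (h.two4 h4) hF hF4 (hFS.trans inf_le_right) fun f hf f1 K hK h0 => ?_
  obtain ⟨L, hL, e1, -⟩ := S2.piece h h4 he
  have hfS := (S2.pump h h4 he ⟨⟨hS.le (hFS hf).1, hSC (hFS hf).1⟩, e1 ▸
    (hc.le_Ck_of_compl hL hY hN (h.two4 h4)).2 f ⟨(hFS hf).2, hS.le (hFS hf).1⟩
      (twoE_of_sq (hF.sq hf))⟩ f1 (hF.sq hf)).1
  obtain ⟨L', hL', -, -, hg⟩ := S2.piece h h4 hfS
  rwa [← (S2.ctx h hfS).uniq hK h0 hL']

theorem MC.no_piece4 (h : MC D A) (h4 : ♯A = 4) (ha : a ∈ A) (a1 : a ≠ 1) (K : Subgroup G) :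
    ¬ Piece D C{a} K := fun hK =>
  a1 (mem_bot.1 ((h.ctxA ha a1).inf_Ck4 h4 hK ▸ ⟨ha, C_le_Ck K (mem_C_iff_le_C1.2 hK.le')⟩))

theorem MC.Og4 (h : MC D A) (h4 : ♯A = 4) (ha : a ∈ A) (a1 : a ≠ 1) :
    Og D C{a} ≤ Od[Og D C{a}] ⊔ A :=
  (h.ctxA ha a1).struct.trans (sup_le le_rfl (sSup_le fun K hK => absurd hK (h.no_piece4 h4 ha a1 K)))

theorem S2.coset (h : MC D A) (h4 : ♯A = 4) (hz : z ∈ C[A]) (hzA : z ∉ A) (z2 : z * z = 1) :
    ∃ a ∈ A, z * a ∈ S2 D A := by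
  by_contra hne
  push Not at hne
  have hD := h.sc
  have hzA' : zpowers z ≤ C[A] := zpowers_le.2 hz
  have hE : EA (A ⊔ zpowers z) := H25.elem_sup h.ea (H25.elem_zpowers (by rwa [pow_two]))
    (cents_symm hzA')
  have hEA : A ⊔ zpowers z ≤ C[A] := cents_of_le hE.le_C le_sup_left
  have h8 : 8 ≤ ♯(A ⊔ zpowers z) := by
    obtain ⟨k, hk⟩ := card_dvd (le_sup_left : A ≤ A ⊔ zpowers z)
    have := card_lt (left_lt_sup.2 (mt zpowers_le.1 hzA))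
    rw [h4] at this hk
    omega
  have h1 : ∀ t ∈ A ⊔ zpowers z, t ≠ 1 → ∀ a ∈ A, a ≠ 1 → Og D (C{t} ⊓ C{a}) ≤ Od[C{t}] ⊔ A :=
    fun t ht t1 a ha a1 => by
      by_cases htA : t ∈ A
      · exact (Og_mono D inf_le_left).trans ((h.Og4 h4 htA t1).trans
          (sup_le_sup_right (hD.Od_Og_le _) _))
      by_contra hn
      obtain ⟨b, hb, y, hy, rfl⟩ := (mem_sup_of_norm (H24.norm_of_cent hzA')).1 ht
      rcases mem_zpowers_sq z2 hy with rfl | rfl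
      · exact htA (by rwa [mul_one])
      · exact hne b hb (mem_C.1 hz b hb ▸ ⟨hE.sq ht, hEA ht, htA, a, ha, a1, hn⟩)
  obtain ⟨W, hW, -, -, hWm⟩ := sf_good hE h8 (fun X => X ⊓ C[A] ≤ Od[C[A]])
    (fun X Y hX hY => (inf_le_inf_right _ hY).trans hX) fun t ht t1 => by
      have hEt : A ⊔ zpowers z ≤ C{t} := mem_C_iff_le_C1.1 (hE.le_C ht)
      have hO := pcore_nml ({2}ᶜ : Set ℕ) C{t}
      have hAO : A ≤ N[Od[C{t}]] := (le_sup_left.trans hEt).trans hO.norm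
      have hOA := pcore_le ({2}ᶜ : Set ℕ) C[A]
      have h2 : Od[C[A]] ⊓ C{t} ≤ N[⁅Od[C{t}], A⁆] :=
        norm_comm (inf_le_right.trans hO.norm) (H24.norm_of_cent (inf_le_left.trans hOA))
      refine ⟨⁅Od[C{t}], A⁆ ⊔ (Od[C[A]] ⊓ C{t}),
        ((Od_odd _).of_le (comm_le_left hAO)).sup ((Od_odd _).inf_left _) h2,
        norm_sup (norm_comm (hEt.trans hO.norm) (H24.norm_of_cent hEA))
          (norm_inf (hEA.trans (pcore_nml _ _).norm) (norm_of_le hEt)),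
        sup_le ((comm_le_left hAO).trans hO.le) inf_le_right, ?_, fun X hX hn hXt hg => ?_⟩
      · rw [← group_modr h2 (inf_le_left.trans hOA)]
        exact sup_le (h.comm_inf_le (Od_odd _) hAO) inf_le_left
      have hAX := le_sup_left.trans hn
      refine (coprime_cent_prod hAX (cop hX h.ea.two) hX.sol).sup_eq.ge.trans
        (sup_le_sup ?_ (le_inf hg (inf_le_left.trans hXt)))
      rw [← coprime_commGid hAX (cop hX h.ea.two) hX.sol]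
      refine comm_mono_left (cop1 h.ea.abl h.not_cyc h.ea.le_C hX.sol hAX hAX (cop hX h.ea.two)
        (cop hX h.ea.two) fun a ha a1 => ?_)
      refine ((isProd_sup hAO).hall_left (Od_odd _) (by rw [compl_compl]; exact h.ea.two)).le_of_nml
        (nml_sup_left hAO).norm (hX.of_le ((comm_mono_left inf_le_left).trans (comm_le_left hAX)))
        (le_trans ?_ (h1 t ht t1 a ha a1))
      exact ((h.ctx1 t1 (hEA ht)).mono (le_inf (le_sup_left.trans hEt)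
        (mem_C_iff_le_C1.1 (h.ea.le_C ha))) inf_le_left).comm_le_Og (inf_le_inf_right _ hXt)
  set V : G → Subgroup G := fun a => ⁅Od[C{a}], A⁆ with hV
  set M0 : Subgroup G := ⨆ a : {a // a ∈ A ∧ a ≠ 1}, V a with hM0
  have h5 : ∀ a ∈ A, a ≠ 1 → V a ≤ M0 := fun a ha a1 =>
    le_iSup (fun a : {a // a ∈ A ∧ a ≠ 1} => V a) ⟨a, ha, a1⟩
  have hG : ∀ M, N[A] ≤ M → (∀ a ∈ A, a ≠ 1 → V a ≤ M) → M = ⊤ := fun M hN hM => by
    refine h.gen_N hN fun a ha a1 => (h.Og4 h4 ha a1).trans (sup_le ((hD.Od_Og_le _).trans ?_)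
      ((norm_self A).trans hN))
    exact (coprime_cent_prod ((h.ctxA ha a1).max.le.trans (pcore_nml _ _).norm)
      (cop (Od_odd _) h.ea.two) (Od_sol _)).sup_eq.ge.trans
      (sup_le (hM a ha a1) (inf_le_right.trans ((C_le_N A).trans hN)))
  have h6 : M0 = ⊥ := by
    refine h.eq_bot_of_odd (hW.of_le (iSup_le fun ⟨a, ha, a1⟩ => ?_)) (hG _
      (fun n hn => mem_N_of_cj_le (cj_le_iff.2 (iSup_le fun ⟨a, ha, a1⟩ => cj_le_iff.1 ?_)))
      fun a ha a1 => norm_of_le (h5 a ha a1))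
    · have h7 := (hEA.trans (C_le_C1 ha)).trans (pcore_nml ({2}ᶜ : Set ℕ) C{a}).norm
      exact hWm _ ((Od_odd _).of_le (comm_le_left (le_sup_left.trans h7)))
        (norm_comm h7 (H24.norm_of_cent hEA)) (h.comm_inf_le (Od_odd _) (le_sup_left.trans h7))
    · rw [hV, cj_comm, ← pcore_cj, cj_C1, cj_of_mem_N hn]
      exact h5 _ (conj_mem hn ha) (by rwa [Ne, conj_eq_one_iff'])
  exact h.N_ne_top (hG _ le_rfl fun a ha a1 => (h5 a ha a1).trans (h6.le.trans bot_le))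

theorem MC.r2 (h : MC D A) (h4 : ♯A = 4) (hS : Syl 2 ⊤ S) (hAS : A ≤ S) :
    R2 D A S (S2 D A) (rho D) := by
  have hD := h.sc
  refine ⟨hD, h.max, h4, hS, hAS, fun s hs => h.two4 h4 s (h.max.norm_of_two hD hS.pi hAS le_top hs)
    (hS.pi.piElt hs), h.noidx', fun a ha a1 => ?_, fun e he => ?_, fun e he n hn => ⟨?_, ?_⟩,
    fun e he => S2.disj h h4 he, fun e he P => S2.split h h4 he, fun e he P hP hPC => ?_,
    fun e he x => S2.pump h h4 he, fun z => S2.coset h h4, fun e he => S2.perf h h4 he,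
    fun e he P => S2.nosyl h h4 he⟩
  · refine ((h.ctxA ha a1).max.frattini hD).sup_eq.ge.trans (sup_le ((h.Og4 h4 ha a1).trans
      (sup_le_sup (hD.Od_Og_le _) h.ea.le_C)) ?_)
    rw [inf_comm]; exact (cent4 h.ea h4 (h.two4 h4) ha a1).trans le_sup_right
  · obtain ⟨L, hL, e1, -⟩ := S2.piece h h4 he
    exact ⟨he.1, he.2.1, he.2.2.1, e1 ▸ C_le_Ck L (mem_C_iff_le_C1.2 hL.le')⟩
  · obtain ⟨h1, h2, h3, a, ha, a1, h5⟩ := he
    refine ⟨conj_sq h1 n, conj_mem (N_le_NC A hn) h2, mt (conj_mem_iff hn).1 h3, _, conj_mem hn ha,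
      by rwa [Ne, conj_eq_one_iff'], fun h6 => h5 ?_⟩
    rwa [← cj_C1, ← cj_C1, ← cj_inf, ← hD.cj_Og, pcore_cj, ← cj_of_mem_N hn, ← cj_sup, cj_le_cj] at h6
  · have key : ∀ e n : G, cj n (rho D e) ≤ rho D (n * e * n⁻¹) := fun e n => cj_le_iff.2 (sSup_le (by
      rintro _ ⟨K, hK, rfl⟩
      rw [← cj_le_iff, cj_Ck]
      exact le_sSup ⟨_, cj_C1 n e ▸ hK.cj hD n, rfl⟩))
    refine le_antisymm (le_cj_iff.2 ?_) (key e n)
    simpa [mul_assoc] using key (n * e * n⁻¹) n⁻¹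
  · have hc := S2.ctx h he
    obtain ⟨L, hL, e1, -⟩ := S2.piece h h4 he
    have h0 := hc.inf_Ck4 h4 hL
    obtain ⟨K0, k1, k0, k2⟩ := exists_cov_cent hL.perf hP (e1 ▸ hPC.trans inf_le_right)
      (hL.normA hc.max) (H24.norm_of_cent (cents_symm (hPC.trans (inf_le_left.trans inf_le_right))))
    obtain ⟨x, hx, x1⟩ := exists_ne_one h.ne
    obtain ⟨y, hy, y1, yx⟩ := exists_ne_two h4.ge x
    have nc : ∀ w ∈ A, w ≠ 1 → w ∉ Ck L := fun w hw w1 hw' => w1 (mem_bot.1 (h0 ▸ ⟨hw, hw'⟩))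
    obtain ⟨u, hu, -, h3⟩ := hc.trans_cov hL k0 k2 hx (nc x hx x1) hy (nc y hy y1)
    refine ⟨u, hu.2, fun hc => ?_, k1 hu.1⟩
    rw [conj_eq_of_mem_C hc hx] at h3
    refine nc _ (mul_mem hx hy) (fun e => yx ?_) h3
    rw [mul_eq_one_iff_inv_eq, h.ea.inv hx] at e
    exact e.symm

/-- the case `|A| = 4` -/
theorem MC.rank2 (h : MC D A) (h4 : ♯A = 4) : Syl 2 ⊤ A := by
  have hD := h.sc
  have := h.simple
  obtain ⟨S, hS, hAS, hSA⟩ := h.max.exists_syl hD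
  have hr := h.r2 h4 hS hAS
  have hΩ : ∀ x ∈ S, x * x = 1 → x ∈ A := fun x hx x2 => by_contra fun hxA => by
    obtain ⟨a, -, ha⟩ := hr.coset x (hr.cent hx) hxA x2
    exact hr.false ⟨_, ha⟩
  obtain ⟨P, rfl⟩ := hS.exists_sylow_top Nat.prime_two
  by_cases hab : IsMulCommutative P
  swap
  · refine absurd (h.gen _ fun a ha a1 => H17.lyons P A (h.ea.klein h4) hAS hr.cent hΩ hab
      (fun x y hx hy => ?_) ha a1) h.N_ne_top
    have key : ∀ x : G, orderOf x = 2 → ∃ g : G, g * x * g⁻¹ ∈ A ∧ g * x * g⁻¹ ≠ 1 := fun x hx => by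
      have x2 : x * x = 1 := by rw [← pow_two, ← hx, pow_orderOf_eq_one]
      obtain ⟨g, -, hg⟩ := Sylow_Jsub Nat.prime_two hS (twoE_of_sq x2).isPi le_top
      refine ⟨g, hΩ _ (hg (conj_mem_cj g (mem_zpowers x))) (conj_sq x2 g), ?_⟩
      rw [Ne, conj_eq_one_iff']; rintro rfl; simp at hx
    obtain ⟨g, hg, g1⟩ := key x hx
    obtain ⟨k, hk, k1⟩ := key y hy
    obtain ⟨n, -, e⟩ := h.trans4 h4 _ hg g1 _ hk k1
    refine isConj_iff.2 ⟨k⁻¹ * n * g, ?_⟩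
    calc _ = k⁻¹ * (n * (g * x * g⁻¹) * n⁻¹) * k := by group
      _ = y := by rw [← e]; group
  have hR : H22.Rk2 (P : Subgroup G) := ⟨P.isPGroup', fun x hx g => hab.is_comm.comm g x, by
      rw [← h4]
      exact Nat.card_congr ⟨fun x => ⟨x.1, hΩ _ x.1.2 (congrArg Subtype.val x.2)⟩,
        fun x => ⟨⟨x, hAS x.2⟩, Subtype.ext (h.ea.sq x.2)⟩, fun _ => rfl, fun _ => rfl⟩⟩
  obtain ⟨ν, hν, hνA⟩ : ∃ ν ∈ N[A] ⊓ N[(P : Subgroup G)], ν ∉ C[A] := by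
    by_contra hne
    push Not at hne
    obtain ⟨a, ha, a1⟩ := exists_ne_one h.ne
    obtain ⟨n, hn, h1⟩ := h.exists_move ha a1
    exact h1 (conj_eq_of_mem_C ((Frattini_arg Nat.prime_two (C_nml_N A)
      (hS.of_le hr.cent le_top)).sup_eq.ge.trans (sup_le le_rfl hne) hn) ha)
  let α : MulAut (P : Subgroup G) := (P : Subgroup G).normalizerMonoidHom ⟨ν, hν.2⟩
  have hf' : ∀ v : (P : Subgroup G), v * v = 1 → α v = v → v = 1 := fun v h1 h2 => by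
    by_contra v1
    exact hνA (cent4 h.ea h4 (h.two4 h4) (hΩ v v.2 (congrArg Subtype.val h1))
      (fun e => v1 (Subtype.ext e)) ⟨hν.1, mem_C1_iff_conj.2 (congrArg Subtype.val h2)⟩)
  rcases hR.homocyclic_or_u34 α fun s t s2 s1 t2 t1 => by
    rcases hR.cases s2 (by rw [← map_mul, s2, map_one]) t2 s1 (by simpa using s1)
      (fun e => s1 (hf' s s2 e.symm)) with e | e | e | e
    · exact absurd e t1
    · exact ⟨0, e.symm⟩
    · exact ⟨1, e.symm⟩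
    · exact ⟨2, by rw [e, ← (hR.cube_fix hf' s2).2 s1]; rfl⟩ with ⟨n, hn, ⟨e⟩⟩ | ⟨β, hβ⟩
  · rcases hn.eq_or_lt with rfl | hn
    · have h5 : ♯(P : Subgroup G) = 4 := by
        rw [Nat.card_congr e.toEquiv, Nat.card_congr Multiplicative.toAdd, Nat.card_prod, Nat.card_zmod]
        rfl
      exact (eq_of_card_eq hAS (h4.trans h5.symm)).symm ▸ hS
    · have h5 := (Cfsg.Agent.S0949.result P n hn e fun N hN ho =>
        h.eq_bot_of_odd (oddG_iff.2 ho) (top_le_iff.1 (nml_top N).norm)).1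
      exact absurd (abl_top_iff.1 (h5.eq_bot_or_eq_top.resolve_left (ne_bot_of_le h.ne hAS) ▸ hab)) h.nab
  · obtain ⟨x, y, hxy⟩ := hβ.nonab
    exact absurd (hab.is_comm.comm x y) hxy

end Gold
end H26
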