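import Mathlib
import Cfsg.Agent.H26.GM1
import Cfsg.Agent.H26.GM2
import Cfsg.Agent.H26.GCaseD
import Cfsg.Agent.H26.GLA

/-! GOLD: the structure of the minimal configuration. -/

set_option autoImplicit false
set_option linter.unusedSectionVars false
set_option linter.unusedVariables false

namespace H26
namespace Gold

open Cfsg H24 Subgroup
open scoped commutatorElement

universe u

variable {G : Type u} [Group G] [Finite G] {D : Set G} {A B B' H K K' K0 L L' M P S T X : Subgroup G}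
  {a b e g x y z : G}

/-- stable pairs -/
structure St (D : Set G) (A B L : Subgroup G) : Prop where
  ne : B ≠ ⊥
  piece : Piece D C[B] L
  eq : A ⊓ Ck L = B
  up : ∀ b ∈ B, b ≠ 1 → ∃ K, Piece D C{b} K ∧ Cov L K ∧ B ≤ Ck K

theorem St.le (h : St D A B L) : B ≤ A := h.eq.ge.trans inf_le_left

theorem St.cj (h : St D A B L) (hD : SC D) (hg : g ∈ N[A]) : St D A (cj g B) (cj g L) := by
  refine ⟨by simpa using h.ne, cj_C g B ▸ h.piece.cj hD g, ?_, fun b hb b1 => ?_⟩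
  · rw [← cj_Ck, ← h.eq, cj_inf, cj_of_mem_N hg]
  · obtain ⟨b, hb', rfl⟩ := mem_cj'.1 hb
    obtain ⟨K, hK, h0, hB⟩ := h.up b hb' (by rwa [Ne, conj_eq_one_iff'] at b1)
    exact ⟨_, cj_C1 g b ▸ hK.cj hD g, h0.cj g, cj_Ck g K ▸ cj_mono g hB⟩

theorem St.ctx (h : St D A B L) (hm : MC D A) : Ctx D C[B] A :=
  hm.ctxC h.ne (cents_of_le hm.ea.le_C h.le)

theorem St.uniq (h : St D A B L) (hm : MC D A) (hK : Piece D C[B] K) : L = K :=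
  (h.ctx hm).eq_of_le hK h.piece (h.eq.le.trans ((cents_symm hK.le').trans (C_le_Ck K)))

theorem St.inf_Ck (h : St D A B L) (hm : MC D A) (h0 : Cov L K) (hB : B ≤ Ck K) : A ⊓ Ck K = B :=
  le_antisymm ((le_inf inf_le_left (le_Ck_of_le h0.le (inf_le_left.trans
    (h.piece.normA (h.ctx hm).max)) inf_le_right)).trans h.eq.le) (le_inf h.le hB)

theorem St.orth (h : St D A B L) (hm : MC D A) (h' : St D A B' L') (hne : B' ≠ B) (hi : B' ⊓ B ≠ ⊥) :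
    ⁅A, L' ⊓ N[A]⁆ ≤ B := by
  obtain ⟨v, hv, v1⟩ := exists_ne_one hi
  obtain ⟨K, hK, k0, k1⟩ := h.up v hv.2 v1
  obtain ⟨K', hK', l0, l1⟩ := h'.up v hv.1 v1
  have h1 := hK.le_Ck_of_ne hK' fun e => hne (by rw [← h'.inf_Ck hm l0 l1, e, h.inf_Ck hm k0 k1])
  rw [← h.inf_Ck hm k0 k1]
  exact le_inf (comm_le_left inf_le_right) ((comm_mono_right (inf_le_left.trans (l0.le.trans h1))).trans
    (comm_le_right (norm_Ck (hK.normA (hm.ctxA (h.le hv.2) v1).max))))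

theorem MC.exists_st (h : MC D A) (ha : a ∈ A) (a1 : a ≠ 1) (hK : Piece D C{a} K) :
    ∃ B L, St D A B L ∧ ∀ b ∈ A, b ≠ 1 → ∀ K, Piece D C{b} K →
      (A ⊓ Ck K).relIndex A ≤ B.relIndex A := by
  have hD := h.sc
  let 𝒦 : Set (Subgroup G) := {K | ∃ X ≤ A, X ≠ ⊥ ∧ Piece D C[X] K}
  have mem1 : ∀ b ∈ A, b ≠ 1 → ∀ K, Piece D C{b} K → K ∈ 𝒦 := fun b hb b1 K hK =>
    ⟨zpowers b, zpowers_le.2 hb, by rwa [Ne, zpowers_eq_bot], (C_zpowers b).symm ▸ hK⟩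
  obtain ⟨K1, k1, m1⟩ := 𝒦.exists_max_image (fun K => (A ⊓ Ck K).relIndex A) (Set.toFinite _)
    ⟨K, mem1 a ha a1 K hK⟩
  obtain ⟨K2, ⟨⟨X, hXA, X1, hK2⟩, k2⟩, m2⟩ := Set.exists_max_image
    {K | K ∈ 𝒦 ∧ (A ⊓ Ck K1).relIndex A ≤ (A ⊓ Ck K).relIndex A}
    (fun K => (Ck K).relIndex K) (Set.toFinite _) ⟨K1, k1, le_rfl⟩
  have hc := h.ctxC X1 (cents_of_le h.ea.le_C hXA)
  have hXB : X ≤ A ⊓ Ck K2 := le_inf hXA ((cents_symm hK2.le').trans (C_le_Ck _))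
  have B1 := ne_bot_of_le X1 hXB
  have hcB := h.ctxC B1 (cents_of_le h.ea.le_C inf_le_left)
  obtain ⟨K0, l1, l0, l2⟩ := exists_cov_cent hK2.perf (h.ea.two.inf_left _) inf_le_right
    (hK2.normA hc.max) (H24.norm_of_cent hcB.max.le)
  obtain ⟨L, hL, -, p1, p2, -⟩ := hc.pump hcB hK2 l0 l2 l1
  have e : A ⊓ Ck L = A ⊓ Ck K2 := le_antisymm (le_inf inf_le_left p1)
    (le_inf inf_le_left ((cents_symm hL.le').trans (C_le_Ck _)))
  refine ⟨_, L, ⟨B1, hL, e, fun b hb b1 => ?_⟩, fun b hb b1 K hK => (m1 K (mem1 b hb b1 K hK)).trans k2⟩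
  obtain ⟨K', hK', -, q1, q2, q3⟩ := hcB.pump (h.ctxA hb.1 b1) hL (Cov.refl hL.perf)
    (hL.normA hcB.max) (hL.le'.trans (C_le_C1 hb))
  have q4 : A ⊓ Ck K' ≤ A ⊓ Ck K2 := e ▸ le_inf inf_le_left q1
  have q5 := mem1 b hb.1 b1 K' hK'
  have q6 := relIndex_le_of_le_left q4 (relIndex_ne_zero' _ A)
  refine ⟨K', hK', q3 ((m2 K' ⟨q5, k2.trans q6⟩).trans p2), le_trans (eq_of_card_ge q4 ?_).ge inf_le_right⟩
  have q7 := card_mul_relIndex (inf_le_left : A ⊓ Ck K' ≤ A)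
  have q8 := card_mul_relIndex (inf_le_left : A ⊓ Ck K2 ≤ A)
  rw [le_antisymm ((m1 K' q5).trans k2) q6, ← q8] at q7
  exact (Nat.eq_of_mul_eq_mul_right (relIndex_pos _ _) q7).ge

theorem MC.c8 (h : MC D A) (h8 : 8 ≤ ♯A) : C8 D A := by
  have hD := h.sc
  obtain ⟨a, ha, a1, K, hK⟩ : ∃ a ∈ A, a ≠ 1 ∧ ∃ K, Piece D C{a} K := by
    by_contra hne
    push Not at hne
    exact h.caseD h8 ∅ (by simp) (by simp) (by simp) (by simp) fun b hb b1 K hK => absurd hK (hne b hb b1 K)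
  obtain ⟨B, L, hs, hmax⟩ := h.exists_st ha a1 hK
  have hc := hs.ctx h
  have hT : Trs N[A] A B (L ⊓ N[A]) := hs.eq ▸ hc.trs hs.piece
  have eU : ∀ g ∈ N[A], cj g (L ⊓ N[A]) = cj g L ⊓ N[A] := fun g hg => by rw [cj_inf, cj_of_mem hg]
  have n2 : ∀ g ∈ N[A], cj g B ≠ B → cj g B ⊓ B ≠ ⊥ → ⁅A, cj g (L ⊓ N[A])⁆ ≤ B := fun g hg h1 h2 =>
    eU g hg ▸ hs.orth h (hs.cj hD hg) h1 h2
  rcases la1 h.ea le_rfl h.irr h.noidx hs.ne hT
    (fun g hg e => by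
      have h1 := (hs.cj hD hg).piece
      rw [e] at h1
      rw [eU g hg, ← hs.uniq h h1]) n2
    (by have := hc.n4 hs.piece; rwa [hs.eq] at this) with h1 | ⟨h1, h2, h3, h4⟩
  · refine (h.caseD h8 {p | ∃ g ∈ N[A], p = (cj g B, cj g L)} ?_ ?_ ?_ ?_ fun b hb b1 K hK => ?_).elim
    · rintro _ ⟨g, hg, rfl⟩; exact ⟨(hs.cj hD hg).piece, (hs.cj hD hg).eq⟩
    · rintro _ ⟨g, hg, rfl⟩ _ ⟨k, hk, rfl⟩
      have := h1 (k⁻¹ * g) (mul_mem (inv_mem hk) hg)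
      rwa [← card_cj k, cj_inf, cj_mul, cj_cj_inv] at this
    · rintro _ ⟨g, hg, rfl⟩; exact (hs.cj hD hg).up
    · rintro _ ⟨g, hg, rfl⟩ k hk; exact ⟨k * g, mul_mem hk hg, by simp only [cj_mul]⟩
    · obtain ⟨g, hg, h2⟩ := la2 h.ea le_rfl h.irr hT (fun g hg h2 => n2 g hg h2 fun e => by
        have := h1 g hg; rw [e] at this; simp at this) ((h.ctxA hb b1).trs hK) (hmax b hb b1 K hK)
      exact ⟨_, ⟨g, hg, rfl⟩, h2.trans inf_le_right⟩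
  · refine ⟨h, h1, h3, h4, fun x hx x1 => ?_⟩
    obtain ⟨b, hb, b1⟩ := exists_ne_one hs.ne
    obtain ⟨g, hg, rfl⟩ := h3 b (hs.le hb) b1 x hx x1
    have hs' := hs.cj hD hg
    rw [← zpowers_eq_of_prime (h2 ▸ Nat.prime_two) hb b1, cj_zpowers] at hs'
    exact ⟨_, C_zpowers (g * b * g⁻¹) ▸ hs'.piece, hs'.eq⟩

/-- the structure of the minimal configuration -/
theorem MC.main (h : MC D A) : Syl 2 ⊤ A ∧ (♯A = 4 ∨ C8 D A) ∧
    ∀ x ∈ A, x ≠ 1 → ∀ y ∈ A, y ≠ 1 → ∃ g ∈ N[A], y = g * x * g⁻¹ := by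
  by_cases h8 : 8 ≤ ♯A
  · exact ⟨(h.c8 h8).syl, Or.inr (h.c8 h8), (h.c8 h8).trans⟩
  have h4 : ♯A = 4 := by
    obtain ⟨k, hk⟩ := h.ea.two.card_eq_pow Nat.prime_two
    have h1 := one_lt_card h.ne
    have h2 : ♯A ≠ 2 := fun e => h.not_cyc (cyc_of_prime (e ▸ Nat.prime_two))
    rw [hk] at h8 h1 h2 ⊢
    rcases k with _ | _ | _ | k
    · simp at h1
    · simp at h2
    · rfl
    · exact absurd (Nat.pow_le_pow_right two_pos (by omega : 3 ≤ k + 1 + 1 + 1)) h8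
  exact ⟨h.rank2 h4, Or.inl h4, h.trans4 h4⟩

theorem MC.typeG (h : MC D A) : TZ ⊤ A A ∧ Ty2 (⊤ : Subgroup G) A A := by
  obtain ⟨h1, h2, h3⟩ := h.main
  refine ⟨⟨h1, fun x => ⟨fun hx => ⟨hx, h.ea.sq hx⟩, fun hx => hx.1⟩, ?_, fun x hx x1 y hy y1 => ?_⟩,
    rfl, fun M _ hM => (h.gen M fun a ha a1 => top_inf_eq C{a} ▸ hM a ha a1).ge⟩
  · rcases h2 with e | e
    · exact e.ge
    · rw [e.card]; norm_num
  · obtain ⟨g, hg, e⟩ := h3 x hx x1 y hy y1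
    exact ⟨g, mem_top g, hg, e⟩

end Gold
end H26
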