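import Mathlib
import Cfsg.Agent.H26.GM3
import Cfsg.Agent.H26.GBender
import Cfsg.Agent.S1174

/-! GOLD: the main theorem on strongly closed abelian `2`-subgroups. -/

set_option autoImplicit false
set_option linter.unusedSectionVars false
set_option linter.unusedVariables false

namespace H26
namespace Gold

open Cfsg H24 Subgroup
open scoped commutatorElement

universe u

variable {G : Type u} [Group G] [Finite G] {D : Set G} {A B S : Subgroup G}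

/-- the conjugates of the nonidentity elements of `A` -/
def DC (A : Subgroup G) : Set G := {x | ∃ a ∈ A, a ≠ 1 ∧ ∃ g, x = g * a * g⁻¹}

theorem DC.mem (hc : IsStronglyClosed B S) {x g : G} (hx : x ∈ DC B) (hS : x ∈ cj g S) : x ∈ cj g B := by
  obtain ⟨a, ha, -, k, rfl⟩ := hx
  rw [mem_cj] at hS ⊢
  have e : g⁻¹ * (k * a * k⁻¹) * g = g⁻¹ * k * a * (g⁻¹ * k)⁻¹ := by group
  rw [e] at hS ⊢
  exact hc.2 a ha _ hS

theorem sc_DC (hS : Syl 2 ⊤ S) (hB : EA B) (hc : IsStronglyClosed B S) : SC (DC B) := by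
  have h2 : ∀ d ∈ DC B, d * d = 1 := by
    rintro _ ⟨a, ha, -, k, rfl⟩; exact conj_sq (hB.sq ha) k
  refine ⟨?_, h2, ?_, fun d hd e he h => ?_⟩
  · rintro _ ⟨a, ha, a1, k, rfl⟩; rwa [Ne, conj_eq_one_iff']
  · rintro _ ⟨a, ha, a1, k, rfl⟩ g; exact ⟨a, ha, a1, g * k, by group⟩
  have hn : zpowers d ≤ N[zpowers (d * e)] := zpowers_le.2 (mem_N_of_cj_le (by
    rw [cj_zpowers, zpowers_le]
    have : d * (d * e) * d⁻¹ = (d * e)⁻¹ := by
      rw [← mul_assoc, h2 d hd, one_mul, mul_inv_rev, H6.inv_eq_of_mul_self (h2 e he)]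
    rw [this]; exact inv_mem (mem_zpowers _)))
  obtain ⟨g, -, hg⟩ := Sylow_subJ Nat.prime_two hS (h.isPi.sup (twoE_of_sq (h2 d hd)).isPi hn) le_top
  have h1 := hg (mem_sup_right (mem_zpowers d))
  have h3 := (mul_mem_cancel_left h1).1 (hg (mem_sup_left (mem_zpowers _)))
  obtain ⟨y, hy, e1⟩ := mem_cj'.1 (mul_mem (DC.mem hc hd h1) (DC.mem hc he h3))
  by_cases y1 : y = 1
  · exact Or.inl (by rw [e1, y1]; group)
  · exact Or.inr ⟨y, hy, y1, g, e1⟩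

theorem DC.self {a : G} (ha : a ∈ B) (a1 : a ≠ 1) : a ∈ DC B := ⟨a, ha, a1, 1, by group⟩

theorem maxD_DC (hS : Syl 2 ⊤ S) (hB : EA B) (hc : IsStronglyClosed B S) : MaxD (DC B) ⊤ B := by
  have hD := sc_DC hS hB hc
  have e : Og (DC B) S = B := le_antisymm (Og_le_iff.2 fun d hd h => by
    simpa using DC.mem (g := 1) hc hd (by simpa using h)) fun a ha => by
      by_cases a1 : a = 1
      · rw [a1]; exact one_mem _
      · exact mem_Og (DC.self ha a1) (hc.1 ha)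
  have := maxD_of_syl hD hS
  rwa [e] at this

theorem exists_mc [IsSimpleGroup G] (nab : ¬ IsMulCommutative G) (ih : IH.{u} (Nat.card G))
    (hD : SC D) (hB : MaxD D ⊤ B) (B1 : B ≠ ⊥) (hse : ¬ ∃ H : Subgroup G, IsStronglyEmbedded H) :
    ∃ A ≤ B, MC (DC A) A := by
  obtain ⟨A, hAB, ⟨A1, hN⟩, hmin⟩ := exists_min (P := fun X => X ≠ ⊥ ∧ N[B] ≤ N[X]) (H := B) ⟨B1, le_rfl⟩
  obtain ⟨S, hS, hBS, -⟩ := hB.exists_syl hD
  have hE := hB.ea hD
  have hc : IsStronglyClosed A S := ⟨hAB.trans hBS, fun x hx g hg => by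
    by_cases x1 : x = 1
    · simp [x1]
    obtain ⟨n, hn, e⟩ := hB.fusion_cent hD (hE.le_C (hAB hx)) (mem_top g) (hE.le_C
      (hB.mem_of_two hD hS.pi hBS le_top (hD.conj _ (hB.memD (hAB hx) x1) g) hg))
    exact e ▸ conj_mem (hN hn.2) hx⟩
  have hA := hE.of_le hAB
  refine ⟨A, hAB, ‹_›, nab, sc_DC hS hA hc, ih, maxD_DC hS hA hc, A1, fun X hX hn => ?_, fun M hM => ?_⟩
  · exact or_iff_not_imp_left.2 fun X1 => hmin X ⟨X1, hN.trans hn⟩ hX
  · obtain ⟨P, rfl⟩ := hS.exists_sylow_top Nat.prime_two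
    by_contra hne
    refine hse (Cfsg.Agent.S1174.result P A A1 hc fun e => hne (top_le_iff.1 (e ▸ iSup_le fun t => ?_)))
    exact hM t t.2.1 fun e1 => by have := t.2.2; rw [e1] at this; simp at this

theorem ih_all (n : ℕ) : IH.{u} n := by
  induction n with
  | zero => intro X _ _ h; exact absurd h (Nat.not_lt_zero _)
  | succ n ih =>
    intro X _ _ hX hs nab D hD ⟨d, hd⟩
    by_cases hse : ∃ H : Subgroup X, IsStronglyEmbedded H
    · obtain ⟨H, hH⟩ := hse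
      obtain ⟨T, Z, h1, h2⟩ := ty1_of_stronglyEmbedded nab hH
      exact ⟨T, Z, h1, Or.inl h2⟩
    obtain ⟨B, hB, hd'⟩ := exists_maxD (B := zpowers d) hD le_top fun b hb =>
      (mem_zpowers_sq (hD.sq d hd) hb).imp_right fun e => by rw [e]; exact hd
    obtain ⟨A, -, hA⟩ := exists_mc nab (ih.mono (Nat.lt_succ_iff.1 hX)) hD hB
      (ne_bot_of_mem (hd' (mem_zpowers d)) (hD.ne d hd)) hse
    exact ⟨A, A, hA.typeG.1, Or.inr hA.typeG.2⟩

theorem ctx_all {H : Subgroup G} (hD : SC D) (hA : MaxD D H A) : Ctx D H A := ⟨hD, ih_all _, hA⟩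

theorem exists_mc' [IsSimpleGroup G] (nab : ¬ IsMulCommutative G) (hD : SC D) (hB : MaxD D ⊤ B)
    (B1 : B ≠ ⊥) (hse : ¬ ∃ H : Subgroup G, IsStronglyEmbedded H) : MC D B := by
  obtain ⟨A, hAB, hA⟩ := exists_mc nab (ih_all _) hD hB B1 hse
  have e := hA.main.1.eq_of_le (hB.two hD) hAB le_top
  subst e
  exact ⟨hA.simple, hA.nab, hD, hA.ih, hB, hA.ne, hA.irr, hA.gen⟩

theorem abelian_sylow [IsSimpleGroup G] (nab : ¬ IsMulCommutative G) (hS : Syl 2 ⊤ S) (hab : Abl S) :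
    (∃ H : Subgroup G, IsStronglyEmbedded H) ∨ (EA S ∧ ♯S = 4) ∨ (EA S ∧ ♯S = 8 ∧
      (∀ x ∈ S, x ≠ 1 → ∀ y ∈ S, y ≠ 1 → ∃ g ∈ N[S], y = g * x * g⁻¹) ∧
      ∀ a ∈ S, a ≠ 1 → ∃ K, Piece {x : G | x * x = 1 ∧ x ≠ 1} C{a} K ∧ S ⊓ Ck K = zpowers a) := by
  refine or_iff_not_imp_left.2 fun hse => ?_
  have hD : SC {x : G | x * x = 1 ∧ x ≠ 1} := by
    refine ⟨fun d hd => hd.2, fun d hd => hd.1, fun d hd g => ⟨conj_sq hd.1 g, by
      rw [Ne, conj_eq_one_iff']; exact hd.2⟩, fun d hd e he h => ?_⟩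
    have hn : zpowers d ≤ N[zpowers (d * e)] := zpowers_le.2 (mem_N_of_cj_le (by
      rw [cj_zpowers, zpowers_le]
      have : d * (d * e) * d⁻¹ = (d * e)⁻¹ := by
        rw [← mul_assoc, hd.1, one_mul, mul_inv_rev, H6.inv_eq_of_mul_self he.1]
      rw [this]; exact inv_mem (mem_zpowers _)))
    obtain ⟨g, -, hg⟩ := Sylow_subJ Nat.prime_two hS (h.isPi.sup (twoE_of_sq hd.1).isPi hn) le_top
    have h1 := hg (mem_sup_right (mem_zpowers d))
    have h3 := (mul_mem_cancel_left h1).1 (hg (mem_sup_left (mem_zpowers _)))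
    refine or_iff_not_imp_left.2 fun h4 => ⟨?_, h4⟩
    rw [mul_assoc, ← mul_assoc e, (hab.cj g).comm h3 h1, mul_assoc, he.1, mul_one, hd.1]
  have S1 : S ≠ ⊥ := fun e => nab (by
    have h1 := OddG.sol (hS.isPi_compl_of_eq_bot e)
    refine abl_top_iff.1 (der1_eq_bot.1 ?_)
    exact (nml_top_iff.1 (der1_nml ⊤)).eq_bot_or_eq_top.resolve_right (h1.der1_lt top_ne_bot).ne)
  obtain ⟨d, hd, d1, d2⟩ := TwoG.exists_inv hS.pi S1
  have h := exists_mc' nab hD (maxD_of_syl hD hS) (ne_bot_of_mem (mem_Og ⟨d2, d1⟩ hd) d1) hse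
  rw [← h.main.1.eq_of_le hS.pi (Og_le _ _) le_top] at h
  exact h.main.2.1.imp (fun e => ⟨h.ea, e⟩) fun e => ⟨h.ea, e.card, e.trans, e.piece⟩

theorem goldschmidt [IsSimpleGroup G] (hS : Syl 2 ⊤ S) (A1 : A ≠ ⊥) (hab : Abl A)
    (hc : IsStronglyClosed A S) : Abl S ∨ ∃ H : Subgroup G, IsStronglyEmbedded H := by
  refine or_iff_not_imp_right.2 fun hse => ?_
  by_cases nab : IsMulCommutative G
  · exact (abl_top_iff.2 nab).of_le le_top
  let B : Subgroup G :=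
    { carrier := {x | x ∈ A ∧ x * x = 1}
      one_mem' := ⟨one_mem A, mul_one 1⟩
      inv_mem' := fun {x} hx => by rw [H6.inv_eq_of_mul_self hx.2]; exact hx
      mul_mem' := fun {x y} hx hy => ⟨mul_mem hx.1 hy.1, by
        rw [mul_assoc, ← mul_assoc y, hab.comm hy.1 hx.1, mul_assoc, hy.2, mul_one, hx.2]⟩ }
  have hB : EA B := ea_of_sq fun a ha => ha.2
  have hc' : IsStronglyClosed B S :=
    ⟨fun x hx => hc.1 hx.1, fun x hx g hg => ⟨hc.2 x hx.1 g hg, conj_sq hx.2 g⟩⟩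
  obtain ⟨d, hd, d1, d2⟩ := TwoG.exists_inv (hS.pi.of_le hc.1) A1
  have h := exists_mc' nab (sc_DC hS hB hc') (maxD_DC hS hB hc') (ne_bot_of_mem (H := B) ⟨hd, d2⟩ d1) hse
  exact h.main.1.eq_of_le hS.pi hc'.1 le_top ▸ hB.abl

end Gold
end H26
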