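import Mathlib
import Cfsg.Agent.H26.S04

/-! # B & G §5: narrow `p`-groups -/

set_option autoImplicit false
set_option linter.unusedSectionVars false
set_option linter.unusedVariables false

namespace H26

open Cfsg H24 Subgroup
open H25 hiding abl_iff cyc_zpowers cyc_bot exists_prime_dvd_card cyc_cj
open scoped commutatorElement

universe u

variable {G : Type u} [Group G] [Finite G]
variable {A E K M R S X : Subgroup G} {p q : ℕ}

theorem narrow_map {G' : Type*} [Group G'] [Finite G'] (hp : p.Prime) {f : G →* G'}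
    (hf : Function.Injective f) : Narrow p (R.map f) ↔ Narrow p R := by
  unfold Narrow
  rw [prank_map hp R hf]
  refine imp_congr_right fun _ => ⟨fun ⟨E, h1, h2⟩ => ?_, fun ⟨E, h1, h2⟩ => ⟨_, h1.map hf, h2.map hf⟩⟩
  have e := map_comap_eq_self (h1.le.trans (map_le_range f R))
  rw [← e] at h1 h2
  exact ⟨_, (pnElem_map_iff hf).mp h1, (pmaxElem_map_iff hf).mp h2⟩

theorem narrowJ (hp : p.Prime) (g : G) : Narrow p (cj g R) ↔ Narrow p R :=
  narrow_map hp (conj_injective' g)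

theorem narrow_top_subtype (hp : p.Prime) : Narrow p (⊤ : Subgroup R) ↔ Narrow p R := by
  rw [← narrow_map hp R.subtype_injective, map_subtype_top]

theorem narrow_equiv {G' : Type*} [Group G'] [Finite G'] (hp : p.Prime) {R' : Subgroup G'}
    (e : R ≃* R') : Narrow p R ↔ Narrow p R' := by
  rw [← narrow_top_subtype hp, ← narrow_top_subtype hp (R := R'),
    ← narrow_map hp (f := e.toMonoidHom) e.injective, map_top_of_surjective _ e.surjective]

theorem narrow_quo (hp : p.Prime) (hR : R ≤ N[K]) (h : K ⊓ R = ⊥) :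
    Narrow p (quo R K) ↔ Narrow p R := (narrow_equiv hp (quoEquiv hR h)).symm

theorem odd_prime_of_prank (hp : p.Prime) (hodd : Odd ♯R) (hr : 0 < prank p R) : p ≠ 2 :=
  ne_two_of_odd_dvd hodd ((prank_pos_iff hp).mp hr)

/-- Lemma 5.1(a). -/
theorem rank3_SCN3 (hp : p.Prime) (hR : IsPi {p} R) (hodd : Odd ♯R) (hr : 2 < prank p R) :
    ∃ B, SCNn 3 R B := by
  by_contra h
  have := (rank2_SCN3_empty hp hR hodd).mpr fun A hA => h ⟨A, hA⟩
  rw [rank_pgroup hp hR] at this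
  omega

theorem le_card_mul_of_relIndex_dvd {H : Subgroup G} (hp : p.Prime) (h : K.relIndex H ∣ p) :
    ♯H ≤ ♯(H ⊓ K) * p := by
  rw [← card_inf_mul_relIndex K H, inf_comm]
  exact Nat.mul_le_mul_left _ (Nat.le_of_dvd hp.pos h)

/-- Lemma 5.1(b). -/
theorem normal_p2Elem_SCN3 (hp : p.Prime) (hR : IsPi {p} R) (hodd : Odd ♯R) (hr : 2 < prank p R)
    (hE : PnElem p 2 R E) (hn : E ⊴ R) : ∃ B, SCNn 3 R B ∧ E ≤ B := by
  obtain ⟨B, hB, h3⟩ := odd_rank3_normal_p3Elem hp hR hodd hr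
  have h1 : E ⊔ B ⊓ C[E] ⊴ R := hn.sup ⟨inf_le_left.trans hB.le, norm_inf hB.norm (norm_C hn.norm)⟩
  have h2 := elem_sup hE.elem (h3.elem.mono (inf_le_left : B ⊓ C[E] ≤ B)) (cents_symm inf_le_right)
  obtain ⟨n, h4⟩ := pnElem_of_elem hp h1.le h2
  obtain ⟨A, hA, h5⟩ := exists_SCN (hR.nil hp) h1 h2.abl
  refine ⟨A, ⟨hA, le_trans (hE.rank_lt h4 hp (left_lt_sup.mpr fun h => ?_))
    ((h4.of_le h5).le_rank hp)⟩, le_sup_left.trans h5⟩
  have h6 := le_card_mul_of_relIndex_dvd hp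
    (pgroup_relIndex_cent_abelem2 hp (h3.isPi hp) (hB.le.trans hn.norm) hE.elem hE.card.dvd)
  rw [h3.card, pow_succ, Nat.mul_le_mul_right_iff hp.pos, ← hE.card] at h6
  have h7 : E ≤ B := eq_of_card_ge h h6 ▸ inf_le_left
  exact absurd (h3.rank_le hE hp ((le_inf le_rfl (h3.abl.cents le_rfl h7)).trans h)) (by norm_num)

theorem comm_Ohm1_ucn2_le (hp : p.Prime) (hR : IsPi {p} R) (hodd : Odd ♯R) :
    ⁅omegaOne p (ucn 2 R), R⁆ ≤ omegaOne p Z[R] := fun x hx =>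
  mem_omegaOne (((comm_mono_left (omegaOne_le p _)).trans (ucn_two_comm_le R)) hx)
    (Ohm1_ucn2_pow hp hR hodd x (comm_le_left (norm_omegaOne p (ucn_nml 2 R).norm) hx))

theorem PmaxElem.not_nml_of_rank3 (hp : p.Prime) (hR : IsPi {p} R) (hodd : Odd ♯R)
    (hr : 2 < prank p R) (hE : PnElem p 2 R E) (hE' : PmaxElem p R E) : ¬ E ⊴ R := fun hn => by
  obtain ⟨B, ⟨hB, h3⟩, hEB⟩ := normal_p2Elem_SCN3 hp hR hodd hr hE hn
  rw [rank_pgroup hp (hR.of_le hB.le), ← prank_omegaOne hp,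
    (hE'.restrict hEB hB.le).omegaOne_eq_of_abl hB.abl, hE.prank_eq hp] at h3
  omega

/-- Lemma 5.2, with `Z = Ω₁(Z(R))`, `W = Ω₁(Z₂(R))`, `T = C_R(W)`. -/
theorem Ohm1_ucn_p2maxElem (hp : p.Prime) (hR : IsPi {p} R) (hodd : Odd ♯R) (hr : 2 < prank p R)
    (hE : PnElem p 2 R E) (hE' : PmaxElem p R E) :
    ¬ E ≤ R ⊓ C[omegaOne p (ucn 2 R)] ∧ ♯(omegaOne p Z[R]) = p ∧
      PnElem p 2 R (omegaOne p (ucn 2 R)) ∧ Chr (R ⊓ C[omegaOne p (ucn 2 R)]) R ∧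
      (R ⊓ C[omegaOne p (ucn 2 R)]).relIndex R = p := by
  have hnn := PmaxElem.not_nml_of_rank3 hp hR hodd hr hE hE'
  have hZE := hE'.omegaOne_center_le
  have hnc := not_cyc_of_prank hp hr.le
  obtain ⟨h1, h2⟩ := Ohm1_odd_ucn2 hp hR hodd hnc
  have h3 := (comm_Ohm1_ucn2_le hp hR hodd).trans hZE
  have hc := (chr_omegaOne p _).trans (chr_ucn 2 R)
  set W := omegaOne p (ucn 2 R)
  have hWp := hR.of_le hc.le
  have h4 : W ⊓ C[E] < E := lt_of_le_of_ne (fun x hx => hE'.mem_of_cent (hc.le hx.1) hx.2 (h2 x hx.1))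
    fun e => hnn ⟨hE.le, norm_of_comm_le_left ((comm_mono_left (e.ge.trans inf_le_left)).trans h3)⟩
  have h5 : ♯(W ⊓ C[E]) ∣ p ^ 1 :=
    dvd_pow_of_lt_succ hp (hE.card ▸ card_dvd h4.le) (hE.card ▸ card_lt h4)
  have h6 : ♯W ∣ p ^ 2 := by
    rw [← card_inf_mul_relIndex C[E] W, inf_comm, pow_succ]
    exact mul_dvd_mul h5 (pgroup_relIndex_cent_abelem2 hp hWp
      (norm_of_comm_le_right ((comm_mono_right hE.le).trans h3)) hE.elem hE.card.dvd)
  have h7 : ¬ ♯W ∣ p ^ 1 := fun h => h1 (cyc_of_card_dvd_prime hp (pow_one p ▸ h))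
  have hW : PnElem p 2 R W :=
    ⟨hc.le, ⟨abl_of_card_dvd_sq hp h6, h2⟩, eq_pow_succ_of_not_dvd hp h6 h7⟩
  have h8 : ¬ E ≤ R ⊓ C[W] := fun h =>
    h7 (inf_eq_left.mpr (cents_symm (h.trans inf_le_right)) ▸ h5)
  refine ⟨h8, (hE.one_of_lt hp hZE (fun e => hnn (e ▸ (center_nml R).omegaOne p))
    (omegaOne_ne_bot_of_pgroup (hR.inf_left _) ((hR.nil hp).center_ne_bot
      (ne_bot_of_not_cyc hnc)))).card_one, hW, hc.infC, ?_⟩
  rw [inf_relIndex_left]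
  exact ((Nat.dvd_prime hp).mp (pgroup_relIndex_cent_abelem2 hp hR hc.nml.norm hW.elem h6)).resolve_left
    fun e => h8 (le_inf hE.le (hE.le.trans (relIndex_eq_one.mp e)))

theorem cent_rank2_p2maxElem (hp : p.Prime) (hR : IsPi {p} R) (hr : 2 < prank p R)
    (hS : ♯S = p) (hSR : S ≤ R) (h2 : prank p (R ⊓ C[S]) ≤ 2) :
    ∃ Z, Z ≤ Z[R] ∧ PnElem p 2 R (S ⊔ Z) ∧ PmaxElem p R (S ⊔ Z) := by
  obtain ⟨Z, hZ⟩ := exists_pnElem_one hp ((hR.inf_left C[R]).dvd_card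
    ((hR.nil hp).center_ne_bot (ne_bot_of_not_cyc (not_cyc_of_prank hp hr.le))))
  have h1 := pnElem_one_of_card hp hSR hS
  have h3 := h1.sup_one (hZ.mono inf_le_left) hp (cents_of_le (hZ.le.trans inf_le_right) hSR)
    fun h => by
      rw [← hZ.eq_of_le h1 h, inf_eq_left.mpr (cents_symm (hZ.le.trans inf_le_right))] at h2
      omega
  exact ⟨Z, hZ.le, h3, h3.pmaxElem_of_prank_cent hp
    ((prank_mono hp (inf_le_inf_left R (C_anti le_sup_left))).trans h2)⟩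

/-- Theorem 5.3(d). -/
theorem narrow_cent_dprod (hp : p.Prime) (hR : IsPi {p} R) (hodd : Odd ♯R) (hr : 2 < prank p R)
    (hn : Narrow p R) (hS : ♯S = p) (hSR : S ≤ R) (h2 : prank p (R ⊓ C[S]) ≤ 2) :
    Cyc (R ⊓ C[omegaOne p (ucn 2 R)] ⊓ C[S]) ∧ S ⊓ ⁅R, R⁆ = ⊥ ∧
      S ⊓ (R ⊓ C[omegaOne p (ucn 2 R)]) = ⊥ ∧
      DP S (R ⊓ C[omegaOne p (ucn 2 R)] ⊓ C[S]) (R ⊓ C[S]) := by
  obtain ⟨Z, hZ, h3, h4⟩ := cent_rank2_p2maxElem hp hR hr hS hSR h2
  obtain ⟨h5, -, hW, hT, hi⟩ := Ohm1_ucn_p2maxElem hp hR hodd hr h3 h4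
  set T := R ⊓ C[omegaOne p (ucn 2 R)]
  have h6 : ¬ S ≤ T := fun h => h5 (sup_le h (hZ.trans (inf_le_inf_left R (C_anti hW.le))))
  have h7 := inf_eq_bot_of_card_prime hp hS h6
  have h8 : S ⊔ T = R := (covBy_eq_or (covBy_of_relIndex_prime hT.le (hi.symm ▸ hp)) le_sup_right
    (sup_le hSR hT.le)).resolve_left fun e => h6 (le_sup_left.trans e.le)
  have hSa := (cyc_of_card_prime hp hS).abl
  have h9 : DP S (T ⊓ C[S]) (R ⊓ C[S]) :=
    ⟨inf_le_right, eq_bot_of_le h7 (inf_le_inf_left S inf_le_left),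
      by rw [group_modl' (hSR.trans hT.nml.norm) hSa.le_C, h8]⟩
  refine ⟨odd_pgroup_cyc hp ((hR.of_le hT.le).inf_left _) (odd_of_le hodd (inf_le_left.trans hT.le)) ?_,
    eq_bot_of_le h7 (inf_le_inf_left S (der1_le_of_relIndex_prime hT.nml (hi.symm ▸ hp))), h7, h9⟩
  have := h9.prank_add_le hp
  rw [(pnElem_one_of_card hp hSR hS).prank_eq hp] at this
  omega

/-- Corollary 5.4. -/
theorem narrow_centP (hp : p.Prime) (hR : IsPi {p} R) (hodd : Odd ♯R) (hr : 2 < prank p R) :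
    Narrow p R ↔ ∃ S, S ≤ R ∧ ♯S = p ∧ prank p (R ⊓ C[S]) ≤ 2 := by
  refine ⟨fun h => ?_, fun ⟨S, hSR, hS, h2⟩ _ => ?_⟩
  · obtain ⟨E, hE, hE'⟩ := h hr
    have hZ := pnElem_one_of_card hp hE'.omegaOne_center_le
      (Ohm1_ucn_p2maxElem hp hR hodd hr hE hE').2.1
    obtain ⟨S, hS, hne⟩ := hE.exists_ne hp hZ
    refine ⟨S, hS.le.trans hE.le, hS.card_one, ?_⟩
    rw [← cent_sup_eq ((omegaOne_le p Z[R]).trans inf_le_right),
      hE.sup_eq_of_ne hp hS hZ hS.le hZ.le hne, hE'.prank_cent hp, hE.prank_eq hp]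
  · obtain ⟨Z, -, h⟩ := cent_rank2_p2maxElem hp hR hr hS hSR h2
    exact ⟨_, h⟩

/-- Theorem 5.3. -/
theorem narrow_structureP (hp : p.Prime) (hR : IsPi {p} R) (hodd : Odd ♯R) (hr : 2 < prank p R) :
    Narrow p R ↔ ∃ S C : Subgroup G, S ≤ R ∧ C ≤ R ∧ ♯S = p ∧ Cyc C ∧ DP S C (R ⊓ C[S]) := by
  refine ⟨fun h => ?_, fun ⟨S, C, hSR, _, hS, hc, hd⟩ =>
    (narrow_centP hp hR hodd hr).mpr ⟨S, hSR, hS, ?_⟩⟩
  · obtain ⟨S, hSR, hS, h2⟩ := (narrow_centP hp hR hodd hr).mp h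
    obtain ⟨h3, -, -, h4⟩ := narrow_cent_dprod hp hR hodd hr h hS hSR h2
    exact ⟨S, _, hSR, inf_le_left.trans inf_le_left, hS, h3, h4⟩
  · have h1 := cyc_of_card_prime hp hS
    rw [hd.prank_of_abl hp (hd.cp.abl h1.abl hc.abl)]
    exact add_le_add (cyc_prank_le_one hp h1) (cyc_prank_le_one hp hc)

theorem narrow_top_iff_isNarrow (hp : p.Prime) (hR : IsPi {p} (⊤ : Subgroup G))
    (hodd : Odd ♯(⊤ : Subgroup G)) : Narrow p (⊤ : Subgroup G) ↔ IsNarrow p G := by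
  unfold IsNarrow
  rw [← prank_top_le_iff hp]
  rcases le_or_gt (prank p (⊤ : Subgroup G)) 2 with hr | hr
  · exact iff_of_true (fun h => absurd hr h.not_ge) (Or.inl hr)
  rw [narrow_structureP hp hR hodd hr, or_iff_right hr.not_ge, ]
  refine exists₂_congr fun S C => ⟨fun ⟨_, _, h1, h2, h3⟩ => ⟨h1, h2, h3.inf,
    fun a ha b hb => (comm_of_cent h3.cent hb ha).symm, h3.sup.trans (top_inf_eq _)⟩,
    fun ⟨h1, h2, h3, h4, h5⟩ => ⟨le_top, le_top, h1, h2, le_C_iff.mpr fun b hb a ha =>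
      (h4 a ha b hb).symm, h3, h5.trans (top_inf_eq _).symm⟩⟩

theorem narrow_iff_isNarrow (hp : p.Prime) (hR : IsPi {p} R) (hodd : Odd ♯R) :
    Narrow p R ↔ IsNarrow p R := by
  rw [← narrow_top_subtype hp]
  exact narrow_top_iff_isNarrow hp (by rwa [IsPi, card_top]) (by rwa [card_top])

/-- A `p'`-group acting trivially on the characteristic sections of order `p` of a narrow group of
rank at least 3 acts trivially. -/
theorem narrow_chain_cent (hp : p.Prime) (hR : IsPi {p} R) (hodd : Odd ♯R) (hr : 2 < prank p R)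
    (hn : Narrow p R) (hXR : X ≤ N[R]) (hX : IsPi {p}ᶜ X)
    (h : ∀ K L, Chr K R → Chr L R → L ≤ K → L.relIndex K = p → ⁅K, X⁆ ≤ L) : X ≤ C[R] := by
  obtain ⟨H, hH, h1, -, he, hc⟩ := critical_odd hp hR hodd
    (ne_bot_of_not_cyc (not_cyc_of_prank hp hr.le))
  obtain ⟨S, hSR, hS, h2⟩ := (narrow_centP hp hR hodd hr).mp hn
  obtain ⟨h3, -, h4, h5⟩ := narrow_cent_dprod hp hR hodd hr hn hS hSR h2
  have hS1 := pnElem_one_of_card hp hSR hS
  have hSH : S ⊓ H = ⊥ := hS1.inf_eq_bot hp fun hSH => by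
    have hU : S ⊔ Z[H] ≤ H := sup_le hSH inf_le_left
    have h6 : S ⊔ Z[H] ≤ R ⊓ C[S] := le_inf (hU.trans hH.le)
      (sup_le hS1.le_cent (cents_of_le inf_le_right hSH))
    have h7 := elem_sup hS1.elem (⟨abl_center H, fun x hx => he x hx.1⟩ : IsElementaryAbelian p Z[H])
      (hSH.trans (le_C_center H))
    have h8 := le_ucn_two_of_card hp hR ⟨hU.trans hH.le, norm_of_comm_le_right
      ((comm_mono_right hU).trans (h1.trans le_sup_right))⟩ (elem_card_dvd_of_prank hp h2 h6 h7)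
    obtain ⟨E, hE, hE'⟩ := hn hr
    exact hS1.ne_bot hp one_pos (eq_bot_of_le h4 (le_inf le_rfl (le_inf hSR
      ((le_sup_left.trans (h7.le_omegaOne h8)).trans
        (Ohm1_ucn_p2maxElem hp hR hodd hr hE hE').2.2.1.le_cent))))
  have hCH : ♯(H ⊓ C[S]) ≤ p := by
    have h6 : H ⊓ C[S] ≤ R ⊓ C[S] := inf_le_inf_right _ hH.le
    have h7 := elem_sup hS1.elem (⟨(h5.cp.abl hS1.abl h3.abl).of_le h6, fun x hx => he x hx.1⟩ :
      IsElementaryAbelian p (H ⊓ C[S])) (cents_symm inf_le_right)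
    have h8 := elem_card_dvd_of_prank hp h2 (sup_le h5.left_le h6) h7
    rw [card_sup_of_inf (norm_of_cent inf_le_right) (eq_bot_of_le hSH (inf_le_inf_left S inf_le_left)),
      hS, sq] at h8
    exact Nat.le_of_dvd hp.pos (Nat.dvd_of_mul_dvd_mul_left hp.pos h8)
  obtain ⟨v, hv, -, -, rfl⟩ := hS1.exists_generator hp
  rw [C_zpowers] at hCH
  refine hc X hXR hX ?_
  suffices hs : ∀ K, Chr K R → K ≤ H → X ≤ C[K] from hs H hH le_rfl
  intro K
  induction K using subgroup_ind with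
  | h K ih =>
  intro hK hKH
  by_cases h0 : K = ⊥
  · rw [h0, C_bot]; exact le_top
  have hL := nil_comm_properl (hR.nil hp) hK.le h0 le_rfl hK.nml.norm
  have hLc := hK.comm (Chr.refl R)
  have hLp := hR.of_le hLc.le
  refine stable_factor_cent (ih _ hL hLc (hL.le.trans hKH)) (h K _ hK hLc hL.le ?_) hL.le
    (hLp.coprime hX) (Or.inl (hLp.sol hp))
  have h6 : ♯K ≤ ♯⁅K, R⁆ * p := by
    rw [← card_inf_mul_relIndex C{v} K, mul_comm, inf_comm]
    exact Nat.mul_le_mul (H3.relIndex_centralizer_le_card K _ v fun g hg =>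
      commutator_mem_commutator hg (hSR hv)) ((card_le (inf_le_inf_right _ hKH)).trans hCH)
  rw [← card_mul_relIndex hL.le, Nat.mul_le_mul_left_iff (card_pos _)] at h6
  obtain ⟨k, hk⟩ := (piNat_singleton hp (relIndex_ne_zero' _ _)).mp ((hR.of_le hK.le).relIndex ⁅K, R⁆)
  rcases k with _ | k
  · exact absurd (relIndex_eq_one.mp hk) hL.not_ge
  · exact le_antisymm h6 (hk ▸ Nat.le_self_pow k.succ_ne_zero p)

theorem der1_p'_cent_narrow (hp : p.Prime) (hR : IsPi {p} R) (hodd : Odd ♯R) (hn : Narrow p R)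
    (hAR : A ≤ N[R]) (hAodd : Odd ♯A) (hX : X ≤ ⁅A, A⁆) (hX' : IsPi {p}ᶜ X) : X ≤ C[R] := by
  rcases le_or_gt (prank p R) 2 with hr | hr
  · exact der1_p'_cent_rank2 hp hR hodd (rank_pgroup hp hR ▸ hr) hAR hAodd hX hX'
  have hXR := hX.trans ((der1_le A).trans hAR)
  refine narrow_chain_cent hp hR hodd hr hn hXR hX' fun K L hK hL hLK hi => ?_
  have hKL := hK.le.trans hL.nml.norm
  rw [commC, ← quo_cents (hL.norm hXR) hKL]
  refine (quo_mono L hX).trans ?_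
  rw [quo_comm (hL.norm hAR) (hL.norm hAR)]
  exact cyc_der1_norm_le_cent (cyc_of_card_prime hp ((card_quo hKL).trans hi)) (quo_norm L (hK.norm hAR))

/-- Theorem 5.5(a): `(A / C_A(R))'` is a `p`-group. -/
theorem der1_Aut_narrow_pgroup (hp : p.Prime) (hR : IsPi {p} R) (hodd : Odd ♯R) (hn : Narrow p R)
    (hAR : A ≤ N[R]) (hAodd : Odd ♯A) : PiNat {p} ((C[R]).relIndex ⁅A, A⁆) :=
  (piNat_relIndex_iff ((der1_le A).trans (norm_C hAR))).mpr fun x hx h =>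
    der1_p'_cent_narrow hp hR hodd hn hAR hAodd (zpowers_le.mpr hx) h.isPi (mem_zpowers x)

omit [Finite G] in
theorem pow_mem_of_relIndex_dvd (hA : A ≤ N[K]) {x : G} (hx : x ∈ A) {n : ℕ}
    (h : K.relIndex A ∣ n) : x ^ n ∈ K := by
  have := normal_subgroupOf_of_le_normalizer hA
  obtain ⟨m, rfl⟩ := h
  rw [pow_mul]
  exact K.pow_mem ((K.subgroupOf A).pow_index_mem ⟨x, hx⟩) m

/-- Theorem 5.5(b). -/
theorem narrow_rank3_pow_pred_mem (hp : p.Prime) (hR : IsPi {p} R) (hodd : Odd ♯R) (hn : Narrow p R)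
    (hr : 2 < prank p R) {x : G} (hx : x ∈ N[R]) (hx' : PiElt {p}ᶜ x) : x ^ (p - 1) ∈ C[R] := by
  have hXR := zpowers_le.mpr (N[R].pow_mem hx (p - 1))
  refine narrow_chain_cent hp hR hodd hr hn hXR (hx'.pow _).isPi (fun K L hK hL hLK hi => ?_)
    (mem_zpowers _)
  have hKL := hK.le.trans hL.nml.norm
  have hxL := hL.N_le hx
  have h1 := quo_norm L hK.N_le
  rw [commC, ← quo_cents (hL.norm hXR) hKL, quo_zpowers (N[L].pow_mem hxL _), zpowers_le, cs,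
    ap_pow _ hxL]
  exact pow_mem_of_relIndex_dvd (norm_C (quo_norm L hK.N_le)) (cs_mem_quo hx hxL)
    (relIndex_C_dvd_pred hp (quo_norm L hK.N_le) ((card_quo hKL).trans hi))

theorem syl_pcore_of_der1_le (hp : p.Prime) (h : ⁅M, M⁆ ≤ O[{p}, M]) : Syl p M O[{p}, M] := by
  obtain ⟨S, hS⟩ := Sylow_exists hp M
  exact hS.pcore_hall (norm_of_der1_le (h.trans (pcore_le_Hall hS)) hS.le)

/-- Theorem 5.5(a,b) for `Ā = A / C_A(R)`; `D` is the preimage of `O_p(Ā)`. -/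
theorem Aut_narrow (hp : p.Prime) (hR : IsPi {p} R) (hodd : Odd ♯R) (hn : Narrow p R) (hA : Sol A)
    (hAR : A ≤ N[R]) (hAodd : Odd ♯A) :
    PiNat {p}ᶜ ((coreMod {p} A (A ⊓ C[R])).relIndex A) ∧ ⁅A, A⁆ ≤ coreMod {p} A (A ⊓ C[R]) ∧
      (2 < rank R → ∀ x ∈ A, PiElt {p}ᶜ x → x ^ (p - 1) ∈ C[R]) := by
  have hK := (nml_inf_of_norm (norm_C hAR)).norm
  have h1 : ⁅A, A⁆ ≤ coreMod {p} A (A ⊓ C[R]) := coreMod_max hK (der1_nml A) (by
    rw [← inf_relIndex_left, ← inf_assoc, inf_eq_left.mpr (der1_le A), inf_relIndex_left]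
    exact der1_Aut_narrow_pgroup hp hR hodd hn hAR hAodd)
  refine ⟨?_, h1, fun hr x hx hx' =>
    narrow_rank3_pow_pred_mem hp hR hodd hn (rank_pgroup hp hR ▸ hr) (hAR hx) hx'⟩
  rw [coreMod, relIndex_coq _ hK]
  refine (syl_pcore_of_der1_le hp ?_).idx
  rw [← quo_comm hK hK, ← quo_coreMod]
  exact quo_mono _ h1

/-- Theorem 5.5(c). -/
theorem narrow_prime_Aut (hp : p.Prime) (hR : IsPi {p} R) (hodd : Odd ♯R) (hn : Narrow p R)
    (hAR : A ≤ N[R]) (hAodd : Odd ♯A) (hq : (♯A).Prime) (hd : ¬ ♯A ∣ p * (p - 1))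
    (hf : ¬ A ≤ C[R]) : ♯A ∣ (p + 1) / 2 ∧ (⁅R, A⁆ = R → ¬ Abl R → ♯R = p ^ 3) := by
  have h1 : ♯A ≠ p := fun e => hd (e ▸ dvd_mul_right _ _)
  have h2 : ¬ ♯A ∣ p - 1 := fun e => hd (e.mul_left _)
  have hA : IsPi {p}ᶜ A := (isPi_of_card_prime hq rfl).compl_of_ne h1
  have h3 : ∀ K : Subgroup G, ¬ A ≤ K → K.relIndex A = ♯A := fun K h => by
    rw [← inf_relIndex_left, prime_inf_of_not_le hq h, relIndex_bot_left]
  have hr : rank R ≤ 2 := by
    rw [rank_pgroup hp hR]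
    by_contra hr
    obtain ⟨x, hx, e⟩ := (cyc_of_prime hq).exists_gen
    have := narrow_rank3_pow_pred_mem hp hR hodd hn (not_le.mp hr) (hAR hx) (hA.piElt hx)
    refine h2 ?_
    rw [← e, card_zpowers', orderOf_dvd_iff_pow_eq_one]
    exact mem_bot.mp (prime_inf_of_not_le hq hf ▸ mem_inf.mpr ⟨A.pow_mem hx _, this⟩)
  refine ⟨(pi_Aut_rank2_pgroup hp hq hR hodd hr hAR (h3 _ hf).symm.dvd h1).2.2.resolve_right
    fun h => h2 (h.trans (Nat.div_dvd_of_dvd ?_)), fun hRA hna => ?_⟩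
  · refine (hp.even_sub_one (ne_two_of_odd_pgroup hR hodd ?_)).two_dvd
    rintro rfl
    exact hf (C_bot (G := G) ▸ le_top)
  obtain ⟨S, C, h4, h5, h6, h7, h8, h9⟩ := (rank2_coprime_comm_cprod hp hR hodd
    (ne_bot_of_not_abl hna) hr hRA hA hAodd).2.resolve_left hna
  have hZ : Z[R] = C := by
    rw [h7.center, h8.abl.center_eq, ← p3_der1_eq_center hp h5 h4, ← h9,
      sup_eq_right.mpr (omegaOne_le p C)]
  have hAC : A ≤ C[C] := by
    by_contra h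
    exact h2 (h3 _ h ▸ relIndex_C_cyc_dvd_pred hp (hZ ▸ norm_Z hAR) h8 (hR.of_le h7.right_le) hA)
  have hS : omegaOne p R = S := by
    refine le_antisymm (omegaOne_le_iff.mpr fun x hx hxp => ?_) fun x hx =>
      mem_omegaOne (h7.left_le hx) (h6 x hx)
    obtain ⟨s, hs, c, hc, rfl⟩ := h7.isProd.mul x hx
    rw [Commute.mul_pow (comm_of_cent h7.cent hc hs).symm, h6 s hs, one_mul] at hxp
    exact S.mul_mem hs (der1_le S (h9 ▸ mem_omegaOne hc hxp))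
  rw [← h5, le_antisymm h7.left_le]
  rw [← hRA, h7.isProd.comm_left_of_cent (cents_symm hAC)]
  exact comm_le_left (hS ▸ norm_omegaOne p hAR)

theorem narrow_pstructure (hp : p.Prime) (hodd : Odd ♯M) (hM : Sol M) (hS : Syl p M S)
    (hn : Narrow p S) (hl : 2 < rank S → PLen1 p M) :
    (∀ q, q.Prime → q ∣ (O[{p}ᶜ, M]).relIndex M → q ≤ p) ∧ ⁅M, M⁆ ≤ Opp p M ∧ PLen1 p M := by
  rcases le_or_gt (rank S) 2 with hr | hr
  · rw [rank_Syl hp hS] at hr
    exact ⟨fun q hq hd => rank2_max_pdiv hp hM hodd hr hq hd, (rank2_der1_complement hp hM hodd hr).2⟩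
  have h := hl hr
  have hK := pcore_nml {p}ᶜ M
  have hi := (pcore_pi {p}ᶜ M).inf_eq_bot' hS.pi
  have hSK := hS.le.trans hK.norm
  rw [← narrow_quo hp hSK hi, (h.syl_Opp hS).quo_core2] at hn
  rw [← rank_quo_of_inf hSK hi, (h.syl_Opp hS).quo_core2, rank_pgroup hp (pcore_pi _ _)] at hr
  have ho := odd_quo hodd O[{p}ᶜ, M]
  have ho' := odd_of_le ho (pcore_le {p} _)
  have hO := pcore_quo_pcore {p}ᶜ M
  refine ⟨fun q hq hd => ?_, der1_le_Opp_of_quo (der1_le_pcore_of_cent hp (hM.quo _) hO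
    (der1_Aut_narrow_pgroup hp (pcore_pi _ _) ho' hn (pcore_nml _ _).norm ho)), h⟩
  by_cases hqp : q = p
  · exact hqp.le
  rw [← card_quo hK.norm] at hd
  obtain ⟨x, hx, e⟩ := exists_orderOf_eq hq hd
  have hx' : PiElt {p}ᶜ x := (piElt_of_orderOf_prime hq e).mono (singleton_subset_compl hqp)
  have h1 := ((pcore_pi _ _).piElt (cent_pcore_sub hp (hM.quo _) hO ⟨pow_mem hx _,
    narrow_rank3_pow_pred_mem hp (pcore_pi _ _) ho' hn hr ((pcore_nml _ _).norm hx) hx'⟩)).eq_one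
    (hx'.pow _)
  rw [← orderOf_dvd_iff_pow_eq_one, e] at h1
  exact (Nat.le_of_dvd (Nat.sub_pos_of_lt hp.one_lt) h1).trans (Nat.sub_le p 1)

/-- Theorem 5.6(a,c). -/
theorem narrow_der1_complement_max_pdiv (hp : p.Prime) (hodd : Odd ♯M) (hM : Sol M) (hS : Syl p M S)
    (hn : Narrow p S) (hl : 2 < rank S → PLen1 p M) :
    NCompl {p} ⁅M, M⁆ ∧ ∀ q, q.Prime → q ∣ (O[{p}ᶜ, M]).relIndex M → q ≤ p :=
  have h := narrow_pstructure hp hodd hM hS hn hl
  ⟨(ncompl_core2 _ M).of_le h.2.1, h.1⟩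

/-- A `p`-group with an elementary abelian subgroup whose centraliser has rank at most 2 is
narrow. -/
theorem narrow_of_cent_elem (hp : p.Prime) (hR : IsPi {p} R) (hE : E ≤ R)
    (hEe : IsElementaryAbelian p E) (h : prank p (R ⊓ C[E]) ≤ 2) : Narrow p R := fun hr => by
  obtain ⟨B, hB, hEB⟩ := pmaxElem_exists hE hEe
  obtain ⟨n, hn⟩ := pnElem_of_elem hp hB.le hB.elem
  have h1 := ((hn.of_le (le_inf hB.le (hn.abl.cents le_rfl hEB))).le_prank hp).trans h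
  interval_cases n
  · exact absurd (card_eq_one'.mp hn.card) (hB.ne_bot hp ((prank_pos_iff hp).mp (by omega)))
  · obtain ⟨A, hA, h2⟩ := hn.exists_two_of_prank hp hR hr.le
    exact absurd (hA.rank_le hn hp (hB.max A hA.le hA.elem h2).le) (by norm_num)
  · exact ⟨B, hn, hB⟩

/-- Theorem 5.7. -/
theorem narrow_der1_sub_Fitting (hp : p.Prime) (hodd : Odd ♯M) (hM : Sol M) (hE : E ≤ F[M])
    (hEe : IsElementaryAbelian p E) (hr : rank (F[M] ⊓ C[E]) ≤ 2) : ⁅M, M⁆ ≤ F[M] := by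
  refine chief_stab_sub_Fitting hM (Nml.refl M) (der1_le M) fun U V h hU => ?_
  obtain ⟨q, hq, he⟩ := sol_chief_abelem hM h
  obtain ⟨P, hP⟩ := Sylow_exists hq U
  have hF := pcore_le_Fitting hq M
  have h1 := (prank_le_rank hq _).trans hr
  have hn : Narrow q O[{q}, M] := by
    by_cases hqp : q = p
    · subst hqp
      exact narrow_of_cent_elem hq (pcore_pi _ _) (le_pcore_of_le_Fitting (hEe.isPi hq) hE) hEe
        ((prank_mono hq (inf_le_inf_right _ hF)).trans h1)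
    · exact fun h => absurd ((prank_mono hq (le_inf hF ((Fitting_nil M).cents_of_coprime hF hE
        ((pcore_pi _ M).coprime_of_ne (hEe.isPi hp) hqp)))).trans h1) h.not_ge
  refine chief_der1_cent hq h ((isPi_quo_iff h.nml.norm).mp (he.isPi hq)) hP fun x hx hx' =>
    C_anti (le_pcore_of_le_Fitting hP.pi (hP.le.trans hU)) (der1_p'_cent_narrow hq (pcore_pi _ _)
      (odd_of_le hodd (pcore_le _ _)) hn (pcore_nml _ M).norm hodd
      (zpowers_le.mpr (der1_mono inf_le_left hx)) hx'.isPi (mem_zpowers x))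

end H26
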