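import Cfsg.Agent.H26.SF2
import Cfsg.Agent.H26.SF0
import Cfsg.Agent.H29.Fi23C

/-! The Schreier property for the three Fischer groups (from that of `U₆(2)`). -/

set_option autoImplicit false
set_option maxRecDepth 100000

namespace H26.SF

open H0 H0.Sch Subgroup H29

theorem nc_of_center {G : Type*} [Group G] [Nontrivial G] (hZ : center G = ⊥) :
    ¬ IsMulCommutative G := fun h => by
  obtain ⟨a, ha⟩ := exists_ne (1 : G)
  exact ha (mem_bot.1 (hZ ▸ mem_center_iff.2 fun b => h.is_comm.comm b a))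

theorem outS_cen {K X G : Type*} [Group K] [Group X] [Group G] [Finite G] [IsSimpleGroup G]
    [Finite X] [IsSimpleGroup X] (hG : center G = ⊥) (hZ : center X = ⊥) {ι : K →* G} {δ : K}
    (c : Cen ι δ) {θ : K →* X} (h : CE θ δ) (T : TT (Cl (ι δ)))
    (hI : ∀ u, u * u = 1 → Inv3 (Cl (ι δ)) u) (hL : OutS X) : OutS G :=
  outS_emb (nc_of_center hG) c.inj h (cls_inv hZ c h T hI) (fun a _ ha _ hn _ => (hn (c.rng a ha)).elim)
    hL hZ

theorem fi22 (hL : OutS (Cfsg.PSU 6 H9.F4 2)) : OutS Fi22.P.G := by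
  obtain ⟨h1, P, h3⟩ := fi22_facts
  have := Fi22.simple
  have := Fi22.bd.1
  have := Cfsg.Agent.S0283.result (F := H9.F4) (q := 2) H9.F4.card 6 (by norm_num) (by norm_num)
  have : Finite (Cfsg.PSU 6 H9.F4 2) :=
    Nat.finite_of_card_ne_zero (by rw [psu_card H9.F4.card]; norm_num)
  let δ : gen Fi22.e1 Fi22U.hcols := ⟨Fi22.P.e 0, h1 ▸ mem_centralizer_singleton_iff.2 rfl⟩
  have c : Cen (Subgroup.subtype _) δ := ⟨Subtype.val_injective, fun g hg =>
    ⟨⟨g, h1 ▸ mem_centralizer_singleton_iff.2 hg⟩, rfl⟩⟩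
  obtain ⟨θ, h⟩ := ce_of_cover (psu_cen H9.F4.card) H9.U62M.cover (δ := δ)
    (fun k => commute_coe.1 (mem_centralizer_singleton_iff.1 (h1.ge k.2)).symm) fun e => by
      obtain ⟨y, -, hy⟩ := P.adj_ne (Cl.self _)
      exact hy (by rw [show Fi22.P.e 0 = 1 from congrArg Subtype.val e]; exact Commute.one_left y)
  exact outS_cen fi22_cen (psu_cen H9.F4.card) c h P.toTT fi22_loc.2.2.2.2 hL

theorem fi23_cen : center Fi23.P.G = ⊥ :=
  haveI := Fi23.simple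
  haveI := Fi23.bd.1
  center_eq_bot_of_simple (by rw [Fi23.card.1]; norm_num)

noncomputable def δ23 : gen Fi23.P.e FiA.cols :=
  ⟨t23, cent23.le (mem_centralizer_singleton_iff.2 rfl)⟩

theorem cen23 : Cen (Subgroup.subtype _) δ23 := ⟨Subtype.val_injective, fun g hg =>
  ⟨⟨g, cent23.le (mem_centralizer_singleton_iff.2 hg)⟩, rfl⟩⟩

theorem ce23 : ∃ θ : gen Fi23.P.e FiA.cols →* Fi22.P.G, CE θ δ23 :=
  haveI := Fi22.simple
  ce_of_cover fi22_cen Fi23C.cover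
    (fun k => commute_coe.1 (mem_centralizer_singleton_iff.1 (cent23.ge k.2)).symm) fun e =>
      Y23.rG_ne (congrArg Subtype.val e)

theorem loc23 : F23q (Cl t23) ∧ ∀ u, u * u = 1 → Inv3 (Cl t23) u := by
  have := Fi23.simple
  have := Fi23.bd.1
  obtain ⟨θ, h⟩ := ce23
  have c := cen23
  obtain ⟨Δ, C, k, U, e⟩ : ∃ Δ C, Pkg δ23 Δ C ∧ F22q Δ ∧
      Dx (Cl t23) t23 = (Subgroup.subtype _) '' Δ := by
    obtain ⟨Δ, C, k, U⟩ := pkg_f22 h
    rcases c.step1 k (fi23_facts.1.Dx_ne (Cl.self _)) with e | e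
    exacts [⟨_, C, k, U, e⟩, ⟨_, C, k.symm, k.fiso.f22 U, e⟩]
  refine ⟨?_, fun u hu => ?_⟩
  · rintro _ ⟨g, rfl⟩
    obtain ⟨F, e'⟩ := c.fiso k e g
    exact e' ▸ ⟨F.lq k.lq, F.f22 U⟩
  · obtain ⟨g, hg⟩ := par_of (perf_of_simple fi23_cen) (Or.inr (by rw [fi23_facts.2])) u hu
    exact c.inv3 k e hu hg

theorem fi23 (hL : OutS Fi22.P.G) : OutS Fi23.P.G := by
  have := Fi23.simple
  have := Fi23.bd.1
  have := Fi22.simple
  have := Fi22.bd.1
  obtain ⟨θ, h⟩ := ce23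
  exact outS_cen fi23_cen fi22_cen cen23 h fi23_facts.1.toTT loc23.2 hL

theorem j_mem : Fi23.P.e 9 ∈ Cl t23 := by
  have := rels_of_faithful Fi23.card.2 (Fi23Z.map Fi23.hρ) (rels_of_chk (k := 15) Fi23Z.hn (by decide)
    Fi23Z.hiv (ws := [[10, 9, 10, 9, 10, 9]]) (allN_true.1 (by decide +kernel))) _
    (List.mem_singleton_self _)
  simp only [ev_cons, ev_nil, mul_one, ext10] at this
  rw [extE_lt _ _ _ (by decide : 9 < 10)] at this
  have h1 := fi23_facts.1.sq _ (Cl.self t23)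
  have h2 := sq_of_iv Fi23.hiv0 9
  exact ⟨_, cj_of_braid h1 (braid_of_cube h1 h2 (by rw [← this]; simp [pow_succ, mul_assoc]))⟩

section F24

open H29.Fi24

theorem nc24 : ¬ IsMulCommutative (commutator P.G) :=
  haveI := simpleE
  nc_of_center (center_eq_bot_of_simple (by rw [cardE]; norm_num))

theorem p24 : PTT (Cl (P.e 11)) ∧ (Cl (P.e 11)).ncard = 306936 := by
  obtain ⟨h1, h2⟩ := three24
  rw [cl_eq] at h1 h2
  refine ⟨(TT.of_class h1).ptt_of_simple simpleE ?_, h2⟩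
  by_contra hn
  push Not at hn
  exact nc24 ⟨⟨hn⟩⟩

theorem φl (k : Fi23.P.G) : Commute (φ k) (P.e 11) := hl _ (K_le ⟨k, rfl⟩)

theorem of_comm {g : P.G} (h : Commute g (P.e 11)) : ∃ k, g = φ k ∨ g = φ k * P.e 11 := by
  rcases dichH g (cent24 ▸ mem_centralizer_singleton_iff.2 h) with ⟨k, hk⟩ | ⟨k, hk⟩
  · exact ⟨k, Or.inl hk.symm⟩
  · exact ⟨k, Or.inr (by rw [hk, mul_assoc, Fi24.sq, mul_one])⟩

theorem of_comm' {g : P.G} (hg : g ∈ commutator P.G) (h : Commute g (P.e 11)) : ∃ k, φ k = g := by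
  obtain ⟨k, hk | hk⟩ := of_comm h
  · exact ⟨k, hk.symm⟩
  · have h1 := χ_comm g hg
    rw [hk, map_mul, hχ 11 (by norm_num), show χ (φ k) = 1 from K_χ ⟨k, rfl⟩] at h1
    exact absurd h1 (by decide)

noncomputable def β (t : Fi23.P.G) : P.G := φ t * P.e 11

theorem cj_β (k t : Fi23.P.G) : cj (φ k) (β t) = β (cj k t) := by
  rw [β, β, cj_mul, cj_of_commute (φl k), map_cj]

theorem cj_lβ (t : Fi23.P.G) : cj (P.e 11) (β t) = β t :=
  cj_of_commute ((φl t).symm.mul_right (Commute.refl _))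

theorem β_mul (s t : Fi23.P.G) : β s * β t = φ (s * t) := by
  rw [β, β, mul_assoc, ← mul_assoc (P.e 11), ← (φl t).eq, mul_assoc, Fi24.sq, mul_one, map_mul]

theorem fβ : FIso β (Cl t23) where
  inj := fun _ _ _ _ e => φ_inj (mul_right_cancel e)
  cl := fun x _ _ hy => Cl.conj hy x
  hom := fun x _ y _ => by rw [← cj_β, show β x = φ x * P.e 11 from rfl, ← cj_cj, cj_lβ]
  sq := fi23_facts.1.sq
  sq' := fun x hx => by rw [β_mul, fi23_facts.1.sq x hx, map_one]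

theorem im_β : β '' Cl t23 = Dx (Cl (P.e 11)) (P.e 11) := by
  have hj : β (Fi23.P.e 9) = P.e 9 := by
    rw [β, hφ 9 (by norm_num), mul_assoc, Fi24.sq, mul_one]
  have hE : ∀ t ∈ Cl t23, β t ∈ Dx (Cl (P.e 11)) (P.e 11) := by
    intro t ht
    obtain ⟨g, hg⟩ := fi23_facts.1.trans _ j_mem t ht
    refine ⟨?_, fun e => ?_, (φl t).symm.mul_right (Commute.refl _)⟩
    · rw [← hg, ← cj_β, hj]
      exact Cl.conj ⟨_, conjU 9 (by decide)⟩ _
    · have h1 : t = 1 := φ_inj (by rw [map_one]; exact mul_eq_right.1 e)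
      obtain ⟨y, -, hy⟩ := fi23_facts.1.adj_ne ht
      exact hy (h1 ▸ Commute.one_left y)
  apply Set.Subset.antisymm
  · rintro _ ⟨t, ht, rfl⟩
    exact hE t ht
  · intro x hx
    obtain ⟨g, h1, h2⟩ := p24.1.Dx_trans (Cl.self _) (hE _ (Cl.self _)) hx
    obtain ⟨k, rfl | rfl⟩ := of_comm (PTT.commute_of_mem_closure h1)
    · exact ⟨_, Cl.conj (Cl.self _) k, by rw [← h2, cj_β]⟩
    · exact ⟨_, Cl.conj (Cl.self _) k, by rw [← h2, ← cj_cj, cj_lβ, cj_β]⟩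

theorem f23q_map {G G' : Type*} [Group G] [Group G'] {b : G → G'} {E : Set G} (h : FIso b E)
    (U : F23q E) : F23q (b '' E) := by
  rintro _ ⟨x, hx, rfl⟩
  rw [← h.image_Dx hx]
  exact ⟨(h.res x).lq (U x hx).1, (h.res x).f22 (U x hx).2⟩

theorem res24 {d : P.G} (hd : d ∈ Cl (P.e 11)) : LQ (Dx (Cl (P.e 11)) d) ∧
    F23q (Dx (Cl (P.e 11)) d) ∧ (Dx (Cl (P.e 11)) d).ncard = 31671 := by
  obtain ⟨g, rfl⟩ := hd
  have L : LQ (Dx (Cl (P.e 11)) (P.e 11)) := im_β ▸ fβ.lq fi23_facts.1.lq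
  rw [← p24.1.toTT.image_Dx]
  refine ⟨L.cj_image g, f23q_map (L.fiso (MulAut.conj g).toMonoidHom (cj_injective g).injOn)
    (im_β ▸ f23q_map fβ loc23.1), ?_⟩
  rw [Set.ncard_image_of_injective _ (cj_injective g), ← im_β, fβ.inj.ncard_image]
  exact fi23_facts.2

theorem inv24 {d t : P.G} (hd : d ∈ Cl (P.e 11)) (ht : t ∈ commutator P.G) (h1 : t ≠ 1)
    (h2 : t * t = 1) (hc : Commute t d) : (∃ e ∈ Cl (P.e 11), ∃ f ∈ Dx (Cl (P.e 11)) e, t = e * f) ∨
      ∃ e f g, T3 (Dx (Cl (P.e 11)) d) e f g ∧ t = e * f * g * d := by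
  obtain ⟨g, rfl⟩ := hd
  obtain ⟨k, hk⟩ := of_comm' (g := cj g⁻¹ t) (by
    simpa [cj] using (inferInstance : (commutator P.G).Normal).conj_mem t ht g⁻¹)
    (by rw [← commute_cj (g := g), cj_cj_inv]; exact hc)
  have e0 : t = cj g (φ k) := by rw [hk, cj_cj_inv]
  have T := p24.1.toTT
  have m : ∀ {x}, x ∈ Cl t23 → β x ∈ Dx (Cl (P.e 11)) (P.e 11) := fun hx => im_β ▸ ⟨_, hx, rfl⟩
  have m2 : ∀ {x y}, x ∈ Cl t23 → y ∈ Dx (Cl t23) x →
      β y ∈ Dx (Dx (Cl (P.e 11)) (P.e 11)) (β x) := fun hx hy => by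
    rw [← im_β, ← fβ.image_Dx hx]; exact ⟨_, hy, rfl⟩
  rcases loc23.2 k (φ_inj (by rw [map_mul, hk, ← cj_mul, h2, map_one]; simp [cj])) with
    rfl | k1 | ⟨x, hx, y, hy, rfl⟩ | ⟨x, y, z, k1, rfl⟩
  · exact absurd (by rw [e0]; simp [cj]) h1
  · refine Or.inl ⟨_, Cl.conj (m k1).1 g, _, T.mem_Dx_cj.2 (Dx_symm (Cl.self _) (m k1)), ?_⟩
    rw [e0, ← cj_mul, β, mul_assoc, Fi24.sq, mul_one]
  · refine Or.inl ⟨_, Cl.conj (m hx).1 g, _,
      T.mem_Dx_cj.2 ⟨(m2 hx hy).1.1, (m2 hx hy).2⟩, ?_⟩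
    rw [e0, ← cj_mul, β_mul]
  · refine Or.inr ⟨cj g (β x), cj g (β y), cj g (β z), ?_, ?_⟩
    · rw [← T.image_Dx]
      refine ⟨mem_image_cj.2 (m k1.1), ?_, ?_⟩
      · rw [← image_Dx']; exact mem_image_cj.2 (m2 k1.1 k1.2.1)
      · rw [← image_Dx', ← image_Dx']
        refine mem_image_cj.2 ?_
        rw [← im_β, ← fβ.image_Dx k1.1, ← (fβ.res x).image_Dx k1.2.1]
        exact ⟨_, k1.2.2, rfl⟩
    · rw [e0, ← cj_mul, ← cj_mul, ← cj_mul, β_mul, β, mul_assoc (φ (x * y)), mul_assoc (φ z),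
        Fi24.sq, mul_one, ← map_mul]

theorem fi24 (hL : OutS Fi22.P.G) : OutS (commutator P.G) := by
  have := simpleE
  have := Fi22.bd.1
  have := Fi23.bd.1
  have : Fact (Nat.Prime 11) := ⟨by norm_num⟩
  obtain ⟨θ, h⟩ := ce23
  let ι : gen Fi23.P.e FiA.cols →* commutator P.G :=
    (φ.codRestrict _ fun k => K_leE ⟨k, rfl⟩).comp (Subgroup.subtype _)
  have hι : Function.Injective ι := fun a b e => Subtype.ext (φ_inj (congrArg Subtype.val e))
  have hb : β t23 ∈ Dx (Cl (P.e 11)) (P.e 11) := im_β ▸ ⟨_, Cl.self _, rfl⟩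
  have hu : (ι δ23 : P.G) = P.e 11 * β t23 := by
    rw [hb.2.2.eq, β, mul_assoc, Fi24.sq, mul_one]; rfl
  refine outS_emb nc24 hι h (fun a => ?_) (fun a b ha hb' na nb => ?_) hL fi22_cen
  · obtain ⟨y, hy⟩ := exists_prime_orderOf_dvd_card' (G := gen Fi23.P.e FiA.cols) 11
      (by rw [Fi23.cardH]; norm_num)
    have o2 : orderOf (ι δ23) = 2 := by
      rw [orderOf_injective ι hι]
      exact orderOf_eq_prime (by rw [pow_two, h.sq]) h.ne
    have o2' : orderOf ((a (ι δ23) : commutator P.G) : P.G) = 2 := by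
      rw [orderOf_coe, MulEquiv.orderOf_eq, o2]
    obtain ⟨e, he, f, hf, k⟩ := eleven p24.1 (by rw [card]; norm_num) p24.2
      (fun d hd => (res24 hd).2.2) (fun d hd => (res24 hd).2.1)
      (y := (a (ι y) : commutator P.G)) (t := (a (ι δ23) : commutator P.G))
      (by rw [orderOf_coe, MulEquiv.orderOf_eq, orderOf_injective ι hι, hy]) o2'
      ((((h.cen y).map ι).map a).map (commutator P.G).subtype) fun d hd hc =>
        inv24 hd (a (ι δ23)).2 (fun e => by simp [e] at o2')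
          (by rw [← pow_two, ← o2', pow_orderOf_eq_one]) hc
    obtain ⟨g, g1, g2⟩ := p24.1.comm_pair_trans (Cl.self _) he hb hf
    have g3 : cj g (ι δ23 : P.G) = a (ι δ23) := by rw [hu, cj_mul, g1, g2, k]
    rcases dich g with g4 | g4
    · exact ⟨⟨g, g4⟩, Subtype.ext g3⟩
    · refine ⟨⟨_, g4⟩, Subtype.ext ?_⟩
      rw [coe_cj, ← g3, ← cj_cj]
      exact congrArg _ (cj_of_commute (φl t23).symm)
  · have key : ∀ x : commutator P.G, Commute x (ι δ23) → Commute (x : P.G) (P.e 11) → x ∈ ι.range := by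
      intro x h1 h2
      obtain ⟨k, hk⟩ := of_comm' x.2 h2
      have h3 : Commute k t23 := φ_inj (by
        rw [map_mul, map_mul, hk]
        exact congrArg Subtype.val h1)
      exact ⟨⟨k, cent23.le (mem_centralizer_singleton_iff.2 h3)⟩, Subtype.ext hk⟩
    have two : ∀ x : commutator P.G, Commute x (ι δ23) → x ∉ ι.range →
        cj (x : P.G) (P.e 11) = β t23 := by
      intro x h1 h2
      have h3 : Commute (x : P.G) (P.e 11 * β t23) := hu ▸ h1.map (commutator P.G).subtype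
      rcases rad2_sub (Cl.self _) hb (res24 (Cl.self _)).1 (rad_inv (fun _ => p24.1.toTT.mem_cj) h3
        (mem_rad2 p24.1.toTT le_rfl (Cl.self _) hb)) with e | e
      · exact (h2 (key x h1 (cj_eq_self.1 e))).elim
      · exact e
    refine key _ (ha.inv_left.mul_left hb') (cj_eq_self.1 ?_)
    rw [coe_mul, ← cj_cj, two b hb' nb, ← two a ha na, coe_inv, cj_inv_cj]

end F24

end H26.SF
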