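import Mathlib
import Cfsg.Agent.H12.NGMc
import Cfsg.Agent.H12.NGC1
import Cfsg.Agent.H3.NG1

/-!
# N-groups, case II: weak closure, an inverted element, four-groups
-/

set_option autoImplicit false
set_option linter.unusedSectionVars false
set_option linter.unusedVariables false

namespace H26.NGX

open Subgroup Cfsg H24 H11.ZN H12.NG

universe u

variable {G : Type u} [Group G] [Finite G] {V H A A₁ B P Q R S T W X Y K L : Subgroup G}
  {a b d f g t x y : G}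

/-- the weak closure of `V` in `T` -/
def Wk (V T : Subgroup G) : Subgroup G := sSup {Y | Y ≤ T ∧ ∃ g, Y = cj g V}

theorem Wk_le (V T : Subgroup G) : Wk V T ≤ T := sSup_le fun _ h => h.1

theorem le_Wk (h : cj g V ≤ T) : cj g V ≤ Wk V T := le_sSup ⟨h, g, rfl⟩

theorem Wk_le_of (h : ∀ g, cj g V ≤ T → cj g V ≤ X) : Wk V T ≤ X :=
  sSup_le fun _ hY => by
    obtain ⟨h1, g, rfl⟩ := hY
    exact h g h1

theorem Wk_mono (h : T ≤ R) : Wk V T ≤ Wk V R := Wk_le_of fun _ hg => le_Wk (hg.trans h)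

theorem N_le_N_Wk (V T : Subgroup G) : N[T] ≤ N[Wk V T] := by
  intro n hn
  apply mem_N_of_cj_le
  rw [cj_le_iff]
  refine Wk_le_of fun g hg => ?_
  rw [← cj_le_iff, ← cj_mul]
  apply le_Wk
  rw [cj_mul]
  exact cj_le_of_mem_N hg hn

theorem Wk_eq (h1 : Wk V T ≤ R) (h2 : R ≤ T) : Wk V R = Wk V T :=
  le_antisymm (Wk_mono h2) (Wk_le_of fun _ hg => le_Wk ((le_Wk hg).trans h1))

section inv

variable (hQ : Q ⊴ P) (hQV : Q ≤ N[V]) (hA : EA A) (hAP : A ≤ P) (hAV : A ≤ C[V]) (hf : f ∈ P)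
  (ho : Odd (orderOf f)) (ha : a ∈ A) (hi : a * f * a⁻¹ = f⁻¹) (h1 : A₁ ≤ A)
  (hc : ∀ x ∈ A₁, x * f * x⁻¹ * f⁻¹ ∈ Q)

include hAV ho ha hi in
theorem inv_cent : V ⊓ cj f V ≤ C{f} := by
  rintro x ⟨hx, hx'⟩
  have hy : f⁻¹ * x * f ∈ V := mem_cj.1 hx'
  have c1 : a * x = x * a := mem_C'.1 (hAV ha) x hx
  have c2 : a * (f⁻¹ * x * f) = (f⁻¹ * x * f) * a := mem_C'.1 (hAV ha) _ hy
  have e : a * f⁻¹ = f * a := by
    calc a * f⁻¹ = (a * f * a⁻¹)⁻¹ * a := by group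
      _ = f * a := by rw [hi, inv_inv]
  have e' : a * f = f⁻¹ * a := by rw [← hi]; group
  have c3 : f * f ∈ C{x} := by
    rw [mem_C1]
    have : f * x * f⁻¹ * a = f⁻¹ * x * f * a := by
      calc f * x * f⁻¹ * a = f * x * (a * f) := by rw [e']; group
        _ = f * (x * a) * f := by group
        _ = (f * a) * x * f := by rw [← c1]; group
        _ = a * (f⁻¹ * x * f) := by rw [← e]; group
        _ = f⁻¹ * x * f * a := c2
    have h2 : f * x * f⁻¹ = f⁻¹ * x * f := mul_right_cancel this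
    calc f * f * x = f * (f * x * f⁻¹) * f := by group
      _ = x * (f * f) := by rw [h2]; group
  exact mem_C1_comm.1 (H3.NG.mem_of_sq ho c3)

include hQ hQV hAP hAV hf h1 hc in
theorem inv_norm : A₁ ≤ N[cj f V] := by
  intro x hx
  rw [← cj_N, mem_cj]
  have e : f⁻¹ * x * f = (f⁻¹ * (x * f * x⁻¹ * f⁻¹) * f⁻¹⁻¹) * x := by group
  rw [e]
  exact mul_mem (hQV (hQ.conj_mem (inv_mem hf) (hc x hx))) (C_le_N V (hAV (h1 hx)))

include hQ hQV hA hAP hAV hf ho ha hi h1 hc in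
theorem inv_fix (i2 : A₁.relIndex A = 2) (ha1 : a ∉ A₁) (hb : b ∈ A) (hb1 : b ∉ A₁) :
    cj f V ⊓ C{b} ≤ V := by
  rintro x ⟨hx, hx'⟩
  have hy : f⁻¹ * x * f ∈ V := mem_cj.1 hx
  have hab : a * b ∈ A₁ := (mul_mem_idx2 i2 ha hb).2 (by simp [ha1, hb1])
  have a2 : a * a = 1 := ea_sq hA ha
  have b2 : b * b = 1 := ea_sq hA hb
  have bi : b⁻¹ = b := H3.NG.inv_sq b2
  have c1 : b ∈ C{f⁻¹ * x * f} := C_le_C1 hy (hAV hb)
  have c2 : f⁻¹ * b * f ∈ C{f⁻¹ * x * f} := by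
    have : b * x = x * b := (mem_C1.1 hx').symm
    rw [mem_C1]
    calc f⁻¹ * b * f * (f⁻¹ * x * f) = f⁻¹ * (b * x) * f := by group
      _ = f⁻¹ * x * f * (f⁻¹ * b * f) := by rw [this]; group
  have q1 : a * (a * b * f * (a * b)⁻¹ * f⁻¹) * a⁻¹ ∈ Q := hQ.conj_mem (hAP ha) (hc _ hab)
  have e1 : a * (a * b * f * (a * b)⁻¹ * f⁻¹) * a⁻¹ = b * f * b⁻¹ * f := by
    have ai : a⁻¹ = a := H3.NG.inv_sq a2
    have e : a * f⁻¹ * a⁻¹ = f := by
      calc a * f⁻¹ * a⁻¹ = (a * f * a⁻¹)⁻¹ := by group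
        _ = f := by rw [hi, inv_inv]
    calc a * (a * b * f * (a * b)⁻¹ * f⁻¹) * a⁻¹ = (a * a) * b * f * b⁻¹ * (a⁻¹ * f⁻¹ * a⁻¹) := by group
      _ = b * f * b⁻¹ * (a * f⁻¹ * a⁻¹) := by rw [a2, one_mul]; congr 3
      _ = b * f * b⁻¹ * f := by rw [e]
  rw [e1] at q1
  have hK : f ∈ Q ⊔ (P ⊓ C{f⁻¹ * x * f}) := by
    apply H3.NG.mem_of_sq ho
    have e2 : f * f = (f * (b * f * b⁻¹ * f) * f⁻¹) * (b * (f⁻¹ * b * f)) := by
      calc f * f = f * (b * b) * f := by rw [b2]; group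
        _ = _ := by group
    rw [e2]
    have hp : b * (f⁻¹ * b * f) ∈ P := mul_mem (hAP hb) (mul_mem (mul_mem (inv_mem hf) (hAP hb)) hf)
    exact mul_mem (mem_sup_left (hQ.conj_mem hf q1)) (mem_sup_right ⟨hp, mul_mem c1 c2⟩)
  obtain ⟨q, hq, c, ⟨_, hc'⟩, e⟩ := (mem_sup_of_norm (inf_le_left.trans hQ.2)).1 hK
  have e3 : x = q * (f⁻¹ * x * f) * q⁻¹ := by
    have : c * (f⁻¹ * x * f) * c⁻¹ = f⁻¹ * x * f := mem_C1_iff_conj.1 hc'
    calc x = f * (f⁻¹ * x * f) * f⁻¹ := by group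
      _ = (q * c) * (f⁻¹ * x * f) * (q * c)⁻¹ := by rw [← e]
      _ = q * (c * (f⁻¹ * x * f) * c⁻¹) * q⁻¹ := by group
      _ = _ := by rw [this]
  rw [e3]
  exact conj_mem (hQV hq) hy

end inv

/-- a fixed point free automorphism of a four-group is transitive on the involutions -/
theorem four_trans (hW : EA W) (h4 : ♯W = 4) (hd : d ∈ N[W]) (hf : W ⊓ C{d} = ⊥) (ha : a ∈ W) (hb : b ∈ W)
    (a1 : a ≠ 1) (b1 : b ≠ 1) : ∃ e ∈ zpowers d, e * a * e⁻¹ = b := by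
  have nf : ∀ x ∈ W, d * x * d⁻¹ = x → x = 1 := fun x hx e => by
    have : x ∈ W ⊓ C{d} := ⟨hx, mem_C1_comm.1 (mem_C1_iff_conj.2 e)⟩
    rwa [hf, mem_bot] at this
  have ha' : d * a * d⁻¹ ∈ W := conj_mem hd ha
  have a1' : d * a * d⁻¹ ≠ 1 := H3.NG.cjne d a1
  have ne : a ≠ d * a * d⁻¹ := fun e => a1 (nf a ha e.symm)
  rcases H3.NG.four_cases hW h4 ha ha' a1 a1' ne hb with e | e | e | e
  · exact absurd e b1
  · exact ⟨1, one_mem _, by rw [e]; group⟩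
  · exact ⟨d, mem_zpowers d, e.symm⟩
  · refine ⟨d * d, mul_mem (mem_zpowers d) (mem_zpowers d), ?_⟩
    have ha'' : d * (d * a * d⁻¹) * d⁻¹ ∈ W := conj_mem hd ha'
    have e0 : d * d * a * (d * d)⁻¹ = d * (d * a * d⁻¹) * d⁻¹ := by group
    rw [e0]
    rcases H3.NG.four_cases hW h4 ha ha' a1 a1' ne ha'' with e' | e' | e' | e'
    · exact absurd e' (H3.NG.cjne d a1')
    · exfalso
      apply b1
      apply nf b hb
      rw [e, H3.NG.cjm, e']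
      exact H3.NG.ea_comm hW ha' ha
    · exact absurd (nf _ ha' e') a1'
    · rw [e', e]

/-- a subgroup of index at most two meets a subgroup of order four -/
theorem meet_four (hW : W ≤ V) (h4 : ♯W = 4) (h : K.relIndex V ≤ 2) : ∃ x ∈ W, x ∈ K ∧ x ≠ 1 := by
  have h1 := card_le_mul_of_relIndex hW h
  have : W ⊓ K ≠ ⊥ := by
    intro e
    rw [e, card_bot, h4] at h1
    omega
  obtain ⟨x, hx, x1⟩ := exists_ne_one this
  exact ⟨x, hx.1, hx.2, x1⟩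

theorem pow2_cases {n : ℕ} (hA : IsPi {2} A) (h : B.relIndex A = n) : n = 1 ∨ n = 2 ∨ 4 ≤ n := by
  have h1 : PiNat {2} n := h ▸ hA.relIndex B
  have h0 : n ≠ 0 := h ▸ relIndex_ne_zero' B A
  by_contra hc
  have : n = 3 := by omega
  rw [this] at h1
  have := h1 3 Nat.prime_three dvd_rfl
  simp at this

/-- a `2`-group acting on `V / X` has a fixed point -/
theorem exists_fix (hT : IsPi {2} T) (hV : V ≤ T) (hn : T ≤ N[V]) (hX : ¬ V ≤ X) :
    ∃ v ∈ V, v ∉ X ∧ ∀ t ∈ T, t * v * t⁻¹ * v⁻¹ ∈ X := by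
  obtain ⟨K, hK, ⟨h1, h2⟩, hm⟩ := exists_min (P := fun K => T ≤ N[K] ∧ ¬ K ≤ X) (H := V) ⟨hn, hX⟩
  have hb : K ≠ ⊥ := fun e => h2 (e ▸ bot_le)
  have hlt := nil_comm_properl (hT.nil Nat.prime_two) (hK.trans hV) hb le_rfl h1
  have h3 : ⁅K, T⁆ ≤ X := by
    by_contra h3
    exact hlt.ne (hm _ ⟨norm_comm_right K T, h3⟩ hlt.le)
  obtain ⟨v, hv, hv'⟩ := SetLike.not_le_iff_exists.1 h2
  exact ⟨v, hK hv, hv', fun t ht => H3.NG.cm_symm (h3 (H3.NG.cm_mem hv ht))⟩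

/-- a `2`-group `T ≰ K` has an element outside the normal subgroup `T ∩ K` with square inside -/
theorem exists_sq (hT : IsPi {2} T) (h : ¬ T ≤ K) : ∃ t ∈ T, t ∉ K ∧ t * t ∈ K := by
  obtain ⟨t, ht, ht'⟩ := SetLike.not_le_iff_exists.1 h
  obtain ⟨n, hn⟩ := (hT.isPGroup Nat.prime_two) ⟨t, ht⟩
  have hn' : t ^ 2 ^ n = 1 := by simpa using congrArg Subtype.val hn
  clear hn
  induction n generalizing t with
  | zero => exact absurd (by simpa using hn' : t = 1) (fun e => ht' (e ▸ one_mem K))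
  | succ n ih =>
    by_cases h2 : t * t ∈ K
    · exact ⟨t, ht, ht', h2⟩
    · exact ih (t * t) (mul_mem ht ht) h2 (by rw [← sq, ← pow_mul, ← pow_succ', hn'])

theorem zp_sq (hn : t ∈ N[K]) (h : t * t ∈ K) (hx : x ∈ zpowers t) : x * x ∈ K := by
  obtain ⟨n, rfl⟩ := mem_zpowers_iff.1 hx
  have : t ^ n * t ^ n = (t * t) ^ n := by rw [← sq, ← sq, ← zpow_natCast, ← zpow_natCast, ← zpow_mul,
    ← zpow_mul, mul_comm]
  rw [this]
  exact zpow_mem h n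

theorem two_le_relIndex (h : ¬ A ≤ K) : 2 ≤ (A ⊓ K).relIndex A := by
  have h0 := relIndex_ne_zero' (A ⊓ K) A
  have h1 : (A ⊓ K).relIndex A ≠ 1 := fun e => h ((relIndex_eq_one.1 e).trans inf_le_right)
  omega

theorem card_infr (A K : Subgroup G) : ♯(A ⊓ K) * (A ⊓ K).relIndex A = ♯A := card_mul_relIndex inf_le_left

end H26.NGX
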