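import Cfsg.Agent.H12.NGB0
import Cfsg.Agent.H12.NGY
import Cfsg.Agent.H12.NGA2
import Cfsg.Agent.H26.NGX
import Cfsg.Agent.H6.Dihedral

/-! Case (A), `U` and `W` abelian: solvable rank two arguments -/

set_option autoImplicit false
set_option linter.unusedSectionVars false
set_option linter.unusedVariables false

namespace H26.NB

open Subgroup Cfsg H24 H11.ZN H12.NG

universe u

variable {G : Type u} [Group G] [Finite G] {P Q T Y : Subgroup G} {a k : G}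

theorem od2_le (hY : Y ⊴ P) (h : PiNat {2} (Y.relIndex P)) : Od2 P ≤ Y :=
  (closure_le _).2 fun _ hg => zpowers_le.1
    (le_of_idx_compl' hY h (piElt_odd.2 hg.2).isPi (zpowers_le.2 hg.1))

theorem od2_le' (hY : Y ⊴ P) (hT : IsPi {2} T) (hTP : T ≤ P) (h : P ≤ Y ⊔ T) : Od2 P ≤ Y := by
  refine od2_le hY ?_
  rw [le_antisymm h (sup_le hY.le hTP), relIndex_sup_of_norm (hTP.trans hY.norm)]
  exact hT.relIndex Y

/-- the elements centralised by `a` modulo `Q` -/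
def Ca (Q : Subgroup G) (a : G) : Subgroup G where
  carrier := {k | k ∈ N[Q] ∧ a * k * a⁻¹ * k⁻¹ ∈ Q}
  one_mem' := ⟨one_mem _, by simp⟩
  mul_mem' := fun {k l} hk hl => ⟨mul_mem hk.1 hl.1, by
    have := mul_mem hk.2 (conj_mem hk.1 hl.2)
    convert this using 1; group⟩
  inv_mem' := fun {k} hk => ⟨inv_mem hk.1, by
    have := conj_mem' hk.1 (inv_mem hk.2)
    convert this using 1; group⟩

theorem mem_Ca : k ∈ Ca Q a ↔ k ∈ N[Q] ∧ a * k * a⁻¹ * k⁻¹ ∈ Q := Iff.rfl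

theorem le_Ca (ha : a ∈ N[Q]) : Q ≤ Ca Q a := fun _ hq =>
  ⟨norm_self Q hq, mul_mem (conj_mem ha hq) (inv_mem hq)⟩

theorem syl_F2 {H K : Subgroup G} (h1 : Q2 H ≤ K) (h2 : K ≤ F2 H) : Syl 2 K (Q2 H) :=
  syl_of_max two_prime (pcore_pi _ _) h1 fun _ hX _ hK => F2_two hX (hK.trans h2)

end H26.NB

namespace H12.NG

open Subgroup Cfsg H24 H11.ZN H26 H26.NB A6
open H3.NG (four_cent four_mv four_odd four_idx four_ex cm_mem cm_le mem_of_sq two_of_odd one_of_odd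
  mem_zp2 ea_comm zp_two sup3_le)

universe u

variable {G : Type u} [Group G] [Finite G] {S V K H H₀ T P P₁ P₂ X E K₁ : Subgroup G}
  {z y a r b g k m m' u x f δ μ μ' : G} {n : ℕ}

theorem SR2 (hs : Sol (P₁ ⊔ P₂)) (h1 : Prim T P₁) (h2 : Prim T P₂) :
    ⁅Q2 P₁, Od2 P₁⁆ ≤ Q2 P₂ ∨ ⁅Q2 P₂, Od2 P₂⁆ ≤ Q2 P₁ := by
  by_cases e1 : Od2 P₁ ≤ ⊥
  · exact Or.inl (by rw [le_bot_iff.1 e1, commutator_bot_right]; exact bot_le)
  by_cases e2 : Od2 P₂ ≤ ⊥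
  · exact Or.inr (by rw [le_bot_iff.1 e2, commutator_bot_right]; exact bot_le)
  obtain ⟨N, -, ⟨n1, n2, n3⟩, hm⟩ := exists_max
    (P := fun N => N ⊴ P₁ ⊔ P₂ ∧ ¬ Od2 P₁ ≤ N ∧ ¬ Od2 P₂ ≤ N) ⟨Nml.bot _, e1, e2⟩
  have k : ∀ {P}, P ≤ P₁ ⊔ P₂ → Prim T P → ¬ Od2 P ≤ N → N ⊓ T ≤ Q2 P := fun hP h hn =>
    (le_inf (le_inf inf_le_left (inf_le_right.trans h.1.le)) inf_le_right).trans
      ((h.2 _ (n1.inf_right hP)).resolve_left fun e => hn (e.trans inf_le_left))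
  obtain ⟨W, c, -⟩ := exists_chief_above n1 (Nml.refl _)
    (lt_of_le_of_ne n1.le fun e => n2 (e ▸ (Od2_le _).trans le_sup_left))
  obtain ⟨p, hp, he⟩ := c.elem (hs.of_le c.nmlU.le)
  have hi : PiNat {p} (N.relIndex W) :=
    (isPi_quo_iff c.nml.norm).1 (isPi_iff_piElt.2 fun x hx => piElt_of_pow_eq_one (piNat_self hp) (he.2 x hx))
  have key : ∀ {P}, P ≤ P₁ ⊔ P₂ → Prim T P → ¬ Od2 P ≤ N → Od2 P ≤ W → ⁅Q2 P, Od2 P⁆ ≤ N ⊓ T :=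
    fun {P} hP h hn hW => by
      have p2 : p ≠ 2 := by
        rintro rfl
        exact hn (((Od2_Od2 P).ge.trans (Od2_mono hW)).trans (od2_le c.nml hi))
      have e : ⁅Q2 P, Od2 P⁆ ≤ Q2 P := comm_le_left ((Od2_le P).trans (Q2_nml P).norm)
      exact le_inf (le_of_idx_compl c.nml (hi.compl_of_ne p2) ((pcore_pi _ _).of_le e)
        ((comm_mono_right hW).trans (comm_le_right (((pcore_le _ _).trans hP).trans c.nmlU.norm))))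
        (e.trans (pcore_le_Hall h.1))
  by_cases e : Od2 P₁ ≤ W
  · exact Or.inl ((key le_sup_left h1 n2 e).trans (k le_sup_right h2 n3))
  · exact Or.inr ((key le_sup_right h2 n3 (not_not.1 fun e' =>
      c.lt.ne' (hm W ⟨c.nmlU, e, e'⟩ c.le))).trans (k le_sup_left h1 n2))

theorem prim_S3 (hE : EA E) (h4 : ♯E = 4) (hP : P ≤ N[E]) (hT : T ≤ P) (h2 : IsPi {2} T)
    (h0 : P ⊓ C[E] ≤ T) (h1 : ¬ T ≤ C[E]) (hx : x ∈ E) (x1 : x ≠ 1) (hTx : T ≤ C{x})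
    (hPx : ¬ P ≤ C{x}) :
    Prim T P ∧ Q2 P = P ⊓ C[E] ∧
      ∀ a ∈ E, a ≠ 1 → ∀ b ∈ E, b ≠ 1 → ∃ d ∈ Od2 P, d * a * d⁻¹ = b := by
  have i1 := four_idx hE h4 hx x1 (hT.trans hP) hTx h1
  have i2 := six hE h4 hP
  have i3 := relIndex_mul_relIndex (T ⊓ C[E]) T P inf_le_left hT
  rw [i1, show T ⊓ C[E] = P ⊓ C[E] from le_antisymm (inf_le_inf_right _ hT) (le_inf h0 inf_le_right),
    inf_relIndex_left] at i3
  have i4 : T.relIndex P = 3 := by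
    have : T.relIndex P ∣ 3 := Nat.dvd_of_mul_dvd_mul_left two_pos (i3 ▸ i2)
    exact ((Nat.dvd_prime Nat.prime_three).1 this).resolve_left fun e =>
      hPx ((relIndex_eq_one.1 e).trans hTx)
  have syl : Syl 2 P T := Syl.mk' two_prime hT h2 (by rw [i4]; norm_num)
  have cv := covBy_of_relIndex_prime hT (i4 ▸ Nat.prime_three)
  obtain ⟨d, hd, hd'⟩ : ∃ d, (d ∈ P ∧ Odd (orderOf d)) ∧ d ∉ C{x} := by
    by_contra e
    exact hPx ((le_Od2_sup syl).trans (sup_le ((closure_le _).2 fun d hd =>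
      not_not.1 fun e' => e ⟨d, hd, e'⟩) hTx))
  have df : E ⊓ C{d} = ⊥ := eq_bot_iff.2 fun v hv => mem_bot.2 (not_not.1 fun v1 =>
    hd' (C_le_C1 hx (four_odd hE h4 hv.1 v1 (hP hd.1) (mem_C1_comm.1 hv.2) hd.2)))
  refine ⟨⟨syl, fun Y hY => ?_⟩, le_antisymm (le_inf (pcore_le _ _) fun q hq => ?_)
    (pcore_max (h2.of_le h0) (nml_inf_of_norm (hP.trans (N_le_NC E)))), fun a ha a1 b hb b1 => ?_⟩
  · rcases covBy_eq_or cv (le_sup_right : T ≤ Y ⊔ T) (sup_le hY.le hT) with e | e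
    · exact Or.inr (inf_le_left.trans (pcore_max (h2.of_le (le_sup_left.trans e.le)) hY))
    · exact Or.inl (od2_le' hY h2 hT e.ge)
  · have q1 := hTx (pcore_le_Hall syl hq)
    have q2 := mem_C1.1 (hTx (pcore_le_Hall syl (conj_mem' ((Q2_nml P).norm hd.1) hq)))
    refine four_cent hE h4 hx (conj_mem (hP hd.1) hx) x1 (H3.NG.cjne d x1)
      (fun e => hd' (mem_C1_iff_conj.2 e.symm)) (mem_C1.1 q1) ?_
    calc q * (d * x * d⁻¹) = d * (d⁻¹ * q * d * x) * d⁻¹ := by group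
      _ = d * x * d⁻¹ * q := by rw [q2]; group
  · obtain ⟨e, he, e1⟩ := NGX.four_trans hE h4 (hP hd.1) df ha hb a1 b1
    exact ⟨e, zpowers_le.2 (mem_Od2 hd.1 hd.2) he, e1⟩

theorem prim_odd (hs : Sol H) (h1 : Q2 H ≤ K₁) (h2 : K₁ ≤ F2 H) (hT : T ≤ H) (pT : IsPi {2} T)
    (hn : T ≤ N[K₁]) (ha : a ∈ T) (hc : ¬ ∀ k ∈ K₁, a * k * a⁻¹ * k⁻¹ ∈ Q2 H)
    (hX1 : Od2 K₁ ≤ X) (hX2 : T ≤ X) (hX3 : X ⊓ (Q2 H ⊔ T) ≤ T) :
    ∃ K₀, Q2 H ≤ K₀ ∧ K₀ ≤ K₁ ∧ T ≤ N[K₀] ∧ (¬ ∀ k ∈ K₀, a * k * a⁻¹ * k⁻¹ ∈ Q2 H) ∧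
      Prim T (Od2 K₀ ⊔ T) := by
  obtain ⟨K, k1, ⟨k2, k3, k4⟩, hm⟩ := exists_min
    (P := fun K => Q2 H ≤ K ∧ T ≤ N[K] ∧ ¬ K ≤ Ca (Q2 H) a) ⟨h1, hn, fun e => hc fun k hk => (e hk).2⟩
  have kF := k1.trans h2
  have kH := kF.trans (F2_le H)
  have hQ := (Q2_nml H).norm
  have tO := k3.trans (N_le_N_Od2 K)
  have pX : Od2 K ⊔ T ≤ X := sup_le ((Od2_mono k1).trans hX1) hX2
  have pH : Od2 K ⊔ T ≤ H := sup_le ((Od2_le K).trans kH) hT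
  have kO := le_Od2_sup (syl_F2 k2 kF)
  refine ⟨K, k2, k1, k3, fun e => k4 fun k hk => ⟨hQ (kH hk), e k hk⟩,
    syl_of_max two_prime pT le_sup_right fun T' p1 p2 p3 t ht => ?_, fun Y hY => ?_⟩
  · obtain ⟨k, hk, s, hs, e⟩ := (mem_sup_of_norm tO).1 (p3 ht)
    refine hX3 (mem_inf.2 ⟨pX (p3 ht), e ▸ mul_mem_sup ?_ hs⟩)
    exact F2_two (p1.inf_left K) (inf_le_right.trans kF)
      (mem_inf.2 ⟨(mul_mem_cancel_right (p2 hs)).1 (e ▸ ht), Od2_le K hk⟩)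
  have bT : Y ⊓ T ≤ T := inf_le_right
  have bH := bT.trans hT
  have tB : T ≤ N[Y ⊓ T] := norm_inf (le_sup_right.trans hY.norm) (norm_self T)
  have cb : ⁅K, Y ⊓ T⁆ ≤ K := comm_le_left (bT.trans k3)
  by_cases e1 : K ⊓ Kq (Y ⊓ T) (Q2 H) ≤ Ca (Q2 H) a
  swap
  · have e := hm _ ⟨le_inf k2 fun q hq => mem_Kq.2 ⟨norm_self _ hq, fun b hb =>
      H3.NG.cm_symm (mul_mem (conj_mem (hQ (bH hb)) hq) (inv_mem hq))⟩,
      norm_inf k3 (norm_Kq tB (hT.trans hQ)), e1⟩ inf_le_left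
    have nD : Od2 K ⊔ T ≤ N[Q2 H ⊓ (Od2 K ⊔ T)] := norm_inf (pH.trans hQ) (norm_self _)
    refine Or.inr (le_sup_right.trans (pcore_max' (((pcore_pi _ _).inf_left _).sup (pT.of_le bT)
      ((bT.trans le_sup_right).trans nD)) (sup_le inf_le_right (bT.trans le_sup_right))
      (sup_le (fun g hg => mem_N_of_cj_le ?_) (norm_sup (le_sup_right.trans nD) tB))))
    rw [cj_sup, cj_of_mem_N (nD (mem_sup_left hg))]
    refine sup_le le_sup_left fun x hx => ?_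
    obtain ⟨b, hb, rfl⟩ := mem_cj'.1 hx
    rw [← inv_mul_cancel_right (g * b * g⁻¹) b]
    have g1 : g ∈ Od2 K ⊔ T := mem_sup_left hg
    have b1 : b ∈ Od2 K ⊔ T := mem_sup_right hb.2
    exact mul_mem_sup (mem_inf.2 ⟨(e.ge (Od2_le K hg)).2.2 b hb,
      mul_mem (mul_mem (mul_mem g1 b1) (inv_mem g1)) (inv_mem b1)⟩) hb
  by_cases e2 : ⁅K, Y ⊓ T⁆ ⊔ Q2 H ≤ Ca (Q2 H) a
  swap
  · have e := hm _ ⟨le_sup_right, norm_sup (norm_comm k3 tB) (hT.trans hQ), e2⟩ (sup_le cb k2)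
    have e3 : K ≤ Q2 H ⊔ Y := e.ge.trans (sup_le (cm_le fun k hk b hb => by
      obtain ⟨o, ho, q, hq, rfl⟩ := (mem_sup_of_norm (k2.trans (Od2_nml K).norm)).1 (kO hk)
      have : o * q * b * (o * q)⁻¹ * b⁻¹ = o * (q * (b * q⁻¹ * b⁻¹)) * o⁻¹ * (o * b * o⁻¹ * b⁻¹) := by group
      rw [this]
      exact mul_mem_sup (conj_mem (hQ (kH (Od2_le K ho))) (mul_mem hq (conj_mem (hQ (bH hb)) (inv_mem hq))))
        (mul_mem (conj_mem (hY.norm (mem_sup_left ho)) hb.1) (inv_mem hb.1))) le_sup_left)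
    refine Or.inl (od2_le' hY pT le_sup_right (sup_le (fun g hg => ?_) le_sup_right))
    obtain ⟨q, hq, y, hy, e4⟩ := (mem_sup_of_norm ((hY.le.trans pH).trans hQ)).1 (e3 (Od2_le K hg))
    rw [e4]
    exact mul_mem (mem_sup_right (hX3 (mem_inf.2 ⟨pX ((mul_mem_cancel_right (hY.le hy)).1
      (e4 ▸ mem_sup_left hg)), mem_sup_left hq⟩))) (mem_sup_left hy)
  refine absurd (le_trans ?_ (sup_le e2 e1)) k4
  have hp := coprime_cent_prod (quo_norm (Q2 H) (bT.trans k3))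
    (((odd_quo_F2 H).of_le (quo_F2 H ▸ quo_mono _ kF)).coprime' ((pT.of_le bT).quo _))
    ((hs.of_le kH).quo _)
  have le : ⁅K, Y ⊓ T⁆ ⊔ Q2 H ⊔ K ⊓ Kq (Y ⊓ T) (Q2 H) ≤ K := sup_le (sup_le cb k2) inf_le_left
  refine le_of_quo_le (kH.trans hQ) ⟨le_sup_right.trans le_sup_left, (le.trans kH).trans hQ⟩
    (hp.sup_eq.ge.trans (sup_le ?_ fun c hc => ?_))
  · rw [← quo_comm (kH.trans hQ) (bH.trans hQ)]
    exact quo_mono _ (le_sup_left.trans le_sup_left)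
  · obtain ⟨k, hk, k5, rfl⟩ := mem_quo.1 hc.1
    refine cs_mem_quo (mem_sup_right (mem_inf.2 ⟨hk, k5, fun b hb => ?_⟩)) k5
    have b1 := hQ (bH hb)
    rw [← cs_eq_one (mul_mem (mul_mem (mul_mem k5 b1) (inv_mem k5)) (inv_mem b1)), cs,
      ap_mul _ (mul_mem (mul_mem k5 b1) (inv_mem k5)) (inv_mem b1), ap_conj _ k5 b1, ap_inv _ b1,
      conj_eq_of_mem_C hc.2 (cs_mem_quo hb b1), mul_inv_cancel]

theorem dih2 (hE : EA E) (h4 : ♯E = 4) (h1 : IsPi {2} P₁) (h2 : IsPi {2} P₂) (n1 : P₁ ≤ N[E])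
    (n2 : P₂ ≤ N[E]) (c1 : C[E] ≤ N[P₁]) (c2 : C[E] ≤ N[P₂]) :
    (P₁ ⊔ P₂) ⊓ C[E] ≤ Q2 C[E] ∧ ⁅P₁ ⊔ P₂, C[E]⁆ ≤ Q2 C[E] := by
  have nO : N[E] ≤ N[Q2 C[E]] := (N_le_NC E).trans (N_le_N_pcore _ _)
  have key : ∀ {P}, IsPi {2} P → P ≤ N[E] → C[E] ≤ N[P] → P ≤ Kq C[E] (Q2 C[E]) ∧
      ∃ x ∈ P, cs (Q2 C[E]) x * cs (Q2 C[E]) x = 1 ∧ quo P (Q2 C[E]) ≤ zpowers (cs (Q2 C[E]) x) :=
    fun {P} h n c => by
      have k : P ⊓ C[E] ≤ Q2 C[E] := pcore_max' (h.inf_left _) inf_le_right (norm_inf c (norm_self _))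
      refine ⟨fun g hg => ⟨nO (n hg), fun a ha => k (mem_inf.2 ⟨?_,
        mul_mem (conj_mem (N_le_NC E (n hg)) ha) (inv_mem ha)⟩)⟩, ?_⟩
      · rw [mul_assoc, mul_assoc, ← mul_assoc a]
        exact mul_mem hg (conj_mem (c ha) (inv_mem hg))
      by_cases e : P ≤ C[E]
      · exact ⟨1, one_mem _, by simp, (quo_eq_bot_of_le ((le_inf le_rfl e).trans k)).le.trans bot_le⟩
      obtain ⟨x, hx, hx'⟩ := SetLike.not_le_iff_exists.1 e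
      have i : C[E].relIndex P = 2 := by
        have i1 := six hE h4 n
        have i2 := (h.relIndex C[E]).not_dvd Nat.prime_three (by simp)
        have i3 : C[E].relIndex P ≠ 1 := fun e' => e (relIndex_eq_one.1 e')
        have i4 := Nat.le_of_dvd (by norm_num) i1
        generalize C[E].relIndex P = j at *
        interval_cases j <;> simp_all
      have x1 := nO (n hx)
      refine ⟨x, hx, ?_, ?_⟩
      · rw [cs, ← ap_mul _ x1 x1]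
        exact cs_of_mem (k (mem_inf.2 ⟨mul_mem hx hx, (mul_mem_idx2 i hx hx).2 Iff.rfl⟩))
      · rw [← quo_zpowers x1, quo_le_quo_iff (n.trans nO) (zpowers_le.2 x1), sup_comm]
        exact (sup_of_idx2 ((inf_relIndex_left P C[E]).trans i) inf_le_left hx fun e => hx' e.2).le.trans
          (sup_le_sup_right k _)
  obtain ⟨k1, x, hx, x2, k2⟩ := key h1 n1 c1
  obtain ⟨k3, y, hy, y2, k4⟩ := key h2 n2 c2
  have kq := sup_le k1 k3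
  have nL := (sup_le n1 n2).trans nO
  refine ⟨le_sup_right.trans (pcore_max' ((pcore_pi _ _).sup (two_of_odd fun g hg ho => ?_)
    (inf_le_left.trans nL)) (sup_le (pcore_le _ _) inf_le_right) fun c hc => mem_N_of_cj_le ?_),
    cm_le fun g hg c hc => (kq hg).2 c hc⟩
  · have g1 := nL hg.1
    have x1 := nO (n1 hx)
    refine one_of_odd (pcore_pi _ _) (mem_of_sq ho ((cs_eq_one (mul_mem g1 g1)).1 ?_)) ho
    have : cs (Q2 C[E]) g ∈ closure ({cs (Q2 C[E]) x, cs (Q2 C[E]) y} : Set _) := by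
      refine (?_ : quo (P₁ ⊔ P₂) (Q2 C[E]) ≤ _) (cs_mem_quo hg.1 g1)
      rw [quo_sup (n1.trans nO) (n2.trans nO)]
      exact sup_le (k2.trans (zpowers_le.2 (subset_closure (by simp))))
        (k4.trans (zpowers_le.2 (subset_closure (by simp))))
    rw [cs, ap_mul _ g1 g1]
    obtain ⟨j, e | e⟩ := (H6.mem_closure_pair_iff x2 y2).1 this
    · have e1 := (cs_eq_one (mul_mem (mul_mem (mul_mem x1 g1) (inv_mem x1)) (inv_mem g1))).2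
        ((k1 hx).2 g hg.2)
      rw [cs, ap_mul _ (mul_mem (mul_mem x1 g1) (inv_mem x1)) (inv_mem g1), ap_conj _ x1 g1, ap_inv _ g1,
        mul_inv_eq_one] at e1
      have e2 := H6.conj_zpow_left x2 y2 j
      rw [zpow_neg, ← e, e1] at e2
      nth_rewrite 1 [e2]
      exact inv_mul_cancel _
    · exact (congrArg₂ (· * ·) e e).trans (H6.refl_mul_self x2 y2 j)
  · rw [cj_sup, cj_of_mem_N ((pcore_nml _ _).norm hc)]
    refine sup_le le_sup_left fun w hw => ?_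
    obtain ⟨b, hb, rfl⟩ := mem_cj'.1 hw
    rw [← inv_mul_cancel_right (c * b * c⁻¹) b]
    exact mul_mem_sup (H3.NG.cm_symm ((kq hb.1).2 c hc)) hb

theorem CA.L_inf (h : CA S V z) : (Lv V ⊔ S) ⊓ C[V] ≤ S := by
  obtain ⟨y, hy, y1, yz⟩ := h.ex_w₁
  obtain ⟨x, hx, hx'⟩ := exX h
  have k1 : Lv V ≤ Qz z ⊔ Qz y := sup3_le fun w hw w1 => by
    rcases H3.NG.four_cases h.ea h.card h.z_mem hy h.z1 y1 yz.symm hw with e | e | e | e
    · exact absurd e w1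
    · exact e ▸ le_sup_left
    · exact e ▸ le_sup_right
    · rw [e, ← h.mv₁ h.z_mem h.z1 hx hx' hy y1 yz.symm, CA.Qz_conj]
      exact cj_le_of_mem le_sup_right (mem_sup_left hx)
  have k2 := (dih2 h.ea h.card (pcore_pi _ _) (pcore_pi _ _) h.Q_le_N₁ (h.Qy_le_N₁ hy y1)
    (h.CV_le₁.trans QN) ((C_le_C1 hy).trans QN)).1
  have k3 : Lv V ⊔ S ≤ S ⊓ C[V] ⊔ Lv V := sup_le le_sup_right
    ((sup_of_idx2 h.idx_R inf_le_left (h.Q_le_S hx) fun e => hx' e.2).le.trans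
      (sup_le_sup_left (zpowers_le.2 (CA.Q_le_L₁ h.z_mem h.z1 hx)) _))
  intro g hg
  obtain ⟨r, hr, l, hl, e⟩ := (mem_sup_of_norm (h.L_norm₁ h.QV_le inf_le_right)).1 (k3 hg.1)
  exact e ▸ mul_mem hr.1 (h.QV_le (k2 (mem_inf.2 ⟨k1 hl, (mul_mem_cancel_left (mem_inf.1 hr).2).1 (e ▸ (mem_inf.1 hg).2)⟩))).1

theorem CA.F_cent (h : CA S V z) : F2 C{z} ≤ C[OZ (Qz z)] := by
  have hF := F2_le C{z}
  have hFn := (norm_self C{z}).trans (N_le_N_F2 _)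
  have hY : C{z} ≤ N[OZ (Qz z)] := norm_OZ QN
  obtain ⟨F0, hF0⟩ := Hall_exists {2}ᶜ (h.ch2.1.of_le hF)
  have hp := ((syl_F2 (Q2_le_F2 C{z}) le_rfl).isProd hF0).symm
  refine comm_eq_bot'.1 ?_
  by_contra hn
  have h2 := h.z_mem_of₁ ((ea_pi (OZ_ea _)).of_le (comm_le_left (hF.trans hY)))
    (norm_comm (h.S_le_C.trans hY) (h.S_le_C.trans hFn)) hn
  rw [hp.comm_right_of_cent (le_C_OZ _)] at h2
  exact h.z1 (mem_bot.1 (coprime_abel_cent_TI ((hF0.le.trans hF).trans hY)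
    ((ea_pi (OZ_ea _)).coprime hF0.pi) (OZ_ea _).1 ▸ mem_inf.2
      ⟨h2, mem_C_iff_le_C1.2 (hF0.le.trans hF)⟩))

theorem CA.F_cent' (h : CA S V z) (hU : Abl (Uz V z)) : F2 C{z} ≤ C[Uz V z ⊓ C[Qz z]] :=
  cents_of_le h.F_cent (le_OZ (inf_le_left.trans h.U_le_Q) inf_le_right (ea_le (Uea h hU) inf_le_left))

theorem CA.cq (h : CA S V z) (hU : Abl (Uz V z)) (hk : k ∈ F2 C{z}) (ho : Odd (orderOf k))
    (hu : u ∈ Uz V z) (hc : ⁅Qz z, zpowers k⁆ ≤ C{u}) : k ∈ C{u} := by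
  have kC := F2_le _ hk
  have kz := mem_C1_iff_conj.1 kC
  have hp := coprime_cent_prod (zpowers_le.2 (QN kC)) ((pcore_pi _ _).coprime (piElt_odd.2 ho).isPi)
    ((pcore_pi _ C{z}).sol two_prime)
  have hu' := conj_mem (UN h kC) hu
  have ea := Uea h hU
  have w : u * (k * u * k⁻¹) ∈ C[Qz z] := mem_C_iff_le_C1.2 (hp.sup_eq.ge.trans (sup_le (fun x hx => ?_)
    fun x hx => ?_))
  · have w1 := conj_eq_of_mem_C (h.F_cent' hU hk) (mem_inf.2 ⟨mul_mem hu hu', w⟩)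
    rw [H3.NG.cjm, ea_comm ea hu hu', mul_right_inj] at w1
    refine mem_of_sq ho (mem_C1_iff_conj.2 ?_)
    calc _ = k * (k * u * k⁻¹) * k⁻¹ := by group
      _ = u := w1
  · refine mem_C1_comm.1 (mul_mem (mem_C1_comm.1 (hc hx)) (mem_C1_comm.1 (mem_C1.2 ?_)))
    have := mem_C1.1 (hc (conj_mem' (norm_comm_right _ _ (mem_zpowers k)) hx))
    calc x * (k * u * k⁻¹) = k * (k⁻¹ * x * k * u) * k⁻¹ := by group
      _ = k * u * k⁻¹ * x := by rw [this]; group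
  · have xk := mem_C.1 hx.2 k (mem_zpowers k)
    have e : x * (k * u * k⁻¹) * x⁻¹ = k * (x * u * x⁻¹) * k⁻¹ := by
      calc x * (k * u * k⁻¹) * x⁻¹ = x * k * u * (x * k)⁻¹ := by group
        _ = _ := by rw [← xk]; group
    rw [mem_C1_iff_conj, H3.NG.cjm, e]
    rcases (mem_zp2 h.z_sq).1 (h.cm_U₁ hu hx.1) with e1 | e1
    · rw [mul_inv_eq_one.1 e1]
    · rw [mul_inv_eq_iff_eq_mul.1 e1, H3.NG.cjm, kz, ea_comm ea (h.V_le_U h.z_mem) hu, mul_assoc,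
        H3.NG.mml h.z_sq]

theorem CA.endSR (h : CA S V z) (hU : Abl (Uz V z)) (hs : Sol H₀) (hT : T ≤ C{z}) (pT : IsPi {2} T)
    (h1 : Qz z ≤ K₁) (h2 : K₁ ≤ F2 C{z}) (hn : T ≤ N[K₁]) (hX1 : Od2 K₁ ≤ H₀)
    (hX3 : H₀ ⊓ (Qz z ⊔ T) ≤ T) (hP : P₂ ≤ H₀) (hTP : T ≤ P₂) (hE : E ≤ Uz V z) (h4 : ♯E = 4)
    (hz : z ∈ E) (hPE : P₂ ≤ N[E]) (h0 : P₂ ⊓ C[E] ≤ T) (hTE : ¬ T ≤ C[E]) (hPz : ¬ P₂ ≤ C{z})
    (ha : a ∈ T) (haE : a ∈ C[E])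
    (hQ : ∀ k ∈ K₁, Odd (orderOf k) → ⁅Qz z, zpowers k⁆ ≤ H₀)
    (hF : ∀ k ∈ K₁, k ∈ C[E] → a * k * a⁻¹ * k⁻¹ ∈ Qz z)
    (hy : y ∈ E) (y1 : y ≠ 1)
    (hd : ∀ d ∈ P₂, d * y * d⁻¹ = z → ∀ k ∈ K₁, (d * a * d⁻¹) * k * (d * a * d⁻¹)⁻¹ * k⁻¹ ∈ Qz z) :
    ∀ k ∈ K₁, a * k * a⁻¹ * k⁻¹ ∈ Qz z := by
  by_contra hc
  obtain ⟨K, k1, k2, k3, k4, p1⟩ := prim_odd h.ch2.1 h1 h2 hT pT hn ha hc hX1 (hTP.trans hP) hX3
  obtain ⟨p2, q2, tr⟩ := prim_S3 (ea_le (Uea h hU) hE) h4 hPE hTP pT h0 hTE hz h.z1 hT hPz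
  have kF := k2.trans h2
  have kC := kF.trans (F2_le _)
  have pH : Od2 K ⊔ T ≤ H₀ := sup_le ((Od2_mono k2).trans hX1) (hTP.trans hP)
  have pC : Od2 K ⊔ T ≤ C{z} := sup_le ((Od2_le K).trans kC) hT
  refine k4 fun k hk => (?_ : K ≤ Ca (Qz z) a) hk |>.2
  refine (le_Od2_sup (syl_F2 k1 kF)).trans (sup_le ((closure_le _).2 fun k hk => ⟨QN (kC hk.1), ?_⟩)
    (le_Ca (QN (hT ha))))
  have kP : k ∈ Od2 K ⊔ T := mem_sup_left (mem_Od2 hk.1 hk.2)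
  rcases SR2 (hs.of_le (sup_le pH hP)) p1 p2 with e | e
  · refine hF k (k2 hk.1) (mem_C_iff_le_C1.2 fun u hu => mem_C1_comm.1 (h.cq hU (kF hk.1) hk.2 (hE hu) ?_))
    have n := zpowers_le.2 (QN (kC hk.1))
    rw [← coprime_commGid n ((pcore_pi _ _).coprime (piElt_odd.2 hk.2).isPi)
      ((pcore_pi _ C{z}).sol two_prime)]
    refine ((commutator_mono ?_ (zpowers_le.2 (mem_Od2 kP hk.2))).trans (e.trans q2.le)).trans
      (inf_le_right.trans (C_le_C1 hu))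
    exact (le_inf (comm_le_left n) (hQ k (k2 hk.1) hk.2)).trans (pcore_max' ((pcore_pi _ _).inf_left _)
      ((le_inf inf_le_right (inf_le_left.trans le_sup_left)).trans (hX3.trans le_sup_right))
      (norm_inf (pC.trans QN) (norm_of_le pH)))
  · obtain ⟨d, d1, d2⟩ := tr y hy y1 z hz h.z1
    have n1 := e (cm_mem (q2.ge (mem_inf.2 ⟨hTP ha, haE⟩)) d1)
    have n2 := pC (pcore_le _ _ n1)
    have e1 : a * k * a⁻¹ * k⁻¹ = a * d * a⁻¹ * d⁻¹ * (d * a * d⁻¹ * k * (d * a * d⁻¹)⁻¹ * k⁻¹) *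
        (a * d * a⁻¹ * d⁻¹)⁻¹ * (a * d * a⁻¹ * d⁻¹ * k * (a * d * a⁻¹ * d⁻¹)⁻¹ * k⁻¹) := by group
    rw [e1]
    refine mul_mem (conj_mem (QN n2) (hd d (Od2_le _ d1) d2 k (k2 hk.1)))
      (F2_two ((pcore_pi _ (Od2 K ⊔ T)).inf_left _) inf_le_right (mem_inf.2 ⟨?_,
        mul_mem (conj_mem ((F2_nml _).norm n2) (kF hk.1)) (inv_mem (kF hk.1))⟩))
    exact comm_le_left (Q2_nml _).norm (cm_mem n1 kP)

theorem CB.NQ (h : CB S V z) : N[Qz z] ≤ C{z} := fun g hg => by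
  have a := h.toCA
  have c := a.l2 _ (pcore_pi _ _) a.Q_ne₁
  have s : S ≤ N[Qz z] := a.S_le_C.trans QN
  have k := h.ys _ c s (conj_mem ((Ys_red c).nml.norm hg) (OZ_le_Ys c (a.syl.of_le s le_top) a.z_OZ₁))
  rw [mem_C1_iff_conj]
  by_contra e
  refine a.Q_not_le fun q hq => four_cent a.ea a.card a.z_mem k a.z1 (H3.NG.cjne g a.z1) (Ne.symm e)
    (mem_C1.1 (QC hq)) ?_
  have := mem_C1.1 (QC (conj_mem' hg hq))
  calc q * (g * z * g⁻¹) = g * (g⁻¹ * q * g * z) * g⁻¹ := by group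
    _ = g * z * g⁻¹ * q := by rw [this]; group

theorem CB.Z0 (h : CB S V z) (h1 : g * z * g⁻¹ ∈ Qz z) (h2 : g * z * g⁻¹ ∈ C[Qz z]) :
    g * z * g⁻¹ = z := by
  have a := h.toCA
  have y2 : g * z * g⁻¹ ∈ OZ (Qz z) := mem_OZ.2 ⟨h1, h2, by
    rw [pow_two, ← H3.NG.cjm, a.z_sq, mul_one, mul_inv_cancel]⟩
  have f1 : F2 C{z} ≤ N[Qz (g * z * g⁻¹)] := (a.F_cent.trans (C_le_C1 y2)).trans QN
  have k1 : Qz (g * z * g⁻¹) ⊓ C{z} ≤ Qz z := F2_two ((pcore_pi _ _).inf_left _) fun x hx =>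
    F2_cent a.ch2.1 hx.2 fun f hf => F2_two ((pcore_pi _ C{g * z * g⁻¹}).inf_left _) inf_le_right
      (mem_inf.2 ⟨comm_le_left f1 (cm_mem hx.1 hf),
        mul_mem (conj_mem ((F2_nml _).norm hx.2) hf) (inv_mem hf)⟩)
  have n : Qz z ≤ N[Qz (g * z * g⁻¹)] := (Q2_le_F2 _).trans f1
  have k2 := (((pcore_pi _ _).sup' (pcore_pi _ _) n).nil two_prime).eq_of_norm_le le_sup_left
    fun x hx => by
      obtain ⟨q, hq, w, hw, e⟩ := (mem_sup_of_norm' n).1 hx.1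
      exact e ▸ mul_mem hq (k1 (mem_inf.2 ⟨hw, h.NQ ((mul_mem_cancel_left (norm_self _ hq)).1 (e ▸ hx.2))⟩))
  have k3 : cj g (Qz z) ≤ Qz z := CA.Qz_conj g z ▸ le_sup_right.trans k2.ge
  exact mem_C1_iff_conj.1 (h.NQ (mem_N_of_cj_le k3))

end H12.NG
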