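import Mathlib
import Cfsg.Agent.H26.NGX
import Cfsg.Agent.H12.NGO1

/-!
# N-groups, case II: the Sylow subgroup `R = C_S(V)` of `C(V)`
-/

set_option autoImplicit false
set_option linter.unusedSectionVars false
set_option linter.unusedVariables false

namespace H26.NGX

open Subgroup Cfsg H24 H11.ZN H12.NG

universe u

variable {G : Type u} [Group G] [Finite G] {V H M A B P Q R S T W X Y K L : Subgroup G}
  {a b d f g t x y : G}

theorem ch2_C (h : L2 G) (hX : IsPi {2} X) (h1 : X ≠ ⊥) : Ch2 C[X] := (h X hX h1).nml (C_nml_N X)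

section CII

variable (h : CII S M V)
include h

theorem eaV : EA V := h.red.ea

theorem CV_le : C[V] ≤ M := h.nv ▸ C_le_N V

theorem M_le : M ≤ N[V] := h.nv.le

theorem le_M : N[V] ≤ M := h.nv.ge

theorem V_le_R : V ≤ S ⊓ C[V] := h.oz.le.trans (OZ_le _)

theorem R_pi : IsPi {2} (S ⊓ C[V]) := h.syl.pi.inf_left _

theorem R_syl : Syl 2 C[V] (S ⊓ C[V]) :=
  (h.syl.of_le h.le le_top).inf_nml (h.nv ▸ C_nml_N V)

theorem R_le_M : S ⊓ C[V] ≤ M := inf_le_left.trans h.le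

theorem inf_C_eq (hT : IsPi {2} T) (hR : S ⊓ C[V] ≤ T) : T ⊓ C[V] = S ⊓ C[V] :=
  (R_syl h).eq_of_le (hT.inf_left _) (le_inf hR inf_le_right) inf_le_right

theorem OZ_le_V (hT : IsPi {2} T) (hR : S ⊓ C[V] ≤ T) : OZ T ≤ V := by
  intro z hz
  obtain ⟨h1, h2, h3⟩ := mem_OZ.1 hz
  rw [h.oz, mem_OZ]
  refine ⟨?_, C_anti hR h2, h3⟩
  rw [← inf_C_eq h hT hR]
  exact ⟨h1, C_anti ((V_le_R h).trans hR) h2⟩

theorem le_OZT (hR : S ⊓ C[V] ≤ T) (hX : X ≤ V) (hc : T ≤ C[X]) : X ≤ OZ T := fun x hx =>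
  mem_OZ.2 ⟨hR (V_le_R h (hX hx)), cents_symm hc hx, by rw [sq]; exact ea_sq (eaV h) (hX hx)⟩

theorem S_ne : S ≠ ⊥ := ne_bot_of_le h.ne ((V_le_R h).trans inf_le_left)

theorem NS_le : N[S] ≤ M := (N_le_N_Bm S).trans h.nB

theorem le_NR (hT : IsPi {2} T) (hR : S ⊓ C[V] ≤ T) (hM : T ≤ M) : T ≤ N[S ⊓ C[V]] := by
  rw [← inf_C_eq h hT hR]
  exact norm_inf (norm_self T) (norm_C (hM.trans (M_le h)))

/-- a `2`-subgroup of `C(V)` normalizing `R` lies in `R` -/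
theorem le_R (hA : IsPi {2} A) (h1 : A ≤ C[V]) (h2 : A ≤ N[S ⊓ C[V]]) : A ≤ S ⊓ C[V] :=
  (R_syl h).le_of_norm hA h1 h2

theorem mem_M_of_le (hg : cj g V ≤ V) : g ∈ M := le_M h (mem_N_of_cj_le hg)

end CII

end H26.NGX
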