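import Mathlib
import Cfsg.Agent.H24.Base5
import Cfsg.Agent.H7.SL

/-! A group acting on a family of subgroups coordinatised by a projective space like `PSL`. -/

set_option autoImplicit false
set_option linter.unusedSectionVars false
set_option linter.unusedVariables false

namespace H26.TK

open Cfsg H24 Subgroup Matrix
open scoped LinearAlgebra.Projectivization

universe u

variable {G : Type u} [Group G] {K : Type} [Field K] {N : ℕ}

/-- `γ` acts like `m` -/
def Rl (β : (Fin N → K) → Subgroup G) (γ : G) (m : SpecialLinearGroup (Fin N) K) : Prop :=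
  ∀ x, x ≠ 0 → cj γ (β x) = β (m • x)

variable {β : (Fin N → K) → Subgroup G} {γ γ' : G} {m m' : SpecialLinearGroup (Fin N) K}

theorem Rl.one : Rl β 1 1 := fun x _ => by simp

theorem Rl.mul (h : Rl β γ m) (h' : Rl β γ' m') : Rl β (γ * γ') (m * m') := fun x hx => by
  rw [cj_mul, h' x hx, h _ ((smul_ne_zero_iff_ne m').2 hx), mul_smul]

theorem Rl.inv (h : Rl β γ m) : Rl β γ⁻¹ m⁻¹ := fun x hx => by
  have := h _ ((smul_ne_zero_iff_ne m⁻¹).2 hx)
  rw [smul_inv_smul] at this
  rw [← this, cj_inv_cj]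

/-- the elements of `G` acting linearly -/
def lin (β : (Fin N → K) → Subgroup G) : Subgroup G where
  carrier := {γ | ∃ m, Rl β γ m}
  one_mem' := ⟨1, Rl.one⟩
  mul_mem' := fun ⟨m, h⟩ ⟨m', h'⟩ => ⟨_, h.mul h'⟩
  inv_mem' := fun ⟨m, h⟩ => ⟨_, h.inv⟩

theorem exists_rl (htv : ∀ (i j : Fin N) (hij : i ≠ j) (c : K),
    ∃ γ, Rl β γ (SpecialLinearGroup.transvection hij c)) (m : SpecialLinearGroup (Fin N) K) :
    ∃ γ, Rl β γ m :=
  H7.sl_transvection_induction (fun m => ∃ γ, Rl β γ m) ⟨1, Rl.one⟩ htv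
    (fun _ _ ⟨_, h⟩ ⟨_, h'⟩ => ⟨_, h.mul h'⟩) m

theorem exists_trans (h1 : ∀ x y, x ≠ 0 → y ≠ 0 → (β x = β y ↔ ∃ c : K, c • y = x))
    (hall : ∀ m, ∃ γ, Rl β γ m) {x y : Fin N → K} (hx : x ≠ 0) (hy : y ≠ 0) :
    ∃ γ ∈ lin β, cj γ (β x) = β y := by
  obtain ⟨m, hm⟩ := MulAction.exists_smul_eq (SpecialLinearGroup (Fin N) K)
    (Projectivization.mk K x hx) (Projectivization.mk K y hy)
  obtain ⟨γ, hγ⟩ := hall m
  refine ⟨γ, ⟨m, hγ⟩, ?_⟩
  rw [Projectivization.smul_mk, Projectivization.mk_eq_mk_iff'] at hm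
  rw [hγ x hx]
  exact (h1 _ _ ((smul_ne_zero_iff_ne m).2 hx) hy).2 hm

theorem psl_of (h1 : ∀ x y, x ≠ 0 → y ≠ 0 → (β x = β y ↔ ∃ c : K, c • y = x))
    (hall : ∀ m, ∃ γ, Rl β γ m) (faith : ∀ γ, (∀ x, x ≠ 0 → cj γ (β x) = β x) → γ = 1)
    (gen : lin β = ⊤) : Nonempty (G ≃* ProjectiveSpecialLinearGroup (Fin N) K) := by
  choose φ hφ using hall
  have uq : ∀ γ γ' m, Rl β γ m → Rl β γ' m → γ = γ' := fun γ γ' m h h' => by
    have := h'.inv.mul h
    rw [inv_mul_cancel] at this
    exact (inv_mul_eq_one.1 (faith _ fun x hx => by rw [this x hx, one_smul])).symm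
  let ψ : SpecialLinearGroup (Fin N) K →* G :=
    MonoidHom.mk' φ fun a b => uq _ _ _ (hφ _) ((hφ a).mul (hφ b))
  have sj : Function.Surjective ψ := fun γ => by
    obtain ⟨m, hm⟩ : γ ∈ lin β := gen ▸ mem_top γ
    exact ⟨m, uq _ _ _ (hφ m) hm⟩
  have hk : ψ.ker = center _ := by
    rw [← Projectivization.SL_mulAction_ker]
    ext m
    simp only [MonoidHom.mem_ker]
    constructor
    · intro e
      ext p
      induction p using Projectivization.ind with | _ x hx =>
      have := hφ m x hx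
      rw [show φ m = 1 from e, cj_one] at this
      simp only [MulAction.toPermHom_apply, MulAction.toPerm_apply, Equiv.Perm.one_apply]
      rw [Projectivization.smul_mk, Projectivization.mk_eq_mk_iff']
      exact (h1 _ _ ((smul_ne_zero_iff_ne m).2 hx) hx).1 this.symm
    · intro e
      refine faith _ fun x hx => ?_
      have := congrArg (fun σ : Equiv.Perm (ℙ K (Fin N → K)) => σ (Projectivization.mk K x hx)) e
      simp only [MulAction.toPermHom_apply, MulAction.toPerm_apply, Equiv.Perm.one_apply] at this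
      rw [Projectivization.smul_mk, Projectivization.mk_eq_mk_iff'] at this
      exact (hφ m x hx).trans ((h1 _ _ ((smul_ne_zero_iff_ne m).2 hx) hx).2 this)
  exact ⟨((QuotientGroup.quotientMulEquivOfEq hk.symm).trans
    (QuotientGroup.quotientKerEquivOfSurjective ψ sj)).symm⟩

section LA

variable {V : Type*} [AddCommGroup V] [Module K V] {f g : Module.Dual K V}

theorem exists_val (hf : f ≠ 0) (c : K) : ∃ v, f v = c := by
  obtain ⟨v, hv⟩ : ∃ v, f v ≠ 0 := by
    by_contra! h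
    exact hf (LinearMap.ext h)
  exact ⟨(c / f v) • v, by rw [map_smul, smul_eq_mul, div_mul_cancel₀ _ hv]⟩

theorem smul_of_ker (h : ∀ v, f v = 0 → g v = 0) : ∃ c : K, g = c • f := by
  by_cases hf : f = 0
  · exact ⟨0, LinearMap.ext fun v => by simp [h v (by simp [hf])]⟩
  obtain ⟨w, hw⟩ := exists_val hf 1
  refine ⟨g w, LinearMap.ext fun v => ?_⟩
  have := h (v - f v • w) (by simp [hw])
  simp only [map_sub, map_smul, smul_eq_mul, sub_eq_zero] at this
  simp [this, mul_comm]

theorem exists_ker_val (h : ¬ ∃ c : K, g = c • f) (c : K) : ∃ v, f v = 0 ∧ g v = c := by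
  obtain ⟨v, h1, h2⟩ : ∃ v, f v = 0 ∧ g v ≠ 0 := by
    by_contra! h'
    exact h (smul_of_ker h')
  exact ⟨(c / g v) • v, by simp [h1], by rw [map_smul, smul_eq_mul, div_mul_cancel₀ _ h2]⟩

theorem exists_indep {n : ℕ} (hn : 2 ≤ n) (f : Module.Dual K (Fin n → K)) :
    ∃ g : Module.Dual K (Fin n → K), ¬ ∃ c : K, g = c • f := by
  by_contra! h
  obtain ⟨c, hc⟩ := h (LinearMap.proj (⟨0, by omega⟩ : Fin n))
  obtain ⟨d, hd⟩ := h (LinearMap.proj (⟨1, by omega⟩ : Fin n))
  have e1 := congrArg (fun φ => φ (Pi.single ⟨0, by omega⟩ 1)) hc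
  have e2 := congrArg (fun φ => φ (Pi.single ⟨1, by omega⟩ 1)) hc
  have e4 := congrArg (fun φ => φ (Pi.single ⟨1, by omega⟩ 1)) hd
  simp at e1 e2 e4
  rcases e2 with e2 | e2
  · simp [e2] at e1
  · simp [e2] at e4

end LA

section coord

variable {n : ℕ}

/-- the functional given by the last `n` coordinates -/
noncomputable def dl (x : Fin (n + 1) → K) : Module.Dual K (Fin n → K) :=
  dotProductEquiv K (Fin n) (Fin.tail x)

theorem dl_add (x y : Fin (n + 1) → K) : dl (x + y) = dl x + dl y := by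
  unfold dl; rw [← map_add]; rfl

theorem dl_smul (c : K) (x : Fin (n + 1) → K) : dl (c • x) = c • dl x := by
  unfold dl; rw [← map_smul]; rfl

theorem dl_single (x : Fin (n + 1) → K) (i : Fin n) (c : K) :
    dl x (Pi.single i c) = x i.succ * c := by
  simp [dl, Fin.tail]

theorem ext_dl {x y : Fin (n + 1) → K} (h1 : dl x = dl y) (h2 : x 0 = y 0) : x = y := by
  have := (dotProductEquiv K (Fin n)).injective h1
  funext i
  refine Fin.cases h2 (fun i => congrFun this i) i

theorem dl_zero : dl (0 : Fin (n + 1) → K) = 0 := by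
  have := dl_smul (0 : K) (0 : Fin (n + 1) → K)
  simpa using this

theorem ne_zero_dl {x : Fin (n + 1) → K} : x ≠ 0 ↔ dl x ≠ 0 ∨ x 0 ≠ 0 := by
  rw [← not_and_or, ne_eq]
  refine not_congr ⟨fun e => by simp [e, dl_zero], fun ⟨h1, h2⟩ => ext_dl (by rw [h1, dl_zero]) h2⟩

theorem exists_dl (f : Module.Dual K (Fin n → K)) (c : K) : ∃ x : Fin (n + 1) → K, dl x = f ∧ x 0 = c :=
  ⟨Fin.cons c ((dotProductEquiv K (Fin n)).symm f), by simp [dl], by simp⟩

theorem tv_smul {i j : Fin (n + 1)} (hij : i ≠ j) (c : K) (x : Fin (n + 1) → K) :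
    SpecialLinearGroup.transvection hij c • x = x + (c * x j) • Pi.single i 1 := by
  ext k
  simp [Matrix.SpecialLinearGroup.smul_def, Matrix.SpecialLinearGroup.transvection_coe, add_mulVec,
    single_mulVec, Function.update_apply, Pi.single_apply]

theorem dl_e0 : dl (Pi.single (0 : Fin (n + 1)) (1 : K)) = 0 := by
  ext i
  simp [dl_single]

theorem dl_e (i : Fin n) : dl (Pi.single i.succ (1 : K)) = LinearMap.proj i := by
  ext j
  simp [dl_single, Pi.single_apply, eq_comm]

end coord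

end H26.TK
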