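import Mathlib
import Cfsg.Agent.H2.CT1
import Cfsg.Agent.H2.CT2

/-! Strongly closed elementary abelian subgroups of an amalgam Sylow subgroup are normal. -/

set_option autoImplicit false
set_option linter.unusedVariables false
set_option linter.unusedSectionVars false

namespace H26.CG

open Cfsg H24 H26 H26.Gold Subgroup H2.C2
open scoped commutatorElement

universe u

variable {G : Type u} [Group G] [Finite G] {D : Set G} {A K L R S W X : Subgroup G} {u z : G}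

theorem piece_comp (hO : Od[(⊤ : Subgroup G)] = ⊥) (hD : SC D) (hK : Piece D ⊤ K) :
    IsComponent K := by
  have hOd : Od[K] = ⊥ := eq_bot_of_le hO ((hK.Od_le hD).trans (hD.Od_Og_le ⊤))
  refine ⟨H23.isSubnormal_of_le_normalizer hK.le hK.norm
    (nml_top_iff.1 (hD.Og_nml ⊤)).isSubnormal,
    H23.isQuasisimple_subgroup_iff.2 ⟨hK.perf, hK.qs.ne, fun M h1 h2 =>
      (hK.qs.nml M ⟨h1, h2⟩).imp_right fun e => ?_⟩⟩
  exact eq_bot_of_le hOd (le_Ck.1 e)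

theorem nml_of_no_piece (hO : Od[(⊤ : Subgroup G)] = ⊥) (h : Ctx D ⊤ A)
    (hn : ∀ K, ¬ Piece D ⊤ K) : ⊤ ≤ N[A] := by
  have h1 : Og D ⊤ = A := le_antisymm (h.struct.trans (sup_le (sup_le
    (((h.sc.Od_Og_le ⊤).trans hO.le).trans bot_le) le_rfl) (sSup_le fun K hK => (hn K hK).elim)))
    h.max.le_Og
  exact h1 ▸ (h.sc.Og_nml ⊤).norm

theorem ctx_of_scl (hS : Syl 2 ⊤ S) (hA : EA A) (sA : SCl ⊤ A) (hAS : A ≤ S) : Ctx (DC A) ⊤ A :=
  ctx_all (sc_DC hS hA (sA.sc hS.pi hAS)) (maxD_DC hS hA (sA.sc hS.pi hAS))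

theorem norm_of_normT (sA : SCl ⊤ A) (hS : TwoG S) (hAS : A ≤ S)
    (hle : A ≤ (A ⊓ K) ⊔ (A ⊓ C[K])) (hu : u ∈ K) (hn : u ∈ N[S ⊓ K]) : u ∈ N[A] := by
  have e : A = (A ⊓ K) ⊔ (A ⊓ C[K]) := le_antisymm hle (sup_le inf_le_left inf_le_left)
  have h1 : u ∈ N[A ⊓ K] := mem_N_of_finite fun x hx => by
    have := conj_mem hn (show x ∈ S ⊓ K from ⟨hAS hx.1, hx.2⟩)
    exact ⟨sA.max S hS hAS le_top x hx.1 u (mem_top u) this.1, this.2⟩
  have h2 : u ∈ N[A ⊓ C[K]] := C_le_N _ (C_anti inf_le_right (le_CC K hu))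
  rw [e]
  exact norm_sup (zpowers_le.2 h1) (zpowers_le.2 h2) (mem_zpowers u)

theorem caseA (hO : Od[(⊤ : Subgroup G)] = ⊥) (hS : Syl 2 ⊤ (W ⊔ X)) (hW : EA W) (hX : EA X)
    (sW : SCl ⊤ W) (sX : SCl ⊤ X) (hc : W ⊓ X ≤ ⁅W, X⁆) (hcW : W ⊓ C[X] ≤ X) : ⊤ ≤ N[W] := by
  have cW := ctx_of_scl hS hW sW le_sup_left
  have cX := ctx_of_scl hS hX sX le_sup_right
  refine nml_of_no_piece hO cW fun K hK => ?_
  have hL := piece_comp hO cW.sc hK
  have hCk := comp_Ck hO hL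
  have hXK : Og (DC X) ⊤ ≤ N[K] := Og_le_iff.2 fun d hd _ => comp_norm hO cX.sc hL hd
  have hK' : Piece (DC X) ⊤ K := by
    refine ⟨?_, hXK, hK.qs⟩
    refine (H23.IsComponent.le_or_comm hL
      (nml_top_iff.1 (cX.sc.Og_nml ⊤)).isSubnormal).resolve_right fun e => ?_
    have h1 : K ≤ C[X] := cents_of_le (comm_eq_bot.1 e) cX.max.le_Og
    refine cW.not_le_Ck hK ?_
    rw [hCk]
    exact ((inf_le_inf_left W h1).trans hcW).trans (cents_symm h1)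
  have hSK : W ⊔ X ≤ N[K] := sup_le (hK.normA cW.max) (hK'.normA cX.max)
  have hT : Syl 2 K ((W ⊔ X) ⊓ K) := hS.inf_norm le_top hSK
  have hSW : W ⊔ X ≤ N[W] := sW.le_norm hS.pi le_sup_left le_top
  have hSX : W ⊔ X ≤ N[X] := sX.le_norm hS.pi le_sup_right le_top
  obtain ⟨Q, _, _, π, hπ⟩ := exists_hat K
  obtain ⟨T1, h1, d1⟩ := cW.exists_hd hK hπ hT.pi hT.le (inf_le_left.trans hSW)
  obtain ⟨T2, h2, d2⟩ := cX.exists_hd hK' hπ hT.pi hT.le (inf_le_left.trans hSX)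
  obtain rfl := hT.eq_of_le d1.syl.pi h1 d1.syl.le
  obtain rfl := hT.eq_of_le d2.syl.pi h2 d2.syl.le
  have eWX : img π W = img π X := by
    ext x; rw [d1.tz.memZ, d2.tz.memZ]
  have hKN := norm_self K
  obtain ⟨x, hx, hx1, -⟩ := d1.tz.exists_ne 1
  obtain ⟨y, hy, hy1, hyx⟩ := d1.tz.exists_ne x
  obtain ⟨k, hk, hkN, e⟩ := d1.tz.trans x hx hx1 y hy hy1
  obtain ⟨k, hkK, rfl⟩ := (mem_img_of_le hKN).1 hk
  have hkT : k ∈ N[(W ⊔ X) ⊓ K] := by
    refine mem_N_of_cj_le ?_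
    have h3 : cj k ((W ⊔ X) ⊓ K) ≤ K := cj_le_of_mem hT.le hkK
    have h4 : cj k ((W ⊔ X) ⊓ K) ≤ ((W ⊔ X) ⊓ K) ⊔ Ck K := by
      rw [← hπ.le_iff (h3.trans hKN) d1.TN, img_cj π (hKN hkK), cj_of_mem_N hkN]
    rw [hCk] at h4
    have h5 := le_inf h4 h3
    rw [← group_modl' (norm_C d1.TN) hT.le] at h5
    exact h5.trans (sup_le le_rfl
      (inf_comm K C[K] ▸ hT.nml_le (comp_center_two hO hL) (center_nml K)))
  set u := constt ({2}ᶜ : Set ℕ) k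
  have huK : u ∈ K := constt_mem _ hkK
  have huT : u ∈ N[(W ⊔ X) ⊓ K] := constt_mem _ hkT
  have huW : u ∈ N[W] := norm_of_normT sW hS.pi le_sup_left (hCk ▸ cW.le_sup hK) huK huT
  have huX : u ∈ N[X] := norm_of_normT sX hS.pi le_sup_right (hCk ▸ cX.le_sup hK') huK huT
  have hCu : C[K] ≤ C[zpowers u] := C_anti (zpowers_le.2 huK)
  have key : ∀ A B : Subgroup G, A ≤ N[K] → B ≤ N[K] → u ∈ N[A] → u ∈ N[B] → img π A = img π B →
      ⁅A, zpowers u⁆ ≤ A ⊓ B := fun A B hA hB h1 h2 e => by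
    refine le_inf (comm_le_left (zpowers_le.2 h1)) ?_
    have h3 : A ≤ B ⊔ C[K] := hCk ▸ (hπ.le_iff hA hB).1 e.le
    refine (comm_mono_left h3).trans ?_
    rw [(isProd_sup' (norm_C hB)).comm_left_of_cent hCu]
    exact comm_le_left (zpowers_le.2 h2)
  have k1 := key W X d1.AK d2.AK huW huX eWX
  have k2 := key X W d2.AK d1.AK huX huW eWX.symm
  have k3 : ⁅⁅W, X⁆, zpowers u⁆ = ⊥ := three_subgroup
    (comm_eq_bot.2 (k2.trans (inf_le_right.trans hW.le_C)))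
    (by rw [commC (zpowers u)]; exact comm_eq_bot.2 (k1.trans (inf_le_right.trans hX.le_C)))
  have huC : u ∈ C[W] := odd_cent_of_chain hW.two inf_le_left (piElt_constt _ k) k1
    (C_anti hc (comm_eq_bot'.1 k3 (mem_zpowers u)))
  have ht : constt {2} k ∈ (W ⊔ X) ⊓ K := hT.le_of_norm (piElt_constt _ k).isPi
    (zpowers_le.2 (constt_mem _ hkK)) (zpowers_le.2 (constt_mem _ hkT)) (mem_zpowers _)
  refine hyx ?_
  rw [e, ← constt_mul_constt {2} k, ap_mul π (d1.TN ht) (hKN huK)]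
  refine conj_eq_of_mem_C (mul_mem (d1.tz.cent (ap_mem_img π ht (d1.TN ht))) ?_) hx
  exact ap_mem_C π huC (hKN huK)

theorem caseB (hO : Od[(⊤ : Subgroup G)] = ⊥) (hS : Syl 2 ⊤ S) (hW : EA W) (sW : SCl ⊤ W)
    (hWS : W ≤ S) (hL : L ≤ N[W]) (hLR : L ≤ C[R]) (hWR : ¬ W ≤ R)
    (irr : ∀ U ≤ W, L ≤ N[U] → U ≤ R ∨ U = W)
    (nd : ∀ t ∈ S, ⁅W, zpowers t⁆ ≤ R → t ∈ W) (hz : z ∈ W) (hz1 : z ≠ 1) (hzc : ⊤ ≤ C{z}) :
    ⊤ ≤ N[W] := by
  have cW := ctx_of_scl hS hW sW hWS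
  have hD := cW.sc
  refine nml_of_no_piece hO cW fun K0 hK0 => ?_
  set P := sSup {K | Piece (DC W) ⊤ K} with hP
  have hcj : ∀ K, Piece (DC W) ⊤ K → ∀ g, Piece (DC W) ⊤ (cj g K) := fun K hK g => by
    simpa using hK.cj hD g
  have hPn : ∀ M : Subgroup G, M ≤ N[P] := fun M g _ => mem_N_of_cj_le (cj_le_iff.2
    (sSup_le fun K hK => cj_le_iff.1 (le_sSup (hcj K hK g))))
  have hCk : ∀ K, Piece (DC W) ⊤ K → Ck K = C[K] := fun K hK => comp_Ck hO (piece_comp hO hD hK)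
  have hSW : S ≤ N[W] := sW.le_norm hS.pi hWS le_top
  have hB : W ⊓ C[P] ≤ R := (irr _ inf_le_left (norm_inf hL (norm_C (hPn L)))).resolve_right
    fun e => cW.not_le_Ck' hK0 (by
      rw [hCk K0 hK0]; exact (e.ge.trans inf_le_right).trans (C_anti (le_sSup hK0)))
  have hZ : ∀ K, Piece (DC W) ⊤ K → K ⊓ C[K] = ⊥ := fun K hK => by
    have hT : Syl 2 K ((S ⊓ Og (DC W) ⊤) ⊓ K) := (hS.inf_nml (hD.Og_nml ⊤)).inf_nml ⟨hK.le, hK.norm⟩
    have hZP : K ⊓ C[K] ≤ C[P] := cents_symm (sSup_le fun K' hK' => by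
      by_cases e : K' = K
      · exact e ▸ cents_symm inf_le_right
      · exact cents_of_le (hCk K hK ▸ hK.le_Ck_of_ne hK' e) inf_le_left)
    have hTW : (S ⊓ Og (DC W) ⊤) ⊓ K ≤ W := fun t ht => by
      have h1 := (cW.trs hK).two t ⟨ht.2, hSW ht.1.1⟩ (hS.pi.piElt ht.1.1)
      rw [hCk K hK] at h1
      have h2 : ⁅W, zpowers t⁆ ≤ K :=
        (comm_mono_right (zpowers_le.2 ht.2)).trans (comm_le_right (hK.normA cW.max))
      exact nd t ht.1.1 ((le_inf (h1.trans inf_le_left)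
        ((le_inf h2 (h1.trans inf_le_right)).trans hZP)).trans hB)
    have h3 := transfer_center hT
    rw [der1_eq_bot.2 (hW.abl.of_le hTW), hK.perf] at h3
    refine eq_bot_of_le rfl (le_trans (le_inf (le_inf ?_ inf_le_right) ?_) h3)
    · exact hT.nml_le (comp_center_two hO (piece_comp hO hD hK)) (center_nml K)
    · exact inf_le_left.trans le_sup_left
  have hZP : P ⊓ C[P] = ⊥ := eq_bot_of_le rfl ((H23.center_sSup_components _
    fun K hK => piece_comp hO hD hK).trans (iSup₂_le fun K hK => (hZ K hK).le))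
  rcases irr _ inf_le_left (norm_inf hL (hPn L)) with e | e
  · have h1 : W ⊓ K0 ≤ R := (inf_le_inf_left W (le_sSup hK0)).trans e
    have h2 : L ≤ N[K0] := fun l hl => by
      by_contra hn
      have h3 := hK0.le_Ck_of_ne (hcj K0 hK0 l) fun e => hn (mem_N_iff_cj.2 e)
      refine cW.not_le_Ck hK0 (le_trans ?_ h3)
      rw [← cj_of_mem_C (C_anti h1 (hLR hl))]
      exact cj_mono l inf_le_right
    rcases irr _ inf_le_left (norm_inf hL (norm_Ck h2)) with e2 | e2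
    · exact hWR ((cW.le_sup hK0).trans (sup_le h1 e2))
    · exact cW.not_le_Ck' hK0 (e2.ge.trans inf_le_right)
  · have h1 : z ∈ P ⊓ C[P] := ⟨(e.ge hz).2, mem_C_iff_le_C1.2 (le_top.trans hzc)⟩
    rw [hZP] at h1
    exact hz1 h1

end H26.CG
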