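import Mathlib
import Cfsg.Agent.H18.WS1
import Cfsg.Agent.H5.BS
import Cfsg.Agent.H13.DihBasic

/-! Generalized characters supported on the section of a central involution; induction between
subgroups; linear characters of groups with cyclic Sylow 2-subgroups. -/

set_option autoImplicit false

namespace H26.QX

open H24 H4 H5 Cfsg Subgroup
open H13.Dih (piElt_odd pi_two)
open scoped ComplexConjugate

variable {G : Type*} [Group G]

theorem not_odd_of [Finite G] {u g : G} (hu : PiElt {2} u) (h1 : u ≠ 1) (hc : u * g = g * u)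
    (h : Odd (orderOf g)) : ¬ Odd (orderOf (u * g)) := fun h' =>
  h1 ((constt_mul_of hu (piElt_odd.2 h) hc).symm.trans (constt_eq_one (piElt_odd.2 h')))

theorem not_odd_mul [Finite G] {t g : G} (ht : orderOf t = 2) (hc : t * g = g * t)
    (h : Odd (orderOf g)) : ¬ Odd (orderOf (t * g)) :=
  not_odd_of (pi_two ht) (H13.Dih.ne_one_of ht) hc h

open Classical in
theorem gc2 [Finite G] {t : G} (ht : orderOf t = 2) (hc : ∀ g, t * g = g * t) {ψ : G → ℂ}
    (hψ : IsGeneralizedCharacter G ψ) (h1 : ∀ g, ψ (t * g) = ψ g)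
    (h0 : ∀ g, ¬ Odd (orderOf g) → ¬ Odd (orderOf (t * g)) → ψ g = 0) :
    IsGeneralizedCharacter G fun g => if Odd (orderOf g) then 2 * ψ g else 0 := by
  have tt : t * t = 1 := by rw [← sq, ← ht, pow_orderOf_eq_one]
  have hf : IsClassFunction G fun g => if Odd (orderOf g) then 2 * ψ g else 0 := fun g h => by
    simp only [hψ.classFun g h, show orderOf (h * g * h⁻¹) = orderOf g from
      (MulAut.conj h).orderOf_eq g]
  refine H18.WS.isGen_of_nil hf fun E hE => ?_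
  by_cases hE' : t ∈ E
  · have := Fintype.ofFinite E
    refine (hf.restrict E).isGen_of_inner_int fun χ hχ => ?_
    obtain ⟨n, hn⟩ := (hψ.restrict E).inner_int (hχ.isGen.comp (H18.WS.cst hE {2}ᶜ))
    refine ⟨n, hn ▸ ?_⟩
    rw [classInner, classInner]
    congr 1
    let F : E → ℂ := fun g => ψ g * conj (χ (constt {2}ᶜ g))
    let t' : E := ⟨t, hE'⟩
    have hF : ∀ g, F (t' * g) = F g := fun g => by
      simp only [F, t', coe_mul, h1]
      rw [constt_mul _ (Subtype.ext (hc g)), constt_eq_one (π := {2}ᶜ)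
        (by rw [compl_compl]; exact pi_two (by rw [← orderOf_coe]; exact ht)), one_mul]
    have e1 : ∑ g : E, (if Odd (orderOf (t * g)) then F g else 0) =
        ∑ g : E, if Odd (orderOf (g : G)) then F g else 0 := by
      rw [← Equiv.sum_comp (Equiv.mulLeft t')]
      simp only [Equiv.coe_mulLeft, hF, t', coe_mul, ← mul_assoc, tt, one_mul]
    have e2 : ∀ g : E, F g = (if Odd (orderOf (g : G)) then F g else 0) +
        if Odd (orderOf (t * g)) then F g else 0 := fun g => by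
      by_cases h : Odd (orderOf (g : G))
      · rw [if_pos h, if_neg (not_odd_mul ht (hc g) h), add_zero]
      · by_cases h' : Odd (orderOf (t * g))
        · rw [if_neg h, if_pos h', zero_add]
        · simp [F, h0 _ h h']
    change _ = ∑ g, F g
    rw [Finset.sum_congr rfl fun g _ => e2 g, Finset.sum_add_distrib, e1, ← Finset.sum_add_distrib]
    refine Finset.sum_congr rfl fun g _ => ?_
    split_ifs with h
    · simp only [F]
      rw [constt_eq_self (piElt_odd.2 (by rwa [← orderOf_coe]))]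
      ring
    · simp
  · convert (hψ.restrict E).natCast_smul 2 using 1
    funext g
    simp only [Pi.smul_apply, smul_eq_mul, Nat.cast_ofNat]
    split_ifs with h
    · rfl
    · rw [h0 _ h fun h' => hE' ?_, mul_zero]
      have := constt_mul_of (pi_two ht) (piElt_odd.2 h') (hc _)
      rw [← mul_assoc, tt, one_mul] at this
      exact this ▸ constt_mem _ g.2

theorem lin_of_cyc [Finite G] {K : Subgroup G} {w : G} (hw : Syl 2 K (zpowers w)) (h2 : 2 ∣ ♯K)
    {z : ℂˣ} (hz : z ^ orderOf w = 1) :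
    ∃ ν : K →* ℂˣ, ap ν w = z ∧ ∀ y ∈ K, Odd (orderOf y) → ap ν y = 1 := by
  obtain ⟨P, hP⟩ := hw.exists_sylow Nat.prime_two
  have hwK : w ∈ K := hw.le (mem_zpowers w)
  have e : (P : Subgroup K) = zpowers ⟨w, hwK⟩ :=
    map_injective K.subtype_injective (by rw [hP, MonoidHom.map_zpowers]; rfl)
  have hc : IsCyclic P := by rw [e]; infer_instance
  let τ := MonoidHom.transferSylow P (hc.normalizer_le_centralizer (Nat.minFac_eq_two_iff _ |>.2 h2))
  have hm : (⟨w, hwK⟩ : K) ∈ P := e.ge (mem_zpowers _)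
  have hτ : (τ ⟨w, hwK⟩ : K) = ⟨w, hwK⟩ ^ P.index := by
    simp only [τ]; rw [MonoidHom.transferSylow_eq_pow _ _ _ hm]
  obtain ⟨k, hk⟩ := IsPGroup.iff_orderOf.1 P.isPGroup' ⟨_, hm⟩
  have hco : (orderOf (⟨w, hwK⟩ : K)).Coprime P.index := by
    rw [← orderOf_coe] at hk
    exact hk ▸ ((Nat.prime_two.coprime_iff_not_dvd).2 P.not_dvd_index).pow_left k
  have hg : ∀ x : P, x ∈ zpowers (τ ⟨w, hwK⟩) := fun x => by
    have h1 : (x : K) ∈ zpowers ((⟨w, hwK⟩ : K) ^ P.index) :=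
      zpowers_le.2 (mem_zpowers_pow_iff.2 hco.symm) (e.le x.2)
    obtain ⟨j, hj⟩ := h1
    exact ⟨j, Subtype.ext (by simpa [hτ] using hj)⟩
  have hd : orderOf z ∣ orderOf (τ ⟨w, hwK⟩) := by
    rw [← orderOf_coe (τ _), hτ, hco.orderOf_pow, ← orderOf_coe]
    exact orderOf_dvd_of_pow_eq_one hz
  refine ⟨(monoidHomOfForallMemZpowers hg hd).comp τ, by
    rw [ap_of_mem _ hwK, MonoidHom.comp_apply, monoidHomOfForallMemZpowers_apply_gen],
    fun y hy ho => ?_⟩
  obtain ⟨l, hl⟩ := IsPGroup.iff_orderOf.1 P.isPGroup' (τ ⟨y, hy⟩)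
  have h3 : orderOf (τ ⟨y, hy⟩) ∣ orderOf y := by
    simpa using orderOf_map_dvd τ ⟨y, hy⟩
  rw [ap_of_mem _ hy, MonoidHom.comp_apply, orderOf_eq_one_iff.1 (Nat.eq_one_of_dvd_coprimes
    ((Nat.coprime_two_left.2 ho).pow_left l) hl.dvd h3), map_one]

theorem lin_irr {K : Subgroup G} {f : G → ℂ} (h1 : f 1 = 1)
    (h2 : ∀ a ∈ K, ∀ b ∈ K, f (a * b) = f a * f b) : IsIrrCharacter K fun k => f k :=
  isIrrCharacter_monoidHom (⟨⟨fun k => f k, h1⟩, fun a b => h2 a a.2 b b.2⟩ : K →* ℂ)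

theorem sirr_or [Fintype G] {f : G → ℂ} (h : IsIrrCharacter G f ∨ IsIrrCharacter G fun g => -f g) :
    SIrr f := h.elim sirr_of_irr fun e => neg_neg f ▸ (sirr_of_irr e).neg

/-- induction from `K` to `H` -/
noncomputable def iF [Finite G] (H K : Subgroup G) (ν : G → ℂ) : G → ℂ :=
  haveI := Fintype.ofFinite H
  extendByZero H (indFun (K.subgroupOf H) fun k => ν k)

variable [Finite G] {H K : Subgroup G} {ν ν' : G → ℂ} {g g' w : G}

theorem iF_gen (hν : IsGeneralizedCharacter K fun k => ν k) :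
    IsGeneralizedCharacter H fun h => iF H K ν h := by
  simp only [iF, extendByZero_coe]
  exact @IsGeneralizedCharacter.indFun _ _ (Fintype.ofFinite H) _ _
    (hν.comp ((H.subtype.comp (K.subgroupOf H).subtype).codRestrict K fun x => x.2))

omit [Finite G] in
open Classical in
theorem ext_sub (x : H) : extendByZero (K.subgroupOf H) (fun k => ν k) x =
    if (x : G) ∈ K then ν x else 0 := by
  rw [extendByZero_eq_dite]; simp [mem_subgroupOf]

theorem iF_congr (hg : g ∈ H) (hg' : g' ∈ H) {a : ℂ}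
    (h1 : ∀ x ∈ H, x * g * x⁻¹ ∈ K ↔ x * g' * x⁻¹ ∈ K)
    (h2 : ∀ x ∈ H, x * g * x⁻¹ ∈ K → ν (x * g * x⁻¹) = a * ν' (x * g' * x⁻¹)) :
    iF H K ν g = a * iF H K ν' g' := by
  rw [iF, iF, extendByZero_of_mem _ _ hg, extendByZero_of_mem _ _ hg',
    @H4.indFun_apply' _ _ (Fintype.ofFinite H), @H4.indFun_apply' _ _ (Fintype.ofFinite H),
    mul_left_comm, Finset.mul_sum _ _ a]
  congr 1
  refine Finset.sum_congr rfl fun x _ => ?_
  simp only [ext_sub, coe_mul, coe_inv]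
  by_cases h : (x : G) * g * (x : G)⁻¹ ∈ K
  · rw [if_pos h, if_pos ((h1 x x.2).1 h), h2 x x.2 h]
  · rw [if_neg h, if_neg (mt (h1 x x.2).2 h), mul_zero]

theorem iF_zero (hg : g ∈ H) (h : ∀ x ∈ H, x * g * x⁻¹ ∉ K) : iF H K ν g = 0 := by
  rw [iF_congr (ν' := ν) (a := 0) hg hg (fun _ _ => Iff.rfl) fun x hx e => absurd e (h x hx), zero_mul]

theorem iF_two (hK : K ≤ H) (hν : IsGeneralizedCharacter K fun k => ν k) (hg : g ∈ K) (hw : w ∈ H)
    (hw' : w ∉ K) (hg' : w⁻¹ * g * w ∈ K) (h : ∀ x ∈ H, x * g * x⁻¹ ∈ K → x ∈ K ∨ x * w ∈ K) :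
    iF H K ν g = ν g + ν (w⁻¹ * g * w) := by
  rw [iF, extendByZero_of_mem _ _ (hK hg), @indFun_apply_two_cosets _ _ (Fintype.ofFinite H) _
    (fun k : K.subgroupOf H => ν k) (hν.comp ((H.subtype.comp (K.subgroupOf H).subtype).codRestrict K fun x => x.2)).classFun
    ⟨w, hw⟩ _ hw' fun x hx => ?_]
  · simp [ext_sub, hg, hg']
  · have := h x⁻¹ (inv_mem x.2) (by
      by_contra e
      exact hx (by rw [ext_sub, if_neg (by simpa using e)]))
    refine this.imp (fun e => mem_subgroupOf.2 (inv_mem_iff.1 e)) fun e => mem_subgroupOf.2 ?_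
    simpa using inv_mem e

omit [Finite G] in
theorem gen_conj {f : G → ℂ} (hf : IsGeneralizedCharacter H fun h => f h) (hg : g ∈ H) (hw : w ∈ H) :
    f (w * g * w⁻¹) = f g := hf.classFun ⟨g, hg⟩ ⟨w, hw⟩

theorem mk {t : G} (ht : orderOf t = 2) (hH : H ≤ C{t}) (hK : K ≤ H) (tK : t ∈ K) {b : ℤ}
    (hν : IsGeneralizedCharacter K fun k => ν k) (h1 : ∀ y ∈ K, Odd (orderOf y) → ν y = 1)
    (h2 : ∀ y ∈ K, ν (t * y) = (1 - 2 * b) * ν y) {ψ : G → ℂ}
    (hψ : IsGeneralizedCharacter H fun h => ψ h) (h3 : ∀ g ∈ H, ψ (t * g) = ψ g)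
    (h4 : ∀ g ∈ H, ¬ Odd (orderOf g) → ¬ Odd (orderOf (t * g)) → ψ g = iF H K 1 g) :
    ∃ Φ : G → ℂ, IsGeneralizedCharacter H (fun h => Φ h) ∧
      (∀ y ∈ H, Odd (orderOf y) → Φ y = 0 ∧ Φ (t * y) = 2 * b * ψ y) ∧
      ∀ g ∈ H, ¬ Odd (orderOf g) → ¬ Odd (orderOf (t * g)) → Φ g = iF H K 1 g - iF H K ν g := by
  classical
  have tH := hK tK
  have hP : IsGeneralizedCharacter H fun h => iF H K 1 h := iF_gen isGen_one
  have e : ∀ x ∈ H, ∀ g, x * (t * g) * x⁻¹ = t * (x * g * x⁻¹) := fun x hx g => by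
    rw [← mul_assoc, mem_C1.1 (hH hx)]; group
  have e1 : ∀ g, ∀ x ∈ H, x * (t * g) * x⁻¹ ∈ K ↔ x * g * x⁻¹ ∈ K := fun g x hx => by
    rw [e x hx, mul_mem_cancel_left tK]
  have hPt : ∀ g ∈ H, iF H K 1 (t * g) = iF H K 1 g := fun g hg =>
    (iF_congr (a := 1) (mul_mem tH hg) hg (e1 g) fun _ _ _ => by simp).trans (one_mul _)
  have hA := gc2 (t := (⟨t, tH⟩ : H)) (by rw [← orderOf_coe]; exact ht)
    (fun g => Subtype.ext (mem_C1.1 (hH g.2)).symm) (hψ.sub hP)
    (fun g => by simp only [Pi.sub_apply, coe_mul, h3 _ g.2, hPt _ g.2]) fun g k1 k2 => by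
      rw [← orderOf_coe] at k1 k2
      rw [Pi.sub_apply, h4 _ g.2 k1 k2, sub_self]
  refine ⟨fun g => iF H K 1 g - iF H K ν g + b * (2 * (ψ g - iF H K 1 g) -
    if Odd (orderOf g) then 2 * (ψ g - iF H K 1 g) else 0), ?_, fun y hy ho => ?_,
    fun g hg k1 k2 => by simp only [if_neg k1, h4 g hg k1 k2]; ring⟩
  · convert (hP.sub (iF_gen hν)).add ((((hψ.sub hP).natCast_smul 2).sub hA).intCast_smul b) using 1
    funext g
    simp
  have oc : ∀ x, Odd (orderOf (x * y * x⁻¹)) := fun x => by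
    rwa [show orderOf (x * y * x⁻¹) = orderOf y from (MulAut.conj x).orderOf_eq y]
  have k1 : iF H K ν y = 1 * iF H K 1 y :=
    iF_congr hy hy (fun _ _ => Iff.rfl) fun x _ h => by rw [h1 _ h (oc x)]; simp
  have k2 : iF H K ν (t * y) = (1 - 2 * b) * iF H K 1 y :=
    iF_congr (mul_mem tH hy) hy (e1 y) fun x hx h => by
      rw [e1 y x hx] at h
      rw [e x hx, h2 _ h, h1 _ h (oc x)]; rfl
  simp only [if_pos ho, if_neg (not_odd_mul ht (mem_C1.1 (hH hy)).symm ho), k1, k2, hPt y hy, h3 y hy]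
  exact ⟨by ring, by ring⟩

end H26.QX
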