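import Mathlib
import Cfsg.Agent.H13.WDefs
import Cfsg.Agent.H4.GD13

/-! Tori, root groups and root elements of `PGL₂(q)`, described abstractly. -/

set_option autoImplicit false
set_option linter.unusedSectionVars false
set_option linter.unusedVariables false

namespace H26.WI

open Cfsg H24 Subgroup H4

variable {Γ : Type*} [Group Γ]

/-- a cyclic torus with dihedral normaliser -/
structure Tor (A : Subgroup Γ) (k : ℕ) (w : Γ) : Prop where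
  card : ♯A = k
  cyc : ∃ τ ∈ A, ∀ y ∈ A, ∃ j : ℕ, y = τ ^ j
  w_not : w ∉ A
  w_sq : w * w = 1
  inv : ∀ y ∈ A, y * (w * y * w) = 1
  norm : ∀ h, ∀ y ∈ A, y ≠ 1 → h * y * h⁻¹ ∈ A → h ∈ A ∨ h * w ∈ A

/-- a root group normalised by the split torus -/
structure XD (A X : Subgroup Γ) (p q : ℕ) : Prop where
  card : ♯X = q
  comm : ∀ x ∈ X, ∀ y ∈ X, x * y = y * x
  pow : ∀ x ∈ X, x ^ p = 1
  cent : ∀ x ∈ X, x ≠ 1 → ∀ h, h * x = x * h → h ∈ X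
  snorm : ∀ s ∈ A, ∀ x ∈ X, s * x * s⁻¹ ∈ X
  norm : ∀ h, ∀ x ∈ X, x ≠ 1 → h * x * h⁻¹ ∈ X → ∃ x' ∈ X, ∃ s ∈ A, h = x' * s

/-- root elements -/
structure RD (A X : Subgroup Γ) (w : Γ) {F : Type*} [Field F] (x : F → Γ) : Prop where
  add : ∀ a b, x (a + b) = x a * x b
  mem : ∀ g, g ∈ X ↔ ∃ a, g = x a
  inj : ∀ a, x a = 1 → a = 0
  n_mem : ∀ r, r ≠ 0 → x r * (w * x (-r⁻¹) * w) * x r * w ∈ A
  act : ∀ τ ∈ A, ∃ c : F, c ≠ 0 ∧ (∀ a, τ * x a * τ⁻¹ = x (c * a)) ∧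
    ∀ a, τ * (w * x a * w) * τ⁻¹ = w * x (c⁻¹ * a) * w
  surj : ∀ c : F, c ≠ 0 → ∃ τ ∈ A, (∀ a, τ * x a * τ⁻¹ = x (c * a)) ∧
    ∀ a, τ * (w * x a * w) * τ⁻¹ = w * x (c⁻¹ * a) * w

namespace Tor

variable {A : Subgroup Γ} {k : ℕ} {w : Γ} (h : Tor A k w)
include h

theorem comm {a b : Γ} (ha : a ∈ A) (hb : b ∈ A) : a * b = b * a := by
  obtain ⟨τ, -, hτ⟩ := h.cyc
  obtain ⟨i, rfl⟩ := hτ a ha
  obtain ⟨j, rfl⟩ := hτ b hb
  rw [← pow_add, ← pow_add, add_comm]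

theorem w_inv : w⁻¹ = w := inv_eq_of_mul_eq_one_right h.w_sq

theorem conj_eq {y : Γ} (hy : y ∈ A) : w * y * w = y⁻¹ := eq_inv_of_mul_eq_one_right (h.inv y hy)

theorem ww (g : Γ) : w * (w * g) = g := by rw [← mul_assoc, h.w_sq, one_mul]

theorem change {w' : Γ} (h1 : w' ∉ A) (h2 : w' * w ∈ A) : Tor A k w' := by
  obtain ⟨a, ha, rfl⟩ : ∃ a ∈ A, w' = a * w := ⟨_, h2, by rw [mul_assoc, h.w_sq, mul_one]⟩
  refine ⟨h.card, h.cyc, h1, ?_, fun y hy => ?_, fun g y hy hy1 e' => ?_⟩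
  · calc a * w * (a * w) = a * (w * a * w) := by group
      _ = 1 := h.inv a ha
  · calc y * (a * w * y * (a * w)) = y * a * (w * y * w) * (w * a * w) := by
          simp only [mul_assoc, h.ww]
      _ = y * a * y⁻¹ * a⁻¹ := by rw [h.conj_eq hy, h.conj_eq ha]
      _ = 1 := by rw [h.comm hy ha]; group
  · refine (h.norm g y hy hy1 e').imp id fun h3 => ?_
    rw [show g * (a * w) = g * w * (w * a * w) by simp only [mul_assoc, h.ww], h.conj_eq ha]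
    exact mul_mem h3 (inv_mem ha)

theorem gen [Finite Γ] : ∃ τ ∈ A, orderOf τ = k ∧ ∀ y ∈ A, ∃ j : ℕ, y = τ ^ j := by
  obtain ⟨τ, h1, hτ⟩ := h.cyc
  refine ⟨τ, h1, ?_, hτ⟩
  rw [← h.card, ← Nat.card_zpowers]
  congr 2
  refine le_antisymm (zpowers_le.2 h1) fun y hy => ?_
  obtain ⟨j, rfl⟩ := hτ y hy
  exact pow_mem (mem_zpowers τ) j

theorem pow_k [Finite Γ] {y : Γ} (hy : y ∈ A) : y ^ k = 1 := by
  have := pow_card_eq_one' (G := A) (x := ⟨y, hy⟩)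
  rw [h.card] at this
  exact congrArg Subtype.val this

theorem uniq [Finite Γ] {y y' : Γ} (hy : y ∈ A) (hy' : y' ∈ A) (h1 : y ≠ 1) (h1' : y' ≠ 1)
    (h2 : y * y = 1) (h2' : y' * y' = 1) : y = y' := by
  obtain ⟨τ, -, ho, hτ⟩ := h.gen
  have hk : 0 < k := ho ▸ orderOf_pos τ
  have key : ∀ z ∈ A, z ≠ 1 → z * z = 1 → z = τ ^ (k / 2) := fun z hz hz1 hz2 => by
    obtain ⟨j, rfl⟩ := hτ z hz
    rw [← pow_mod_orderOf, ho] at hz1 hz2 ⊢
    rw [← pow_add, ← orderOf_dvd_iff_pow_eq_one, ho] at hz2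
    have h3 : j % k < k := Nat.mod_lt _ hk
    have h4 : j % k ≠ 0 := fun e => hz1 (by rw [e, pow_zero])
    obtain ⟨c, hc⟩ := hz2
    have : c = 1 := by
      rcases c with _ | _ | c
      · omega
      · rfl
      · nlinarith
    subst this
    congr 1; omega
  rw [key y hy h1 h2, key y' hy' h1' h2']

theorem exists_order [Finite Γ] {d : ℕ} (hd : d ∣ k) : ∃ y ∈ A, orderOf y = d := by
  obtain ⟨τ, h1, ho, -⟩ := h.gen
  have hk : 0 < k := ho ▸ orderOf_pos τ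
  obtain ⟨c, rfl⟩ := hd
  have hc : c ≠ 0 := by rintro rfl; simp at hk
  refine ⟨τ ^ c, pow_mem h1 c, ?_⟩
  rw [orderOf_pow_of_dvd hc (ho ▸ dvd_mul_left c d), ho, Nat.mul_div_cancel _ (Nat.pos_of_ne_zero hc)]

/-- elements centralising a nontrivial element of the torus -/
theorem cent_cases [Finite Γ] {y g : Γ} (hy : y ∈ A) (h1 : y ≠ 1) (e : g * y = y * g) :
    g ∈ A ∨ g * g = 1 := by
  refine (h.norm g y hy h1 (by rw [e]; simpa using hy)).imp id fun h2 => ?_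
  have := h.inv _ h2
  simpa only [mul_assoc, h.ww, h.w_sq, mul_one] using this

end Tor

section Bar

variable {G₀ : Type*} [Group G₀] [Finite G₀] {N : NP} (D : GD G₀ N) (hH : D.H = ⊤) (π : G₀ →* Γ)
  (hs : Function.Surjective π) (hk : ∀ g, π g = 1 ↔ g ∈ D.Z)
include hH hs hk

theorem mem_of_map {K : Subgroup G₀} (hK : D.Z ≤ K) {g : G₀} (hg : π g ∈ K.map π) : g ∈ K := by
  obtain ⟨y, hy, e⟩ := hg
  have : y⁻¹ * g ∈ D.Z := (hk _).1 (by rw [map_mul, map_inv, e, inv_mul_cancel])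
  simpa using mul_mem hy (hK this)

theorem tor_aux {K : Subgroup G₀} {k : ℕ} {w : G₀} (hK : D.Z ≤ K) (hc : ♯K = ♯D.Z * k)
    (cyc : ∃ τ ∈ K, ∀ y ∈ K, ∃ j : ℕ, ∃ z ∈ D.Z, y = τ ^ j * z) (h1 : w ∉ K) (h2 : w * w = 1)
    (h3 : ∀ y ∈ K, y * (w * y * w) ∈ D.Z)
    (h4 : ∀ h ∈ D.H, ∀ y ∈ K, y ∉ D.Z → h * y * h⁻¹ ∈ K → h ∈ K ∨ h * w ∈ K) :
    Tor (K.map π) k (π w) := by
  refine ⟨?_, ?_, fun h => h1 (mem_of_map D hH π hs hk hK h), by rw [← map_mul, h2, map_one], ?_, ?_⟩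
  · have := GD.card_map_mul π hK (fun a _ => (hk a).1) fun a => (hk a).2
    rw [hc, mul_comm] at this
    exact Nat.eq_of_mul_eq_mul_left D.Z_pos this
  · obtain ⟨τ, hτ, h⟩ := cyc
    refine ⟨π τ, mem_map_of_mem π hτ, ?_⟩
    rintro _ ⟨y, hy, rfl⟩
    obtain ⟨j, z, hz, rfl⟩ := h y hy
    exact ⟨j, by rw [map_mul, (hk z).2 hz, mul_one, map_pow]⟩
  · rintro _ ⟨y, hy, rfl⟩
    simpa using (hk _).2 (h3 y hy)
  · rintro g _ ⟨y, hy, rfl⟩ hy1 e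
    obtain ⟨g, rfl⟩ := hs g
    have := h4 g (hH ▸ mem_top g) y hy (fun h => hy1 ((hk y).2 h))
      (mem_of_map D hH π hs hk hK (by simpa using e))
    exact this.imp (mem_map_of_mem π) fun h => by simpa using mem_map_of_mem π h

theorem tor_T : Tor (D.T.map π) N.m (π D.w) :=
  tor_aux D hH π hs hk D.Z_le_T D.cT D.cycT D.w_not D.w_sq D.w_inv D.norm_T

theorem tor_W : Tor (D.W.map π) N.n (π D.v) :=
  tor_aux D hH π hs hk D.Z_le_W D.cW (by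
    obtain ⟨ω, h1, h2⟩ := D.cycW
    exact ⟨ω, h1, fun y hy => (h2 y hy).imp fun j e => ⟨1, one_mem _, by rw [mul_one, e]⟩⟩)
    D.v_not D.v_sq D.v_inv D.norm_W

theorem eq_of_map {a b : G₀} (ha : a ^ N.p = 1) (hb : b ^ N.p = 1) (e : π a = π b) : a = b :=
  (D.eq_of_conj_aux (hH ▸ mem_top a) ha hb ((hk _).1 (by rw [map_mul, map_inv, e, mul_inv_cancel]))).symm

theorem xd : XD (D.S.map π) (D.X.map π) N.p N.q := by
  have hc : ∀ (g : G₀) {x : G₀}, x ∈ D.X → (g * x * g⁻¹) ^ N.p = 1 := fun g x hx => by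
    rw [conj_pow, D.X_pow x hx]; group
  refine ⟨?_, ?_, ?_, ?_, ?_, ?_⟩
  · have := GD.card_map_mul π (K := ⊥) (A := D.X) bot_le
      (fun a ha h => D.eq_one_of_mem_X_Z ha ((hk a).1 h)) (by simp)
    simpa [D.cX] using this
  · rintro _ ⟨x, hx, rfl⟩ _ ⟨y, hy, rfl⟩
    rw [← map_mul, D.X_comm x hx y hy, map_mul]
  · rintro _ ⟨x, hx, rfl⟩
    rw [← map_pow, D.X_pow x hx, map_one]
  · rintro _ ⟨x, hx, rfl⟩ h1 g e
    obtain ⟨g, rfl⟩ := hs g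
    have h2 : g * x * g⁻¹ = x := eq_of_map D hH π hs hk (hc g hx) (D.X_pow x hx)
      (by rw [map_mul, map_mul, e, map_inv]; group)
    obtain ⟨z, hz, x', hx', rfl⟩ := D.cent_X x hx (fun h => h1 (by rw [h, map_one])) g
      (hH ▸ mem_top g) (by rw [← mul_inv_eq_iff_eq_mul, h2])
    rw [map_mul, (hk z).2 hz, one_mul]
    exact mem_map_of_mem π hx'
  · rintro _ ⟨s, hs', rfl⟩ _ ⟨x, hx, rfl⟩
    simpa using mem_map_of_mem π (D.S_norm s hs' x hx)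
  · rintro g _ ⟨x, hx, rfl⟩ h1 ⟨y, hy, e⟩
    obtain ⟨g, rfl⟩ := hs g
    have h2 : g * x * g⁻¹ = y := eq_of_map D hH π hs hk (hc g hx) (D.X_pow y hy) (by simp [e])
    obtain ⟨x', hx', s, hs', rfl⟩ := D.norm_X g (hH ▸ mem_top g) x hx
      (fun h => h1 (by rw [h, map_one])) (h2 ▸ hy)
    exact ⟨_, mem_map_of_mem π hx', _, mem_map_of_mem π hs', map_mul π _ _⟩

theorem not_conj (g : Γ) : g * π D.w * g⁻¹ ∉ D.W.map π := fun h => by
  obtain ⟨g, rfl⟩ := hs g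
  have h1 : g * D.w * g⁻¹ ∈ D.W := mem_of_map D hH π hs hk D.Z_le_W (by simpa using h)
  have h2 : g * D.w * g⁻¹ ∈ D.Z := by
    rcases D.W_inv h1 (by
      calc g * D.w * g⁻¹ * (g * D.w * g⁻¹) = g * (D.w * D.w) * g⁻¹ := by group
        _ = 1 := by rw [D.w_sq]; group) with e | e
    · exact e ▸ one_mem _
    · exact e ▸ D.t_mem
  exact D.conj_not_Z (fun h => D.w_not (D.Z_le_T h)) (hH ▸ mem_top g) h2

theorem rd [Finite Γ] {F : Type*} [Field F] [Fintype F] (P : GL2P D F) (hε : N.ε = 1)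
    (hq : N.q = Fintype.card F) : RD (D.T.map π) (D.X.map π) (π D.w) (fun a => π (P.x a)) := by
  classical
  have hS : D.S = D.T := D.hS.elim (·.2) fun h => absurd (hε ▸ h.1) (by norm_num)
  have hX := xd D hH π hs hk
  have hT := tor_T D hH π hs hk
  have inj : ∀ a, π (P.x a) = 1 → a = 0 := fun a h =>
    P.x_inj a (D.eq_one_of_mem_X_Z ((P.mem_X _).2 ⟨a, rfl⟩) ((hk _).1 h))
  have act : ∀ τ ∈ D.T.map π, ∃ c : F, c ≠ 0 ∧ (∀ a, τ * π (P.x a) * τ⁻¹ = π (P.x (c * a))) ∧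
      ∀ a, τ * (π D.w * π (P.x a) * π D.w) * τ⁻¹ = π D.w * π (P.x (c⁻¹ * a)) * π D.w := by
    rintro _ ⟨τ, hτ, rfl⟩
    obtain ⟨c, h1, h2, h3⟩ := P.T_act τ hτ
    exact ⟨c, h1, fun a => by simpa using congrArg π (h2 a), fun a => by simpa using congrArg π (h3 a)⟩
  refine ⟨fun a b => by rw [P.x_add, map_mul], fun g => ⟨?_, ?_⟩, inj, fun r hr => ?_, act, ?_⟩
  · rintro ⟨x, hx, rfl⟩
    obtain ⟨a, rfl⟩ := (P.mem_X x).1 hx
    exact ⟨a, rfl⟩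
  · rintro ⟨a, rfl⟩
    exact mem_map_of_mem π ((P.mem_X _).2 ⟨a, rfl⟩)
  · simpa using mem_map_of_mem π (P.n_mem r hr)
  · choose c h1 h2 h3 using act
    let f : D.T.map π → {a : F // a ≠ 0} := fun τ => ⟨c τ τ.2, h1 τ τ.2⟩
    have hx1 : π (P.x 1) ∈ D.X.map π := mem_map_of_mem π ((P.mem_X _).2 ⟨1, rfl⟩)
    have hf : Function.Injective f := fun τ τ' e => by
      have e' : c τ τ.2 = c τ' τ'.2 := congrArg Subtype.val e
      have h4 : (τ : Γ)⁻¹ * τ' ∈ D.X.map π := hX.cent _ hx1 (fun h => one_ne_zero (inj 1 h)) _ (by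
        have := (h2 τ τ.2 1).trans (e' ▸ (h2 τ' τ'.2 1).symm)
        calc (τ : Γ)⁻¹ * τ' * π (P.x 1) = (τ : Γ)⁻¹ * (τ' * π (P.x 1) * (τ' : Γ)⁻¹) * τ' := by group
          _ = _ := by rw [← this]; group)
      have h5 := hT.pow_k (mul_mem (inv_mem τ.2) τ'.2)
      have h6 := hX.pow _ h4
      have h7 : orderOf ((τ : Γ)⁻¹ * τ') ∣ Nat.gcd N.p N.m :=
        Nat.dvd_gcd (orderOf_dvd_of_pow_eq_one h6) (orderOf_dvd_of_pow_eq_one h5)
      rw [((Nat.Prime.coprime_iff_not_dvd N.hp).2 N.p_not_dvd_m).gcd_eq_one, Nat.dvd_one,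
        orderOf_eq_one_iff, inv_mul_eq_one] at h7
      exact Subtype.ext h7
    have hb : Function.Bijective f := (Nat.bijective_iff_injective_and_card f).2 ⟨hf, by
      rw [hT.card, Nat.card_eq_fintype_card, Fintype.card_subtype_compl, ← hq, Fintype.card_unique]
      rcases N.cases with h | h
      · omega
      · rw [hε] at h; norm_num at h⟩
    intro a ha
    obtain ⟨τ, e⟩ := hb.2 ⟨a, ha⟩
    have e' : c τ τ.2 = a := congrArg Subtype.val e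
    exact ⟨τ, τ.2, e' ▸ h2 τ τ.2, e' ▸ h3 τ τ.2⟩

end Bar

section Align

open H13.W

variable {Γ : Type} [Group Γ] [Finite Γ] {n : ℕ} (hn : 2 ≤ n) (d : PD Γ n) (h0 : d.L0 = ⊤)
  (two : ∀ (γ : Γ) (j : ℕ), γ ^ 2 ^ j = 1 → ∃ (g : Γ) (k : ℕ), g * γ * g⁻¹ = d.e ^ k ∨
    g * γ * g⁻¹ = d.e ^ k * d.s)

theorem es_sq (k : ℕ) : d.e ^ k * d.s * (d.e ^ k * d.s) = 1 := by
  have h1 := d.s_inv _ (pow_mem d.e_mem k)
  rw [inv_eq_of_mul_eq_one_right d.s_sq] at h1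
  calc d.e ^ k * d.s * (d.e ^ k * d.s) = d.e ^ k * (d.s * d.e ^ k * d.s) := by group
    _ = 1 := by rw [h1]; group

theorem es_conj (y : Γ) (hy : y ∈ d.T) : y * d.s * y⁻¹ = y * y * d.s := by
  have h1 := d.s_inv _ (inv_mem hy)
  calc y * d.s * y⁻¹ = y * (d.s * y⁻¹ * d.s⁻¹) * d.s := by group
    _ = _ := by rw [h1, inv_inv]

include h0 in
theorem L_mul {a b : Γ} : a * b ∈ d.L ↔ (a ∈ d.L ↔ b ∈ d.L) :=
  mul_mem_iff_of_index_two (by rw [← relIndex_top_right, ← h0]; exact d.L_index)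

include h0 in
theorem pow_L {a : Γ} (ha : a ∉ d.L) (k : ℕ) : a ^ k ∈ d.L ↔ Even k := by
  induction k with
  | zero => simp
  | succ k ih => rw [pow_succ, L_mul d h0, ih, Nat.even_add_one]; tauto

include hn in
theorem four_dvd_m : 4 ∣ d.N.m := by
  rw [d.hm]
  exact Dvd.dvd.mul_right (pow_dvd_pow 2 hn : 2 ^ 2 ∣ 2 ^ n) _

include hn in
theorem not_four_dvd_n : ¬ 4 ∣ d.N.n := fun h => by
  have := four_dvd_m hn d
  rcases d.N.cases with ⟨-, h1, h2⟩ | ⟨-, h1, h2⟩ <;> omega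

include hn in
theorem ord_sq_ne {y : Γ} (hy : orderOf y = 2 ^ n) : y * y ≠ 1 := fun h => by
  have h1 : 2 ^ n ∣ 2 ^ 1 := by
    rw [← hy, pow_one]; exact orderOf_dvd_of_pow_eq_one (by rw [pow_two, h])
  have := (Nat.pow_dvd_pow_iff_le_right one_lt_two).1 h1
  omega

theorem u_sq (hn : 2 ≤ n) : d.e ^ 2 ^ (n - 1) * d.e ^ 2 ^ (n - 1) = 1 := by
  rw [← pow_add, ← two_mul, ← pow_succ', show n - 1 + 1 = n by omega, ← d.ord_e, pow_orderOf_eq_one]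

theorem u_ne (hn : 2 ≤ n) : d.e ^ 2 ^ (n - 1) ≠ 1 := fun h => by
  have := (Nat.pow_dvd_pow_iff_le_right one_lt_two).1 (d.ord_e ▸ orderOf_dvd_of_pow_eq_one h)
  omega

include hn h0 two

theorem align_T {A : Subgroup Γ} {w : Γ} (h : Tor A d.N.m w) :
    ∃ g : Γ, A.map (MulAut.conj g).toMonoidHom = d.T := by
  obtain ⟨a, ha, ho⟩ := h.exists_order (d := 2 ^ n) (by rw [d.hm]; exact dvd_mul_right _ _)
  obtain ⟨g, k, e⟩ := two a n (by rw [← ho, pow_orderOf_eq_one])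
  have ho' : orderOf (g * a * g⁻¹) = 2 ^ n := by
    rw [← ho]; exact (MulAut.conj g).orderOf_eq a
  have h2 := ord_sq_ne hn ho'
  rcases e with e | e
  · refine ⟨g, eq_of_le_of_card_ge ?_ (by rw [card_map_of_injective (MulAut.conj g).injective,
      h.card, d.card_T])⟩
    rintro _ ⟨y, hy, rfl⟩
    refine d.cent_T _ (e ▸ pow_mem d.e_mem k) h2 ⟨h0 ▸ mem_top _, mem_C1.2 ?_⟩
    show g * y * g⁻¹ * _ = _ * (g * y * g⁻¹)
    calc g * y * g⁻¹ * (g * a * g⁻¹) = g * (y * a) * g⁻¹ := by group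
      _ = _ := by rw [h.comm hy ha]; group
  · exact absurd (e ▸ es_sq d k) h2

/-- classes of involutions -/
theorem inv_cases {j : Γ} (h1 : j ≠ 1) (h2 : j * j = 1) :
    (j ∈ d.L ∧ ∃ g, g * d.e ^ 2 ^ (n - 1) * g⁻¹ = j) ∨ ∃ g, g * j * g⁻¹ = d.e * d.s := by
  by_cases hL : j ∈ d.L
  · obtain ⟨g, -, e⟩ := d.inv_conj j hL (orderOf_eq_prime (by rw [pow_two, h2]) h1)
    exact Or.inl ⟨hL, g, e⟩
  right
  obtain ⟨g, k, e⟩ := two j 1 (by rw [pow_one, pow_two, h2])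
  have h3 : g * j * g⁻¹ ∉ d.L := fun h => hL (by simpa [mul_assoc] using d.L_nml.conj_mem _ h g⁻¹)
  rcases e with e | e
  · rw [e, pow_L d h0 d.e_not, Nat.not_even_iff_odd] at h3
    refine absurd ?_ (ord_sq_ne hn (y := d.e ^ k) (by
      rw [Nat.Coprime.orderOf_pow, d.ord_e]
      rw [d.ord_e]; exact (Nat.coprime_two_left.2 h3).pow_left n))
    rw [← e]
    calc g * j * g⁻¹ * (g * j * g⁻¹) = g * (j * j) * g⁻¹ := by group
      _ = 1 := by rw [h2]; group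
  · rw [e, L_mul d h0, pow_L d h0 d.e_not] at h3
    obtain ⟨i, rfl⟩ : Odd k := Nat.not_even_iff_odd.1 fun h => h3 ⟨fun _ => d.s_mem, fun _ => h⟩
    refine ⟨(d.e ^ i)⁻¹ * g, ?_⟩
    have h4 := d.s_inv _ (pow_mem d.e_mem i)
    calc (d.e ^ i)⁻¹ * g * j * ((d.e ^ i)⁻¹ * g)⁻¹ = (d.e ^ i)⁻¹ * (g * j * g⁻¹) * d.e ^ i := by group
      _ = d.e * d.e ^ i * (d.s * d.e ^ i * d.s⁻¹) * d.s := by rw [e]; group
      _ = _ := by rw [h4]; group

theorem align_W {B : Subgroup Γ} {v : Γ} (h : Tor B d.N.n v) :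
    ∃ g : Γ, d.e * d.s ∈ B.map (MulAut.conj g).toMonoidHom := by
  obtain ⟨j, hj, ho⟩ := h.exists_order (d := 2) (even_iff_two_dvd.1 d.N.n_even)
  have h1 : j ≠ 1 := by rintro rfl; simp at ho
  have h2 : j * j = 1 := by rw [← pow_two, ← ho, pow_orderOf_eq_one]
  rcases inv_cases hn d h0 two h1 h2 with ⟨-, g, e⟩ | ⟨g, e⟩
  · have ho' : orderOf (g * d.e * g⁻¹) = 2 ^ n := by
      rw [← d.ord_e]; exact (MulAut.conj g).orderOf_eq d.e
    rcases h.cent_cases (g := g * d.e * g⁻¹) hj h1 (by rw [← e]; group) with h3 | h3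
    · have := orderOf_dvd_of_pow_eq_one (h.pow_k h3)
      rw [ho'] at this
      exact absurd ((pow_dvd_pow 2 hn : 2 ^ 2 ∣ 2 ^ n).trans this) (not_four_dvd_n hn d)
    · exact absurd h3 (ord_sq_ne hn ho')
  · exact ⟨g, j, hj, e⟩

theorem tor_u {B : Subgroup Γ} {v : Γ} (h : Tor B d.N.n v) (he : d.e * d.s ∈ B) :
    Tor B d.N.n (d.e ^ 2 ^ (n - 1)) := by
  have h1 : d.e * d.s ≠ 1 := fun e => d.s_not (by
    rw [← mul_mem_cancel_left d.e_mem, e]; exact one_mem _)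
  have hu : d.e ^ 2 ^ (n - 1) ∉ B := fun hu => by
    have := h.uniq hu he (u_ne d hn) h1 (u_sq d hn) (by simpa using es_sq d 1)
    exact d.s_not (by rw [← mul_mem_cancel_left d.e_mem, ← this]; exact pow_mem d.e_mem _)
  refine h.change hu ((h.norm _ _ he h1 ?_).resolve_left hu)
  rw [show d.e ^ 2 ^ (n - 1) * (d.e * d.s) * (d.e ^ 2 ^ (n - 1))⁻¹ =
    d.e * (d.e ^ 2 ^ (n - 1) * d.s * (d.e ^ 2 ^ (n - 1))⁻¹) by group, es_conj d _ (pow_mem d.e_mem _),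
    u_sq d hn, one_mul]
  exact he

theorem s_mul_mem {w : Γ} (h : Tor d.T d.N.m w) : d.s * w ∈ d.T :=
  (h.norm d.s d.e d.e_mem (fun e => ord_sq_ne hn d.ord_e (by rw [e, one_mul]))
    (by rw [d.s_inv _ d.e_mem]; exact inv_mem d.e_mem)).resolve_left d.s_not

theorem align_w {w : Γ} (h : Tor d.T d.N.m w) (hw : ∀ g, g * w * g⁻¹ ≠ d.e * d.s) :
    ∃ τ ∈ d.T, w = τ * d.s * τ⁻¹ := by
  have h1 : w ∈ d.L := ((inv_cases hn d h0 two (j := w) (fun e => h.w_not (by rw [e]; exact one_mem _))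
    h.w_sq).resolve_right
    fun ⟨g, e⟩ => hw g e).1
  have h2 : w * d.s ∈ d.T := by
    have := inv_mem (s_mul_mem hn d h0 two h)
    rwa [mul_inv_rev, h.w_inv, inv_eq_of_mul_eq_one_right d.s_sq] at this
  obtain ⟨τ, hτ, hc⟩ := h.cyc
  have h3 : τ ∉ d.L := fun h3 => d.e_not (by
    obtain ⟨j, e⟩ := hc _ d.e_mem
    exact e ▸ pow_mem h3 j)
  obtain ⟨j, e⟩ := hc _ h2
  obtain ⟨i, rfl⟩ := (pow_L d h0 h3 j).1 (e ▸ mul_mem h1 d.s_mem)
  refine ⟨τ ^ i, pow_mem hτ i, ?_⟩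
  rw [es_conj d _ (pow_mem hτ i), ← pow_add, ← e, mul_assoc, d.s_sq, mul_one]

theorem align : ∃ W X : Subgroup Γ, ∃ τ ∈ d.T, Tor d.T d.N.m (τ * d.s * τ⁻¹) ∧
    Tor W d.N.n (d.e ^ 2 ^ (n - 1)) ∧ d.e * d.s ∈ W ∧
    ((d.N.ε = 1 ∧ XD d.T X d.N.p d.N.q ∧ ∃ (F : Type) (_ : Field F) (_ : Fintype F),
        d.N.q = Fintype.card F ∧ ∃ x : F → Γ, RD d.T X (τ * d.s * τ⁻¹) x) ∨
      (d.N.ε = -1 ∧ XD W X d.N.p d.N.q)) := by
  obtain ⟨F, _, _, hF, ⟨ψ⟩⟩ := d.model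
  obtain ⟨N, D, hε, hq, hH, hZ, ⟨P⟩⟩ := exists_GD_gl (F := F) (hF ▸ d.N.q_odd)
  let π : GL (Fin 2) F →* Γ := d.L0.subtype.comp (ψ.symm.toMonoidHom.comp Matrix.ProjGenLinGroup.mk)
  have hs : Function.Surjective π := fun γ => by
    obtain ⟨g, e⟩ := Matrix.ProjGenLinGroup.mk_surjective (ψ ⟨γ, h0 ▸ mem_top γ⟩)
    exact ⟨g, by simp [π, e]⟩
  have hk : ∀ g, π g = 1 ↔ g ∈ D.Z := fun g => by simp [π, hZ]
  have hs' : ∀ g : Γ, Function.Surjective ((MulAut.conj g).toMonoidHom.comp π) := fun g =>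
    (MulAut.conj g).surjective.comp hs
  have hk' : ∀ (g : Γ) x, ((MulAut.conj g).toMonoidHom.comp π) x = 1 ↔ x ∈ D.Z := fun g x => by
    simp [← hk]
  have hq' : N.q = d.N.q := hq.trans hF
  have hp : N.p = d.N.p := d.N.eq_p_of_dvd N.hp (hq' ▸ N.p_dvd_q)
  have hS : D.S = D.T := D.hS.elim (·.2) fun h => absurd (hε ▸ h.1) (by norm_num)
  obtain ⟨-, hm, hn'⟩ := N.cases.resolve_right fun h => absurd (hε ▸ h.1) (by norm_num)
  rcases d.N.cases with ⟨h1, h2, h3⟩ | ⟨h1, h2, h3⟩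
  · have em : N.m = d.N.m := by omega
    have en : N.n = d.N.n := by omega
    obtain ⟨g, hg⟩ := align_T hn d h0 two (em ▸ tor_T D hH π hs hk)
    obtain ⟨g', hg'⟩ := align_W hn d h0 two (en ▸ tor_W D hH π hs hk)
    rw [map_map] at hg hg'
    have hT := tor_T D hH _ (hs' g) (hk' g)
    have hX := xd D hH _ (hs' g) (hk' g)
    have hR := rd D hH _ (hs' g) (hk' g) P hε hq
    rw [hg] at hT hR
    rw [hS, hg, hp, hq'] at hX
    rw [em] at hT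
    obtain ⟨τ, hτ, e⟩ := align_w hn d h0 two hT fun a e =>
      not_conj D hH _ (hs' g') (hk' g') (a * g * g'⁻¹) (by
        rw [← e] at hg'
        convert hg' using 1
        simp [mul_assoc])
    rw [e] at hT hR
    exact ⟨_, _, τ, hτ, hT, tor_u hn d h0 two (en ▸ tor_W D hH _ (hs' g') (hk' g')) hg', hg',
      Or.inl ⟨h1, hX, F, inferInstance, inferInstance, hF.symm, _, hR⟩⟩
  · have em : N.n = d.N.m := by omega
    have en : N.m = d.N.n := by omega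
    obtain ⟨g, hg⟩ := align_T hn d h0 two (em ▸ tor_W D hH π hs hk)
    obtain ⟨g', hg'⟩ := align_W hn d h0 two (en ▸ tor_T D hH π hs hk)
    rw [map_map] at hg hg'
    have hT := tor_W D hH _ (hs' g) (hk' g)
    have hX := xd D hH _ (hs' g') (hk' g')
    rw [hg, em] at hT
    rw [hS, hp, hq'] at hX
    exact ⟨_, _, 1, one_mem _, by simpa using hT.change d.s_not (s_mul_mem hn d h0 two hT),
      tor_u hn d h0 two (en ▸ tor_T D hH _ (hs' g') (hk' g')) hg', hg', Or.inr ⟨h1, hX⟩⟩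

end Align

end H26.WI
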