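import Mathlib
import Cfsg.Agent.H26.GDefs
import Cfsg.Agent.H24.Base5

/-!
# Groups whose Sylow `2`-subgroup is unitriangular over a field of characteristic two: vocabulary
-/

set_option autoImplicit false
set_option linter.unusedVariables false
set_option linter.unusedSectionVars false

namespace H26.LM

open Cfsg H24 H26.Gold Subgroup Matrix
open scoped commutatorElement

universe u v

section Abs
variable {G : Type u} [Group G]

/-- essential subgroup `E` of the Sylow subgroup `S` of `H`; `M / E` is strongly embedded in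
`N_H(E) / E` -/
structure Es (H S E M : Subgroup G) : Prop where
  lt : E < S
  SH : S ≤ H
  two : TwoG S
  cent : S ⊓ C[E] ≤ E
  syl : Syl 2 (H ⊓ N[E]) (S ⊓ N[E])
  leM : S ⊓ N[E] ≤ M
  cM : H ⊓ C[E] ≤ M
  Mle : M ≤ H ⊓ N[E]
  ne : ¬ H ⊓ N[E] ≤ M
  se : ∀ h ∈ H ⊓ N[E], ∀ t ∈ S ⊓ N[E], t ∉ E → h * t * h⁻¹ ∈ M → h ∈ M

/-- a member of the conjugation family -/
def AFam (H S E : Subgroup G) : Prop := E = S ∨ ∃ M, Es H S E M

/-- the dihedral group generated by `b` and `b' = g b g⁻¹` -/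
structure Dih (H S E : Subgroup G) (b g : G) : Prop where
  ES : E ≤ S
  two : TwoG S
  bT : b ∈ S ⊓ N[E]
  bE : b ∉ E
  b2 : b * b = 1
  gH : g ∈ H ⊓ N[E]
  odd : Odd (orderOf g)
  inv : b * g * b = g⁻¹
  nc : g ∉ C[E]
  pw : ∀ t ∈ S ⊓ N[E], t ∉ E → t * t ∈ E → ∃ r, Odd r ∧ (t * (g * b * g⁻¹)) ^ r ∈ E

/-- the elements of `B` act quadratically on `K` modulo `Z0`: `[K, B] ≤ Y`, `[Y, B] ≤ Z0` -/
structure Qd (S E K Y Z0 : Subgroup G) (B : Set G) (g : G) : Prop where
  KE : K ≤ E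
  EK : E ≤ N[K]
  gK : g ∈ N[K]
  YK : Y ≤ K
  EY : E ≤ N[Y]
  ZY : Z0 ≤ Y
  gZ : g ∈ C[Z0]
  EZ : E ≤ C[Z0]
  YY : ∀ y ∈ Y, ∀ y' ∈ Y, ⁅y, y'⁆ ∈ Z0
  Y2 : ∀ y ∈ Y, y * y ∈ Z0
  BT : ∀ t ∈ B, t ∈ S ⊓ N[E]
  B2 : ∀ t ∈ B, t * t ∈ E
  BZ : ∀ t ∈ B, t ∈ C[Z0]
  BK : ∀ t ∈ B, ∀ x ∈ K, ⁅t, x⁆ ∈ Y
  BY : ∀ t ∈ B, ∀ y ∈ Y, ⁅t, y⁆ ∈ Z0

/-- `Ω₁(Z(E))` -/
def Om (E : Subgroup G) : Subgroup G where
  carrier := {x | x ∈ E ∧ x ∈ C[E] ∧ x * x = 1}
  one_mem' := ⟨one_mem _, one_mem _, mul_one _⟩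
  mul_mem' := fun {a b} ha hb => ⟨mul_mem ha.1 hb.1, mul_mem ha.2.1 hb.2.1, by
    have e : b * a = a * b := mem_centralizer_iff.1 ha.2.1 b hb.1
    calc a * b * (a * b) = a * (b * a) * b := by group
      _ = a * a * (b * b) := by rw [e]; group
      _ = 1 := by rw [ha.2.2, hb.2.2, one_mul]⟩
  inv_mem' := fun {a} ha => ⟨inv_mem ha.1, inv_mem ha.2.1, by
    rw [← _root_.mul_inv_rev, ha.2.2, inv_one]⟩

theorem mem_Om {E : Subgroup G} {x : G} : x ∈ Om E ↔ x ∈ E ∧ x ∈ C[E] ∧ x * x = 1 := Iff.rfl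

/-- the set of commutators `[x, b]`, `b ∈ B` -/
def cset (B : Subgroup G) (x : G) : Set G := {y | ∃ b ∈ B, y = ⁅x, b⁆}

/-- `A` is weakly closed in `S` -/
def WC (S A : Subgroup G) : Prop := ∀ g : G, cj g A ≤ S → cj g A = A

/-- `R` is strongly closed in `S` with respect to `H` -/
def StC (H S R : Subgroup G) : Prop := ∀ x ∈ R, ∀ g ∈ H, g * x * g⁻¹ ∈ S → g * x * g⁻¹ ∈ R

/-- a subset of a finite group closed under multiplication -/
def subOfMul [Finite G] (s : Set G) (h1 : (1 : G) ∈ s) (hm : ∀ a ∈ s, ∀ b ∈ s, a * b ∈ s) :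
    Subgroup G where
  carrier := s
  one_mem' := h1
  mul_mem' := fun {a b} ha hb => hm a ha b hb
  inv_mem' := fun {a} ha => by
    have hp : ∀ n : ℕ, a ^ n ∈ s := fun n => by
      induction n with
      | zero => simpa using h1
      | succ n ih => rw [pow_succ]; exact hm _ ih _ ha
    have e : a⁻¹ = a ^ (orderOf a - 1) := by
      rw [eq_comm, ← mul_eq_one_iff_eq_inv, ← pow_succ,
        Nat.sub_add_cancel (orderOf_pos a), pow_orderOf_eq_one]
    rw [e]; exact hp _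

end Abs

section Mat
variable {F : Type v} [Field F] {m : ℕ}

/-- square matrices -/
abbrev Mx (F : Type v) (m : ℕ) : Type v := Matrix (Fin m) (Fin m) F

/-- strictly upper triangular -/
def SU (n : Mx F m) : Prop := ∀ i j, j ≤ i → n i j = 0

/-- the field has more than two elements -/
def Big (F : Type v) [Field F] : Prop := ∃ ω : F, ω ≠ 0 ∧ ω ≠ 1

theorem SU.zero : SU (0 : Mx F m) := fun _ _ _ => rfl
theorem SU.add {a b : Mx F m} (ha : SU a) (hb : SU b) : SU (a + b) := fun i j h => by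
  simp [ha i j h, hb i j h]
theorem SU.smul {a : Mx F m} (c : F) (ha : SU a) : SU (c • a) := fun i j h => by
  simp [ha i j h]
theorem SU.mul {a b : Mx F m} (ha : SU a) (hb : SU b) : SU (a * b) := fun i j h => by
  rw [mul_apply]
  refine Finset.sum_eq_zero fun l _ => ?_
  rcases le_or_gt l i with e | e
  · rw [ha i l e, zero_mul]
  · rw [hb l j (h.trans e.le), mul_zero]
theorem SU.circ {a b : Mx F m} (ha : SU a) (hb : SU b) : SU (a + b + a * b) :=
  (ha.add hb).add (ha.mul hb)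

/-- reflection in the antidiagonal -/
def tau (n : Mx F m) : Mx F m := of fun i j => n j.rev i.rev

@[simp] theorem tau_apply (n : Mx F m) (i j : Fin m) : tau n i j = n j.rev i.rev := rfl
@[simp] theorem tau_tau (n : Mx F m) : tau (tau n) = n := by ext i j; simp
theorem tau_add (a b : Mx F m) : tau (a + b) = tau a + tau b := rfl
theorem tau_mul (a b : Mx F m) : tau (a * b) = tau b * tau a := by
  ext i j
  simp only [tau_apply, mul_apply]
  rw [← Equiv.sum_comp Fin.revPerm]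
  simp [mul_comm]
theorem SU.tau {a : Mx F m} (ha : SU a) : SU (tau a) := fun i j h =>
  ha _ _ (Fin.rev_le_rev.2 h)

end Mat

/-- `S` is a Sylow `2`-subgroup of `G`, and `ι n` is the element `1 + n` of `S ≅ U_m(F)` -/
structure Mod (G : Type u) [Group G] (F : Type v) [Field F] (m : ℕ) where
  ι : Mx F m → G
  S : Subgroup G
  mul : ∀ {a b}, SU a → SU b → ι (a + b + a * b) = ι a * ι b
  inj : ∀ {a b}, SU a → SU b → ι a = ι b → a = b
  mem : ∀ g, g ∈ S ↔ ∃ n, SU n ∧ ι n = g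
  syl : Syl 2 ⊤ S

namespace Mod
variable {G : Type u} [Group G] [Finite G] {F : Type v} [Field F] {m k : ℕ}

theorem ι_zero (M : Mod G F m) : M.ι 0 = 1 := by
  have := M.mul (a := 0) (b := 0) SU.zero SU.zero
  simpa using this

/-- pattern subgroups -/
def pat (M : Mod G F m) (p : Fin m → Fin m → Prop)
    (hp : ∀ a b c, a < b → b < c → p a b → p b c → p a c) : Subgroup G :=
  subOfMul {g | ∃ n, SU n ∧ (∀ a b, ¬ p a b → n a b = 0) ∧ M.ι n = g}
    ⟨0, SU.zero, fun _ _ _ => rfl, M.ι_zero⟩ (by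
      rintro _ ⟨x, hx, px, rfl⟩ _ ⟨y, hy, py, rfl⟩
      refine ⟨_, hx.circ hy, fun a c h => ?_, M.mul hx hy⟩
      rw [Matrix.add_apply, Matrix.add_apply, px a c h, py a c h, mul_apply, zero_add, zero_add]
      refine Finset.sum_eq_zero fun b _ => ?_
      by_contra e
      have e1 : x a b ≠ 0 := left_ne_zero_of_mul e
      have e2 : y b c ≠ 0 := right_ne_zero_of_mul e
      exact h (hp a b c (not_le.1 fun t => e1 (hx a b t)) (not_le.1 fun t => e2 (hy b c t))
        (by_contra fun t => e1 (px a b t)) (by_contra fun t => e2 (py b c t))))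

theorem mem_pat' (M : Mod G F m) {p : Fin m → Fin m → Prop}
    {hp : ∀ a b c, a < b → b < c → p a b → p b c → p a c} {g : G} :
    g ∈ M.pat p hp ↔ ∃ n, SU n ∧ (∀ a b, ¬ p a b → n a b = 0) ∧ M.ι n = g := Iff.rfl

theorem mem_pat (M : Mod G F m) {p : Fin m → Fin m → Prop}
    {hp : ∀ a b c, a < b → b < c → p a b → p b c → p a c} {n : Mx F m} (hn : SU n) :
    M.ι n ∈ M.pat p hp ↔ ∀ a b, ¬ p a b → n a b = 0 :=
  ⟨fun ⟨x, hx, px, e⟩ => M.inj hx hn e ▸ px, fun h => ⟨n, hn, h, rfl⟩⟩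

/-- the block of rows `< i` and columns `≥ i` -/
def R (M : Mod G F m) (i : ℕ) : Subgroup G :=
  M.pat (fun a b => a.val < i ∧ i ≤ b.val) fun _ _ _ _ h h1 h2 => ⟨h1.1, h1.2.trans h.le⟩

/-- the entry `(j, j + 1)` vanishes -/
def U (M : Mod G F m) (j : ℕ) : Subgroup G :=
  M.pat (fun a b => ¬ (a.val = j ∧ b.val = j + 1)) fun a b c h1 h2 _ _ h => by
    have := Fin.lt_def.1 h1; have := Fin.lt_def.1 h2; omega

/-- first row -/
def A (M : Mod G F (k + 4)) : Subgroup G := M.R 1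
/-- last column -/
def A' (M : Mod G F (k + 4)) : Subgroup G := M.R (k + 3)
/-- the corner -/
def Z (M : Mod G F (k + 4)) : Subgroup G := M.A ⊓ M.A'
/-- first row and last column -/
def Q (M : Mod G F (k + 4)) : Subgroup G :=
  M.pat (fun a b => a.val = 0 ∨ b.val = k + 3) fun a b c h1 h2 h3 h4 => by
    have := Fin.lt_def.1 h1; have := Fin.lt_def.1 h2; have := c.2; omega
/-- `U_1` -/
def UF (M : Mod G F (k + 4)) : Subgroup G := M.U 0
/-- `U_(m-1)` -/
def UL (M : Mod G F (k + 4)) : Subgroup G := M.U (k + 2)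

/-- the graph symmetry -/
def flip (M : Mod G F m) : Mod G F m where
  ι n := (M.ι (tau n))⁻¹
  S := M.S
  mul := fun {a b} ha hb => by
    rw [tau_add, tau_add, tau_mul, add_comm (tau a), M.mul hb.tau ha.tau, _root_.mul_inv_rev]
  inj := fun {a b} ha hb e => by
    simpa using congrArg tau (M.inj ha.tau hb.tau (inv_injective e))
  mem := fun g => by
    rw [← inv_mem_iff, M.mem]
    exact ⟨fun ⟨n, hn, e⟩ => ⟨tau n, hn.tau, by simp [e]⟩,
      fun ⟨n, hn, e⟩ => ⟨tau n, hn.tau, by simp [← e]⟩⟩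
  syl := M.syl

theorem flip_pat (M : Mod G F m) {p p' : Fin m → Fin m → Prop}
    {hp : ∀ a b c, a < b → b < c → p a b → p b c → p a c}
    {hp' : ∀ a b c, a < b → b < c → p' a b → p' b c → p' a c}
    (h : ∀ a b, p a b ↔ p' b.rev a.rev) : M.flip.pat p hp = M.pat p' hp' := by
  ext g
  rw [← inv_mem_iff (H := M.pat p' hp'), mem_pat', mem_pat']
  constructor
  · rintro ⟨n, hn, pn, rfl⟩
    exact ⟨tau n, hn.tau, fun a b t => pn _ _ (by simpa [h] using t), by simp [flip]⟩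
  · rintro ⟨n, hn, pn, e⟩
    exact ⟨tau n, hn.tau, fun a b t => pn _ _ (by simpa [h] using t), by simp [flip, e]⟩

@[simp] theorem flip_S (M : Mod G F m) : M.flip.S = M.S := rfl
theorem flip_R (M : Mod G F m) {i j : ℕ} (h : i + j = m) : M.flip.R i = M.R j :=
  M.flip_pat fun a b => by
    have := a.2; have := b.2; simp only [Fin.val_rev]; omega
theorem flip_U (M : Mod G F m) {i j : ℕ} (h : i + j + 2 = m) : M.flip.U i = M.U j :=
  M.flip_pat fun a b => by
    have := a.2; have := b.2; simp only [Fin.val_rev]; omega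
@[simp] theorem flip_A (M : Mod G F (k + 4)) : M.flip.A = M.A' := M.flip_R (by omega)
@[simp] theorem flip_A' (M : Mod G F (k + 4)) : M.flip.A' = M.A := M.flip_R (by omega)
@[simp] theorem flip_Z (M : Mod G F (k + 4)) : M.flip.Z = M.Z := by
  rw [Z, flip_A, flip_A', inf_comm, Z]
@[simp] theorem flip_Q (M : Mod G F (k + 4)) : M.flip.Q = M.Q :=
  M.flip_pat fun a b => by
    have := a.2; have := b.2; simp only [Fin.val_rev]; omega
@[simp] theorem flip_UF (M : Mod G F (k + 4)) : M.flip.UF = M.UL := M.flip_U (by omega)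
@[simp] theorem flip_UL (M : Mod G F (k + 4)) : M.flip.UL = M.UF := M.flip_U (by omega)

/-- the matrices of the elements of a subgroup -/
def alg (M : Mod G F m) (B : Subgroup G) : Set (Mx F m) := {n | SU n ∧ M.ι n ∈ B}

end Mod

section Vec
variable {F : Type v} [Field F] {k : ℕ}

/-- basis vectors -/
def ev (F : Type v) [Field F] {m : ℕ} (i : Fin m) : Fin m → F := Pi.single i 1
/-- last index -/
abbrev iN (k : ℕ) : Fin (k + 4) := Fin.last (k + 3)
/-- last index but one -/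
abbrev iP (k : ℕ) : Fin (k + 4) := ⟨k + 2, by omega⟩
/-- the matrix with first row `φ` -/
def rw_ (φ : Fin (k + 4) → F) : Mx F (k + 4) := vecMulVec (ev F 0) φ
/-- the matrix with last column `w` -/
def cl (w : Fin (k + 4) → F) : Mx F (k + 4) := vecMulVec w (ev F (iN k))
/-- the corner matrix -/
def zM (F : Type v) [Field F] (k : ℕ) : Mx F (k + 4) := vecMulVec (ev F 0) (ev F (iN k))

end Vec

end H26.LM
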