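import Mathlib
import Cfsg.Agent.H26.LM0

set_option autoImplicit false
set_option linter.unusedVariables false
set_option linter.unusedSectionVars false

namespace H26.LM

open Cfsg H24 H26.Gold Subgroup Matrix
open scoped commutatorElement

universe u v

variable {G : Type u} [Group G] [Finite G] {F : Type v} [Field F] [Finite F] [CharP F 2] {k m : ℕ}
  {H S E K Y Z0 M0 B R : Subgroup G} {𝓑 : Set G} {b c g t x y : G}

/-! ### LM1 -/

theorem dual_mem {W : Submodule F (Fin m → F)} {v : Fin m → F}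
    (h : ∀ φ : Fin m → F, (∀ w ∈ W, φ ⬝ᵥ w = 0) → φ ⬝ᵥ v = 0) : v ∈ W := by
  by_contra hv
  obtain ⟨f, hf, hW⟩ := Submodule.exists_dual_map_eq_bot_of_notMem hv inferInstance
  have e : ∀ w, (fun i => f (Pi.single i 1)) ⬝ᵥ w = f w := fun w => by
    conv_rhs => rw [pi_eq_sum_univ' w, map_sum]
    simp [dotProduct, mul_comm]
  refine hf ((e v).symm.trans (h _ fun w hw => (e w).trans ?_))
  exact (Submodule.mem_bot F).1 (hW ▸ Submodule.mem_map_of_mem hw)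

theorem ev_dot (i : Fin m) (w : Fin m → F) : ev F i ⬝ᵥ w = w i := by simp [ev]
theorem dot_ev (i : Fin m) (w : Fin m → F) : w ⬝ᵥ ev F i = w i := by simp [ev]
theorem ev_self (i : Fin m) : ev F i i = 1 := by simp [ev]
theorem ev_ne {i j : Fin m} (h : j ≠ i) : ev F i j = 0 := by simp [ev, h]
theorem ev_apply (i j : Fin m) : ev F i j = if j = i then 1 else 0 := by simp [ev, Pi.single_apply]
theorem mulVec_ev (n : Mx F m) (j : Fin m) : n *ᵥ ev F j = fun i => n i j := by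
  ext i; simp [ev]
theorem ev_vecMul (n : Mx F m) (i : Fin m) : ev F i ᵥ* n = n i := by
  ext j; simp [ev]
theorem vmv_mul_vmv (w φ w' φ' : Fin m → F) :
    vecMulVec w φ * vecMulVec w' φ' = (φ ⬝ᵥ w') • vecMulVec w φ' := by
  ext i j
  simp only [mul_apply, vecMulVec_apply, Matrix.smul_apply, smul_eq_mul, dotProduct, Finset.sum_mul]
  exact Finset.sum_congr rfl fun l _ => by ring
theorem N_ne_zero : iN k ≠ 0 := fun e => by simpa using congrArg Fin.val e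

theorem dual_row {n : Mx F (k + 4)} {v : Fin (k + 4) → F}
    (h : ∀ φ : Fin (k + 4) → F, φ 0 = 0 → φ ᵥ* n = 0 → φ ⬝ᵥ v = 0) :
    ∃ (l : F) (w : Fin (k + 4) → F), v = l • ev F 0 + n *ᵥ w := by
  have : v ∈ Submodule.span F {ev F 0} ⊔ LinearMap.range (mulVecLin n) := by
    refine dual_mem fun φ hφ => h φ ?_ ?_
    · rw [← dot_ev 0 φ]
      exact hφ _ (Submodule.mem_sup_left (Submodule.mem_span_singleton_self _))
    · ext j
      have := hφ _ (Submodule.mem_sup_right ⟨ev F j, rfl⟩)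
      rwa [mulVecLin_apply, dotProduct_mulVec, dot_ev] at this
  obtain ⟨a, ha, _, ⟨w, rfl⟩, rfl⟩ := Submodule.mem_sup.1 this
  obtain ⟨l, rfl⟩ := Submodule.mem_span_singleton.1 ha
  exact ⟨l, w, rfl⟩
theorem add_self_mx (a : Mx F m) : a + a = 0 := by
  ext i j; exact CharTwo.add_self_eq_zero _
theorem su_vmv {w φ : Fin m → F} (i : ℕ) (hw : ∀ a : Fin m, i ≤ a.val → w a = 0)
    (hφ : ∀ a : Fin m, a.val < i → φ a = 0) : SU (vecMulVec w φ) := fun a b h => by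
  rw [vecMulVec_apply]
  rcases le_or_gt i a.val with e | e
  · rw [hw a e, zero_mul]
  · rw [hφ b (lt_of_le_of_lt h e), mul_zero]
theorem su_rw {φ : Fin (k + 4) → F} (h : φ 0 = 0) : SU (rw_ φ) :=
  su_vmv 1 (fun a ha => ev_ne fun e => by simp [e] at ha) fun a ha => by
    rwa [show a = 0 from Fin.ext (by simpa using ha)]
theorem su_cl {w : Fin (k + 4) → F} (h : w (iN k) = 0) : SU (cl w) :=
  su_vmv (k + 3) (fun a ha => by
    rwa [show a = iN k from Fin.ext (by have := a.2; simp only [Fin.val_last]; omega)])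
    fun a ha => ev_ne fun e => by simp [e] at ha
theorem su_zM : SU (zM F k) := su_rw (ev_ne N_ne_zero.symm)
theorem SU.mulVec_zero {n : Mx F (k + 4)} (h : SU n) : n *ᵥ ev F 0 = 0 := by
  rw [mulVec_ev]; ext i; exact h i 0 (Fin.zero_le _)
theorem SU.last_vecMul {n : Mx F (k + 4)} (h : SU n) : ev F (iN k) ᵥ* n = 0 := by
  rw [ev_vecMul]; ext i; exact h _ i (Fin.le_last _)
theorem SU.mulVec_last {n : Mx F (k + 4)} (h : SU n) (w : Fin (k + 4) → F) : (n *ᵥ w) (iN k) = 0 := by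
  rw [← ev_dot (iN k) (n *ᵥ w), dotProduct_mulVec, h.last_vecMul, zero_dotProduct]
theorem SU.vecMul_zero {n : Mx F (k + 4)} (h : SU n) (φ : Fin (k + 4) → F) : (φ ᵥ* n) 0 = 0 := by
  rw [← dot_ev 0 (φ ᵥ* n), ← dotProduct_mulVec, h.mulVec_zero, dotProduct_zero]
theorem SU.mul_rw {n : Mx F (k + 4)} (h : SU n) (φ : Fin (k + 4) → F) : n * rw_ φ = 0 := by
  rw [rw_, mul_vecMulVec, h.mulVec_zero, zero_vecMulVec]
theorem SU.cl_mul {n : Mx F (k + 4)} (h : SU n) (w : Fin (k + 4) → F) : cl w * n = 0 := by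
  rw [cl, vecMulVec_mul, h.last_vecMul, vecMulVec_zero]
theorem rw_mul (φ : Fin (k + 4) → F) (n : Mx F (k + 4)) : rw_ φ * n = rw_ (φ ᵥ* n) :=
  vecMulVec_mul _ _ _
theorem mul_cl (n : Mx F (k + 4)) (w : Fin (k + 4) → F) : n * cl w = cl (n *ᵥ w) :=
  mul_vecMulVec _ _ _
theorem rw_mul_cl (φ w : Fin (k + 4) → F) : rw_ φ * cl w = (φ ⬝ᵥ w) • zM F k := vmv_mul_vmv _ _ _ _
theorem rw_add (φ ψ : Fin (k + 4) → F) : rw_ (φ + ψ) = rw_ φ + rw_ ψ := vecMulVec_add _ _ _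
theorem cl_add (w w' : Fin (k + 4) → F) : cl (w + w') = cl w + cl w' := add_vecMulVec _ _ _
theorem rw_smul (l : F) (φ : Fin (k + 4) → F) : rw_ (l • φ) = l • rw_ φ := vecMulVec_smul _ _ _
theorem cl_smul (l : F) (w : Fin (k + 4) → F) : cl (l • w) = l • cl w := smul_vecMulVec _ _ _
theorem rw_apply (φ : Fin (k + 4) → F) (i j : Fin (k + 4)) : rw_ φ i j = if i = 0 then φ j else 0 := by
  simp [rw_, vecMulVec_apply, ev_apply]
theorem cl_apply (w : Fin (k + 4) → F) (i j : Fin (k + 4)) : cl w i j = if j = iN k then w i else 0 := by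
  simp [cl, vecMulVec_apply, ev_apply]
theorem zM_apply (i j : Fin (k + 4)) : zM F k i j = if i = 0 ∧ j = iN k then 1 else 0 := by
  simp only [zM, vecMulVec_apply, ev_apply]; split_ifs <;> simp_all
theorem rw_eq_zero {φ : Fin (k + 4) → F} : rw_ φ = 0 ↔ φ = 0 :=
  ⟨fun h => funext fun j => by simpa [rw_apply] using congrFun (congrFun h 0) j,
    fun h => by rw [h, rw_, vecMulVec_zero]⟩
theorem cl_eq_zero {w : Fin (k + 4) → F} : cl w = 0 ↔ w = 0 :=
  ⟨fun h => funext fun j => by simpa [cl_apply] using congrFun (congrFun h j) (iN k),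
    fun h => by rw [h, cl, zero_vecMulVec]⟩
theorem rw_ev : rw_ (ev F (iN k)) = zM F k := rfl
theorem cl_ev : cl (ev F 0) = zM F k := rfl
theorem smul_zM_eq_zero {l : F} : l • zM F k = 0 ↔ l = 0 :=
  ⟨fun h => by simpa [zM_apply] using congrFun (congrFun h 0) (iN k), fun h => by rw [h, zero_smul]⟩
theorem su_prod_aux {l : List (Mx F m)} (h : ∀ a ∈ l, SU a) (i j : Fin m)
    (hl : j.val < i.val + l.length) : l.prod i j = 0 := by
  induction l generalizing i with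
  | nil => exact one_apply_ne fun e => by simp [e] at hl
  | cons a l ih =>
    rw [List.prod_cons, mul_apply]
    refine Finset.sum_eq_zero fun c _ => ?_
    rcases le_or_gt c i with e | e
    · rw [h a (by simp) i c e, zero_mul]
    · rw [ih (fun b hb => h b (by simp [hb])) c (by
        have := Fin.lt_def.1 e; simp only [List.length_cons] at hl; omega), mul_zero]
/-- a product of `m` strictly upper triangular matrices vanishes -/
theorem su_prod {l : List (Mx F m)} (h : ∀ a ∈ l, SU a) (hl : m ≤ l.length) (h0 : 0 < l.length) :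
    l.prod = 0 := by
  ext i j; exact su_prod_aux h i j (by have := j.2; omega)

theorem card_pat (p : Fin m → Fin m → Prop) :
    Nat.card {n : Mx F m // SU n ∧ ∀ a b, ¬ p a b → n a b = 0} =
      Nat.card F ^ Nat.card {x : Fin m × Fin m // x.1 < x.2 ∧ p x.1 x.2} := by
  classical
  rw [← Nat.card_fun]
  refine Nat.card_congr ⟨fun n x => n.1 x.1.1 x.1.2,
    fun f => ⟨of fun a b => if h : a < b ∧ p a b then f ⟨(a, b), h⟩ else 0, fun a b h => ?_,
      fun a b h => ?_⟩, fun n => ?_, fun f => ?_⟩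
  · exact dif_neg fun e => e.1.not_ge h
  · exact dif_neg fun e => h e.2
  · ext a b
    simp only [of_apply]
    split_ifs with h
    · rfl
    · by_cases e : a < b
      · exact (n.2.2 a b fun t => h ⟨e, t⟩).symm
      · exact (n.2.1 a b (not_lt.1 e)).symm
  · ext x; exact dif_pos x.2

namespace Mod
section
variable (M : Mod G F m) {a n : Mx F m}
theorem memS (h : SU a) : M.ι a ∈ M.S := (M.mem _).2 ⟨a, h, rfl⟩
theorem two : TwoG M.S := M.syl.2.1
theorem sylH (h : M.S ≤ H) : Syl 2 H M.S := M.syl.of_le h le_top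
theorem eq_one (h : SU a) : M.ι a = 1 ↔ a = 0 :=
  ⟨fun e => M.inj h SU.zero (e.trans M.ι_zero.symm), fun e => e ▸ M.ι_zero⟩
theorem comm_iff (h : SU a) (h' : SU n) : M.ι a * M.ι n = M.ι n * M.ι a ↔ a * n = n * a := by
  rw [← M.mul h h', ← M.mul h' h]
  refine ⟨fun e => ?_, fun e => by rw [e, add_comm a]⟩
  have := M.inj (h.circ h') (h'.circ h) e
  rwa [add_comm n, add_right_inj] at this
theorem sq_iff (h : SU a) : M.ι a * M.ι a = 1 ↔ a * a = 0 := by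
  rw [← M.mul h h, add_self_mx, zero_add, M.eq_one (h.mul h)]
theorem inv_sq (h : SU a) (h2 : a * a = 0) : (M.ι a)⁻¹ = M.ι a :=
  inv_eq_of_mul_eq_one_right ((M.sq_iff h).2 h2)
theorem exists_inv (h : SU a) : ∃ a', SU a' ∧ M.ι a' = (M.ι a)⁻¹ ∧ (1 + a) * (1 + a') = 1 ∧
    (1 + a') * (1 + a) = 1 ∧ ∀ n, SU n → SU ((1 + a) * n * (1 + a')) ∧
      M.ι a * M.ι n * (M.ι a)⁻¹ = M.ι ((1 + a) * n * (1 + a')) := by
  obtain ⟨a', h', e⟩ := (M.mem _).1 (inv_mem (M.memS h))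
  have e1 : a + a' + a * a' = 0 := (M.eq_one (h.circ h')).1 (by rw [M.mul h h', e, mul_inv_cancel])
  have e2 : a' + a + a' * a = 0 := (M.eq_one (h'.circ h)).1 (by rw [M.mul h' h, e, inv_mul_cancel])
  refine ⟨a', h', e, ?_, ?_, fun n hn => ?_⟩
  · exact (show _ = 1 + (a + a' + a * a') by noncomm_ring).trans (by rw [e1, add_zero])
  · exact (show _ = 1 + (a' + a + a' * a) by noncomm_ring).trans (by rw [e2, add_zero])
  · have e3 : (1 + a) * n * (1 + a') = a + n + a * n + a' + (a + n + a * n) * a' := by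
      rw [← add_zero ((1 + a) * n * (1 + a')), ← e1]; noncomm_ring
    rw [e3, ← e, ← M.mul h hn, ← M.mul (h.circ hn) h']
    exact ⟨(h.circ hn).circ h', rfl⟩
theorem conj_sq (h : SU a) (h2 : a * a = 0) (h' : SU n) :
    M.ι a * M.ι n * (M.ι a)⁻¹ = M.ι (n + (a * n + n * a + a * n * a)) := by
  rw [M.inv_sq h h2, ← M.mul h h', ← M.mul (h.circ h') h]
  congr 1
  rw [← add_zero (n + _), ← add_self_mx a, ← add_zero (a + a), ← h2]; noncomm_ring
theorem comm_sq (h : SU a) (h2 : a * a = 0) (h' : SU n) (h2' : n * n = 0) :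
    ⁅M.ι a, M.ι n⁆ = M.ι ((a * n + n * a + a * n * a) + (a * n + n * a + a * n * a) * n) := by
  have hd : SU (a * n + n * a + a * n * a) := ((h.mul h').add (h'.mul h)).add ((h.mul h').mul h)
  rw [commutatorElement_def, M.conj_sq h h2 h', M.inv_sq h' h2', ← M.mul (h'.add hd) h']
  congr 1
  generalize a * n + n * a + a * n * a = d
  rw [← add_zero (d + d * n), ← add_self_mx n, ← add_zero (n + n), ← h2']; noncomm_ring
theorem mem_alg : n ∈ M.alg B ↔ SU n ∧ M.ι n ∈ B := Iff.rfl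
theorem exists_alg (h : B ≤ M.S) (hx : x ∈ B) : ∃ n ∈ M.alg B, M.ι n = x := by
  obtain ⟨n, hn, rfl⟩ := (M.mem _).1 (h hx); exact ⟨n, ⟨hn, hx⟩, rfl⟩
theorem pat_le {p : Fin m → Fin m → Prop} {hp : ∀ a b c, a < b → b < c → p a b → p b c → p a c} :
    M.pat p hp ≤ M.S := fun _ ⟨n, hn, _, e⟩ => (M.mem _).2 ⟨n, hn, e⟩
theorem card_pat {p : Fin m → Fin m → Prop} {hp : ∀ a b c, a < b → b < c → p a b → p b c → p a c} :
    ♯(M.pat p hp) = Nat.card F ^ Nat.card {x : Fin m × Fin m // x.1 < x.2 ∧ p x.1 x.2} := by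
  rw [← LM.card_pat]
  refine (Nat.card_congr (Equiv.ofBijective (fun n => ⟨M.ι n.1, n.1, n.2.1, n.2.2, rfl⟩)
    ⟨fun a b e => Subtype.ext (M.inj a.2.1 b.2.1 (congrArg Subtype.val e)), ?_⟩)).symm
  rintro ⟨_, n, h1, h2, rfl⟩
  exact ⟨⟨n, h1, h2⟩, rfl⟩
/-- a pattern closed under moving up and to the right is normal -/
theorem pat_norm {p : Fin m → Fin m → Prop} {hp : ∀ a b c, a < b → b < c → p a b → p b c → p a c}
    (h1 : ∀ a b c, a < b → b < c → p b c → p a c) (h2 : ∀ a b c, a < b → b < c → p a b → p a c) :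
    M.S ≤ N[M.pat p hp] := by
  have L : ∀ {a n : Mx F m}, SU a → SU n → (∀ i j, ¬ p i j → n i j = 0) →
      ∀ i j, ¬ p i j → (a * n) i j = 0 := fun {a n} ha hn h i j t => by
    rw [mul_apply]
    refine Finset.sum_eq_zero fun c _ => ?_
    by_contra e
    exact t (h1 i c j (not_le.1 fun s => left_ne_zero_of_mul e (ha _ _ s))
      (not_le.1 fun s => right_ne_zero_of_mul e (hn _ _ s))
      (by_contra fun s => right_ne_zero_of_mul e (h _ _ s)))
  have R : ∀ {a n : Mx F m}, SU a → SU n → (∀ i j, ¬ p i j → n i j = 0) →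
      ∀ i j, ¬ p i j → (n * a) i j = 0 := fun {a n} ha hn h i j t => by
    rw [mul_apply]
    refine Finset.sum_eq_zero fun c _ => ?_
    by_contra e
    exact t (h2 i c j (not_le.1 fun s => left_ne_zero_of_mul e (hn _ _ s))
      (not_le.1 fun s => right_ne_zero_of_mul e (ha _ _ s))
      (by_contra fun s => left_ne_zero_of_mul e (h _ _ s)))
  intro s hs
  obtain ⟨a, ha, rfl⟩ := (M.mem _).1 hs
  refine mem_N_of_cj_le fun y hy => ?_
  obtain ⟨_, ⟨n, hn, pn, rfl⟩, rfl⟩ := mem_cj'.1 hy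
  obtain ⟨a', ha', -, -, -, e⟩ := M.exists_inv ha
  rw [(e n hn).2, M.mem_pat (e n hn).1]
  intro i j t
  have e1 : (1 + a) * n * (1 + a') = n + a * n + n * a' + a * n * a' := by noncomm_ring
  rw [e1, Matrix.add_apply, Matrix.add_apply, Matrix.add_apply, pn i j t, L ha hn pn i j t,
    R ha' hn pn i j t, R ha' (ha.mul hn) (L ha hn pn) i j t]
  simp
theorem R_le (i : ℕ) : M.R i ≤ M.S := M.pat_le
theorem U_le (i : ℕ) : M.U i ≤ M.S := M.pat_le
theorem mem_R {i : ℕ} (hn : SU n) :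
    M.ι n ∈ M.R i ↔ ∀ a b : Fin m, ¬ (a.val < i ∧ i ≤ b.val) → n a b = 0 := M.mem_pat hn
theorem R_ea (i : ℕ) : EA (M.R i) := by
  have sq : ∀ x ∈ M.R i, x * x = 1 := by
    rintro _ ⟨n, hn, pn, rfl⟩
    rw [M.sq_iff hn]
    ext a b
    rw [mul_apply]
    refine Finset.sum_eq_zero fun c _ => ?_
    rcases le_or_gt i c.val with e | e
    · rw [pn c b fun t => t.1.not_ge e, mul_zero]
    · rw [pn a c fun t => t.2.not_gt e, zero_mul]
  refine ⟨⟨⟨fun a b => Subtype.ext ?_⟩⟩, fun a ha => by rw [pow_two]; exact sq a ha⟩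
  have h1 := sq _ (mul_mem a.2 b.2)
  have h2 := sq _ a.2
  have h3 := sq _ b.2
  show (a : G) * b = b * a
  calc (a : G) * b = ((a : G) * b)⁻¹ := (inv_eq_of_mul_eq_one_right h1).symm
    _ = b * a := by
      rw [_root_.mul_inv_rev, inv_eq_of_mul_eq_one_right h2, inv_eq_of_mul_eq_one_right h3]
theorem R_norm (i : ℕ) : M.S ≤ N[M.R i] :=
  M.pat_norm (fun _ _ _ h _ t => ⟨lt_trans h t.1, t.2⟩) fun _ _ _ _ h t => ⟨t.1, t.2.trans h.le⟩
theorem vmv_mem_R {i : ℕ} {w φ : Fin m → F} (hw : ∀ a : Fin m, i ≤ a.val → w a = 0)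
    (hφ : ∀ a : Fin m, a.val < i → φ a = 0) : M.ι (vecMulVec w φ) ∈ M.R i := by
  rw [M.mem_R (su_vmv i hw hφ)]
  intro a b t
  rw [vecMulVec_apply]
  rcases le_or_gt i a.val with e | e
  · rw [hw a e, zero_mul]
  · rw [hφ b (not_le.1 fun s => t ⟨e, s⟩), mul_zero]
theorem R_cent {i : ℕ} (h0 : 0 < i) (h1 : i < m) : M.S ⊓ C[M.R i] ≤ M.R i := by
  rintro x ⟨hx, hc⟩
  obtain ⟨n, hn, rfl⟩ := (M.mem _).1 hx
  have key : ∀ a b : Fin m, a.val < i → i ≤ b.val →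
      vecMulVec (ev F a) (n b) = vecMulVec (fun c => n c a) (ev F b) := fun a b ha hb => by
    have hw : ∀ c : Fin m, i ≤ c.val → ev F a c = 0 := fun c hc => ev_ne fun e => by omega
    have hφ : ∀ c : Fin m, c.val < i → ev F b c = 0 := fun c hc => ev_ne fun e => by omega
    have := (M.comm_iff (su_vmv i hw hφ) hn).1 (mem_centralizer_iff.1 hc _ (M.vmv_mem_R hw hφ))
    rwa [vecMulVec_mul, mul_vecMulVec, ev_vecMul, mulVec_ev] at this
  rw [M.mem_R hn]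
  intro a b t
  rcases le_or_gt i a.val with e | e
  · have := congrFun (congrFun (key ⟨0, by omega⟩ a h0 e) ⟨0, by omega⟩) b
    simp only [vecMulVec_apply, ev_self, one_mul] at this
    rw [this, hn _ _ le_rfl, zero_mul]
  · have := congrFun (congrFun (key b ⟨i, h1⟩ (not_le.1 fun s => t ⟨e, s⟩) le_rfl) a) ⟨i, h1⟩
    simp only [vecMulVec_apply, ev_self, mul_one] at this
    rw [← this, hn _ _ le_rfl, mul_zero]
theorem cardS : ♯M.S = Nat.card F ^ (m.choose 2) := by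
  have e : M.S = M.pat (fun _ _ => True) fun _ _ _ _ _ _ _ => trivial :=
    le_antisymm (fun x hx => by
      obtain ⟨n, hn, rfl⟩ := (M.mem _).1 hx; exact ⟨n, hn, fun _ _ h => (h trivial).elim, rfl⟩) M.pat_le
  rw [e, M.card_pat]
  congr 1
  classical
  have := Finset.card_product_filter_lt (s := (Finset.univ : Finset (Fin m)))
  rw [Finset.card_univ, Fintype.card_fin] at this
  rw [← this, Nat.card_eq_fintype_card, Fintype.card_subtype]
  congr 1; ext x; simp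
end
variable (M : Mod G F (k + 4)) {n : Mx F (k + 4)}
theorem mem_A : x ∈ M.A ↔ ∃ φ : Fin (k + 4) → F, φ 0 = 0 ∧ M.ι (rw_ φ) = x := by
  constructor
  · rintro ⟨n, hn, pn, rfl⟩
    refine ⟨n 0, hn 0 0 le_rfl, congrArg _ ?_⟩
    ext i j
    rw [rw_apply]
    split_ifs with e
    · rw [e]
    · exact (pn i j fun t => e (Fin.ext (by simpa using t.1))).symm
  · rintro ⟨φ, h, rfl⟩
    exact M.vmv_mem_R (fun a ha => ev_ne fun e => by simp [e] at ha) fun a ha => by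
      rwa [show a = 0 from Fin.ext (by simpa using ha)]
theorem mem_A' : x ∈ M.A' ↔ ∃ w : Fin (k + 4) → F, w (iN k) = 0 ∧ M.ι (cl w) = x := by
  constructor
  · rintro ⟨n, hn, pn, rfl⟩
    refine ⟨fun i => n i (iN k), hn _ _ le_rfl, congrArg _ ?_⟩
    ext i j
    rw [cl_apply]
    split_ifs with e
    · rw [e]
    · exact (pn i j fun t => e (Fin.ext (by have := j.2; have := t.2; simp only [Fin.val_last]; omega))).symm
  · rintro ⟨w, h, rfl⟩
    exact M.vmv_mem_R (fun a ha => by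
      rwa [show a = iN k from Fin.ext (by have := a.2; simp only [Fin.val_last]; omega)])
      fun a ha => ev_ne fun e => by simp [e] at ha
theorem mem_Z : x ∈ M.Z ↔ ∃ l : F, M.ι (l • zM F k) = x := by
  constructor
  · intro h
    obtain ⟨φ, hφ, rfl⟩ := M.mem_A.1 (mem_inf.1 h).1
    obtain ⟨w, hw, e⟩ := M.mem_A'.1 (mem_inf.1 h).2
    have e := M.inj (su_cl hw) (su_rw hφ) e
    refine ⟨φ (iN k), congrArg _ ?_⟩
    ext i j
    have := congrFun (congrFun e i) j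
    rw [cl_apply, rw_apply] at this
    rw [Matrix.smul_apply, zM_apply, rw_apply]
    by_cases e1 : i = 0
    · by_cases e2 : j = iN k
      · simp [e1, e2]
      · rw [if_neg e2, if_pos e1] at this; simp [e1, e2, ← this]
    · simp [e1]
  · rintro ⟨l, rfl⟩
    exact mem_inf.2 ⟨M.mem_A.2 ⟨l • ev F (iN k), by simp [ev_ne N_ne_zero.symm], by rw [rw_smul, rw_ev]⟩,
      M.mem_A'.2 ⟨l • ev F 0, by simp [ev_ne N_ne_zero], by rw [cl_smul, cl_ev]⟩⟩
theorem mem_Q0 (h : SU n) : M.ι n ∈ M.Q ↔ ∀ a b : Fin (k + 4), a ≠ 0 → b ≠ iN k → n a b = 0 := by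
  rw [Q, M.mem_pat h]
  refine forall₂_congr fun a b => ?_
  rw [not_or, and_imp, Ne, Ne, Fin.ext_iff, Fin.ext_iff]; rfl
theorem rc_mem_Q {φ w : Fin (k + 4) → F} (h : φ 0 = 0) (h' : w (iN k) = 0) : M.ι (rw_ φ + cl w) ∈ M.Q := by
  rw [M.mem_Q0 ((su_rw h).add (su_cl h'))]
  intro a b ha hb
  simp [rw_apply, cl_apply, ha, hb]
theorem mem_Q : x ∈ M.Q ↔ ∃ φ w : Fin (k + 4) → F, φ 0 = 0 ∧ w 0 = 0 ∧ w (iN k) = 0 ∧
    M.ι (rw_ φ + cl w) = x := by
  constructor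
  · intro h
    obtain ⟨n, hn, rfl⟩ := (M.mem _).1 (M.pat_le h)
    rw [M.mem_Q0 hn] at h
    refine ⟨n 0, fun i => if i = 0 then 0 else n i (iN k), hn _ _ le_rfl, by simp, by
      simp [hn _ _ le_rfl], congrArg _ ?_⟩
    ext i j
    rw [Matrix.add_apply, rw_apply, cl_apply]
    split_ifs with e1 e2 e3
    · simp [e1]
    · simp [e1]
    · simp [e3]
    · simp [h i j e1 e3]
  · rintro ⟨φ, w, h1, -, h2, rfl⟩
    exact M.rc_mem_Q h1 h2
theorem A_le_Q : M.A ≤ M.Q := fun x hx => by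
  obtain ⟨φ, h, rfl⟩ := M.mem_A.1 hx
  simpa [cl_eq_zero.2 rfl] using M.rc_mem_Q (w := 0) h rfl
theorem A'_le_Q : M.A' ≤ M.Q := fun x hx => by
  obtain ⟨w, h, rfl⟩ := M.mem_A'.1 hx
  simpa [rw_eq_zero.2 rfl] using M.rc_mem_Q (φ := 0) rfl h
theorem mem_Q' : x ∈ M.Q ↔ ∃ a ∈ M.A, ∃ a' ∈ M.A', x = a * a' := by
  constructor
  · intro h
    obtain ⟨φ, w, h1, h2, h3, rfl⟩ := M.mem_Q.1 h
    have h4 : (φ + (φ ⬝ᵥ w) • ev F (iN k)) 0 = 0 := by simp [h1, ev_ne N_ne_zero.symm]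
    refine ⟨_, M.mem_A.2 ⟨_, h4, rfl⟩, _, M.mem_A'.2 ⟨w, h3, rfl⟩, ?_⟩
    rw [← M.mul (su_rw h4) (su_cl h3), rw_mul_cl, add_dotProduct, smul_dotProduct, ev_dot, h3,
      smul_zero, add_zero, rw_add, rw_smul, rw_ev]
    congr 1
    rw [← add_zero (rw_ φ + cl w), ← add_self_mx ((φ ⬝ᵥ w) • zM F k)]; abel
  · rintro ⟨a, ha, a', ha', rfl⟩
    exact mul_mem (M.A_le_Q ha) (M.A'_le_Q ha')
theorem mem_UL (h : SU n) : M.ι n ∈ M.UL ↔ n (iP k) (iN k) = 0 := by
  rw [UL, U, M.mem_pat h]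
  refine ⟨fun t => t _ _ (by simp), fun t a b e => ?_⟩
  rw [not_not] at e
  rwa [show a = iP k from Fin.ext e.1, show b = iN k from Fin.ext e.2]
theorem mem_UF (h : SU n) : M.ι n ∈ M.UF ↔ n 0 1 = 0 := by
  rw [UF, U, M.mem_pat h]
  refine ⟨fun t => t _ _ (by simp), fun t a b e => ?_⟩
  rw [not_not] at e
  rwa [show a = 0 from Fin.ext e.1, show b = 1 from Fin.ext e.2]
theorem Q_le : M.Q ≤ M.S := M.pat_le
theorem A_le : M.A ≤ M.S := M.R_le _
theorem A'_le : M.A' ≤ M.S := M.R_le _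
theorem A_norm : M.S ≤ N[M.A] := M.R_norm _
theorem A'_norm : M.S ≤ N[M.A'] := M.R_norm _
theorem A_cent : M.S ⊓ C[M.A] ≤ M.A := M.R_cent one_pos (by omega)
theorem A'_cent : M.S ⊓ C[M.A'] ≤ M.A' := M.R_cent (by omega) (by omega)
theorem Q_eq : M.Q = M.A ⊔ M.A' := le_antisymm (fun x hx => by
  obtain ⟨a, ha, a', ha', rfl⟩ := M.mem_Q'.1 hx
  exact mul_mem (mem_sup_left ha) (mem_sup_right ha')) (sup_le M.A_le_Q M.A'_le_Q)
theorem Q_norm : M.S ≤ N[M.Q] := M.Q_eq ▸ norm_sup M.A_norm M.A'_norm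
theorem Z_cent : M.S ≤ C[M.Z] := fun s hs => mem_centralizer_iff.2 fun x hx => by
  obtain ⟨l, rfl⟩ := M.mem_Z.1 hx
  obtain ⟨n, hn, rfl⟩ := (M.mem _).1 hs
  rw [M.comm_iff (su_zM.smul l) hn, smul_mul_assoc, mul_smul_comm, ← rw_ev, hn.mul_rw, rw_ev, ← cl_ev,
    hn.cl_mul]
theorem cent_Q : M.S ⊓ C[M.Q] ≤ M.Z := fun x hx =>
  mem_inf.2 ⟨M.A_cent ⟨hx.1, centralizer_le M.A_le_Q hx.2⟩, M.A'_cent ⟨hx.1, centralizer_le M.A'_le_Q hx.2⟩⟩
theorem comm_rw_cl {φ w : Fin (k + 4) → F} (h : φ 0 = 0) (h' : w (iN k) = 0) :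
    ⁅M.ι (rw_ φ), M.ι (cl w)⁆ = M.ι ((φ ⬝ᵥ w) • zM F k) := by
  rw [M.comm_sq (su_rw h) ((su_rw h).mul_rw _) (su_cl h') ((su_cl h').cl_mul _), (su_cl h').mul_rw,
    ((su_rw h).mul (su_cl h')).mul_rw, add_zero, add_zero, mul_assoc, (su_cl h').cl_mul, mul_zero,
    add_zero, rw_mul_cl]
theorem comm_AA' (hx : x ∈ M.A) (hy : y ∈ M.A') : ⁅x, y⁆ ∈ M.Z := by
  obtain ⟨φ, h, rfl⟩ := M.mem_A.1 hx
  obtain ⟨w, h', rfl⟩ := M.mem_A'.1 hy
  exact M.mem_Z.2 ⟨_, (M.comm_rw_cl h h').symm⟩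
theorem ea_comm (hB : EA B) (hx : x ∈ B) (hy : y ∈ B) : x * y = y * x :=
  congrArg Subtype.val (hB.1.is_comm.comm (⟨x, hx⟩ : B) ⟨y, hy⟩)
theorem ea_sq (hB : EA B) (hx : x ∈ B) : x * x = 1 := by rw [← pow_two]; exact hB.2 x hx
theorem Q_comm (hx : x ∈ M.Q) (hy : y ∈ M.Q) : ⁅x, y⁆ ∈ M.Z := by
  obtain ⟨a, ha, a', ha', rfl⟩ := M.mem_Q'.1 hx
  obtain ⟨b, hb, b', hb', rfl⟩ := M.mem_Q'.1 hy
  have h1 := M.comm_AA' ha hb'
  have h2 := inv_mem (M.comm_AA' hb ha')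
  rw [commutatorElement_inv] at h2
  have c1 := ea_comm (M.R_ea _) ha hb
  have c2 := ea_comm (M.R_ea _) ha' hb'
  have z1 := mem_centralizer_iff.1 (M.Z_cent (M.A_le hb)) _ h1
  have z2 := mem_centralizer_iff.1 (M.Z_cent (M.A_le ha)) _ h2
  have e : ⁅a * a', b * b'⁆ = ⁅a', b⁆ * ⁅a, b'⁆ := by
    calc ⁅a * a', b * b'⁆ = a * ⁅a', b⁆ * (b * (a' * b') * a'⁻¹ * a⁻¹ * b'⁻¹ * b⁻¹) := by
          simp only [commutatorElement_def]; group
      _ = ⁅a', b⁆ * ((a * b) * b' * a⁻¹ * b'⁻¹ * b⁻¹) := by rw [← z2, c2]; group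
      _ = ⁅a', b⁆ * (b * ⁅a, b'⁆ * b⁻¹) := by rw [c1]; simp only [commutatorElement_def]; group
      _ = _ := by rw [← z1]; group
  exact e ▸ mul_mem h2 h1
theorem Q_sq (hx : x ∈ M.Q) : x * x ∈ M.Z := by
  obtain ⟨a, ha, a', ha', rfl⟩ := M.mem_Q'.1 hx
  have := M.comm_AA' ha ha'
  rwa [commutatorElement_def, inv_eq_of_mul_eq_one_right (ea_sq (M.R_ea _) ha),
    inv_eq_of_mul_eq_one_right (ea_sq (M.R_ea _) ha'), mul_assoc (a * a')] at this
theorem mem_Q_of_A (hx : x ∈ M.S) (h : ∀ a ∈ M.A, ⁅a, x⁆ ∈ M.Z) : x ∈ M.Q := by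
  obtain ⟨n, hn, rfl⟩ := (M.mem _).1 hx
  rw [M.mem_Q0 hn]
  intro a b ha hb
  have h0 : ev F a 0 = 0 := ev_ne ha.symm
  obtain ⟨l, e⟩ := M.mem_Z.1 (h _ (M.mem_A.2 ⟨_, h0, rfl⟩))
  have hs := su_rw h0
  have e1 : M.ι (l • zM F k) * M.ι n = M.ι (n + rw_ (n a)) := by
    rw [e, commutatorElement_def, inv_mul_cancel_right, M.conj_sq hs (hs.mul_rw _) hn, hn.mul_rw,
      (hs.mul hn).mul_rw, add_zero, add_zero, rw_mul, ev_vecMul]
  rw [← M.mul (su_zM.smul l) hn, smul_mul_assoc, ← cl_ev, hn.cl_mul, smul_zero, add_zero, cl_ev] at e1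
  have e2 := M.inj ((su_zM.smul l).add hn) (hn.add (su_rw (hn _ _ (Fin.zero_le _)))) e1
  rw [add_comm (l • zM F k), add_right_inj] at e2
  simpa [zM_apply, rw_apply, hb] using (congrFun (congrFun e2 0) b).symm
theorem mem_Q_of_A' (hx : x ∈ M.S) (h : ∀ a ∈ M.A', ⁅a, x⁆ ∈ M.Z) : x ∈ M.Q := by
  simpa using M.flip.mem_Q_of_A (x := x) hx (by simpa using h)
theorem cardA : ♯M.A = Nat.card F ^ (k + 3) := by
  rw [A, R, M.card_pat]
  congr 1
  rw [← Nat.card_fin (k + 3)]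
  refine (Nat.card_congr (Equiv.ofBijective (fun j : Fin (k + 3) =>
    ⟨(0, j.succ), Fin.succ_pos _, by simp, by simp⟩) ⟨fun a b e => Fin.succ_injective _ (congrArg (fun x => x.1.2) e), ?_⟩)).symm
  rintro ⟨⟨a, b⟩, h1, h2, h3⟩
  obtain ⟨j, rfl⟩ := Fin.exists_succ_eq.2 (show b ≠ 0 from fun e => by simp [e] at h3)
  exact ⟨j, Subtype.ext (Prod.ext (Fin.ext (by simpa using h2)).symm rfl)⟩
theorem cardZ : ♯M.Z = Nat.card F := by
  refine (Nat.card_congr (Equiv.ofBijective (fun l : F => ⟨_, M.mem_Z.2 ⟨l, rfl⟩⟩)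
    ⟨fun a b e => ?_, fun x => ?_⟩)).symm
  · have := M.inj (su_zM.smul a) (su_zM.smul b) (congrArg Subtype.val e)
    rwa [← sub_eq_zero, ← sub_smul, smul_zM_eq_zero, sub_eq_zero] at this
  · obtain ⟨l, e⟩ := M.mem_Z.1 x.2
    exact ⟨l, Subtype.ext e⟩
theorem rw_mem_R {φ : Fin (k + 4) → F} (h : φ 0 = 0) {i : ℕ} (h0 : 0 < i) :
    M.ι (rw_ φ) ∈ M.R i ↔ ∀ a : Fin (k + 4), a.val < i → φ a = 0 := by
  refine ⟨fun t a ha => ?_, fun t => M.vmv_mem_R (fun a ha => ev_ne fun e => by simp [e] at ha; omega) t⟩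
  simpa [rw_apply] using (M.mem_R (su_rw h)).1 t 0 a fun s => s.2.not_gt ha
theorem Om_UL : Om M.UL = M.A ⊓ M.R (k + 2) := by
  refine le_antisymm (fun x hx => ?_) fun x hx => ?_
  · have hA : M.A ≤ M.UL := fun a ha => by
      obtain ⟨φ, h, rfl⟩ := M.mem_A.1 ha
      rw [M.mem_UL (su_rw h), rw_apply, if_neg fun e => by simpa using congrArg Fin.val e]
    have hR : M.R (k + 2) ≤ M.UL := by
      rintro _ ⟨n, hn, pn, rfl⟩
      exact (M.mem_UL hn).2 (pn _ _ fun t => by simpa using t.1)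
    exact mem_inf.2 ⟨M.A_cent ⟨M.U_le _ hx.1, centralizer_le hA hx.2.1⟩,
      M.R_cent (by omega) (by omega) ⟨M.U_le _ hx.1, centralizer_le hR hx.2.1⟩⟩
  · obtain ⟨φ, h, rfl⟩ := M.mem_A.1 (mem_inf.1 hx).1
    have h2 := (M.rw_mem_R h (by omega)).1 (mem_inf.1 hx).2
    refine ⟨?_, mem_centralizer_iff.2 fun y hy => ?_, ea_sq (M.R_ea _) (mem_inf.1 hx).1⟩
    · rw [M.mem_UL (su_rw h), rw_apply, if_neg fun e => by simpa using congrArg Fin.val e]
    · obtain ⟨n, hn, rfl⟩ := (M.mem _).1 (M.U_le _ hy)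
      replace hy := (M.mem_UL hn).1 hy
      rw [M.comm_iff hn (su_rw h), hn.mul_rw, rw_mul, eq_comm, rw_eq_zero]
      ext j
      rw [vecMul, dotProduct]
      refine Finset.sum_eq_zero fun c _ => ?_
      rcases lt_or_ge c.val (k + 2) with e | e
      · rw [h2 c e, zero_mul]
      · by_cases e1 : j ≤ c
        · rw [hn _ _ e1, mul_zero]
        · have := Fin.lt_def.1 (not_le.1 e1)
          have := j.2
          rw [show c = iP k from Fin.ext (by simp only; omega),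
            show j = iN k from Fin.ext (by simp only [Fin.val_last]; omega), hy, mul_zero]
/-- there are two involutions in `S` which do not commute -/
theorem exists_nc : ∃ x ∈ M.S, ∃ y ∈ M.S, x * x = 1 ∧ y * y = 1 ∧ x * y ≠ y * x := by
  have h1 : ev F (1 : Fin (k + 4)) 0 = 0 := ev_ne zero_ne_one
  have h2 : ev F (1 : Fin (k + 4)) (iN k) = 0 := ev_ne fun e => by simpa using congrArg Fin.val e
  refine ⟨_, M.memS (su_rw h1), _, M.memS (su_cl h2), (M.sq_iff (su_rw h1)).2 ((su_rw h1).mul_rw _),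
    (M.sq_iff (su_cl h2)).2 ((su_cl h2).cl_mul _), fun e => ?_⟩
  rw [M.comm_iff (su_rw h1) (su_cl h2), (su_cl h2).mul_rw, rw_mul_cl, smul_zM_eq_zero, ev_dot, ev_self] at e
  exact one_ne_zero e
end Mod

end H26.LM
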