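import Mathlib
import Cfsg.Agent.H26.LM0

set_option autoImplicit false
set_option linter.unusedVariables false
set_option linter.unusedSectionVars false

namespace H26.LM

open Cfsg H24 H26.Gold Subgroup Matrix
open scoped commutatorElement

universe u v

variable {G : Type u} [Group G] [Finite G] {F : Type v} [Field F] [Finite F] [CharP F 2] {k m : ℕ}
  {H S E K Y Z0 M0 B R : Subgroup G} {𝓑 : Set G} {b c g t x y : G}

/-! ### LMD -/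

namespace D18

theorem mem_of_cop {a n : ℕ} (h : a.Coprime n) (h1 : y ^ a ∈ K) (h2 : y ^ n ∈ K) : y ∈ K := by
  have e : y = (y ^ a) ^ a.gcdA n * (y ^ n) ^ a.gcdB n := by
    rw [← zpow_natCast, ← zpow_natCast, ← _root_.zpow_mul, ← _root_.zpow_mul, ← _root_.zpow_add, ← Nat.gcd_eq_gcd_ab,
      h.gcd_eq_one, Nat.cast_one, zpow_one]
  rw [e]
  exact mul_mem (zpow_mem h1 _) (zpow_mem h2 _)

theorem last (ht : TwoE t) (h : t ∉ E) : ∃ j, t ^ j ∉ E ∧ t ^ j * t ^ j ∈ E := by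
  classical
  have ex : ∃ n, t ^ 2 ^ n ∈ E := by
    obtain ⟨n, hn⟩ := ht.exists_pow Nat.prime_two
    exact ⟨n, by rw [← hn, pow_orderOf_eq_one]; exact one_mem _⟩
  obtain ⟨n, hn⟩ := Nat.exists_eq_succ_of_ne_zero (n := Nat.find ex) fun e => h (by
    simpa [e] using Nat.find_spec ex)
  refine ⟨2 ^ n, Nat.find_min ex (by omega), ?_⟩
  have := Nat.find_spec ex
  rwa [hn, pow_succ, pow_mul, pow_two] at this

theorem up0 (hS : TwoG S) (hE : E ≤ S) (hR : R ≤ S) (hn : E ≤ N[R]) (h : ¬ R ≤ E) :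
    ∃ t ∈ R, t ∈ N[E] ∧ t ∉ E := by
  obtain ⟨x, hx, xE⟩ := SetLike.exists_of_lt (((hS.of_le (sup_le hE hR)).nil Nat.prime_two).proper_norm
    (left_lt_sup.2 h))
  obtain ⟨e, he, r, hr, rfl⟩ := (mem_sup_of_norm' hn).1 hx.1
  exact ⟨r, hr, (mul_mem_cancel_left (norm_self E he)).1 hx.2, fun c => xE (mul_mem he c)⟩

theorem two_of_sq (hE : TwoG E) (h : c * c ∈ E) : TwoE c := by
  obtain ⟨n, hn⟩ := (hE.piElt h).exists_pow Nat.prime_two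
  refine piElt_of_pow_eq_one (n := 2 ^ (n + 1)) ((piNat_singleton Nat.prime_two (by positivity)).2
    ⟨_, rfl⟩) ?_
  rw [pow_succ', pow_mul, pow_two, ← hn, pow_orderOf_eq_one]

section
variable {Y : Type*} [Group Y] {τ β : Y}

theorem inv_pw (h1 : τ * τ = 1) (h2 : β * β = 1) (n : ℕ) :
    β * (τ * β) ^ n = ((τ * β) ^ n)⁻¹ * β ∧ τ * (τ * β) ^ n = ((τ * β) ^ n)⁻¹ * τ := by
  have e1 : τ⁻¹ = τ := inv_eq_of_mul_eq_one_right h1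
  have e2 : β⁻¹ = β := inv_eq_of_mul_eq_one_right h2
  constructor
  · rw [← mul_inv_eq_iff_eq_mul, ← conj_pow, ← inv_pow, _root_.mul_inv_rev, e1, e2, ← mul_assoc,
      mul_assoc _ β, h2, mul_one]
  · rw [← mul_inv_eq_iff_eq_mul, ← conj_pow, ← inv_pow, _root_.mul_inv_rev, e1, e2, ← mul_assoc,
      h1, one_mul]

theorem odd_conj (h1 : τ * τ = 1) (h2 : β * β = 1) {i : ℕ} (h : (τ * β) ^ (2 * i + 1) = 1) :
    (τ * β) ^ (i + 1) * β * ((τ * β) ^ (i + 1))⁻¹ = τ := by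
  have e := (inv_pw h1 h2 (i + 1)).1
  have e' : β * ((τ * β) ^ (i + 1))⁻¹ = (τ * β) ^ (i + 1) * β := by
    rw [mul_inv_eq_iff_eq_mul, mul_assoc, e, mul_inv_cancel_left]
  rw [mul_assoc, e', ← mul_assoc, ← pow_add, show i + 1 + (i + 1) = 2 * i + 1 + 1 by ring, pow_succ,
    h, one_mul, mul_assoc, h2, mul_one]

end

theorem cmem (hx : x ∈ K) (hy : y ∈ K) : ⁅x, y⁆ ∈ K :=
  mul_mem (mul_mem (mul_mem hx hy) (inv_mem hx)) (inv_mem hy)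

theorem cs_sq (ht : t ∈ N[E]) (h : t * t ∈ E) : cs E t * cs E t = 1 := by
  rw [← ap_mul _ ht ht]; exact cs_of_mem h

theorem key (h : Es H S E M0) {s : G} (ht : t ∈ S ⊓ N[E]) (tE : t ∉ E) (t2 : t * t ∈ E)
    (hs : s ∈ H ⊓ N[E]) (sM : s ∉ M0) (s2 : s * s ∈ E) : ∃ r, Odd r ∧ (t * s) ^ r ∈ E := by
  have EM : E ≤ M0 := (le_inf h.lt.le (norm_self E)).trans h.leM
  have ts : t * s ∈ H ⊓ N[E] := mul_mem ⟨h.SH ht.1, ht.2⟩ hs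
  have pw : ∀ n, cs E ((t * s) ^ n) = (cs E t * cs E s) ^ n := fun n => by
    rw [cs, ap_pow _ ts.2, ap_mul _ ht.2 hs.2]
  rcases Nat.even_or_odd (orderOf (cs E t * cs E s)) with ⟨j, hj⟩ | ho
  swap
  · exact ⟨_, ho, (cs_eq_one (pow_mem ts.2 _)).1 (by rw [pw, pow_orderOf_eq_one])⟩
  exfalso
  have p := orderOf_pos (cs E t * cs E s)
  set c := (t * s) ^ j with hc
  have cH : c ∈ H ⊓ N[E] := pow_mem ts _
  have c1 : c ∉ E := fun e => pow_ne_one_of_lt_orderOf (n := j) (by omega) (by omega)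
    ((pw j).symm.trans (cs_of_mem e))
  have c2 : cs E c * cs E c = 1 := by rw [hc, pw, ← pow_add, ← hj, pow_orderOf_eq_one]
  obtain ⟨e1, e2⟩ := inv_pw (cs_sq ht.2 t2) (cs_sq hs.2 s2) j
  rw [← pw, ← hc, inv_eq_of_mul_eq_one_right c2] at e1 e2
  have mm : ∀ x ∈ N[E], ∀ y ∈ N[E], cs E x * cs E y = cs E y * cs E x → y ∈ M0 →
      x * y * x⁻¹ ∈ M0 := fun x hx y hy e hM => by
    have := (cs_eq_cs hy (mul_mem (mul_mem hx hy) (inv_mem hx))).1 (by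
      rw [cs, cs, ap_conj _ hx hy, eq_mul_inv_iff_mul_eq]; exact e.symm)
    exact (mul_mem_cancel_left (inv_mem hM)).1 (EM this)
  have cM : c ∈ M0 := h.se c cH t ht tE (mm c cH.2 t ht.2 e2.symm (h.leM ht))
  obtain ⟨m, hm, hm'⟩ := Sylow_Jsub Nat.prime_two (h.syl.of_le h.leM h.Mle)
    (two_of_sq (h.two.of_le h.lt.le) ((cs_eq_one (mul_mem cH.2 cH.2)).1
      ((ap_mul _ cH.2 cH.2).trans c2))).isPi (zpowers_le.2 cM)
  have := h.se (s * m⁻¹) (mul_mem hs (inv_mem (h.Mle hm))) _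
    (hm' (conj_mem_cj m (mem_zpowers c))) (by rwa [conj_mem_iff (h.Mle hm).2]) (by
      have := mm s hs.2 c cH.2 e1 cM
      convert this using 1; group)
  exact sM ((mul_mem_cancel_right (inv_mem hm)).1 this)

end D18
open D18

theorem up (hS : TwoG S) (hE : E ≤ S) (hR : R ≤ S) (hn : E ≤ N[R]) (h : ¬ R ≤ E) :
    ∃ t ∈ R, t ∈ N[E] ∧ t ∉ E ∧ t * t ∈ E := by
  obtain ⟨t, h1, h2, h3⟩ := up0 hS hE hR hn h
  obtain ⟨j, h4⟩ := last (hS.piElt (hR h1)) h3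
  exact ⟨_, pow_mem h1 j, pow_mem h2 j, h4⟩

theorem up_cent (hS : TwoG S) (hE : E ≤ S) (hR : R ≤ S) (hn : S ⊓ N[E] ≤ N[R]) (h : ¬ R ≤ E) :
    ∃ t ∈ R, t ∈ N[E] ∧ t ∉ E ∧ t * t ∈ E ∧ ∀ s ∈ S ⊓ N[E], ⁅t, s⁆ ∈ E := by
  obtain ⟨t, h1, h2, h3⟩ := up0 hS hE hR ((le_inf hE (norm_self E)).trans hn) h
  have := IsPi.inf_C_ne_bot Nat.prime_two ((hS.inf_left N[E]).quo E)
    (((hS.of_le hR).inf_left N[E]).quo E)
    (quo_norm E (norm_inf hn (norm_of_le inf_le_right)))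
    (fun e => h3 ((quo_eq_bot inf_le_right).1 e ⟨h1, h2⟩))
  obtain ⟨⟨z, z1, z2⟩, z3⟩ := ne_bot_iff_exists_ne_one.1 this
  obtain ⟨r, hr, -, rfl⟩ := mem_quo.1 z1
  obtain ⟨j, h4, h5⟩ := last (E := E) (hS.piElt (hR hr.1)) fun e => z3 (Subtype.ext (cs_of_mem e))
  refine ⟨_, pow_mem hr.1 j, pow_mem hr.2 j, h4, h5, fun s hs => ?_⟩
  have rj := pow_mem hr.2 j
  rw [← cs_eq_one (cmem rj hs.2), cs, ap_commutator _ rj hs.2,
    commutatorElement_eq_one_iff_mul_comm, ap_pow _ hr.2]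
  exact mem_C'.1 (pow_mem z2 j) _ (cs_mem_quo hs hs.2)

theorem norm_Om (E : Subgroup G) : N[E] ≤ N[Om E] := fun g hg =>
  mem_N_of_finite fun x hx => ⟨conj_mem hg hx.1, conj_mem (N_le_NC E hg) hx.2.1, by
    calc g * x * g⁻¹ * (g * x * g⁻¹) = g * (x * x) * g⁻¹ := by group
      _ = 1 := by rw [hx.2.2]; group⟩

theorem Es.dih (h : Es H S E M0) (hb : b ∈ S ⊓ N[E]) (bE : b ∉ E) (b2 : b * b = 1) :
    ∃ g, Dih H S E b g := by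
  have EM : E ≤ M0 := (le_inf h.lt.le (norm_self E)).trans h.leM
  have bH : b ∈ H ⊓ N[E] := ⟨h.SH hb.1, hb.2⟩
  have ky : ∀ x ∈ H ⊓ N[E], x ∉ M0 → ∀ t ∈ S ⊓ N[E], t ∉ E → t * t ∈ E →
      ∃ r, Odd r ∧ (t * (x * b * x⁻¹)) ^ r ∈ E := fun x hx xM t ht tE t2 =>
    key h ht tE t2 (mul_mem (mul_mem hx bH) (inv_mem hx)) (fun e => xM (h.se x hx b hb bE e)) (by
      rw [conj_mul, b2, mul_one, mul_inv_cancel]; exact one_mem _)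
  obtain ⟨x, hx, xM⟩ := SetLike.not_le_iff_exists.1 h.ne
  obtain ⟨r, r1, r2⟩ := ky x hx xM b hb bE (b2 ▸ one_mem _)
  obtain ⟨a, n, n1, n2⟩ := Nat.exists_eq_two_pow_mul_odd (orderOf_pos (b * (x * b * x⁻¹))).ne'
  have gH : (b * (x * b * x⁻¹)) ^ 2 ^ a ∈ H ⊓ N[E] :=
    pow_mem (mul_mem bH (mul_mem (mul_mem hx bH) (inv_mem hx))) _
  have gM : (b * (x * b * x⁻¹)) ^ 2 ^ a ∉ M0 := fun e => xM (h.se x hx b hb bE
    ((mul_mem_cancel_left (h.leM hb)).1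
      (mem_of_cop (Nat.Coprime.pow_right a r1.coprime_two_right) (EM r2) e)))
  refine ⟨_, h.lt.le, h.two, hb, bE, b2, gH, n1.of_dvd_nat (orderOf_dvd_of_pow_eq_one ?_), ?_,
    fun e => gM (h.cM ⟨gH.1, e⟩), ky _ gH gM⟩
  · rw [← pow_mul, ← n2, pow_orderOf_eq_one]
  · rw [(inv_pw b2 (by rw [conj_mul, b2, mul_one, mul_inv_cancel]) _).2, mul_assoc, b2, mul_one]

theorem Dih.conj (h : Dih H S E b g) (hH : S ≤ H) (ht : t ∈ S ⊓ N[E]) (tE : t ∉ E)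
    (t2 : t * t ∈ E) : ∃ x ∈ H ⊓ N[E], (x * b * x⁻¹)⁻¹ * t ∈ E := by
  obtain ⟨_, ⟨i, rfl⟩, hr⟩ := h.pw t ht tE t2
  have b1 : g * b * g⁻¹ ∈ H ⊓ N[E] := mul_mem (mul_mem h.gH ⟨hH h.bT.1, h.bT.2⟩) (inv_mem h.gH)
  have y1 : t * (g * b * g⁻¹) ∈ H ⊓ N[E] := mul_mem ⟨hH ht.1, ht.2⟩ b1
  have x1 := mul_mem (pow_mem y1 (i + 1)) h.gH
  refine ⟨_, x1, (cs_eq_cs (mul_mem (mul_mem x1.2 h.bT.2) (inv_mem x1.2)) ht.2).1 ?_⟩
  have pw : ∀ n, cs E ((t * (g * b * g⁻¹)) ^ n) = (cs E t * cs E (g * b * g⁻¹)) ^ n := fun n => by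
    rw [cs, ap_pow _ y1.2, ap_mul _ ht.2 b1.2]
  rw [← odd_conj (cs_sq ht.2 t2) (cs_sq b1.2 (by
    rw [conj_mul, h.b2, mul_one, mul_inv_cancel]; exact one_mem _)) ((pw _).symm.trans
      (cs_of_mem hr)), ← pw, ← ap_conj _ (pow_mem y1.2 _) b1.2]
  congr 1; group

theorem Es.burn (h : Es H S E M0) (hb : b ∈ S ⊓ N[E]) (bE : b ∉ E) (b2 : b * b = 1)
    (hc : c ∈ S ⊓ N[E]) (cE : c ∉ E) (c2 : c * c ∈ E) (bz : ∀ s ∈ S ⊓ N[E], ⁅b, s⁆ ∈ E)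
    (cz : ∀ s ∈ S ⊓ N[E], ⁅c, s⁆ ∈ E) :
    ∃ x ∈ H ⊓ N[E], x ∈ N[S ⊓ N[E]] ∧ (x * b * x⁻¹)⁻¹ * c ∈ E := by
  obtain ⟨g, hg⟩ := h.dih hb bE b2
  obtain ⟨x, hx, e⟩ := hg.conj h.SH hc cE c2
  have cm : ∀ u ∈ N[E], ∀ s ∈ N[E], ⁅u, s⁆ ∈ E → cs E s ∈ C{cs E u} := fun u hu s hs e => by
    rw [← cs_eq_one (cmem hu hs), cs, ap_commutator _ hu hs,
      commutatorElement_eq_one_iff_mul_comm] at e
    exact mem_C1.2 e.symm
  have b1 : x * b * x⁻¹ ∈ N[E] := mul_mem (mul_mem hx.2 hb.2) (inv_mem hx.2)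
  rw [← cs_eq_cs b1 hc.2] at e
  have hX : H ⊓ coq E C{cs E c} ≤ H ⊓ N[E] := inf_le_inf_left _ (coq_le_N _)
  obtain ⟨k, hk, e'⟩ := Sylow_trans Nat.prime_two ((h.syl.cj_mem hx).of_le (fun y hy => by
      obtain ⟨s, hs, rfl⟩ := mem_cj'.1 hy
      have s1 := mul_mem (mul_mem hx (h.syl.le hs)) (inv_mem hx)
      refine ⟨s1.1, mem_coq.2 ⟨s1.2, e ▸ cm _ b1 _ s1.2 ?_⟩⟩
      rw [← conjugate_commutatorElement]
      exact conj_mem hx.2 (bz s hs)) hX)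
    (h.syl.of_le (fun s hs => ⟨h.SH hs.1, mem_coq.2 ⟨hs.2, cm c hc.2 s hs.2 (cz s hs)⟩⟩) hX)
  have k1 := mul_mem (hX hk) hx
  refine ⟨k * x, k1, mem_N_iff_cj.2 (by rw [cj_mul, ← e']),
    (cs_eq_cs (mul_mem (mul_mem k1.2 hb.2) (inv_mem k1.2)) hc.2).1 ?_⟩
  rw [← mem_C1_iff_conj.1 (mem_coq.1 hk.2).2, ← e, ← ap_conj _ (hX hk).2 b1]
  congr 1; group

theorem Dih.case1 (h : Dih H S E b g) (hH : S ≤ H) (hg : g ∉ C[Om E]) : S ⊓ C[Om E] ≤ E := by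
  by_contra c
  have n1 : N[E] ≤ N[C[Om E]] := norm_C (norm_Om E)
  obtain ⟨t, t1, t2, t3, t4⟩ := up h.two h.ES inf_le_left
    (norm_inf (norm_of_le h.ES) ((norm_self E).trans n1)) c
  obtain ⟨x, hx, e⟩ := h.conj hH ⟨t1.1, t2⟩ t3 t4
  have EC : E ≤ C[Om E] := cents_symm fun y hy => (mem_Om.1 hy).2.1
  have b1 : b ∈ C[Om E] := (conj_mem_iff (n1 hx.2)).1
    (inv_mem_iff.1 ((mul_mem_cancel_right (mem_inf.1 t1).2).1 (EC e)))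
  refine hg (mem_of_cop h.odd.coprime_two_left ?_ (by rw [pow_orderOf_eq_one]; exact one_mem _))
  have := mul_mem (conj_mem (n1 h.gH.2) b1) b1
  rwa [← h.inv, show g * b * (b * g * b) * b = g * (b * b) * g * (b * b) by group, h.b2, mul_one,
    mul_one, ← pow_two] at this

end H26.LM
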