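import Mathlib
import Cfsg.Agent.H26.LM0
import Cfsg.Agent.H26.Coprime

set_option autoImplicit false
set_option linter.unusedVariables false
set_option linter.unusedSectionVars false

namespace H26.LM

open Cfsg H24 H26.Gold Subgroup Matrix
open scoped commutatorElement

universe u v

variable {G : Type u} [Group G] [Finite G] {F : Type v} [Field F] [Finite F] [CharP F 2] {k m : ℕ}
  {H S E K Y Z0 M0 B R : Subgroup G} {𝓑 : Set G} {b c g t x y : G}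

/-! ### LMW -/

namespace LMWa

theorem fix_of_odd {a y c : G} (ha : Odd (orderOf a)) (e : a * y * a⁻¹ = c * y)
    (hc : a * c = c * a) (h2 : TwoE c) : a * y = y * a := by
  have key : ∀ n : ℕ, a ^ n * y * (a ^ n)⁻¹ = c ^ n * y := fun n => by
    induction n with
    | zero => simp
    | succ n ih =>
      have hn : a * c ^ n = c ^ n * a := ((show Commute a c from hc).pow_right n).eq
      calc a ^ (n + 1) * y * (a ^ (n + 1))⁻¹ = a * (a ^ n * y * (a ^ n)⁻¹) * a⁻¹ := by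
            rw [pow_succ']; group
        _ = a * c ^ n * a⁻¹ * (a * y * a⁻¹) := by rw [ih]; group
        _ = c ^ (n + 1) * y := by rw [hn, e, pow_succ]; group
  have h1 := key (orderOf a)
  rw [pow_orderOf_eq_one] at h1
  have h3 : c ^ orderOf a = 1 := by simpa using h1.symm
  have : c = 1 := by
    by_contra hne
    have := (h2.dvd_orderOf hne).trans (orderOf_dvd_of_pow_eq_one h3)
    exact (Nat.not_even_iff_odd.2 ha) (even_iff_two_dvd.2 this)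
  rw [this, one_mul] at e
  exact mul_inv_eq_iff_eq_mul.1 e

theorem exists_sq_pow (ho : Odd (orderOf g)) : ∃ n : ℕ, (g * g) ^ n = g := by
  obtain ⟨j, hj⟩ := ho
  refine ⟨j + 1, ?_⟩
  rw [← pow_two, ← pow_mul, show 2 * (j + 1) = orderOf g + 1 by omega, pow_succ,
    pow_orderOf_eq_one, one_mul]

theorem odd_sq (ho : Odd (orderOf g)) : Odd (orderOf (g * g)) := by
  rw [← pow_two]
  exact Odd.of_dvd_nat ho (orderOf_pow_dvd 2)

theorem comm_of_sq (ho : Odd (orderOf g)) (e : g * g * y = y * (g * g)) : g * y = y * g := by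
  obtain ⟨n, hn⟩ := exists_sq_pow ho
  have := ((show Commute (g * g) y from e).pow_left n).eq
  rwa [hn] at this

theorem surj {A B C : Subgroup G} {s : G} (hc : Nat.card A = Nat.card B) (hA : C ≤ A) (hB : C ≤ B)
    (hn : A ≤ N[C]) (h1 : ∀ a ∈ A, ⁅s, a⁆ ∈ B) (h2 : ∀ a ∈ A, ⁅s, a⁆ ∈ C ↔ a ∈ C) (hy : y ∈ B) :
    ∃ a ∈ A, ∃ c ∈ C, y = ⁅s, a⁆ * c := by
  have key : ∀ a a' : A, (⁅s, (a : G)⁆)⁻¹ * ⁅s, (a' : G)⁆ ∈ C ↔ (a : G)⁻¹ * a' ∈ C := fun a a' => by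
    rw [← h2 _ (mul_mem (inv_mem a.2) a'.2), mem_N.1 (hn a.2) ⁅s, (a : G)⁻¹ * a'⁆]
    simp only [commutatorElement_def]
    constructor <;> intro h <;> convert h using 1 <;> group
  let f : A ⧸ C.subgroupOf A → B ⧸ C.subgroupOf B :=
    Quotient.map' (fun a => ⟨⁅s, (a : G)⁆, h1 a a.2⟩) fun a a' h => by
      rw [QuotientGroup.leftRel_apply] at h ⊢
      exact (key a a').2 h
  have hi : Function.Injective f := by
    intro u v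
    induction u using QuotientGroup.induction_on with | H a => ?_
    induction v using QuotientGroup.induction_on with | H a' => ?_
    intro h
    have h' : (QuotientGroup.mk ⟨_, h1 a a.2⟩ : B ⧸ C.subgroupOf B) = QuotientGroup.mk ⟨_, h1 a' a'.2⟩ := h
    exact QuotientGroup.eq.2 ((key _ _).1 (mem_subgroupOf.1 (QuotientGroup.eq.1 h')))
  have hcard : Nat.card (A ⧸ C.subgroupOf A) = Nat.card (B ⧸ C.subgroupOf B) := by
    have e1 := card_mul_relIndex hA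
    have e2 := card_mul_relIndex hB
    rw [hc, ← e2] at e1
    exact Nat.eq_of_mul_eq_mul_left (card_pos C) e1
  obtain ⟨u, hu⟩ := (hi.bijective_of_nat_card_le hcard.ge).2 (QuotientGroup.mk ⟨y, hy⟩)
  induction u using QuotientGroup.induction_on with
  | H a =>
    have h' : (QuotientGroup.mk ⟨_, h1 a a.2⟩ : B ⧸ C.subgroupOf B) = QuotientGroup.mk ⟨y, hy⟩ := hu
    have h3 : (⁅s, (a : G)⁆)⁻¹ * y ∈ C := mem_subgroupOf.1 (QuotientGroup.eq.1 h')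
    exact ⟨a, a.2, _, h3, by group⟩

theorem bb (h : Dih H S E b g) : g * b * g⁻¹ * b = g * g := by
  have e : b * g⁻¹ * b = g := by
    have := congrArg (·⁻¹) h.inv
    simpa [mul_assoc, inv_eq_of_mul_eq_one_right h.b2] using this
  calc g * b * g⁻¹ * b = g * (b * g⁻¹ * b) := by group
    _ = g * g := by rw [e]

theorem EY' (q : Qd S E K Y Z0 𝓑 g) (h : Dih H S E b g) : E ≤ N[cj g Y] := by
  have := norm_cj q.EY g
  rwa [cj_of_mem_N h.gH.2] at this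

theorem Y'K (q : Qd S E K Y Z0 𝓑 g) : cj g Y ≤ K := cj_le_of_mem_N q.YK q.gK

theorem ZC (q : Qd S E K Y Z0 𝓑 g) : Z0 ≤ Y ⊓ cj g Y :=
  le_inf q.ZY ((cj_of_mem_C q.gZ).symm.le.trans (cj_mono g q.ZY))

theorem EC (q : Qd S E K Y Z0 𝓑 g) (h : Dih H S E b g) : E ≤ N[Y ⊓ cj g Y] := fun e he =>
  mem_N_of_finite fun x hx => ⟨(mem_N.1 (q.EY he) x).1 hx.1, (mem_N.1 (EY' q h he) x).1 hx.2⟩

theorem cjZ (q : Qd S E K Y Z0 𝓑 g) (hx : x ∈ Z0) : g * x * g⁻¹ ∈ Z0 := by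
  rwa [conj_eq_of_mem_C q.gZ hx]

theorem B'K (q : Qd S E K Y Z0 𝓑 g) (ht : t ∈ 𝓑) (hx : x ∈ K) : ⁅g * t * g⁻¹, x⁆ ∈ cj g Y := by
  have := q.BK t ht (g⁻¹ * x * g) (by simpa using (mem_N.1 (inv_mem q.gK) x).1 hx)
  rw [mem_cj]
  convert this using 1
  simp only [commutatorElement_def]; group

theorem B'Y (q : Qd S E K Y Z0 𝓑 g) (ht : t ∈ 𝓑) (hx : x ∈ cj g Y) : ⁅g * t * g⁻¹, x⁆ ∈ Z0 := by
  convert cjZ q (q.BY t ht _ (mem_cj.1 hx)) using 1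
  simp only [commutatorElement_def]; group

theorem Y'2 (q : Qd S E K Y Z0 𝓑 g) (hx : x ∈ cj g Y) : x * x ∈ Z0 := by
  convert cjZ q (q.Y2 _ (mem_cj.1 hx)) using 1
  group

theorem BC (q : Qd S E K Y Z0 𝓑 g) (ht : t ∈ 𝓑) (hx : x ∈ Y ⊓ cj g Y) :
    t * x * t⁻¹ ∈ Y ⊓ cj g Y := by
  convert mul_mem (ZC q (q.BY t ht x hx.1)) hx using 1
  simp only [commutatorElement_def]; group

theorem B'C (q : Qd S E K Y Z0 𝓑 g) (ht : t ∈ 𝓑) (hx : x ∈ Y ⊓ cj g Y) :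
    g * t * g⁻¹ * x * (g * t * g⁻¹)⁻¹ ∈ Y ⊓ cj g Y := by
  convert mul_mem (ZC q (B'Y q ht hx.2)) hx using 1
  simp only [commutatorElement_def]; group

theorem sq_conj (h : Dih H S E b g) (x : G) : g * g * x * (g * g)⁻¹ =
    g * b * g⁻¹ * ⁅b, x⁆ * (g * b * g⁻¹)⁻¹ * ⁅g * b * g⁻¹, x⁆ * x := by
  rw [← bb h]; simp only [commutatorElement_def]; group

theorem twoK (q : Qd S E K Y Z0 𝓑 g) (h : Dih H S E b g) : TwoG K :=
  h.two.of_le (q.KE.trans h.ES)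

theorem w0 (q : Qd S E K Y Z0 𝓑 g) (h : Dih H S E b g) (hb : b ∈ 𝓑) :
    Y ⊓ cj g Y = Y ⊓ C{g} := by
  ext x
  refine ⟨fun hx => ⟨hx.1, mem_C1.2 (comm_of_sq h.odd ?_).symm⟩, fun hx => ⟨hx.1, ?_⟩⟩
  on_goal 2 =>
    have : g⁻¹ * x * g = x := by rw [mul_assoc, mem_C1.1 hx.2]; group
    exact mem_cj.2 (this.symm ▸ hx.1)
  · have z1 := q.BY b hb x hx.1
    have hz : g * b * g⁻¹ * ⁅b, x⁆ * (g * b * g⁻¹)⁻¹ * ⁅g * b * g⁻¹, x⁆ ∈ Z0 := by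
      refine mul_mem ?_ (B'Y q hb hx.2)
      rwa [conj_eq_of_mem_C (mul_mem (mul_mem q.gZ (q.BZ b hb)) (inv_mem q.gZ)) z1]
    exact fix_of_odd (odd_sq h.odd) (sq_conj h x) (mem_C'.1 (mul_mem q.gZ q.gZ) _ hz)
      ((twoK q h).piElt (q.YK (q.ZY hz)))

theorem gam (q : Qd S E K Y Z0 𝓑 g) (h : Dih H S E b g) (hb : b ∈ 𝓑) (hy : y ∈ Y)
    (hc : ⁅g * b * g⁻¹, y⁆ ∈ Y ⊓ cj g Y) : y ∈ Y ⊓ cj g Y := by
  have hz := mul_mem (B'C q hb (ZC q (q.BY b hb y hy))) hc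
  have hg : _ ∈ C{g} := ((w0 q h hb).le hz).2
  rw [w0 q h hb]
  refine ⟨hy, mem_C1.2 (comm_of_sq h.odd (fix_of_odd (odd_sq h.odd) (sq_conj h y) ?_
    ((twoK q h).piElt (q.YK hz.1)))).symm⟩
  have e : Commute g _ := (mem_C1.1 hg).symm
  exact (e.mul_left e).eq

theorem card_cj' (g : G) (A : Subgroup G) : Nat.card (cj g A) = Nat.card A :=
  (Nat.card_congr (cjEquiv g A).toEquiv).symm

theorem w1 (q : Qd S E K Y Z0 𝓑 g) (h : Dih H S E b g) (hb : b ∈ 𝓑) (ht : t ∈ 𝓑) (tE : t ∉ E)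
    (hx : x ∈ cj g Y) (hc : ⁅t, x⁆ ∈ cj g Y) : x ∈ Y := by
  set C := Y ⊓ cj g Y with hC
  have hYE := q.YK.trans q.KE
  have hxE := q.KE (Y'K q hx)
  have xN := EC q h hxE
  obtain ⟨y, hy, c, hc', e⟩ := surj (s := g * b * g⁻¹) (card_cj' g Y).symm inf_le_left inf_le_right
    (hYE.trans (EC q h)) (fun a ha => B'K q hb (q.YK ha))
    (fun a ha => ⟨gam q h hb ha, fun h' => ZC q (B'Y q hb h'.2)⟩) hx
  obtain ⟨r, ⟨j, rfl⟩, hr⟩ := h.pw t (q.BT t ht) tE (q.B2 t ht)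
  set u := t * (g * b * g⁻¹) with hu
  have uN : u ∈ N[C] := mul_mem (mem_N_of_finite fun a ha => BC q ht ha)
    (mem_N_of_finite fun a ha => B'C q hb ha)
  have tx : ⁅t, x⁆ ∈ C := ⟨q.BK t ht x (Y'K q hx), hc⟩
  -- `u x u⁻¹ ≡ x`, `u y u⁻¹ ≡ x y` modulo `C`
  have ux : u * x * u⁻¹ * x⁻¹ ∈ C := by
    convert mul_mem (BC q ht (ZC q (B'Y q hb hx))) tx using 1
    simp only [hu, commutatorElement_def]; group
  have uy : u * y * u⁻¹ * (x * y)⁻¹ ∈ C := by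
    have e1 : ⁅g * b * g⁻¹, y⁆ = x * c⁻¹ := by rw [e]; group
    have h1 := (mem_N.1 xN _).1 (mul_mem (BC q ht (inv_mem hc')) (ZC q (q.BY t ht y hy)))
    have e2 : u * y * u⁻¹ = t * (⁅g * b * g⁻¹, y⁆ * y) * t⁻¹ := by
      simp only [hu, commutatorElement_def]; group
    rw [e2, e1]
    convert mul_mem tx h1 using 1
    simp only [commutatorElement_def]; group
  have xx : x * x ∈ C := ZC q (Y'2 q hx)
  have u2 : ∀ v, v * y⁻¹ ∈ C → u * u * v * (u * u)⁻¹ * y⁻¹ ∈ C := fun v hv => by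
    have h1 := (mem_N.1 (mul_mem uN uN) _).1 hv
    have h2 := (mem_N.1 uN _).1 uy
    have h3 := (mem_N.1 xN _).1 uy
    convert mul_mem (mul_mem (mul_mem (mul_mem h1 h2) ux) h3) xx using 1
    group
  have un : ∀ n : ℕ, u ^ (2 * n) * y * (u ^ (2 * n))⁻¹ * y⁻¹ ∈ C := fun n => by
    induction n with
    | zero => simpa using C.one_mem
    | succ n ih =>
      convert u2 _ ih using 1
      rw [show 2 * (n + 1) = 1 + 1 + 2 * n by ring, pow_add, pow_add, pow_one]; group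
  have h4 := mul_mem ((mem_N.1 uN _).1 (un j)) uy
  have h5 := (mem_N.1 (q.EY hr) y).1 hy
  have h6 := Y.mul_mem (Y.mul_mem (Y.inv_mem h4.1) h5) (Y.inv_mem hy)
  convert h6 using 1
  rw [pow_succ']; group

theorem w4 (q : Qd S E K Y Z0 𝓑 g) (h : Dih H S E b g) (hb : b ∈ 𝓑) (hx : x ∈ K ⊓ C{g}) :
    ⁅b, x⁆ ∈ Y ⊓ cj g Y := by
  rw [w0 q h hb]
  refine ⟨q.BK b hb x hx.1, Subgroup.mul_mem _ (mem_C1.2 ?_) (Subgroup.inv_mem _ hx.2)⟩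
  have bi : b⁻¹ = b := inv_eq_of_mul_eq_one_right h.b2
  have e : x * g⁻¹ = g⁻¹ * x := ((show Commute x g from mem_C1.1 hx.2).inv_right).eq
  have e1 : b * g = g⁻¹ * b := by rw [← h.inv, mul_assoc, h.b2, mul_one]
  have e2 : g * b = b * g⁻¹ := by rw [← h.inv, ← mul_assoc, ← mul_assoc, h.b2, one_mul]
  rw [bi]
  calc b * x * b * g = b * (x * g⁻¹) * b := by rw [mul_assoc, e1]; group
    _ = g * (b * x * b) := by rw [e, ← mul_assoc, ← e2]; group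

theorem prodV (q : Qd S E K Y Z0 𝓑 g) (h : Dih H S E b g) : IsProd Y (cj g Y) (Y ⊔ cj g Y) :=
  isProd_sup' ((q.YK.trans q.KE).trans (EY' q h))

theorem commV (q : Qd S E K Y Z0 𝓑 g) (h : Dih H S E b g) (hb : b ∈ 𝓑) :
    ⁅K, zpowers g⁆ ≤ Y ⊔ cj g Y := by
  have VK : Y ⊔ cj g Y ≤ K := sup_le q.YK (Y'K q)
  have h1 : ∀ x ∈ K, g * g * x * (g * g)⁻¹ * x⁻¹ ∈ Y ⊔ cj g Y := fun x hx => by
    have a1 := q.BK b hb x hx
    rw [sq_conj h]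
    convert mul_mem (mul_mem (mem_sup_right (B'K q hb (q.YK a1))) (mem_sup_left a1))
      (mem_sup_right (B'K q hb hx)) using 1
    simp only [commutatorElement_def]; group
  have h2 : ∀ n : ℕ, ∀ x ∈ K, (g * g) ^ n * x * ((g * g) ^ n)⁻¹ * x⁻¹ ∈ Y ⊔ cj g Y := fun n x hx => by
    induction n with
    | zero => simpa using (Y ⊔ cj g Y).one_mem
    | succ n ih =>
      convert mul_mem (mul_mem (h1 _ (VK ih)) ih) (h1 x hx) using 1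
      rw [pow_succ']
      generalize g * g = a
      group
  obtain ⟨n, hn⟩ := exists_sq_pow h.odd
  refine commutator_le.2 fun x hx a ha => ?_
  obtain ⟨i, rfl⟩ := mem_powers_iff_mem_zpowers.2 ha
  have := inv_mem (h2 (n * i) x hx)
  rw [pow_mul, hn] at this
  convert this using 1
  simp only [commutatorElement_def]; group

theorem cop (q : Qd S E K Y Z0 𝓑 g) (h : Dih H S E b g) :
    (Nat.card K).Coprime (Nat.card (zpowers g)) := by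
  refine (twoK q h).coprime ((piNat_compl_iff_coprime Nat.prime_two).2 ?_)
  rw [card_zpowers']
  exact Nat.coprime_two_left.2 h.odd

theorem dec (q : Qd S E K Y Z0 𝓑 g) (h : Dih H S E b g) :
    IsProd ⁅K, zpowers g⁆ (K ⊓ C{g}) K := by
  have := coprime_cent_prod (zpowers_le.2 q.gK) (cop q h) ((twoK q h).sol Nat.prime_two)
  rwa [C_zpowers] at this

theorem VC (q : Qd S E K Y Z0 𝓑 g) (h : Dih H S E b g) (hb : b ∈ 𝓑) :
    (Y ⊔ cj g Y) ⊓ C{g} ≤ Y := fun v hv => by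
  obtain ⟨y, hy, y', hy', rfl⟩ := (prodV q h).mul v hv.1
  have h1 := w4 q h hb ⟨sup_le q.YK (Y'K q) hv.1, hv.2⟩
  have h2 := (mem_N.1 (inv_mem (EC q h (q.KE (q.YK hy)))) _).1
    (mul_mem (inv_mem (ZC q (q.BY b hb y hy))) h1)
  refine mul_mem hy (w1 q h hb hb h.bE hy' ?_)
  convert (mem_inf.1 h2).2 using 1
  simp only [commutatorElement_def]; group

end LMWa

theorem Qd.w0 (q : Qd S E K Y Z0 𝓑 g) (h : Dih H S E b g) (hb : b ∈ 𝓑) :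
    Y ⊓ cj g Y = Y ⊓ C{g} :=
  LMWa.w0 q h hb
theorem Qd.w1 (q : Qd S E K Y Z0 𝓑 g) (h : Dih H S E b g) (hb : b ∈ 𝓑) (ht : t ∈ 𝓑) (tE : t ∉ E)
    (hx : x ∈ cj g Y) (hc : ⁅t, x⁆ ∈ cj g Y) : x ∈ Y :=
  LMWa.w1 q h hb ht tE hx hc
theorem Qd.w2 (q : Qd S E K Y Z0 𝓑 g) (h : Dih H S E b g) (hb : b ∈ 𝓑) (ht : t ∈ 𝓑) (tE : t ∉ E)
    (hy : y ∈ Y) : ∃ x ∈ cj g Y, ∃ c ∈ Y ⊓ cj g Y, y = ⁅t, x⁆ * c :=
  LMWa.surj (LMWa.card_cj' g Y) inf_le_right inf_le_left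
    (((LMWa.Y'K q).trans q.KE).trans (LMWa.EC q h)) (fun a ha => q.BK t ht a (LMWa.Y'K q ha))
    (fun a ha => ⟨fun h' => ⟨q.w1 h hb ht tE ha h'.2, ha⟩, fun h' => LMWa.ZC q (q.BY t ht a h'.1)⟩) hy
theorem Qd.w3 (q : Qd S E K Y Z0 𝓑 g) (h : Dih H S E b g) (hb : b ∈ 𝓑) (hx : x ∈ K) :
    ∃ e ∈ K ⊓ C{g}, ∃ y ∈ Y, ∃ y' ∈ cj g Y, x = e * y * y' := by
  obtain ⟨e, he, p, hp, rfl⟩ := (LMWa.dec q h).symm.mul x hx
  obtain ⟨y, hy, y', hy', rfl⟩ := (LMWa.prodV q h).mul p (LMWa.commV q h hb hp)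
  exact ⟨e, he, y, hy, y', hy', (mul_assoc _ _ _).symm⟩
theorem Qd.w4 (q : Qd S E K Y Z0 𝓑 g) (h : Dih H S E b g) (hb : b ∈ 𝓑) (hx : x ∈ K ⊓ C{g}) :
    ⁅b, x⁆ ∈ Y ⊓ cj g Y :=
  LMWa.w4 q h hb hx
theorem Qd.w5 (q : Qd S E K Y Z0 𝓑 g) (h : Dih H S E b g) (hb : b ∈ 𝓑) (hg : g ∉ C[K]) :
    ∃ x ∈ cj g Y, x ∉ Y := by
  by_contra hn
  have h1 : cj g Y ≤ Y := fun x hx => by_contra fun h' => hn ⟨x, hx, h'⟩
  have h2 : cj g Y = Y := eq_of_card_eq h1 (LMWa.card_cj' g Y)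
  have h3 := q.w0 h hb
  have h4 := LMWa.commV q h hb
  rw [h2, inf_idem] at h3
  rw [h2, sup_idem] at h4
  refine hg (stable_factor_cent (H := Y) ?_ h4 q.YK ((LMWa.cop q h).coprime_dvd_left (card_dvd q.YK))
    (Or.inl (((LMWa.twoK q h).of_le q.YK).sol Nat.prime_two)) (mem_zpowers g))
  exact zpowers_le.2 (mem_C_iff_le_C1.2 (h3.le.trans inf_le_right))
theorem Qd.w6 (q : Qd S E K Y Z0 𝓑 g) (h : Dih H S E b g) (hb : b ∈ 𝓑) :
    ⁅K, zpowers g⁆ ≤ Y ⊔ cj g Y ∧ (∀ y ∈ Y ⊔ cj g Y, ∃ p ∈ ⁅K, zpowers g⁆, ∃ c ∈ Y ⊓ cj g Y, y = p * c) ∧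
      (∀ y ∈ Y ⊔ cj g Y, ∃ y₁ ∈ Y, ∃ y₂ ∈ cj g Y, y = y₁ * y₂) ∧
      (∀ x ∈ K, ∃ e ∈ K ⊓ C{g}, ∃ p ∈ ⁅K, zpowers g⁆, x = e * p) ∧
      (Y ⊔ cj g Y) ⊓ C{g} ≤ Y := by
  refine ⟨LMWa.commV q h hb, fun y hy => ?_, (LMWa.prodV q h).mul, (LMWa.dec q h).symm.mul,
    LMWa.VC q h hb⟩
  obtain ⟨p, hp, e, he, rfl⟩ := (LMWa.dec q h).mul y (sup_le q.YK (LMWa.Y'K q) hy)
  refine ⟨p, hp, e, ?_, rfl⟩
  rw [q.w0 h hb]
  exact ⟨LMWa.VC q h hb ⟨(mul_mem_cancel_left (LMWa.commV q h hb hp)).1 hy, he.2⟩, he.2⟩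


end H26.LM
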