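import Mathlib
import Cfsg.Agent.H26.LM0
import Cfsg.Agent.H26.LM1
import Cfsg.Agent.H26.LMD
import Cfsg.Agent.H26.LMW

set_option autoImplicit false
set_option linter.unusedVariables false
set_option linter.unusedSectionVars false

namespace H26.LM

open Cfsg H24 H26.Gold Subgroup Matrix
open scoped commutatorElement

universe u v

variable {G : Type u} [Group G] [Finite G] {F : Type v} [Field F] [Finite F] [CharP F 2] {k m : ℕ}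
  {H S E K Y Z0 M0 B R : Subgroup G} {𝓑 : Set G} {b c g t x y : G}

namespace C2x

theorem two_pow (hS : TwoG S) (hx : x ∈ S) : ∃ j, x ^ 2 ^ j = 1 := by
  obtain ⟨j, hj⟩ := hS.card_eq_pow Nat.prime_two
  exact ⟨j, orderOf_dvd_iff_pow_eq_one.1 (hj ▸ orderOf_dvd_card' hx)⟩

/-- a commutator with an element of odd order which is a `2`-element commuting with it is trivial -/
theorem odd_comm (ho : Odd (orderOf g)) {d : G} {j : ℕ} (hd : d ^ 2 ^ j = 1) (hc : d * g = g * d)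
    (e : y * g * y⁻¹ = d * g) : d = 1 := by
  have h1 : (d * g) ^ orderOf g = 1 := by
    rw [← e, conj_pow, pow_orderOf_eq_one]; group
  rw [(show Commute d g from hc).mul_pow, pow_orderOf_eq_one, mul_one] at h1
  have h2 := Nat.dvd_gcd (orderOf_dvd_of_pow_eq_one hd) (orderOf_dvd_of_pow_eq_one h1)
  rw [(Nat.Coprime.pow_left j (Nat.coprime_two_left.2 ho) : Nat.gcd _ _ = 1)] at h2
  exact orderOf_eq_one_iff.1 (Nat.dvd_one.1 h2)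

theorem cent_ZE (hE : TwoG E) (ho : Odd (orderOf g)) (hg : g ∈ N[E]) (hO : g ∈ C[Om E])
    (hy : y ∈ E ⊓ C[E]) : g * y = y * g := by
  obtain ⟨j, hj⟩ := two_pow hE hy.1
  induction j generalizing y with
  | zero => simp at hj; simp [hj]
  | succ j ih =>
    have h2 : g * (y * y) = (y * y) * g := ih (mul_mem hy hy) (by
      rw [← pow_two, ← pow_mul, ← pow_succ', hj])
    have hn : g ∈ N[E ⊓ C[E]] := by
      have : zpowers g ≤ N[E ⊓ C[E]] :=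
        norm_inf (zpowers_le.2 hg) (norm_C (zpowers_le.2 hg))
      exact this (mem_zpowers g)
    have hy' : g * y⁻¹ * g⁻¹ ∈ E ⊓ C[E] := conj_mem hn (inv_mem hy)
    have hd : y * (g * y⁻¹ * g⁻¹) ∈ E ⊓ C[E] := mul_mem hy hy'
    have c1 : y * (g * y⁻¹ * g⁻¹) = (g * y⁻¹ * g⁻¹) * y := mem_C.1 hy'.2 y hy.1
    have d2 : y * (g * y⁻¹ * g⁻¹) * (y * (g * y⁻¹ * g⁻¹)) = 1 := by
      calc y * (g * y⁻¹ * g⁻¹) * (y * (g * y⁻¹ * g⁻¹))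
          = y * ((g * y⁻¹ * g⁻¹) * y) * (g * y⁻¹ * g⁻¹) := by group
        _ = (y * y) * g * (y * y)⁻¹ * g⁻¹ := by rw [← c1]; group
        _ = 1 := by rw [← h2]; group
    have hO' : y * (g * y⁻¹ * g⁻¹) ∈ Om E := ⟨hd.1, hd.2, d2⟩
    have := odd_comm (y := y) (j := 1) ho (by simpa [pow_two] using d2) (mem_C.1 hO _ hO')
      (by group)
    calc g * y = (y * (g * y⁻¹ * g⁻¹)) * (g * y) := by rw [this, one_mul]
      _ = y * g := by group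

/-- `[E, g]` centralizes every `E`-invariant subgroup centralized by `g` -/
theorem cent_P {X : Subgroup G} (hX : E ≤ N[X]) (hg : X ≤ C{g}) : ⁅E, zpowers g⁆ ≤ C[X] := by
  have h0 : X ≤ C[zpowers g] := by rwa [C_zpowers]
  rw [← comm_eq_bot]
  refine three_subgroup ?_ ?_
  · rw [comm_eq_bot'.2 h0]; simp
  · rw [eq_bot_iff]
    refine (comm_mono_left (comm_le_left hX)).trans (comm_eq_bot.2 h0).le

theorem zc {Z : Subgroup G} {z s : G} (hZ : S ≤ C[Z]) (hs : s ∈ S) (hz : z ∈ Z) : s * z = z * s :=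
  mem_C'.1 (hZ hs) z hz

theorem comm_zr {Z : Subgroup G} {z a u : G} (hZ : S ≤ C[Z]) (ha : a ∈ S) (hu : u ∈ S)
    (hz : z ∈ Z) : ⁅a, z * u⁆ = ⁅a, u⁆ := by
  have h1 := zc hZ ha hz
  have h2 := zc hZ (mul_mem (mul_mem (mul_mem ha hu) (inv_mem ha)) (inv_mem hu)) hz
  simp only [commutatorElement_def]
  calc a * (z * u) * a⁻¹ * (z * u)⁻¹ = (a * z) * u * a⁻¹ * u⁻¹ * z⁻¹ := by group
    _ = z * (a * u * a⁻¹ * u⁻¹) * z⁻¹ := by rw [h1]; group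
    _ = _ := by rw [← h2]; group

theorem comm_mul_l (a a' u : G) : ⁅a * a', u⁆ = a * ⁅a', u⁆ * a⁻¹ * ⁅a, u⁆ := by
  simp only [commutatorElement_def]; group

theorem comm_mul_r (a u u' : G) : ⁅a, u * u'⁆ = ⁅a, u⁆ * (u * ⁅a, u'⁆ * u⁻¹) := by
  simp only [commutatorElement_def]; group

theorem comm_one {a u : G} (h : a * u = u * a) : ⁅a, u⁆ = 1 :=
  commutatorElement_eq_one_iff_mul_comm.2 h

theorem comm_inv' {Z : Subgroup G} {a u : G} (h : ⁅a, u⁆ ∈ Z) : ⁅u, a⁆ ∈ Z := by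
  rw [← commutatorElement_inv]; exact inv_mem h

theorem cm_l {X : Subgroup G} {a u : G} (ha : a ∈ X) (hu : u ∈ N[X]) : ⁅a, u⁆ ∈ X := by
  have : ⁅a, u⁆ = a * (u * a⁻¹ * u⁻¹) := by simp only [commutatorElement_def]; group
  rw [this]; exact mul_mem ha (conj_mem hu (inv_mem ha))

theorem cm_r {X : Subgroup G} {a u : G} (ha : a ∈ N[X]) (hu : u ∈ X) : ⁅a, u⁆ ∈ X :=
  comm_inv' (cm_l hu ha)

/-- the conjugation trick -/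
theorem trick {Z : Subgroup G} {a u f z w : G} (hZ : S ≤ C[Z]) (ha : a ∈ S) (hu : u ∈ S)
    (hf : f ∈ S) (hw : w ∈ S) (hz : z ∈ Z) (hau : ⁅a, u⁆ ∈ Z) (h1 : w * a * w⁻¹ = f * a)
    (h2 : w * u * w⁻¹ = z * u) : f * u = u * f := by
  have e1 : ⁅a, u⁆ = ⁅f * a, z * u⁆ := by
    rw [← h1, ← h2]
    calc ⁅a, u⁆ = w * ⁅a, u⁆ * w⁻¹ := by rw [zc hZ hw hau]; group
      _ = _ := by simp only [commutatorElement_def]; group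
  rw [comm_zr hZ (mul_mem hf ha) hu hz, comm_mul_l, zc hZ hf hau] at e1
  have : ⁅f, u⁆ = 1 := by
    have e2 : ⁅a, u⁆ * 1 = ⁅a, u⁆ * ⁅f, u⁆ := by
      conv_lhs => rw [mul_one, e1]
      group
    exact (mul_left_cancel e2).symm
  exact commutatorElement_eq_one_iff_mul_comm.1 this

/-- the elements of `E` which are central in `E` modulo `Z` -/
def Z1 (E Z : Subgroup G) (hZ : E ≤ C[Z]) : Subgroup G :=
  subOfMul {y | y ∈ E ∧ ∀ e ∈ E, ⁅y, e⁆ ∈ Z} ⟨one_mem _, fun e _ => by simp⟩ (by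
    rintro a ⟨ha, ha'⟩ a' ⟨hb, hb'⟩
    refine ⟨mul_mem ha hb, fun e he => ?_⟩
    rw [comm_mul_l, zc hZ ha (hb' e he), mul_inv_cancel_right]
    exact mul_mem (hb' e he) (ha' e he))

theorem mem_Z1 {Z : Subgroup G} {hZ : E ≤ C[Z]} : y ∈ Z1 E Z hZ ↔ y ∈ E ∧ ∀ e ∈ E, ⁅y, e⁆ ∈ Z :=
  Iff.rfl

theorem N_Z1 {Z : Subgroup G} {hZ : E ≤ C[Z]} (h1 : t ∈ N[E]) (h2 : t ∈ C[Z]) :
    t ∈ N[Z1 E Z hZ] := by
  refine mem_N_of_finite fun y hy => ⟨conj_mem h1 hy.1, fun e he => ?_⟩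
  have : ⁅t * y * t⁻¹, e⁆ = t * ⁅y, t⁻¹ * e * t⁆ * t⁻¹ := by
    simp only [commutatorElement_def]; group
  rw [this]
  exact conj_mem (C_le_N _ h2) (hy.2 _ (conj_mem' h1 he))

/-- the standing hypotheses -/
structure Cx (M : Mod G F (k + 4)) (H E : Subgroup G) (b g : G) : Prop where
  hc : M.S ⊓ C[E] ≤ E
  h : Dih H M.S E b g
  hb : b ∈ M.Q
  hO : g ∈ C[Om E]

namespace Cx
variable {M : Mod G F (k + 4)} (X : Cx M H E b g)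
include X

theorem flip : Cx M.flip H E b g := ⟨X.hc, X.h, by simpa using X.hb, X.hO⟩
theorem ES : E ≤ M.S := X.h.ES
theorem gE : g ∈ N[E] := X.h.gH.2
theorem EZ : E ≤ C[M.Z] := X.ES.trans M.Z_cent
theorem ZQ : M.Z ≤ M.Q := inf_le_left.trans M.A_le_Q
theorem ZE : M.Z ≤ E := fun z hz =>
  X.hc ⟨M.Q_le (X.ZQ hz), cents_symm X.EZ hz⟩
theorem gZ : g ∈ C[M.Z] := mem_C.2 fun z hz => by
  refine mem_C.1 X.hO z ⟨X.ZE hz, cents_symm X.EZ hz, ?_⟩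
  rw [← pow_two]; exact (M.R_ea 1).2 z hz.1
theorem EQ : E ≤ N[M.Q] := X.ES.trans M.Q_norm
theorem EA : E ≤ N[M.A] := X.ES.trans (M.R_norm 1)
theorem EA' : E ≤ N[M.A'] := X.ES.trans (M.R_norm (k + 3))

theorem qd {K : Subgroup G} (KE : K ≤ E) (ZK : M.Z ≤ K)
    (hN : ∀ t, t ∈ N[E] → t ∈ C[M.Z] → t ∈ N[K]) :
    Qd M.S E K (M.Q ⊓ K) M.Z {t | t ∈ M.Q ∧ t ∈ M.S ⊓ N[E]} g where
  KE := KE
  EK := fun t ht => hN t (norm_self E ht) (X.EZ ht)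
  gK := hN g X.gE X.gZ
  YK := inf_le_right
  EY := norm_inf X.EQ fun t ht => hN t (norm_self E ht) (X.EZ ht)
  ZY := le_inf X.ZQ ZK
  gZ := X.gZ
  EZ := X.EZ
  YY := fun y hy y' hy' => M.Q_comm hy.1 hy'.1
  Y2 := fun y hy => M.Q_sq hy.1
  BT := fun t ht => ht.2
  B2 := fun t ht => X.ZE (M.Q_sq ht.1)
  BZ := fun t ht => M.Z_cent ht.2.1
  BK := fun t ht x hx => ⟨cm_l ht.1 (X.EQ (KE hx)), cm_r (hN t ht.2.2 (M.Z_cent ht.2.1)) hx⟩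
  BY := fun t ht y hy => M.Q_comm ht.1 hy.1

theorem q1 : Qd M.S E E (M.Q ⊓ E) M.Z {t | t ∈ M.Q ∧ t ∈ M.S ⊓ N[E]} g :=
  X.qd le_rfl X.ZE fun _ h _ => h

theorem q2 : Qd M.S E (Z1 E M.Z X.EZ) (M.Q ⊓ Z1 E M.Z X.EZ) M.Z {t | t ∈ M.Q ∧ t ∈ M.S ⊓ N[E]} g :=
  X.qd (fun _ h => h.1) (fun z hz => ⟨X.ZE hz, fun e he => by
    rw [comm_one (zc X.EZ he hz).symm]; exact one_mem _⟩) fun _ h h' => N_Z1 h h'

theorem bB : b ∈ {t | t ∈ M.Q ∧ t ∈ M.S ⊓ N[E]} := ⟨X.hb, X.h.bT⟩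

theorem Q2E : cj g (M.Q ⊓ E) ≤ E := cj_le_of_mem_N inf_le_right X.gE
theorem EQ1 : E ≤ N[M.Q ⊓ E] := X.q1.EY
theorem EQ2 : E ≤ N[cj g (M.Q ⊓ E)] := by
  have := norm_cj X.EQ1 g
  rwa [cj_of_mem_N X.gE] at this
theorem EC : E ≤ N[M.Q ⊓ E ⊓ cj g (M.Q ⊓ E)] := norm_inf X.EQ1 X.EQ2
theorem Cg : M.Q ⊓ E ⊓ cj g (M.Q ⊓ E) ≤ C{g} := by
  rw [X.q1.w0 X.h X.bB]; exact inf_le_right
theorem mem_C0 (h1 : y ∈ M.Q ⊓ E) (h2 : y ∈ C{g}) : y ∈ M.Q ⊓ E ⊓ cj g (M.Q ⊓ E) := by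
  rw [X.q1.w0 X.h X.bB]; exact ⟨h1, h2⟩
theorem ZC : M.Z ≤ M.Q ⊓ E ⊓ cj g (M.Q ⊓ E) := fun z hz =>
  X.mem_C0 ⟨X.ZQ hz, X.ZE hz⟩ (mem_C1.2 (mem_C.1 X.gZ z hz))
theorem PE : ⁅E, zpowers g⁆ ≤ E := comm_le_left (zpowers_le.2 X.gE)
theorem gP : g ∈ N[⁅E, zpowers g⁆] := norm_comm_right _ _ (mem_zpowers g)
theorem EP : E ≤ N[⁅E, zpowers g⁆] := norm_comm_left _ _
/-- `[P, C] = 1` -/
theorem PC {p : G} (hp : p ∈ ⁅E, zpowers g⁆) (hc : c ∈ M.Q ⊓ E ⊓ cj g (M.Q ⊓ E)) : p * c = c * p :=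
  mem_C'.1 (cent_P X.EC X.Cg hp) c hc
theorem dec1 (hy : y ∈ M.Q ⊓ E) :
    ∃ p ∈ ⁅E, zpowers g⁆ ⊓ (M.Q ⊓ E), ∃ c ∈ M.Q ⊓ E ⊓ cj g (M.Q ⊓ E), y = p * c := by
  obtain ⟨p, hp, c, hc, e⟩ := (X.q1.w6 X.h X.bB).2.1 y (mem_sup_left hy)
  refine ⟨p, ⟨hp, ?_⟩, c, hc, e⟩
  rw [show p = y * c⁻¹ by rw [e]; group]; exact Subgroup.mul_mem _ hy (Subgroup.inv_mem _ (mem_inf.1 hc).1)
theorem dec2 (hy : y ∈ cj g (M.Q ⊓ E)) :
    ∃ p ∈ ⁅E, zpowers g⁆ ⊓ cj g (M.Q ⊓ E), ∃ c ∈ M.Q ⊓ E ⊓ cj g (M.Q ⊓ E), y = p * c := by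
  obtain ⟨p, hp, c, hc, e⟩ := (X.q1.w6 X.h X.bB).2.1 y (mem_sup_right hy)
  refine ⟨p, ⟨hp, ?_⟩, c, hc, e⟩
  rw [show p = y * c⁻¹ by rw [e]; group]; exact Subgroup.mul_mem _ hy (Subgroup.inv_mem _ (mem_inf.1 hc).2)
theorem P_not : ¬ ⁅E, zpowers g⁆ ≤ M.Q := fun hP => by
  obtain ⟨x, hx, hx'⟩ := X.q1.w5 X.h X.bB X.h.nc
  obtain ⟨p, hp, c, hc, e⟩ := X.dec2 hx
  exact hx' ⟨e ▸ mul_mem (hP hp.1) hc.1.1, X.Q2E hx⟩

/-- commutators of `Q₁` with `P` lie in `A` as soon as `A ≰ E` -/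
theorem inA (hA : ¬ M.A ≤ E) {p : G} (hy : y ∈ M.Q ⊓ E) (hp : p ∈ ⁅E, zpowers g⁆) :
    ⁅y, p⁆ ∈ M.A := by
  obtain ⟨t, ht, tN, tE, -⟩ := up M.two X.ES (M.R_le 1) X.EA hA
  obtain ⟨x, hx, c, hc, e⟩ := X.q1.w2 X.h X.bB (t := t) ⟨M.A_le_Q ht, M.R_le 1 ht, tN⟩ tE hy
  rw [e, comm_mul_l, comm_one (X.PC hp hc).symm, mul_one, mul_inv_cancel, one_mul]
  exact cm_l (cm_l ht (X.EA (X.Q2E hx))) (X.EA (X.PE hp))

theorem notA' : ¬ M.A' ≤ E := fun hA' => by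
  have hA : ¬ M.A ≤ E := fun hA => by
    obtain ⟨a, ha, a', ha', e⟩ := M.mem_Q'.1 X.hb
    exact X.h.bE (e ▸ mul_mem (hA ha) (hA' ha'))
  refine X.P_not fun p hp => M.mem_Q_of_A' (X.ES (X.PE hp)) fun a ha => ?_
  exact ⟨X.inA hA ⟨M.A'_le_Q ha, hA' ha⟩ hp, cm_l ha (X.EA' (X.PE hp))⟩

theorem notA : ¬ M.A ≤ E := by simpa using X.flip.notA'

theorem Q1P {p : G} (hy : y ∈ M.Q ⊓ E) (hp : p ∈ ⁅E, zpowers g⁆) : ⁅y, p⁆ ∈ M.Z :=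
  ⟨X.inA X.notA hy hp, by
    simpa using X.flip.inA (by simpa using X.notA') (by simpa using hy) hp⟩

theorem Q2P {p : G} (hy : y ∈ cj g (M.Q ⊓ E)) (hp : p ∈ ⁅E, zpowers g⁆) : ⁅y, p⁆ ∈ M.Z := by
  have := conj_mem (C_le_N _ X.gZ) (X.Q1P (mem_cj.1 hy) (conj_mem' X.gP hp))
  convert this using 1
  simp only [commutatorElement_def]; group

theorem PP {p p' : G} (hp : p ∈ ⁅E, zpowers g⁆) (hp' : p' ∈ ⁅E, zpowers g⁆) : ⁅p, p'⁆ ∈ M.Z := by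
  obtain ⟨h1, -, h3, -⟩ := X.q1.w6 X.h X.bB
  obtain ⟨y₁, hy₁, y₂, hy₂, e⟩ := h3 p (h1 hp)
  rw [e, comm_mul_l, zc X.EZ hy₁.2 (X.Q2P hy₂ hp'), mul_inv_cancel_right]
  exact mul_mem (X.Q2P hy₂ hp') (X.Q1P hy₁ hp')

/-- step (c) -/
theorem gZ1 : g ∉ C[Z1 E M.Z X.EZ] := fun hg => by
  obtain ⟨j, hj, -, jC, -, hjc⟩ := up_cent (S := E) (E := M.Q ⊓ E ⊓ cj g (M.Q ⊓ E))
    (R := ⁅E, zpowers g⁆) (M.two.of_le X.ES) (inf_le_left.trans inf_le_right) X.PE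
    (inf_le_left.trans X.EP) fun h => X.P_not (h.trans (inf_le_left.trans inf_le_left))
  obtain ⟨h1, -, -, h4, h5⟩ := X.q1.w6 X.h X.bB
  have hd : ⁅j, g⁆ ∈ ⁅E, zpowers g⁆ := commutator_mem_commutator (X.PE hj) (mem_zpowers g)
  have hZ : ⁅j, g⁆ ∈ Z1 E M.Z X.EZ := by
    refine ⟨X.PE hd, fun e he => ?_⟩
    obtain ⟨e0, he0, p, hp, rfl⟩ := h4 e he
    have hc : ⁅e0, j⁆ ∈ M.Q ⊓ E ⊓ cj g (M.Q ⊓ E) := comm_inv' (hjc e0 ⟨he0.1, X.EC he0.1⟩)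
    have c1 : ⁅e0, j⁆ * g = g * ⁅e0, j⁆ := mem_C1.1 (X.Cg hc)
    have c2 : e0 * g = g * e0 := mem_C1.1 he0.2
    have c3 := X.PC hd hc
    have c4 : ⁅j, g⁆ * e0 = e0 * ⁅j, g⁆ := by
      have e1 : e0 * j * e0⁻¹ = ⁅e0, j⁆ * j := by simp only [commutatorElement_def]; group
      have e2 : e0 * g * e0⁻¹ = g := by rw [c2]; group
      have e3 : ⁅e0, j⁆⁻¹ * g⁻¹ = g⁻¹ * ⁅e0, j⁆⁻¹ := by
        rw [← _root_.mul_inv_rev, ← c1, _root_.mul_inv_rev]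
      calc ⁅j, g⁆ * e0 = ⁅e0, j⁆ * ⁅j, g⁆ * ⁅e0, j⁆⁻¹ * e0 := by rw [← c3]; group
        _ = ⁅e0, j⁆ * j * g * j⁻¹ * (g⁻¹ * ⁅e0, j⁆⁻¹) * e0 := by
          rw [commutatorElement_def j g]; group
        _ = (⁅e0, j⁆ * j) * g * (⁅e0, j⁆ * j)⁻¹ * g⁻¹ * e0 := by rw [← e3]; group
        _ = (e0 * j * e0⁻¹) * (e0 * g * e0⁻¹) * (e0 * j * e0⁻¹)⁻¹ * (e0 * g * e0⁻¹)⁻¹ * e0 := by
          rw [e1, e2]
        _ = _ := by simp only [commutatorElement_def]; group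
    rw [comm_mul_r, comm_one c4, one_mul, zc X.EZ he0.1 (X.PP hd hp), mul_inv_cancel_right]
    exact X.PP hd hp
  obtain ⟨i, hi⟩ := two_pow M.two (X.ES (X.PE hd))
  have h0 := odd_comm (y := j) X.h.odd hi (mem_C.1 hg _ hZ)
    (by simp only [commutatorElement_def]; group)
  have hjg : j ∈ C{g} := mem_C1.2 (commutatorElement_eq_one_iff_mul_comm.1 h0)
  exact jC (X.mem_C0 (h5 ⟨h1 hj, hjg⟩) hjg)

/-- step (d) -/
theorem exists_f : ∃ f ∈ M.A, f ∈ Z1 E M.Z X.EZ ∧ f ∉ C{g} ∧ ∀ u ∈ M.A', u ∈ E → f * u = u * f := by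
  obtain ⟨t, ht, tN, tE, -⟩ := up M.two X.ES (M.R_le 1) X.EA X.notA
  have tB : t ∈ {t | t ∈ M.Q ∧ t ∈ M.S ⊓ N[E]} := ⟨M.A_le_Q ht, M.R_le 1 ht, tN⟩
  obtain ⟨x, hx, hx'⟩ := X.q2.w5 X.h X.bB X.gZ1
  have xZ : x ∈ Z1 E M.Z X.EZ := cj_le_of_mem_N inf_le_right X.q2.gK hx
  have fF := X.q2.BK t tB x xZ
  have fA : ⁅t, x⁆ ∈ M.A := cm_l ht (X.EA xZ.1)
  refine ⟨_, fA, fF.2, fun hf => hx' (X.q2.w1 X.h X.bB tB tE hx ?_), fun u hu uE => ?_⟩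
  · have : ⁅t, x⁆ ∈ M.Q ⊓ Z1 E M.Z X.EZ ⊓ C{g} := ⟨fF, hf⟩
    rw [← X.q2.w0 X.h X.bB] at this
    exact this.2
  · have := trick (a := t) (u := u) (f := ⁅x, t⁆) (z := ⁅x, u⁆) (w := x) M.Z_cent (M.R_le 1 ht)
      (X.ES uE) (M.R_le 1 (comm_inv' fA)) (X.ES xZ.1) (xZ.2 u uE)
      (M.Q_comm (M.A_le_Q ht) (M.A'_le_Q hu)) (by simp only [commutatorElement_def]; group)
      (by simp only [commutatorElement_def]; group)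
    rw [← commutatorElement_inv x t]
    exact (show Commute ⁅x, t⁆ u from this).inv_left

/-- step (e) -/
theorem exists_x' {f : G} (fA : f ∈ M.A) (fZ : f ∈ Z1 E M.Z X.EZ) (fg : f ∉ C{g}) :
    ∃ x ∈ cj g (M.Q ⊓ E), f * x ≠ x * f ∧ (g * f * g⁻¹) * x = x * (g * f * g⁻¹) := by
  have fQ := M.A_le_Q fA
  obtain ⟨j, hj, c, hc, e⟩ := (X.q2.w6 X.h X.bB).2.1 f (mem_sup_left ⟨fQ, fZ⟩)
  have jP : j ∈ ⁅E, zpowers g⁆ := comm_mono_left X.q2.KE hj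
  have cC : c ∈ M.Q ⊓ E ⊓ cj g (M.Q ⊓ E) := by
    rw [X.q2.w0 X.h X.bB] at hc
    exact X.mem_C0 ⟨hc.1.1, hc.1.2.1⟩ hc.2
  obtain ⟨h1, -, h3, h4, -⟩ := X.q1.w6 X.h X.bB
  have fPC : ∀ y ∈ ⁅E, zpowers g⁆, y ∈ M.Q ⊓ E ⊓ cj g (M.Q ⊓ E) → Commute f y := fun y hy hy' => by
    rw [e]; exact Commute.mul_left (X.PC jP hy') (X.PC hy cC).symm
  have bP : b ∈ N[⁅E, zpowers g⁆] := by
    have : zpowers b ≤ N[⁅E, zpowers g⁆] := norm_comm (zpowers_le.2 X.h.bT.2) (zpowers_le.2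
      (mem_N_of_finite fun y hy => by
        obtain ⟨n, rfl⟩ := mem_zpowers_iff.1 hy
        have : b * g * b⁻¹ = g⁻¹ := by rw [inv_eq_of_mul_eq_one_right X.h.b2, X.h.inv]
        rw [← conj_zpow, this]; exact zpow_mem (inv_mem (mem_zpowers g)) n))
    exact this (mem_zpowers b)
  have fP1 : ∀ y ∈ ⁅E, zpowers g⁆, y ∈ M.Q ⊓ E → Commute f y := fun y hy hy' => by
    obtain ⟨x, hx, c', hc', e'⟩ := X.q1.w2 X.h X.bB X.bB X.h.bE hy'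
    obtain ⟨x', hx', c'', hc'', rfl⟩ := X.dec2 hx
    have xE := X.PE hx'.1
    have hz : ⁅b, c''⁆ ∈ M.Z := M.Q_comm X.hb hc''.1.1
    rw [comm_mul_r, zc X.EZ xE hz, mul_inv_cancel_right, mul_assoc] at e'
    have dP : ⁅b, x'⁆ ∈ ⁅E, zpowers g⁆ := cm_r bP hx'.1
    have d1 : Commute f ⁅b, x'⁆ := (trick (a := x') (u := f) (f := ⁅b, x'⁆) (z := ⁅b, f⁆) (w := b)
      M.Z_cent (X.ES xE) (M.Q_le fQ) (X.ES (X.PE dP)) X.h.bT.1 (M.Q_comm X.hb fQ)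
      (comm_inv' (fZ.2 x' xE)) (by simp only [commutatorElement_def]; group)
      (by simp only [commutatorElement_def]; group)).symm
    rw [e']
    refine d1.mul_right (fPC _ ?_ (mul_mem (X.ZC hz) hc'))
    rw [show ⁅b, c''⁆ * c' = ⁅b, x'⁆⁻¹ * y by rw [e']; group]
    exact mul_mem (inv_mem dP) hy
  by_contra hn
  push Not at hn
  have fP2 : ∀ y ∈ ⁅E, zpowers g⁆, y ∈ cj g (M.Q ⊓ E) → Commute f y := fun y hy hy' => by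
    by_contra hf
    refine hn y hy' hf ?_
    have := fP1 _ (conj_mem' X.gP hy) (mem_cj.1 hy')
    calc g * f * g⁻¹ * y = g * (f * (g⁻¹ * y * g)) * g⁻¹ := by group
      _ = _ := by rw [this.eq]; group
  have fP : ∀ p ∈ ⁅E, zpowers g⁆, Commute f p := fun p hp => by
    obtain ⟨y₁, hy₁, y₂, hy₂, e'⟩ := h3 p (h1 hp)
    obtain ⟨p₁, hp₁, c₁, hc₁, rfl⟩ := X.dec1 hy₁
    obtain ⟨p₂, hp₂, c₂, hc₂, rfl⟩ := X.dec2 hy₂
    have e2 : p = p₁ * p₂ * (c₁ * c₂) := by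
      rw [e']
      calc p₁ * c₁ * (p₂ * c₂) = p₁ * (c₁ * p₂) * c₂ := by group
        _ = _ := by rw [← X.PC hp₂.1 hc₁]; group
    rw [e2]
    refine ((fP1 _ hp₁.1 hp₁.2).mul_right (fP2 _ hp₂.1 hp₂.2)).mul_right
      (fPC _ ?_ (mul_mem hc₁ hc₂))
    rw [show c₁ * c₂ = (p₁ * p₂)⁻¹ * p by rw [e2]; group]
    exact mul_mem (inv_mem (mul_mem hp₁.1 hp₂.1)) hp
  have jE0 : ⁅Z1 E M.Z X.EZ, zpowers g⁆ ≤ C[E ⊓ C{g}] := by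
    rw [← comm_eq_bot]
    refine three_subgroup ?_ ?_
    · have h0 : E ⊓ C{g} ≤ C[zpowers g] := by rw [C_zpowers]; exact inf_le_right
      rw [comm_eq_bot'.2 h0]; simp
    · rw [eq_bot_iff]
      refine (comm_mono_left (K := zpowers g) (B := M.Z) ?_).trans (comm_eq_bot'.2 ?_).le
      · exact commutator_le.2 fun e he y hy => comm_inv' (hy.2 e he.1)
      · exact zpowers_le.2 X.gZ
  have jZ : j ∈ E ⊓ C[E] := by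
    refine ⟨X.PE jP, mem_C'.2 fun y hy => ?_⟩
    obtain ⟨e0, he0, p, hp, rfl⟩ := h4 y hy
    refine Commute.mul_right (mem_C'.1 (jE0 hj) e0 he0) ?_
    rw [show j = f * c⁻¹ by rw [e]; group]
    exact (fP p hp).mul_left (Commute.inv_left (X.PC hp cC).symm)
  have jg := cent_ZE (M.two.of_le X.ES) X.h.odd X.gE X.hO jZ
  exact fg (e ▸ mul_mem (mem_C1.2 jg.symm) (X.Cg cC))

/-- the first half of step (f) -/
theorem star (xQ : x ∈ cj g (M.Q ⊓ E)) (xn : x ∉ M.Q ⊓ E) (xZ : x ∈ Z1 E M.Z X.EZ) {a : G}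
    (ha : a ∈ M.A') (h : ⁅a, x⁆ ∈ M.Q ⊓ E ⊓ cj g (M.Q ⊓ E)) : a ∈ E := by
  let Qs : Subgroup G := subOfMul {a | a ∈ M.A' ∧ ⁅a, x⁆ ∈ M.Q ⊓ E ⊓ cj g (M.Q ⊓ E)}
    ⟨one_mem _, by simp⟩ (by
      rintro a ⟨ha, h⟩ a' ⟨ha', h'⟩
      refine ⟨mul_mem ha ha', ?_⟩
      rw [comm_mul_l, show a * ⁅a', x⁆ * a⁻¹ = ⁅a, ⁅a', x⁆⁆ * ⁅a', x⁆ by
        rw [commutatorElement_def a]; group]
      exact mul_mem (mul_mem (X.ZC (M.Q_comm (M.A'_le_Q ha) h'.1.1)) h') h)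
  have hN : E ≤ N[Qs] := le_N_iff.2 fun e he a ha => by
    refine ⟨conj_mem (X.EA' he) ha.1, ?_⟩
    have : ⁅e * a * e⁻¹, x⁆ = e * ⁅a, ⁅e⁻¹, x⁆ * x⁆ * e⁻¹ := by
      simp only [commutatorElement_def]; group
    rw [this, comm_zr M.Z_cent (M.R_le _ ha.1) (X.ES xZ.1) (comm_inv' (xZ.2 _ (inv_mem he)))]
    exact conj_mem (X.EC he) ha.2
  have hle : Qs ≤ E := by
    by_contra hn
    obtain ⟨t, ht, tN, tE, -⟩ := up M.two X.ES (R := Qs) (fun a ha => M.R_le _ ha.1) hN hn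
    exact xn (X.q1.w1 X.h X.bB (t := t) ⟨M.A'_le_Q ht.1, M.R_le _ ht.1, tN⟩ tE xQ ht.2.2)
  exact hle ⟨ha, h⟩

end Cx

theorem comm_cl (M : Mod G F (k + 4)) {n : Mx F (k + 4)} (hn : SU n) {w : Fin (k + 4) → F}
    (hw : w (iN k) = 0) : ⁅M.ι (cl w), M.ι n⁆ = M.ι (cl (n *ᵥ w)) := by
  have h1 := su_cl hw
  have h2 := su_cl (hn.mulVec_last w)
  have e : M.ι (cl (n *ᵥ w)) * (M.ι n * M.ι (cl w)) = M.ι (cl w) * M.ι n := by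
    rw [← M.mul hn h1, ← M.mul h2 (hn.circ h1), ← M.mul h1 hn, (hn.circ h1).cl_mul, hn.cl_mul,
      mul_cl]
    congr 1
    rw [add_zero, add_zero, add_comm (cl (n *ᵥ w)), add_assoc, add_self_mx, add_zero, add_comm n]
  rw [commutatorElement_def, ← e]; group

theorem comm_rw (M : Mod G F (k + 4)) {n : Mx F (k + 4)} (hn : SU n) {φ : Fin (k + 4) → F}
    (hφ : φ 0 = 0) : ⁅M.ι (rw_ φ), (M.ι n)⁻¹⁆ = M.ι (rw_ (φ ᵥ* n)) := by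
  have h1 := su_rw hφ
  have h2 := su_rw (hn.vecMul_zero φ)
  have e : M.ι (rw_ φ) * M.ι n = M.ι n * (M.ι (rw_ φ) * M.ι (rw_ (φ ᵥ* n))) := by
    rw [← M.mul h1 hn, ← M.mul h1 h2, ← M.mul hn (h1.circ h2), h1.mul_rw, add_zero, mul_add,
      hn.mul_rw, hn.mul_rw, rw_mul]
    congr 1
    abel
  have i1 := M.inv_sq h1 (h1.mul_rw φ)
  rw [commutatorElement_def, inv_inv, i1, mul_assoc, mul_assoc, e, inv_mul_cancel_left,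
    ← mul_assoc]
  nth_rw 1 [← i1]
  rw [inv_mul_cancel, one_mul]


end C2x

/-! ### LC2 -/

theorem Mod.case2 (M : Mod G F (k + 4)) (hc : M.S ⊓ C[E] ≤ E) (h : Dih H M.S E b g) (hb : b ∈ M.Q) :
    g ∉ C[Om E] := fun hO => by
  have X : C2x.Cx M H E b g := ⟨hc, h, hb, hO⟩
  obtain ⟨f, fA, fZ, fg, fu⟩ := X.exists_f
  obtain ⟨x', hx', c1, c2⟩ := X.exists_x' fA fZ fg
  have fQ : f ∈ M.Q ⊓ E := ⟨M.A_le_Q fA, fZ.1⟩
  have xQ : g * f * g⁻¹ ∈ cj g (M.Q ⊓ E) := conj_mem_cj g fQ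
  have xn : g * f * g⁻¹ ∉ M.Q ⊓ E := fun hx => fg (by
    have := mem_C1.1 (X.Cg ⟨hx, xQ⟩)
    refine mem_C1.2 (mul_left_cancel (a := g) ?_).symm
    calc g * (g * f) = g * (g * f * g⁻¹) * g := by group
      _ = g * (f * g) := by rw [← this]; group)
  have xZ := conj_mem X.q2.gK fZ
  have x2 : g * f * g⁻¹ * (g * f * g⁻¹) = 1 := by
    have : f * f = 1 := by rw [← pow_two]; exact (M.R_ea 1).2 f fA
    calc g * f * g⁻¹ * (g * f * g⁻¹) = g * (f * f) * g⁻¹ := by group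
      _ = 1 := by rw [this]; group
  have xE' := X.Q2E hx'
  obtain ⟨n, hn, e⟩ := (M.mem _).1 (X.ES xZ.1)
  obtain ⟨n', hn', rfl⟩ := (M.mem _).1 (X.ES xE')
  obtain ⟨φ, hφ, rfl⟩ := M.mem_A.1 fA
  rw [← e] at xQ xn xZ x2 c2
  have n2 := (M.sq_iff hn).1 x2
  have nn := (M.comm_iff hn hn').1 c2
  have s1 := hn.mulVec_last (ev F (iN k))
  have s2 := hn'.mulVec_last (ev F (iN k))
  have a1 : M.ι (cl (n *ᵥ ev F (iN k))) ∈ M.A' := M.mem_A'.2 ⟨_, s1, rfl⟩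
  have a2 : M.ι (cl (n' *ᵥ ev F (iN k))) ∈ M.A' := M.mem_A'.2 ⟨_, s2, rfl⟩
  have e1 := X.star xQ xn xZ a1 (by
    rw [C2x.comm_cl M hn s1, mulVec_mulVec, n2, zero_mulVec, cl_eq_zero.2 rfl, M.ι_zero]
    exact one_mem _)
  have e2 := X.star xQ xn xZ a2 (by
    rw [C2x.comm_cl M hn s2, mulVec_mulVec, nn, ← mulVec_mulVec, ← C2x.comm_cl M hn' s1]
    exact ⟨C2x.cm_l (X := M.Q ⊓ E) ⟨M.A'_le_Q a1, e1⟩ (X.EQ1 xE'), C2x.cm_r (X.EQ2 e1) hx'⟩)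
  have e3 := C2x.comm_one (fu _ a2 e2)
  rw [M.comm_rw_cl hφ s2, M.eq_one (su_zM.smul _), smul_zM_eq_zero, dotProduct_mulVec] at e3
  have e4 := fZ.2 _ (inv_mem xE')
  rw [C2x.comm_rw M hn' hφ] at e4
  obtain ⟨l, hl⟩ := M.mem_Z.1 e4
  have e5 := M.inj (su_zM.smul l) (su_rw (hn'.vecMul_zero φ)) hl
  rw [← rw_ev, ← rw_smul] at e5
  have e6 : φ ᵥ* n' = l • ev F (iN k) := by
    have := congrFun e5 0
    funext j
    have := congrFun this j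
    simpa [rw_, ev, vecMulVec_apply] using this.symm
  have e7 : l = 0 := by
    rw [e6] at e3
    simpa [ev] using e3
  refine c1 ((M.comm_iff (su_rw hφ) hn').2 ?_)
  rw [rw_mul, hn'.mul_rw, e6, e7, zero_smul, rw_eq_zero]


end H26.LM
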