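import Mathlib
import Cfsg.Agent.H26.LM0
import Cfsg.Agent.H26.LM1

set_option autoImplicit false
set_option linter.unusedVariables false
set_option linter.unusedSectionVars false

namespace H26.LM

open Cfsg H24 H26.Gold Subgroup Matrix
open scoped commutatorElement

universe u v

variable {G : Type u} [Group G] [Finite G] {F : Type v} [Field F] [Finite F] [CharP F 2] {k m : ℕ}
  {H S E K Y Z0 M0 B R : Subgroup G} {𝓑 : Set G} {b c g t x y : G}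

/-! ### LMS -/

theorem cset_cj (h : G) (B : Subgroup G) (x : G) :
    cset (cj h B) (h * x * h⁻¹) = (fun y => h * y * h⁻¹) '' cset B x := by
  ext y
  constructor
  · rintro ⟨b, hb, rfl⟩
    obtain ⟨b', hb', rfl⟩ := mem_cj'.1 hb
    exact ⟨_, ⟨b', hb', rfl⟩, by simp only [commutatorElement_def]; group⟩
  · rintro ⟨_, ⟨b, hb, rfl⟩, rfl⟩
    exact ⟨_, conj_mem_cj h hb, by simp only [commutatorElement_def]; group⟩

theorem ncard_par {F : Type v} [Finite F] (f : F → G) : {y | ∃ α : F, y = f α}.ncard ≤ Nat.card F := by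
  have : {y | ∃ α : F, y = f α} = f '' Set.univ := by
    ext y; simp [eq_comm]
  rw [this, ← Set.ncard_univ]
  exact Set.ncard_image_le

namespace Mod
section
variable (M : Mod G F m) {a n : Mx F m}
theorem alg_sq (hB : EA B) (hn : n ∈ M.alg B) : n * n = 0 :=
  (M.sq_iff hn.1).1 (by rw [← sq]; exact hB.2 _ hn.2)
theorem alg_comm (hB : EA B) (hn : n ∈ M.alg B) (ha : a ∈ M.alg B) : n * a = a * n :=
  (M.comm_iff hn.1 ha.1).1 (Abl.comm hB.1 hn.2 ha.2)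
theorem mem_C_of_alg (hS : B ≤ M.S) (ha : SU a) (h : ∀ n ∈ M.alg B, a * n = n * a) :
    M.ι a ∈ M.S ⊓ C[B] := mem_inf.2 ⟨M.memS ha, mem_C'.2 fun b hb => by
  obtain ⟨n, hn, rfl⟩ := M.exists_alg hS hb
  exact (M.comm_iff ha hn.1).2 (h n hn)⟩
theorem alg_max (hS : B ≤ M.S) (hc : M.S ⊓ C[B] ≤ B) (ha : SU a) (h : ∀ n ∈ M.alg B, a * n = n * a) :
    a ∈ M.alg B := ⟨ha, hc (M.mem_C_of_alg hS ha h)⟩
/-- a self-centralizing elementary abelian subgroup of `S` is `1 + 𝒜` for an algebra `𝒜` -/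
theorem exists_sub (hB : EA B) (hS : B ≤ M.S) (hc : M.S ⊓ C[B] ≤ B) :
    ∃ 𝒜 : Submodule F (Mx F m), (∀ n, n ∈ 𝒜 ↔ n ∈ M.alg B) ∧ (∀ a ∈ 𝒜, ∀ n ∈ 𝒜, a * n ∈ 𝒜) ∧
      Nat.card 𝒜 = ♯B := by
  refine ⟨{ carrier := M.alg B
            zero_mem' := ⟨SU.zero, by rw [M.ι_zero]; exact one_mem _⟩
            add_mem' := fun {a b} ha hb => M.alg_max hS hc (ha.1.add hb.1) fun n hn => by
              rw [add_mul, mul_add, M.alg_comm hB ha hn, M.alg_comm hB hb hn]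
            smul_mem' := fun c a ha => M.alg_max hS hc (ha.1.smul c) fun n hn => by
              rw [smul_mul_assoc, mul_smul_comm, M.alg_comm hB ha hn] },
    fun _ => Iff.rfl, fun a ha b hb => M.alg_max hS hc (ha.1.mul hb.1) fun n hn => ?_, ?_⟩
  · rw [mul_assoc, M.alg_comm hB hb hn, ← mul_assoc, M.alg_comm hB ha hn, mul_assoc]
  · refine Nat.card_congr (Equiv.ofBijective (fun a => ⟨M.ι a.1, a.2.2⟩) ⟨fun a b e => ?_,
      fun b => ?_⟩)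
    · exact Subtype.ext (M.inj a.2.1 b.2.1 (congrArg Subtype.val e))
    · obtain ⟨n, hn, e⟩ := M.exists_alg hS b.2
      exact ⟨⟨n, hn⟩, Subtype.ext e⟩
theorem mem_algOm (hE : E ≤ M.S) (hc : M.S ⊓ C[E] ≤ E) :
    n ∈ M.alg (Om E) ↔ SU n ∧ n * n = 0 ∧ ∀ e ∈ M.alg E, e * n = n * e := by
  refine ⟨fun h => ⟨h.1, (M.sq_iff h.1).1 h.2.2.2, fun e he =>
    (M.comm_iff he.1 h.1).1 (mem_C.1 h.2.2.1 _ he.2)⟩, fun h => ?_⟩
  have h1 := M.mem_C_of_alg hE h.1 fun e he => (h.2.2 e he).symm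
  exact ⟨h.1, hc h1, h1.2, (M.sq_iff h.1).2 h.2.1⟩
theorem exists_subOm (hE : E ≤ M.S) (hc : M.S ⊓ C[E] ≤ E) :
    ∃ 𝒪 : Submodule F (Mx F m), ∀ n, n ∈ 𝒪 ↔ n ∈ M.alg (Om E) := by
  refine ⟨{ carrier := M.alg (Om E)
            zero_mem' := ⟨SU.zero, by rw [M.ι_zero]; exact one_mem _⟩
            add_mem' := fun {a b} ha hb => ?_
            smul_mem' := fun c a ha => ?_ }, fun _ => Iff.rfl⟩
  · have ha' := (M.mem_algOm hE hc).1 ha
    have hb' := (M.mem_algOm hE hc).1 hb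
    refine (M.mem_algOm hE hc).2 ⟨ha.1.add hb.1, ?_, fun e he => ?_⟩
    · rw [add_mul, mul_add, mul_add, ha'.2.1, hb'.2.1, zero_add, add_zero,
        ha'.2.2 b ⟨hb.1, hb.2.1⟩, add_self_mx]
    · rw [add_mul, mul_add, ha'.2.2 e he, hb'.2.2 e he]
  · have ha' := (M.mem_algOm hE hc).1 ha
    refine (M.mem_algOm hE hc).2 ⟨ha.1.smul c, ?_, fun e he => ?_⟩
    · rw [smul_mul_assoc, mul_smul_comm, ha'.2.1, smul_zero, smul_zero]
    · rw [smul_mul_assoc, mul_smul_comm, ha'.2.2 e he]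
theorem mem_algE (hE : E ≤ M.S) (hC : M.S ⊓ C[Om E] ≤ E) :
    a ∈ M.alg E ↔ SU a ∧ ∀ n ∈ M.alg (Om E), a * n = n * a :=
  ⟨fun h => ⟨h.1, fun n hn => (M.comm_iff h.1 hn.1).1 (mem_C.1 hn.2.2.1 _ h.2)⟩,
    fun h => ⟨h.1, hC (M.mem_C_of_alg (fun x hx => hE hx.1) h.1 h.2)⟩⟩
/-- an involution of `S` which normalizes `Ω₁ Z(E)` normalizes `E = C_S(Ω₁ Z(E))` -/
theorem mem_N_of (hE : E ≤ M.S) (hC : M.S ⊓ C[Om E] ≤ E) (ha : SU a) (a2 : a * a = 0)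
    (h : ∀ n ∈ M.alg (Om E), n + (a * n + n * a + a * n * a) ∈ M.alg (Om E)) : M.ι a ∈ N[E] := by
  have h1 : M.ι a ∈ N[Om E] := mem_N_of_finite fun x hx => by
    obtain ⟨n, hn, rfl⟩ := M.exists_alg (B := Om E) (fun x hx => hE hx.1) hx
    rw [M.conj_sq ha a2 hn.1]
    exact (h n hn).2
  have h2 : E = M.S ⊓ C[Om E] := le_antisymm (le_inf hE fun x hx =>
    mem_C.2 fun y hy => (mem_C.1 hy.2.1 x hx).symm) hC
  rw [h2]
  exact zpowers_le.1 (norm_inf (norm_of_le (zpowers_le.2 (M.memS ha))) (norm_C (zpowers_le.2 h1)))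
end
variable (M : Mod G F (k + 4))
theorem move_A (hB : cj g M.A ≤ M.S) :
    ∃ h, cj h (cj g M.A) = M.A ∧ cj h (M.S ⊓ N[cj g M.A]) ≤ M.S := by
  obtain ⟨n, hn, h1⟩ := Sylow_Jsub Nat.prime_two (M.sylH (M.R_norm 1))
    (Q := cj g⁻¹ (M.S ⊓ N[cj g M.A])) ((M.two.inf_left _).cj _) (by
      rw [cj_inf, cj_N, cj_inv_cj]; exact inf_le_right)
  refine ⟨n * g⁻¹, ?_, by rwa [cj_mul]⟩
  rw [cj_mul, cj_inv_cj]; exact cj_of_mem_N hn
theorem cj_cent (hB : cj g M.A ≤ M.S) : M.S ⊓ C[cj g M.A] ≤ cj g M.A := by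
  obtain ⟨h, h1, h2⟩ := M.move_A hB
  rw [← cj_le_cj (g := h), h1]
  refine le_trans (le_inf ((cj_mono h (inf_le_inf_left _ (C_le_N _))).trans h2) ?_)
    (M.R_cent (i := 1) one_pos (by omega))
  rw [cj_inf, cj_C, h1]; exact inf_le_right
theorem pi0 (hx : x ∈ M.S) (cx : (cset M.A x).ncard ≤ Nat.card F) {n : Mx F (k + 4)} (hn : SU n)
    (ht : M.ι n ∈ cset M.A x) (n0 : n ≠ 0) : cset M.A x = Set.range fun l : F => M.ι (l • n) := by
  obtain ⟨a, ha, rfl⟩ := (M.mem x).1 hx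
  obtain ⟨a', ha', -, -, -, hc⟩ := M.exists_inv ha
  have key : ∀ φ : Fin (k + 4) → F, φ 0 = 0 → ⁅M.ι a, M.ι (rw_ φ)⁆ = M.ι (rw_ φ * a') := by
    intro φ h0
    have h1 := su_rw h0
    have h2 : (1 + a) * rw_ φ * (1 + a') = rw_ φ + rw_ φ * a' := by
      rw [add_mul, one_mul, ha.mul_rw, add_zero, mul_add, mul_one]
    rw [commutatorElement_def, (hc _ h1).2, M.inv_sq h1 (h1.mul_rw φ), ← M.mul (hc _ h1).1 h1,
      (hc _ h1).1.mul_rw, h2, add_zero, add_right_comm, add_self_mx, zero_add]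
  obtain ⟨b, hb, e⟩ := ht
  obtain ⟨φ, h0, rfl⟩ := M.mem_A.1 hb
  rw [key φ h0] at e
  have e' := M.inj hn ((su_rw h0).mul ha') e
  refine (Set.eq_of_subset_of_ncard_le ?_ (cx.trans_eq ?_)).symm
  · rintro _ ⟨l, rfl⟩
    have h1 : (l • φ) 0 = 0 := by simp [h0]
    refine ⟨_, M.mem_A.2 ⟨l • φ, h1, rfl⟩, ?_⟩
    rw [key _ h1, rw_smul, smul_mul_assoc, e']
  · rw [← Set.image_univ, Set.ncard_image_of_injective _ fun l l' e => ?_, Set.ncard_univ]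
    have := M.inj (hn.smul l) (hn.smul l') e
    exact smul_left_injective F n0 this
theorem pi (hB : cj g M.A ≤ M.S) (hx : x ∈ M.S ⊓ N[cj g M.A]) (hy : y ∈ M.S ⊓ N[cj g M.A])
    (cx : (cset (cj g M.A) x).ncard ≤ Nat.card F) (cy : (cset (cj g M.A) y).ncard ≤ Nat.card F)
    (ht : t ∈ cset (cj g M.A) x) (ht' : t ∈ cset (cj g M.A) y) (t1 : t ≠ 1) :
    cset (cj g M.A) x = cset (cj g M.A) y := by
  obtain ⟨h, h1, h2⟩ := M.move_A hB
  have inj : Function.Injective fun y : G => h * y * h⁻¹ := fun a b e => by simpa using e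
  have ex := cset_cj h (cj g M.A) x
  have ey := cset_cj h (cj g M.A) y
  rw [h1] at ex ey
  have hx' := h2 (conj_mem_cj h hx)
  have tx : h * t * h⁻¹ ∈ cset M.A (h * x * h⁻¹) := ex ▸ ⟨t, ht, rfl⟩
  have ty : h * t * h⁻¹ ∈ cset M.A (h * y * h⁻¹) := ey ▸ ⟨t, ht', rfl⟩
  obtain ⟨n, hn, e⟩ : ∃ n, SU n ∧ M.ι n = h * t * h⁻¹ := (M.mem _).1 (by
    obtain ⟨b, hb, e⟩ := tx
    have hb' := M.R_le 1 hb
    rw [e, commutatorElement_def]
    exact mul_mem (mul_mem (mul_mem hx' hb') (inv_mem hx')) (inv_mem hb'))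
  have n0 : n ≠ 0 := fun e0 => t1 (inj (by simp [← e, e0, M.ι_zero]))
  rw [← e] at tx ty
  refine Set.image_injective.2 inj ?_
  rw [← ex, ← ey, M.pi0 hx' (by rwa [ex, Set.ncard_image_of_injective _ inj]) hn tx n0,
    M.pi0 (h2 (conj_mem_cj h hy)) (by rwa [ey, Set.ncard_image_of_injective _ inj]) hn ty n0]
theorem fine (hF : Big F) (hB : cj g M.A ≤ M.S) {n₁ z₀ : Mx F (k + 4)} (h₁ : SU n₁) (h₀ : SU z₀)
    (ind : ∀ α β : F, α • n₁ + β • z₀ = 0 → α = 0 ∧ β = 0) (X : F → F → G)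
    (hX : ∀ τ σ, X τ σ ∈ M.S ⊓ N[cj g M.A])
    (hc : ∀ τ σ, cset (cj g M.A) (X τ σ) =
      {y | ∃ α : F, y = M.ι ((α * τ) • n₁ + (α * σ + α ^ 2 * τ) • z₀)}) : False := by
  obtain ⟨ω, w0, w1⟩ := hF
  have two : (2 : F) = 0 := CharTwo.two_eq_zero
  have su : ∀ α β : F, SU (α • n₁ + β • z₀) := fun α β => (h₁.smul α).add (h₀.smul β)
  have e := M.pi hB (hX 1 0) (hX ω (ω + 1)) (t := M.ι ((1 : F) • n₁ + (1 : F) • z₀))
    (by rw [hc]; exact ncard_par _) (by rw [hc]; exact ncard_par _)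
    (by rw [hc]; exact ⟨1, by simp⟩)
    (by
      rw [hc]
      refine ⟨ω⁻¹, ?_⟩
      rw [inv_mul_cancel₀ w0, show ω⁻¹ * (ω + 1) + ω⁻¹ ^ 2 * ω = 1 by
        field_simp; linear_combination two])
    fun e => one_ne_zero (ind _ _ ((M.eq_one (su 1 1)).1 e)).1
  rw [hc, hc] at e
  obtain ⟨β, e1⟩ : M.ι ((ω * 1) • n₁ + (ω * 0 + ω ^ 2 * 1) • z₀) ∈ {y | ∃ α : F,
      y = M.ι ((α * ω) • n₁ + (α * (ω + 1) + α ^ 2 * ω) • z₀)} := e ▸ ⟨ω, rfl⟩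
  have e2 := M.inj (su _ _) (su _ _) e1
  obtain ⟨e3, e4⟩ := ind (ω * 1 - β * ω) (ω * 0 + ω ^ 2 * 1 - (β * (ω + 1) + β ^ 2 * ω)) (by
    rw [sub_smul, sub_smul, sub_add_sub_comm, e2, sub_self])
  have e5 : β = 1 := mul_right_cancel₀ w0 (by linear_combination -e3)
  subst e5
  exact w1 (sub_eq_zero.1 ((pow_eq_zero_iff (two_ne_zero (α := ℕ))).1 (by
    linear_combination e4 + two)))
end Mod

end H26.LM
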