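import Mathlib
import Cfsg.Agent.H26.LM0
import Cfsg.Agent.H26.LC2
import Cfsg.Agent.H26.LMS

set_option autoImplicit false
set_option linter.unusedVariables false
set_option linter.unusedSectionVars false

namespace H26.LM

open Cfsg H24 H26.Gold Subgroup Matrix
open scoped commutatorElement

universe u v

variable {G : Type u} [Group G] [Finite G] {F : Type v} [Field F] [Finite F] [CharP F 2] {k m : ℕ}
  {H S E K Y Z0 M0 B R : Subgroup G} {𝓑 : Set G} {b c g t x y : G}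

namespace H6D

theorem iN_ne_zero : (iN k) ≠ 0 := by
  intro h; have := congrArg Fin.val h; simp at this

theorem ev_N_zero : ev F (iN k) 0 = 0 := by
  simp [ev, (iN_ne_zero (k := k)).symm]

theorem ev_zero_N : ev F (0 : Fin (k + 4)) (iN k) = 0 := by
  simp [ev, iN_ne_zero (k := k)]

theorem dot_ev (φ : Fin m → F) (i : Fin m) : φ ⬝ᵥ ev F i = φ i := by
  simp [ev]

theorem rw_eq_cl {φ w : Fin (k + 4) → F} (h : rw_ φ = cl w) : φ = φ (iN k) • ev F (iN k) := by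
  funext j
  have e := congrFun (congrFun h 0) j
  simp only [rw_, cl, vecMulVec_apply, ev, Pi.single_eq_same, one_mul] at e
  by_cases hj : j = iN k
  · subst hj; simp [ev]
  · rw [e]; simp [ev, hj]

theorem rw_sq {φ : Fin (k + 4) → F} (h : φ 0 = 0) : rw_ φ * rw_ φ = 0 := (su_rw h).mul_rw φ

theorem cl_sq {w : Fin (k + 4) → F} (h : w (iN k) = 0) : cl w * cl w = 0 := (su_cl h).cl_mul w

theorem zM_mul {n : Mx F (k + 4)} (h : SU n) : zM F k * n = 0 := by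
  rw [← cl_ev]; exact h.cl_mul _

theorem mul_zM {n : Mx F (k + 4)} (h : SU n) : n * zM F k = 0 := by
  rw [← rw_ev]; exact h.mul_rw _

theorem smul_zero' (l : F) {φ : Fin m → F} {i : Fin m} (h : φ i = 0) : (l • φ) i = 0 := by
  simp [h]

variable (M : Mod G F (k + 4))

theorem A_sq (hx : x ∈ M.A) : x * x = 1 := by
  have := (M.R_ea 1).2 x hx; rwa [pow_two] at this

theorem A'_sq (hx : x ∈ M.A') : x * x = 1 := by
  have := (M.R_ea (k + 3)).2 x hx; rwa [pow_two] at this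

theorem A_comm (hx : x ∈ M.A) (hy : y ∈ M.A) : x * y = y * x := Abl.comm (M.R_ea 1).1 hx hy

theorem A_le : M.A ≤ M.S := M.R_le 1
theorem A'_le : M.A' ≤ M.S := M.R_le (k + 3)
theorem A_norm : M.S ≤ N[M.A] := M.R_norm 1
theorem A'_norm : M.S ≤ N[M.A'] := M.R_norm (k + 3)
theorem Z_le_A : M.Z ≤ M.A := inf_le_left
theorem Z_le_A' : M.Z ≤ M.A' := inf_le_right
theorem Z_le : M.Z ≤ M.S := (Z_le_A M).trans (A_le M)

theorem Z_comm (hx : x ∈ M.Z) (hy : y ∈ M.S) : x * y = y * x :=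
  (mem_C.1 (M.Z_cent hy)) x hx

theorem Z_le_Om (hE : E ≤ M.S) (hc : M.S ⊓ C[E] ≤ E) : M.Z ≤ Om E := fun z hz => by
  have h1 : z ∈ C[E] := mem_C'.2 fun e he => Z_comm M hz (hE he)
  exact ⟨hc ⟨Z_le M hz, h1⟩, h1, A_sq M (Z_le_A M hz)⟩

theorem zM_mem (l : F) : M.ι (l • zM F k) ∈ M.Z := M.mem_Z.2 ⟨l, rfl⟩

theorem rw_mem {φ : Fin (k + 4) → F} (h : φ 0 = 0) : M.ι (rw_ φ) ∈ M.A := M.mem_A.2 ⟨φ, h, rfl⟩

theorem cl_mem {w : Fin (k + 4) → F} (h : w (iN k) = 0) : M.ι (cl w) ∈ M.A' :=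
  M.mem_A'.2 ⟨w, h, rfl⟩

theorem Om_le : Om E ≤ E := fun _ h => h.1

/-- the product of a row and a column element -/
theorem rw_cl {φ w : Fin (k + 4) → F} (h : φ 0 = 0) (h' : w (iN k) = 0) :
    M.ι (rw_ φ) * M.ι (cl w) = M.ι (rw_ φ + cl w + (φ ⬝ᵥ w) • zM F k) := by
  rw [← M.mul (su_rw h) (su_cl h'), rw_mul_cl]

theorem su_rc {φ w : Fin (k + 4) → F} (h : φ 0 = 0) (h' : w (iN k) = 0) (l : F) :
    SU (rw_ φ + cl w + l • zM F k) := ((su_rw h).add (su_cl h')).add (su_zM.smul l)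

theorem rc_mul {φ w : Fin (k + 4) → F} (l : F) {n : Mx F (k + 4)} (hn : SU n) :
    (rw_ φ + cl w + l • zM F k) * n = rw_ φ * n := by
  rw [add_mul, add_mul, hn.cl_mul, smul_mul_assoc, zM_mul hn, smul_zero, add_zero, add_zero]

theorem mul_rc {φ w : Fin (k + 4) → F} (l : F) {n : Mx F (k + 4)} (hn : SU n) :
    n * (rw_ φ + cl w + l • zM F k) = n * cl w := by
  rw [mul_add, mul_add, hn.mul_rw, mul_smul_comm, mul_zM hn, smul_zero, add_zero, zero_add]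

/-- `b c ∈ E` iff the row and the column act in the same way on `Ω` -/
theorem rc_mem_iff (hE : E ≤ M.S) (hC : M.S ⊓ C[Om E] ≤ E) {φ w : Fin (k + 4) → F} (h : φ 0 = 0)
    (h' : w (iN k) = 0) : M.ι (rw_ φ) * M.ι (cl w) ∈ E ↔
      ∀ n ∈ M.alg (Om E), rw_ φ * n = n * cl w := by
  rw [rw_cl M h h']
  have e := M.mem_algE (a := rw_ φ + cl w + (φ ⬝ᵥ w) • zM F k) hE hC
  rw [M.mem_alg] at e
  have s := su_rc h h' (φ ⬝ᵥ w)
  constructor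
  · intro hm n hn
    have := (e.1 ⟨s, hm⟩).2 n hn
    rwa [rc_mul _ hn.1, mul_rc _ hn.1] at this
  · intro hm
    refine (e.2 ⟨s, fun n hn => ?_⟩).2
    rw [rc_mul _ hn.1, mul_rc _ hn.1]; exact hm n hn

theorem rw_mem_iff (hE : E ≤ M.S) (hC : M.S ⊓ C[Om E] ≤ E) {φ : Fin (k + 4) → F} (h : φ 0 = 0) :
    M.ι (rw_ φ) ∈ E ↔ ∀ n ∈ M.alg (Om E), φ ᵥ* n = 0 := by
  have e := M.mem_algE (a := rw_ φ) hE hC
  rw [M.mem_alg] at e
  constructor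
  · intro hm n hn
    have := (e.1 ⟨su_rw h, hm⟩).2 n hn
    rwa [hn.1.mul_rw, rw_mul, rw_eq_zero] at this
  · intro hm
    refine (e.2 ⟨su_rw h, fun n hn => ?_⟩).2
    rw [hn.1.mul_rw, rw_mul, rw_eq_zero]; exact hm n hn

/-- the commutator of a row element with an involution -/
theorem comm_rw {φ : Fin (k + 4) → F} (h : φ 0 = 0) {n : Mx F (k + 4)} (hn : SU n)
    (n2 : n * n = 0) : ⁅M.ι (rw_ φ), M.ι n⁆ = M.ι (rw_ (φ ᵥ* n)) := by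
  rw [M.comm_sq (su_rw h) (rw_sq h) hn n2, hn.mul_rw, mul_assoc (rw_ φ) n, hn.mul_rw, mul_zero,
    add_zero, add_zero, mul_assoc, n2, mul_zero, add_zero, rw_mul]

/-- the commutator of a column element with an involution -/
theorem comm_cl {w : Fin (k + 4) → F} (h : w (iN k) = 0) {n : Mx F (k + 4)} (hn : SU n)
    (n2 : n * n = 0) : ⁅M.ι (cl w), M.ι n⁆ = M.ι (cl (n *ᵥ w)) := by
  rw [M.comm_sq (su_cl h) (cl_sq h) hn n2, hn.cl_mul, zero_mul, zero_add, add_zero, mul_assoc,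
    hn.cl_mul, mul_zero, add_zero, mul_cl]

theorem alg_Om_sq (hE : E ≤ M.S) (hc : M.S ⊓ C[E] ≤ E) {n : Mx F (k + 4)}
    (hn : n ∈ M.alg (Om E)) : n * n = 0 := ((M.mem_algOm hE hc).1 hn).2.1

/-- the quadratic action of `A ∩ T` on `E` -/
theorem qd2 (hE : E ≤ M.S) (hg : g ∈ N[E]) :
    Qd M.S E E (M.A ⊓ E) ⊥ {t | t ∈ M.A ∧ t ∈ N[E]} g where
  KE := le_rfl
  EK := norm_self E
  gK := hg
  YK := inf_le_right
  EY := norm_inf (hE.trans (A_norm M)) (norm_self E)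
  ZY := bot_le
  gZ := by rw [C_bot]; trivial
  EZ := by rw [C_bot]; exact le_top
  YY := fun y hy y' hy' => by
    rw [Subgroup.mem_bot, commutatorElement_eq_one_iff_mul_comm]; exact A_comm M hy.1 hy'.1
  Y2 := fun y hy => by rw [Subgroup.mem_bot]; exact A_sq M hy.1
  BT := fun t ht => ⟨A_le M ht.1, ht.2⟩
  B2 := fun t ht => by rw [A_sq M ht.1]; exact one_mem _
  BZ := fun t ht => by rw [C_bot]; trivial
  BK := fun t ht x hx => by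
    constructor
    · have : ⁅t, x⁆ = t * (x * t⁻¹ * x⁻¹) := by rw [commutatorElement_def]; group
      rw [this]
      exact M.A.mul_mem ht.1 (conj_mem (A_norm M (hE hx)) (M.A.inv_mem ht.1))
    · rw [commutatorElement_def]
      exact E.mul_mem (conj_mem ht.2 hx) (E.inv_mem hx)
  BY := fun t ht y hy => by
    rw [Subgroup.mem_bot, commutatorElement_eq_one_iff_mul_comm]; exact A_comm M ht.1 hy.1

section
variable {β c0 : Fin (k + 4) → F}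

theorem rel_row (hE : E ≤ M.S) (hC : M.S ⊓ C[Om E] ≤ E) (hβ : β 0 = 0) (hc0 : c0 (iN k) = 0)
    (bc : M.ι (rw_ β) * M.ι (cl c0) ∈ E) {n : Mx F (k + 4)} (hn : n ∈ M.alg (Om E)) :
    β ᵥ* n = (β ᵥ* n) (iN k) • ev F (iN k) := by
  have := (rc_mem_iff M hE hC hβ hc0).1 bc n hn
  rw [rw_mul, mul_cl] at this
  exact rw_eq_cl this

theorem rel_rw (hE : E ≤ M.S) (hC : M.S ⊓ C[Om E] ≤ E) (hβ : β 0 = 0) (hc0 : c0 (iN k) = 0)
    (bc : M.ι (rw_ β) * M.ι (cl c0) ∈ E) {n : Mx F (k + 4)} (hn : n ∈ M.alg (Om E)) (l : F) :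
    rw_ ((l • β) ᵥ* n) = (l * (β ᵥ* n) (iN k)) • zM F k := by
  rw [smul_vecMul, rw_smul, rel_row M hE hC hβ hc0 bc hn, rw_smul, rw_ev, smul_smul]
  simp [ev]

theorem bl_N (hE : E ≤ M.S) (hc : M.S ⊓ C[E] ≤ E) (hC : M.S ⊓ C[Om E] ≤ E) (hβ : β 0 = 0)
    (hc0 : c0 (iN k) = 0) (bc : M.ι (rw_ β) * M.ι (cl c0) ∈ E) (l : F) :
    M.ι (rw_ (l • β)) ∈ N[E] := by
  have h0 := smul_zero' l hβ
  obtain ⟨𝒪, h𝒪⟩ := M.exists_subOm hE hc
  refine M.mem_N_of hE hC (su_rw h0) (rw_sq h0) fun n hn => ?_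
  rw [hn.1.mul_rw, mul_assoc (rw_ _) n, hn.1.mul_rw, mul_zero, add_zero, add_zero, rw_mul,
    rel_rw M hE hC hβ hc0 bc hn, ← h𝒪]
  refine add_mem ((h𝒪 n).2 hn) (𝒪.smul_mem _ ((h𝒪 _).2 ⟨su_zM, Z_le_Om M hE hc ?_⟩))
  simpa using zM_mem M (1 : F)

theorem bl_notMem (hE : E ≤ M.S) (hC : M.S ⊓ C[Om E] ≤ E) (hβ : β 0 = 0)
    (bE : M.ι (rw_ β) ∉ E) {l : F} (hl : l ≠ 0) : M.ι (rw_ (l • β)) ∉ E := fun hm => by
  refine bE ((rw_mem_iff M hE hC hβ).2 fun n hn => ?_)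
  have := (rw_mem_iff M hE hC (smul_zero' l hβ)).1 hm n hn
  rw [smul_vecMul] at this
  exact (smul_eq_zero.1 this).resolve_left hl

theorem el_mem (hE : E ≤ M.S) (hC : M.S ⊓ C[Om E] ≤ E) (hβ : β 0 = 0) (hc0 : c0 (iN k) = 0)
    (bc : M.ι (rw_ β) * M.ι (cl c0) ∈ E) (l : F) :
    M.ι (rw_ (l • β)) * M.ι (cl (l • c0)) ∈ E := by
  refine (rc_mem_iff M hE hC (smul_zero' l hβ) (smul_zero' l hc0)).2 fun n hn => ?_
  rw [rw_smul, cl_smul, smul_mul_assoc, mul_smul_comm, (rc_mem_iff M hE hC hβ hc0).1 bc n hn]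

/-- the quadratic action of the multiples of `b` on `Ω` -/
theorem qd1 (hE : E ≤ M.S) (hc : M.S ⊓ C[E] ≤ E) (hC : M.S ⊓ C[Om E] ≤ E) (hβ : β 0 = 0)
    (hc0 : c0 (iN k) = 0) (bc : M.ι (rw_ β) * M.ι (cl c0) ∈ E) (hg : g ∈ N[E]) :
    Qd M.S E (Om E) M.Z ⊥ {t | ∃ l : F, t = M.ι (rw_ (l • β))} g where
  KE := Om_le
  EK := (norm_self E).trans (norm_Om E)
  gK := norm_Om E hg
  YK := Z_le_Om M hE hc
  EY := norm_of_cent (hE.trans M.Z_cent)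
  ZY := bot_le
  gZ := by rw [C_bot]; trivial
  EZ := by rw [C_bot]; exact le_top
  YY := fun y hy y' hy' => by
    rw [Subgroup.mem_bot, commutatorElement_eq_one_iff_mul_comm]; exact Z_comm M hy (Z_le M hy')
  Y2 := fun y hy => by rw [Subgroup.mem_bot]; exact A_sq M (Z_le_A M hy)
  BT := by
    rintro t ⟨l, rfl⟩
    exact ⟨A_le M (rw_mem M (smul_zero' l hβ)), bl_N M hE hc hC hβ hc0 bc l⟩
  B2 := by
    rintro t ⟨l, rfl⟩
    rw [A_sq M (rw_mem M (smul_zero' l hβ))]; exact one_mem _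
  BZ := fun t ht => by rw [C_bot]; trivial
  BK := by
    rintro t ⟨l, rfl⟩ x hx
    obtain ⟨n, hn, rfl⟩ := M.exists_alg (Om_le.trans hE) hx
    rw [comm_rw M (smul_zero' l hβ) hn.1 (alg_Om_sq M hE hc hn), rel_rw M hE hC hβ hc0 bc hn]
    exact zM_mem M _
  BY := by
    rintro t ⟨l, rfl⟩ y hy
    rw [Subgroup.mem_bot, commutatorElement_eq_one_iff_mul_comm]
    exact (Z_comm M hy (A_le M (rw_mem M (smul_zero' l hβ)))).symm

end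

theorem cj_Z_le_Om (hE : E ≤ M.S) (hc : M.S ⊓ C[E] ≤ E) (hg : g ∈ N[E]) : cj g M.Z ≤ Om E :=
  cj_le_of_mem_N (Z_le_Om M hE hc) (norm_Om E hg)

theorem Z_C1 (hZ : M.Z ⊓ cj g M.Z = ⊥) (hx : x ∈ M.Z) (hg : x ∈ C{g}) : x = 1 := by
  have h1 : x ∈ cj g M.Z := by
    have e : g * x * g⁻¹ = x := mem_C1_iff_conj.1 (mem_C1_comm.1 hg)
    rw [← e]; exact conj_mem_cj g hx
  have : x ∈ M.Z ⊓ cj g M.Z := ⟨hx, h1⟩
  rwa [hZ, Subgroup.mem_bot] at this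

theorem E_norm_V2 (hE : E ≤ M.S) (hg : g ∈ N[E]) : E ≤ N[cj g (M.A ⊓ E)] := by
  have := norm_cj (norm_inf (hE.trans (A_norm M)) (norm_self E)) g
  rwa [cj_of_mem_N hg] at this

theorem V2_le (hg : g ∈ N[E]) : cj g (M.A ⊓ E) ≤ E := cj_le_of_mem_N inf_le_right hg

theorem V2_sq (hx : x ∈ cj g (M.A ⊓ E)) : x * x = 1 := by
  obtain ⟨y, hy, rfl⟩ := mem_cj'.1 hx
  calc g * y * g⁻¹ * (g * y * g⁻¹) = g * (y * y) * g⁻¹ := by group
    _ = 1 := by rw [A_sq M hy.1]; group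

end H6D

open H6D

/-! ### LD1 -/

theorem Mod.d1 (M : Mod G F (k + 4)) (hc : M.S ⊓ C[E] ≤ E) (hC : M.S ⊓ C[Om E] ≤ E)
    (h : Dih H M.S E b g) (hb : b ∈ M.A) (hc' : c ∈ M.A') (bc : b * c ∈ E) :
    M.Z ⊓ cj g M.Z = ⊥ ∧ ∃ v ∈ cj g M.Z, v ≠ 1 ∧ v ∈ M.Q ∧ ∀ a ∈ M.A, a ∈ E ↔ a * v = v * a := by
  have hE := h.ES
  have hg : g ∈ N[E] := h.gH.2
  have hcase := M.case2 hc h (M.A_le_Q hb)
  obtain ⟨β, hβ, rfl⟩ := M.mem_A.1 hb
  obtain ⟨c0, hc0, rfl⟩ := M.mem_A'.1 hc'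
  have q1 := qd1 M hE hc hC hβ hc0 bc hg
  have q2 := qd2 M hE hg
  have b1 : M.ι (rw_ β) ∈ {t | ∃ l : F, t = M.ι (rw_ (l • β))} := ⟨1, by rw [one_smul]⟩
  have b2 : M.ι (rw_ β) ∈ {t | t ∈ M.A ∧ t ∈ N[E]} := ⟨hb, h.bT.2⟩
  have ZO := Z_le_Om M hE hc
  have gZO := cj_Z_le_Om M hE hc hg
  obtain ⟨x0, hx0, x0Z⟩ := q1.w5 h b1 hcase
  obtain ⟨n0, hn0, rfl⟩ := M.exists_alg (Om_le.trans hE) (gZO hx0)
  have key : ∀ l : F, l ≠ 0 → M.ι ((l * (β ᵥ* n0) (iN k)) • zM F k) ∉ cj g M.Z := by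
    intro l hl hm
    refine x0Z (q1.w1 h b1 ⟨l, rfl⟩ (bl_notMem M hE hC hβ h.bE hl) hx0 ?_)
    rwa [comm_rw M (smul_zero' l hβ) hn0.1 (alg_Om_sq M hE hc hn0), rel_rw M hE hC hβ hc0 bc hn0]
  have κ0 : (β ᵥ* n0) (iN k) ≠ 0 := fun e => key 1 one_ne_zero (by
    rw [e, mul_zero, zero_smul, M.ι_zero]; exact one_mem _)
  have hZ : M.Z ⊓ cj g M.Z = ⊥ := by
    refine eq_bot_iff.2 fun z hz => ?_
    obtain ⟨l, rfl⟩ := M.mem_Z.1 hz.1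
    by_cases hl : l = 0
    · rw [hl, zero_smul, M.ι_zero]; exact one_mem _
    · refine (key (l / (β ᵥ* n0) (iN k)) (div_ne_zero hl κ0) ?_).elim
      rw [div_mul_cancel₀ _ κ0]; exact hz.2
  have ZV : M.Z ≤ M.A ⊓ E := le_inf (Z_le_A M) (ZO.trans Om_le)
  have w0 := q2.w0 h b2
  have notV : ∀ v ∈ cj g M.Z, v ≠ 1 → v ∉ M.A ⊓ E := by
    intro v hv v1 hm
    have h1 : v ∈ (M.A ⊓ E) ⊓ cj g (M.A ⊓ E) := ⟨hm, cj_mono g ZV hv⟩
    rw [w0] at h1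
    have h2 : g⁻¹ * v * g = v := by
      have := mem_C1.1 h1.2
      rw [mul_assoc, this, ← mul_assoc, inv_mul_cancel, one_mul]
    have h3 : v ∈ M.Z := h2 ▸ mem_cj.1 hv
    exact v1 (Z_C1 M hZ h3 h1.2)
  have cent : ∀ v ∈ cj g M.Z, v ≠ 1 → ∀ a ∈ M.A, a ∈ E ↔ a * v = v * a := by
    intro v hv v1 a ha
    have vO := gZO hv
    refine ⟨fun hm => mem_C.1 vO.2.1 a hm, fun hm => ?_⟩
    by_contra aE
    have hEv : E ≤ C{v} := mem_C_iff_le_C1.1 vO.2.1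
    obtain ⟨t, ht, tN, tE, -⟩ := up (R := M.A ⊓ C{v}) h.two hE (inf_le_left.trans (A_le M))
      (norm_inf (hE.trans (A_norm M)) (norm_of_le hEv)) fun hle => aE (hle ⟨ha, mem_C1.2 hm⟩)
    refine notV v hv v1 (q2.w1 h b2 ⟨ht.1, tN⟩ tE (cj_mono g ZV hv) ?_)
    rw [commutatorElement_eq_one_iff_mul_comm.2 (mem_C1.1 ht.2)]; exact one_mem _
  refine ⟨hZ, ?_⟩
  suffices hs : ∃ v ∈ cj g M.Z, v ≠ 1 ∧ v ∈ M.Q by
    obtain ⟨v, hv, v1, vQ⟩ := hs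
    exact ⟨v, hv, v1, vQ, cent v hv v1⟩
  have bS : M.ι (rw_ β) ∈ M.S := A_le M hb
  have cS : M.ι (cl c0) ∈ M.S := A'_le M hc'
  by_cases hx : ∀ y ∈ M.A ⊓ E, ∃ z ∈ M.Z, ∃ e ∈ (M.A ⊓ E) ⊓ cj g (M.A ⊓ E), y = z * e
  · exfalso
    have dec : ∀ x ∈ E, ∃ e ∈ E ⊓ C{g}, ∃ ω ∈ Om E, x = e * ω := by
      intro x hx'
      obtain ⟨e, he, y, hy, y', hy', rfl⟩ := q2.w3 h b2 hx'
      obtain ⟨z, hz, e1, he1, rfl⟩ := hx y hy
      obtain ⟨y'', hy'', rfl⟩ := mem_cj'.1 hy'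
      obtain ⟨z', hz', e2, he2, rfl⟩ := hx y'' hy''
      rw [w0] at he1 he2
      have zO : g * z' * g⁻¹ ∈ Om E := gZO (conj_mem_cj g hz')
      have e2g : g * e2 * g⁻¹ = e2 := mem_C1_iff_conj.1 (mem_C1_comm.1 he2.2)
      refine ⟨e * e1 * e2, ⟨mul_mem (mul_mem he.1 he1.1.2) he2.1.2,
        mul_mem (mul_mem he.2 he1.2) he2.2⟩, z * (g * z' * g⁻¹), mul_mem (ZO hz) zO, ?_⟩
      have c1 : z * e1 = e1 * z := Z_comm M hz (hE he1.1.2)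
      have c2 : z * e2 = e2 * z := Z_comm M hz (hE he2.1.2)
      have c3 : e2 * (g * z' * g⁻¹) = g * z' * g⁻¹ * e2 := mem_C.1 zO.2.1 e2 he2.1.2
      calc e * (z * e1) * (g * (z' * e2) * g⁻¹)
          = e * (z * e1) * (g * z' * g⁻¹ * (g * e2 * g⁻¹)) := by group
        _ = e * e1 * (z * e2) * (g * z' * g⁻¹) := by rw [e2g, ← c3, c1]; group
        _ = e * e1 * e2 * (z * (g * z' * g⁻¹)) := by rw [c2]; group
    have commC1 : ∀ x ∈ E, ∀ y ∈ E, ⁅x, y⁆ ∈ C{g} := by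
      intro x hx' y hy
      obtain ⟨e, he, ω, hω, rfl⟩ := dec x hx'
      obtain ⟨e', he', ω', hω', rfl⟩ := dec y hy
      have c1 : e' * ω' * ω = ω * (e' * ω') := mem_C.1 hω.2.1 _ hy
      have c2 : e⁻¹ * ω' = ω' * e⁻¹ := mem_C.1 hω'.2.1 _ (inv_mem he.1)
      have : ⁅e * ω, e' * ω'⁆ = e * e' * e⁻¹ * e'⁻¹ := by
        calc ⁅e * ω, e' * ω'⁆ = e * (ω * (e' * ω')) * ω⁻¹ * e⁻¹ * (e' * ω')⁻¹ := by
              rw [commutatorElement_def]; group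
          _ = e * e' * (ω' * e⁻¹) * ω'⁻¹ * e'⁻¹ := by rw [← c1]; group
          _ = e * e' * e⁻¹ * e'⁻¹ := by rw [← c2]; group
      rw [this]
      exact mul_mem (mul_mem (mul_mem he.2 he'.2) (inv_mem he.2)) (inv_mem he'.2)
    have x01 : M.ι n0 ≠ 1 := fun e => x0Z (e ▸ one_mem _)
    have hφ : ∀ φ : Fin (k + 4) → F, φ 0 = 0 → φ ᵥ* n0 = 0 → φ ⬝ᵥ c0 = 0 := by
      intro φ h0 h1
      have aA := rw_mem M h0
      have aE : M.ι (rw_ φ) ∈ E := by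
        refine (cent _ hx0 x01 _ aA).2 ((M.comm_iff (su_rw h0) hn0.1).2 ?_)
        rw [hn0.1.mul_rw, rw_mul, h1, rw_eq_zero]
      have h2 := commC1 _ aE _ bc
      have h3 : ⁅M.ι (rw_ φ), M.ι (rw_ β) * M.ι (cl c0)⁆ = M.ι ((φ ⬝ᵥ c0) • zM F k) := by
        have e1 := A_comm M aA hb
        have e2 := Z_comm M (zM_mem M (φ ⬝ᵥ c0)) bS
        calc ⁅M.ι (rw_ φ), M.ι (rw_ β) * M.ι (cl c0)⁆
            = M.ι (rw_ φ) * M.ι (rw_ β) * (M.ι (rw_ φ))⁻¹ * ⁅M.ι (rw_ φ), M.ι (cl c0)⁆ *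
                (M.ι (rw_ β))⁻¹ := by simp only [commutatorElement_def]; group
          _ = M.ι (rw_ β) * M.ι ((φ ⬝ᵥ c0) • zM F k) * (M.ι (rw_ β))⁻¹ := by
                rw [M.comm_rw_cl h0 hc0, e1]; group
          _ = _ := by rw [← e2]; group
      rw [h3] at h2
      have h4 := Z_C1 M hZ (zM_mem M _) h2
      rwa [M.eq_one (su_zM.smul _), smul_zM_eq_zero] at h4
    obtain ⟨l, w, e⟩ := dual_row hφ
    have h5 := (rc_mem_iff M hE hC hβ hc0).1 bc n0 hn0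
    rw [rw_mul, mul_cl, e, mulVec_add, mulVec_smul, hn0.1.mulVec_zero, smul_zero, zero_add,
      mulVec_mulVec, alg_Om_sq M hE hc hn0, zero_mulVec, cl_eq_zero.2 rfl, rw_eq_zero] at h5
    exact κ0 (by rw [h5]; rfl)
  · push Not at hx
    obtain ⟨y, hy, hyn⟩ := hx
    obtain ⟨v', hv', e1, he1, rfl⟩ := q2.w2 h b2 b2 h.bE hy
    generalize M.ι (rw_ β) = b at *
    generalize M.ι (cl c0) = c at *
    have v'E := V2_le M hg hv'
    have v'S := hE v'E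
    have xV : ⁅b * c, v'⁆ ∈ cj g (M.A ⊓ E) := by
      rw [commutatorElement_def]
      exact mul_mem (conj_mem (E_norm_V2 M hE hg bc) hv') (inv_mem hv')
    have bcQ : b * c ∈ M.Q := mul_mem (M.A_le_Q hb) (M.A'_le_Q hc')
    have xQ : ⁅b * c, v'⁆ ∈ M.Q := by
      have : ⁅b * c, v'⁆ = b * c * (v' * (b * c)⁻¹ * v'⁻¹) := by
        rw [commutatorElement_def]; group
      rw [this]
      exact mul_mem bcQ (conj_mem (M.Q_norm v'S) (inv_mem bcQ))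
    have uA : ⁅c, v'⁆ ∈ M.A' := by
      have : ⁅c, v'⁆ = c * (v' * c⁻¹ * v'⁻¹) := by rw [commutatorElement_def]; group
      rw [this]
      exact mul_mem hc' (conj_mem (A'_norm M v'S) (inv_mem hc'))
    have bvA : ⁅b, v'⁆ ∈ M.A ⊓ E := q2.BK b b2 v' v'E
    have xe : ⁅b * c, v'⁆ = b * ⁅c, v'⁆ * b⁻¹ * ⁅b, v'⁆ := by
      simp only [commutatorElement_def]; group
    have xV1 : ⁅b * c, v'⁆ ∉ M.A ⊓ E := by
      intro hm
      have h1 : b * ⁅c, v'⁆ * b⁻¹ ∈ M.Z := by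
        refine ⟨?_, conj_mem (A'_norm M bS) uA⟩
        have : b * ⁅c, v'⁆ * b⁻¹ = ⁅b * c, v'⁆ * ⁅b, v'⁆⁻¹ := by rw [xe]; group
        rw [this]; exact M.A.mul_mem hm.1 (M.A.inv_mem bvA.1)
      refine hyn _ (inv_mem h1) (⁅b * c, v'⁆ * e1) (mul_mem ⟨hm, xV⟩ he1) ?_
      rw [xe]; group
    have bxZ : ⁅b, ⁅b * c, v'⁆⁆ ∈ M.Z := M.Q_comm (M.A_le_Q hb) xQ
    obtain ⟨v, hv, e2, he2, hv2⟩ := q1.w2 h b1 b1 h.bE bxZ
    rw [hZ, Subgroup.mem_bot] at he2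
    rw [he2, mul_one] at hv2
    generalize ⁅b * c, v'⁆ = x at *
    have xS : x ∈ M.S := M.Q_le xQ
    have h1 : ⁅b, x * v⁆ = 1 := by
      have e1 : ⁅b, x⁆ * x = x * ⁅b, x⁆ := Z_comm M bxZ xS
      have e2 : ⁅b, x⁆ * ⁅b, x⁆ = 1 := A_sq M (Z_le_A M bxZ)
      calc ⁅b, x * v⁆ = ⁅b, x⁆ * (x * ⁅b, v⁆) * x⁻¹ := by
            simp only [commutatorElement_def]; group
        _ = 1 := by rw [← hv2, ← e1, ← mul_assoc, e2]; group
    have h2 : x * v ∈ M.A ⊓ E :=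
      q2.w1 h b2 b2 h.bE (mul_mem xV (cj_mono g ZV hv)) (by rw [h1]; exact one_mem _)
    refine ⟨v, hv, fun e => xV1 (by rwa [e, mul_one] at h2), ?_⟩
    have : v = x⁻¹ * (x * v) := by group
    rw [this]
    exact mul_mem (inv_mem xQ) (M.A_le_Q h2.1)

end H26.LM
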