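import Mathlib
import Cfsg.Agent.H26.LM0
import Cfsg.Agent.H26.LD1

set_option autoImplicit false
set_option linter.unusedVariables false
set_option linter.unusedSectionVars false

namespace H26.LM

open Cfsg H24 H26.Gold Subgroup Matrix
open scoped commutatorElement

universe u v

variable {G : Type u} [Group G] [Finite G] {F : Type v} [Field F] [Finite F] [CharP F 2] {k m : ℕ}
  {H S E K Y Z0 M0 B R : Subgroup G} {𝓑 : Set G} {b c g t x y : G}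

namespace H6D

theorem su_rc' {φ w : Fin (k + 4) → F} (h : φ 0 = 0) (h' : w (iN k) = 0) :
    SU (rw_ φ + cl w) := (su_rw h).add (su_cl h')

theorem rw_mul_rc {ψ φ w : Fin (k + 4) → F} (h0 : ψ 0 = 0) :
    rw_ ψ * (rw_ φ + cl w) = (ψ ⬝ᵥ w) • zM F k := by
  rw [mul_add, (su_rw h0).mul_rw, zero_add, rw_mul_cl]

theorem rc_mul_cl {φ w w' : Fin (k + 4) → F} (h' : w' (iN k) = 0) :
    (rw_ φ + cl w) * cl w' = (φ ⬝ᵥ w') • zM F k := by
  rw [add_mul, (su_cl h').cl_mul, add_zero, rw_mul_cl]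

theorem smul_zM_inj {l l' : F} (h : l • zM F k = l' • zM F k) : l = l' := by
  rw [← sub_eq_zero, ← sub_smul, smul_zM_eq_zero, sub_eq_zero] at h; exact h

theorem eq_ev_N {ψ : Fin (k + 4) → F} (h : ∀ w : Fin (k + 4) → F, w (iN k) = 0 → ψ ⬝ᵥ w = 0) :
    ψ = ψ (iN k) • ev F (iN k) := by
  funext j
  by_cases hj : j = iN k
  · subst hj; simp [ev]
  · have := h (ev F j) (by simp [ev, Ne.symm hj])
    rw [dot_ev] at this
    rw [this]; simp [ev, hj]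

/-- a matrix whose rows below the first are multiples of `f` -/
theorem mulVec_of_rows {n : Mx F (k + 4)} {u f w : Fin (k + 4) → F} {l : F} (u0 : u 0 = 0)
    (h : ∀ φ : Fin (k + 4) → F, φ 0 = 0 → φ ᵥ* n = (φ ⬝ᵥ u * l) • f) :
    n *ᵥ w = (l * (f ⬝ᵥ w)) • u + (n *ᵥ w) 0 • ev F 0 := by
  funext i
  by_cases hi : i = 0
  · subst hi; simp [ev, u0]
  · have e := h (ev F i) (by simp [ev, Ne.symm hi])
    have e1 : (n *ᵥ w) i = (ev F i ᵥ* n) ⬝ᵥ w := by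
      rw [← dotProduct_mulVec, dotProduct_comm, dot_ev]
    have e2 : ev F i ⬝ᵥ u = u i := by rw [dotProduct_comm, dot_ev]
    rw [e1, e, e2, smul_dotProduct]
    simp only [Pi.add_apply, Pi.smul_apply, smul_eq_mul, ev, Pi.single_eq_of_ne hi]
    ring

variable (M : Mod G F (k + 4))

theorem comm_e {β c0 f u : Fin (k + 4) → F} {n : Mx F (k + 4)} (hβ : β 0 = 0) (hc0 : c0 (iN k) = 0)
    (f0 : f 0 = 0) (uN : u (iN k) = 0) (hn : SU n) (n2 : n * n = 0) {α p : F}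
    (h1 : β ᵥ* n = α • f) (h2 : n *ᵥ c0 = α • u + p • ev F 0) (l : F) :
    ⁅M.ι (rw_ (l • β)) * M.ι (cl (l • c0)), M.ι n⁆ =
      M.ι ((l * α) • (rw_ f + cl u) + (l * p + l * l * α * (β ⬝ᵥ u)) • zM F k) := by
  have b0 := smul_zero' l hβ
  have cN := smul_zero' l hc0
  have wN : (n *ᵥ (l • c0)) (iN k) = 0 := hn.mulVec_last _
  have r0 : ((l • β) ᵥ* n) 0 = 0 := hn.vecMul_zero _
  have e : ∀ b c v : G, ⁅b * c, v⁆ = b * ⁅c, v⁆ * b⁻¹ * ⁅b, v⁆ := fun b c v => by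
    simp only [commutatorElement_def]; group
  have s1 : SU (cl (n *ᵥ (l • c0)) + ((l • β) ⬝ᵥ (n *ᵥ (l • c0))) • zM F k) :=
    (su_cl wN).add (su_zM.smul _)
  rw [e, comm_rw M b0 hn n2, comm_cl M cN hn n2, M.conj_sq (su_rw b0) (rw_sq b0) (su_cl wN),
    (su_cl wN).mul_rw, mul_assoc (rw_ _) (cl _), (su_cl wN).mul_rw, mul_zero, add_zero, add_zero,
    rw_mul_cl, ← M.mul s1 (su_rw r0), s1.mul_rw, add_zero]
  congr 1
  rw [mulVec_smul, h2, smul_vecMul, h1, smul_dotProduct, dotProduct_smul, dotProduct_add,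
    dotProduct_smul, dotProduct_smul, dot_ev, hβ, cl_smul, cl_add, cl_smul, cl_smul, cl_ev,
    rw_smul, rw_smul]
  simp only [smul_eq_mul]
  module

end H6D

open H6D

/-! ### LD2 -/

theorem Mod.d2 (M : Mod G F (k + 4)) (hF : Big F) (h : Es H M.S E M0) (hC : M.S ⊓ C[Om E] ≤ E)
    (hb : b ∈ M.A) (hc : c ∈ M.A') (bN : b ∈ N[E]) (cN : c ∈ N[E]) (bE : b ∉ E) (cE : c ∉ E)
    (bc : b * c ∈ E) : False := by
  have hE : E ≤ M.S := h.lt.le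
  have hce := h.cent
  obtain ⟨g, hd⟩ := h.dih ⟨A_le M hb, bN⟩ bE (A_sq M hb)
  obtain ⟨g', hd'⟩ := h.dih ⟨A'_le M hc, cN⟩ cE (A'_sq M hc)
  have hg : g ∈ N[E] := hd.gH.2
  obtain ⟨hZ, v, hv, v1, vQ, cv⟩ := M.d1 hce hC hd hb hc bc
  have cb : c * b ∈ E := by
    have : c * b = (b * c)⁻¹ := by
      rw [_root_.mul_inv_rev, inv_eq_of_mul_eq_one_right (A_sq M hb),
        inv_eq_of_mul_eq_one_right (A'_sq M hc)]
    rw [this]; exact inv_mem bc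
  obtain ⟨-, v', -, -, vQ', cv'⟩ := M.flip.d1 (H := H) (E := E) (b := c) (c := b) (g := g') hce hC
    hd' (by rw [Mod.flip_A]; exact hc) (by rw [Mod.flip_A']; exact hb) cb
  rw [Mod.flip_Q] at vQ'
  rw [Mod.flip_A] at cv'
  obtain ⟨β, hβ, rfl⟩ := M.mem_A.1 hb
  obtain ⟨c0, hc0, rfl⟩ := M.mem_A'.1 hc
  obtain ⟨f, u, f0, u0, uN, rfl⟩ := M.mem_Q.1 vQ
  obtain ⟨f', u', f0', u0', uN', rfl⟩ := M.mem_Q.1 vQ'
  have sn := su_rc' f0 uN
  have sn' := su_rc' f0' uN'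
  have nO : rw_ f + cl u ∈ M.alg (Om E) := ⟨sn, cj_Z_le_Om M hE hce hg hv⟩
  have memA : ∀ φ : Fin (k + 4) → F, φ 0 = 0 → (M.ι (rw_ φ) ∈ E ↔ φ ⬝ᵥ u = 0) := by
    intro φ h0
    rw [cv _ (rw_mem M h0), M.comm_iff (su_rw h0) sn, sn.mul_rw, rw_mul_rc h0, smul_zM_eq_zero]
  have memA' : ∀ w : Fin (k + 4) → F, w (iN k) = 0 → (M.ι (cl w) ∈ E ↔ f' ⬝ᵥ w = 0) := by
    intro w h0
    rw [cv' _ (cl_mem M h0), M.comm_iff (su_cl h0) sn', sn'.cl_mul, rc_mul_cl h0, eq_comm,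
      smul_zM_eq_zero]
  have fu : f ⬝ᵥ u = 0 := by
    have := alg_Om_sq M hE hce nO
    rwa [add_mul, sn.cl_mul, add_zero, rw_mul_rc f0, smul_zM_eq_zero] at this
  have κ0 : β ⬝ᵥ u ≠ 0 := fun e => bE ((memA β hβ).2 e)
  have κ1 : f' ⬝ᵥ c0 ≠ 0 := fun e => cE ((memA' c0 hc0).2 e)
  have rel := (rc_mem_iff M hE hC hβ hc0).1 bc
  have fc : f ⬝ᵥ c0 = β ⬝ᵥ u := by
    have := rel _ nO
    rw [rw_mul_rc hβ, rc_mul_cl hc0] at this
    exact (smul_zM_inj this).symm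
  have AO : ∀ y ∈ M.A, y ∈ Om E → y ∈ M.Z := by
    intro y hy yO
    obtain ⟨ψ, ψ0, rfl⟩ := M.mem_A.1 hy
    have h1 : ψ ⬝ᵥ c0 = 0 := by
      have := rel _ ⟨su_rw ψ0, yO⟩
      rwa [(su_rw hβ).mul_rw, rw_mul_cl, eq_comm, smul_zM_eq_zero] at this
    have h2 : ∀ w : Fin (k + 4) → F, w (iN k) = 0 → f' ⬝ᵥ w = 0 → ψ ⬝ᵥ w = 0 := by
      intro w wN fw
      have e := mem_C.1 yO.2.1 _ ((memA' w wN).2 fw)
      rwa [M.comm_iff (su_cl wN) (su_rw ψ0), (su_rw ψ0).cl_mul, rw_mul_cl, eq_comm,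
        smul_zM_eq_zero] at e
    have h3 : ψ = ψ (iN k) • ev F (iN k) := eq_ev_N fun w wN => by
      have e := h2 (w - (f' ⬝ᵥ w / f' ⬝ᵥ c0) • c0) (by simp [wN, hc0]) (by
        rw [dotProduct_sub, dotProduct_smul, smul_eq_mul, div_mul_cancel₀ _ κ1, sub_self])
      rwa [dotProduct_sub, dotProduct_smul, h1, smul_zero, sub_zero] at e
    rw [h3, rw_smul, rw_ev]; exact zM_mem M _
  have q2 := qd2 M hE hg
  have b2 : M.ι (rw_ β) ∈ {t | t ∈ M.A ∧ t ∈ N[E]} := ⟨hb, bN⟩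
  have w0 := q2.w0 hd b2
  have EV1 : E ≤ N[M.A ⊓ E] := q2.EY
  have EV2 := E_norm_V2 M hE hg
  have C0 : (M.A ⊓ E) ⊓ cj g (M.A ⊓ E) = ⊥ := by
    by_contra hne
    have hn : (M.A ⊓ E) ⊓ cj g (M.A ⊓ E) ⊴ E := ⟨inf_le_left.trans inf_le_right, norm_inf EV1 EV2⟩
    have := meet_center_nil ((h.two.of_le hE).nil Nat.prime_two) hn hne
    obtain ⟨⟨y, hy⟩, y1⟩ := (Subgroup.ne_bot_iff_exists_ne_one).1 this
    have yZ : y ∈ M.Z := AO y hy.1.1.1 ⟨hy.2.1, hy.2.2, A_sq M hy.1.1.1⟩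
    have yg : y ∈ (M.A ⊓ E) ⊓ C{g} := w0 ▸ hy.1
    exact y1 (Subtype.ext (Z_C1 M hZ yZ yg.2))
  have cVV : M.A ⊓ E ≤ C[cj g (M.A ⊓ E)] :=
    cents_of_inf_eq_bot (inf_le_right.trans EV2) ((V2_le M hg).trans EV1) C0
  have ex : ∀ α : F, ∃ p : F, ∀ l : F,
      M.ι ((l * α) • (rw_ f + cl u) + (l * p + l * l * α * (β ⬝ᵥ u)) • zM F k) ∈
        cj g (M.A ⊓ E) := by
    intro α
    have a0 := smul_zero' α f0
    have hy : M.ι (rw_ (α • f)) ∈ M.A ⊓ E :=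
      ⟨rw_mem M a0, (memA _ a0).2 (by rw [smul_dotProduct, fu, smul_zero])⟩
    obtain ⟨x, hx, e1, he1, e⟩ := q2.w2 hd b2 b2 bE hy
    rw [C0, Subgroup.mem_bot] at he1
    rw [he1, mul_one] at e
    obtain ⟨n, hn, rfl⟩ := M.exists_alg ((V2_le M hg).trans hE) hx
    have n2 : n * n = 0 := (M.sq_iff hn.1).1 (V2_sq M hx)
    rw [comm_rw M hβ hn.1 n2] at e
    have e2 : β ᵥ* n = α • f := by
      have := M.inj (su_rw a0) (su_rw (hn.1.vecMul_zero β)) e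
      rw [← sub_eq_zero, sub_eq_add_neg, ← neg_one_smul F (rw_ (β ᵥ* n)), ← rw_smul, ← rw_add,
        rw_eq_zero, neg_one_smul, ← sub_eq_add_neg, sub_eq_zero] at this
      exact this.symm
    have e3 : ∀ φ : Fin (k + 4) → F, φ 0 = 0 → φ ⬝ᵥ u = 0 → φ ᵥ* n = 0 := by
      intro φ h0 h1
      have := comm_of_cent cVV ⟨rw_mem M h0, (memA φ h0).2 h1⟩ hx
      rwa [M.comm_iff (su_rw h0) hn.1, hn.1.mul_rw, rw_mul, rw_eq_zero] at this
    have e4 : ∀ φ : Fin (k + 4) → F, φ 0 = 0 → φ ᵥ* n = (φ ⬝ᵥ u * (α / β ⬝ᵥ u)) • f := by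
      intro φ h0
      have := e3 (φ - (φ ⬝ᵥ u / β ⬝ᵥ u) • β) (by simp [h0, hβ]) (by
        rw [sub_dotProduct, smul_dotProduct, smul_eq_mul, div_mul_cancel₀ _ κ0, sub_self])
      rw [sub_vecMul, smul_vecMul, e2, sub_eq_zero] at this
      rw [this, smul_smul]; congr 1; field_simp
    have e5 := mulVec_of_rows (w := c0) u0 e4
    rw [fc, div_mul_cancel₀ _ κ0] at e5
    refine ⟨(n *ᵥ c0) 0, fun l => ?_⟩
    rw [← comm_e M hβ hc0 f0 uN hn.1 n2 e2 e5 l, commutatorElement_def]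
    exact mul_mem (conj_mem (EV2 (el_mem M hE hC hβ hc0 bc l)) hx) (inv_mem hx)
  have uniq : ∀ ν ρ ρ' : F, M.ι (ν • (rw_ f + cl u) + ρ • zM F k) ∈ cj g (M.A ⊓ E) →
      M.ι (ν • (rw_ f + cl u) + ρ' • zM F k) ∈ cj g (M.A ⊓ E) → ρ = ρ' := by
    intro ν ρ ρ' h1 h2
    have s1 : SU (ν • (rw_ f + cl u) + ρ • zM F k) := (sn.smul ν).add (su_zM.smul ρ)
    have s2 : SU (ν • (rw_ f + cl u) + ρ' • zM F k) := (sn.smul ν).add (su_zM.smul ρ')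
    have h3 := mul_mem h1 h2
    have e : ν • (rw_ f + cl u) + ρ • zM F k + (ν • (rw_ f + cl u) + ρ' • zM F k) +
        (ν • (rw_ f + cl u) + ρ • zM F k) * (ν • (rw_ f + cl u) + ρ' • zM F k) =
        (ρ + ρ') • zM F k := by
      rw [add_mul, smul_mul_assoc ρ, zM_mul s2, smul_zero, add_zero, mul_add, mul_smul_comm ρ',
        mul_zM (sn.smul ν), smul_zero, add_zero, smul_mul_assoc, mul_smul_comm,
        alg_Om_sq M hE hce nO, smul_zero, smul_zero, add_zero, add_add_add_comm, add_self_mx,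
        zero_add, add_smul]
    rw [← M.mul s1 s2, e] at h3
    have h4 : M.ι ((ρ + ρ') • zM F k) ∈ (M.A ⊓ E) ⊓ cj g (M.A ⊓ E) :=
      ⟨⟨Z_le_A M (zM_mem M _), Om_le (Z_le_Om M hE hce (zM_mem M _))⟩, h3⟩
    rw [C0, Subgroup.mem_bot, M.eq_one (su_zM.smul _), smul_zM_eq_zero] at h4
    exact CharTwo.add_eq_zero.1 h4
  obtain ⟨ω, ω0, ω1⟩ := hF
  obtain ⟨p1, hp1⟩ := ex 1
  obtain ⟨p2, hp2⟩ := ex ω
  have i1 := uniq 1 _ _ (by simpa using hp1 1) (by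
    have := hp2 ω⁻¹; rwa [inv_mul_cancel₀ ω0] at this)
  have i2 := uniq ω _ _ (by simpa using hp1 ω) (by simpa using hp2 1)
  have i3 : (β ⬝ᵥ u) * (ω - 1) ^ 2 = 0 := by
    field_simp at i1
    linear_combination i2 - i1
  rcases mul_eq_zero.1 i3 with e | e
  · exact κ0 e
  · exact ω1 (sub_eq_zero.1 (pow_eq_zero_iff two_ne_zero |>.1 e))

end H26.LM
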