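import Mathlib
import Cfsg.Agent.H26.LM0
import Cfsg.Agent.H26.LC2
import Cfsg.Agent.H26.LMS

set_option autoImplicit false
set_option linter.unusedVariables false
set_option linter.unusedSectionVars false

namespace H26.LM

open Cfsg H24 H26.Gold Subgroup Matrix
open scoped commutatorElement

universe u v

variable {G : Type u} [Group G] [Finite G] {F : Type v} [Field F] [Finite F] [CharP F 2] {k m : ℕ}
  {H S E K Y Z0 M0 B R : Subgroup G} {𝓑 : Set G} {b c g t x y : G}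

namespace LE1

theorem ea_comm1 (h : EA B) (hx : x ∈ B) (hy : y ∈ B) : x * y = y * x :=
  congrArg Subtype.val (h.1.is_comm.comm (⟨x, hx⟩ : B) ⟨y, hy⟩)

theorem ea_sq1 (h : EA B) (hx : x ∈ B) : x * x = 1 := by
  have := h.2 x hx
  rwa [pow_two] at this

theorem comm_one (h : x * y = y * x) : ⁅x, y⁆ = 1 := commutatorElement_eq_one_iff_mul_comm.2 h

theorem dot_ev1 (φ : Fin m → F) (i : Fin m) : φ ⬝ᵥ ev F i = φ i := by
  simp [ev]

theorem ev_dot1 (φ : Fin m → F) (i : Fin m) : ev F i ⬝ᵥ φ = φ i := by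
  simp [ev]

theorem ev_ne1 {i j : Fin m} (h : i ≠ j) : ev F i j = 0 := by
  simp [ev, h.symm]

theorem ev_self1 (i : Fin m) : ev F i i = 1 := by simp [ev]

theorem P_ne_N : iP k ≠ iN k := by
  intro h
  have := congrArg Fin.val h
  simp at this

theorem P_ne_zero : iP k ≠ 0 := by
  intro h
  have := congrArg Fin.val h
  simp at this

theorem N_ne_zero1 : iN k ≠ 0 := by
  intro h
  have := congrArg Fin.val h
  simp at this

variable (M : Mod G F (k + 4))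

theorem AS : M.A ≤ M.S := M.R_le _
theorem A'S : M.A' ≤ M.S := M.R_le _
theorem eaA : EA M.A := M.R_ea _
theorem eaA' : EA M.A' := M.R_ea _

theorem z_mem (l : F) : M.ι (l • zM F k) ∈ M.Z := M.mem_Z.2 ⟨l, rfl⟩

theorem z_inv (l : F) : (M.ι (l • zM F k))⁻¹ = M.ι (l • zM F k) := by
  rw [inv_eq_iff_mul_eq_one]
  exact ea_sq1 (eaA M) (z_mem M l).1

theorem z_one {l : F} : M.ι (l • zM F k) = 1 ↔ l = 0 := by
  rw [M.eq_one (su_zM.smul l), smul_zM_eq_zero]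

theorem comm_cl_rw {φ w : Fin (k + 4) → F} (h : φ 0 = 0) (h' : w (iN k) = 0) :
    ⁅M.ι (cl w), M.ι (rw_ φ)⁆ = M.ι ((φ ⬝ᵥ w) • zM F k) := by
  rw [← commutatorElement_inv, M.comm_rw_cl h h', z_inv]

theorem rw_mul' {φ ψ : Fin (k + 4) → F} (h : φ 0 = 0) (h' : ψ 0 = 0) :
    M.ι (rw_ (φ + ψ)) = M.ι (rw_ φ) * M.ι (rw_ ψ) := by
  rw [← M.mul (su_rw h) (su_rw h'), (su_rw h).mul_rw, add_zero, rw_add]

theorem Om_le_A (hE : E ≤ M.S) (hA : M.A ≤ E) : Om E ≤ M.A := fun x hx =>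
  M.R_cent (i := 1) (by omega) (by omega) (mem_inf.2 ⟨hE hx.1, C_anti hA hx.2.1⟩)

theorem Z_le_Om (hE : E ≤ M.S) (hA : M.A ≤ E) : M.Z ≤ Om E := fun x hx =>
  ⟨hA hx.1, mem_C.2 fun e he => mem_C'.1 (M.Z_cent (hE he)) x hx, ea_sq1 (eaA M) hx.1⟩

theorem E_eq (hE : E ≤ M.S) (hC : M.S ⊓ C[Om E] ≤ E) : M.S ⊓ C[Om E] = E :=
  le_antisymm hC (le_inf hE fun e he => mem_C.2 fun x hx => mem_C'.1 hx.2.1 e he)

theorem hC_of (h : Es H M.S E M0) (hA : M.A ≤ E) (hA' : ¬ M.A' ≤ E) : M.S ⊓ C[Om E] ≤ E := by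
  obtain ⟨c, hc, cN, cE, c2⟩ := up h.two h.lt.le (A'S M) (h.lt.le.trans (M.R_norm _)) hA'
  obtain ⟨g, hg⟩ := h.dih (mem_inf.2 ⟨A'S M hc, cN⟩) cE (ea_sq1 (eaA' M) hc)
  exact hg.case1 h.SH (M.case2 h.cent hg (M.A'_le_Q hc))

theorem A'_le_N (hE : E ≤ M.S) (hA : M.A ≤ E) (hC : M.S ⊓ C[Om E] ≤ E) : M.A' ≤ N[E] := by
  have h1 : M.A' ≤ N[Om E] := fun a ha => mem_N_of_finite fun x hx => by
    have e : a * x * a⁻¹ = ⁅a, x⁆ * x := by rw [commutatorElement_def]; group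
    rw [e]
    exact mul_mem (Z_le_Om M hE hA (M.Q_comm (M.A'_le_Q ha) (M.A_le_Q (Om_le_A M hE hA hx)))) hx
  have := norm_inf (norm_of_le (A'S M)) (norm_C h1)
  rwa [E_eq M hE hC] at this

theorem qd1 (hE : E ≤ M.S) (hA : M.A ≤ E) (hN : M.A' ≤ N[E]) (hg : g ∈ N[E]) :
    Qd M.S E (Om E) M.Z ⊥ M.A' g where
  KE := fun x hx => hx.1
  EK := (norm_self E).trans (norm_Om E)
  gK := norm_Om E hg
  YK := Z_le_Om M hE hA
  EY := norm_of_cent (hE.trans M.Z_cent)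
  ZY := bot_le
  gZ := by rw [C_bot]; trivial
  EZ := by rw [C_bot]; exact le_top
  YY := fun y hy y' hy' => mem_bot.2 (comm_one (ea_comm1 (eaA M) hy.1 hy'.1))
  Y2 := fun y hy => mem_bot.2 (ea_sq1 (eaA M) hy.1)
  BT := fun t ht => mem_inf.2 ⟨A'S M ht, hN ht⟩
  B2 := fun t ht => by rw [ea_sq1 (eaA' M) ht]; exact one_mem _
  BZ := fun t ht => by rw [C_bot]; trivial
  BK := fun t ht x hx => M.Q_comm (M.A'_le_Q ht) (M.A_le_Q (Om_le_A M hE hA hx))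
  BY := fun t ht y hy => mem_bot.2 (comm_one (ea_comm1 (eaA' M) ht hy.2))

theorem step (h : Es H M.S E M0) (hA : M.A ≤ E) (hN : M.A' ≤ N[E]) (hc : c ∈ M.A')
    (cE : c ∉ E) : ∃ g, Dih H M.S E c g ∧ M.Z ⊓ cj g M.Z = ⊥ ∧
      ∃ φ : Fin (k + 4) → F, φ 0 = 0 ∧ M.ι (rw_ φ) ∈ Om E ∧ M.ι (rw_ φ) ∉ M.Z ∧
        ∀ w : Fin (k + 4) → F, w (iN k) = 0 → (M.ι (cl w) ∈ E ↔ φ ⬝ᵥ w = 0) := by
  have hE := h.lt.le
  obtain ⟨g, hg⟩ := h.dih (mem_inf.2 ⟨A'S M hc, hN hc⟩) cE (ea_sq1 (eaA' M) hc)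
  have q := qd1 M hE hA hN hg.gH.2
  obtain ⟨x, hx, xZ⟩ := q.w5 hg hc (M.case2 h.cent hg (M.A'_le_Q hc))
  have xO : x ∈ Om E := cj_le_of_mem_N q.YK q.gK hx
  obtain ⟨φ, φ0, rfl⟩ := M.mem_A.1 (Om_le_A M hE hA xO)
  have k1 : ∀ w : Fin (k + 4) → F, w (iN k) = 0 → M.ι (cl w) ∉ E →
      M.ι ((φ ⬝ᵥ w) • zM F k) ∉ cj g M.Z := fun w hw hwE hz =>
    xZ (q.w1 hg hc (t := M.ι (cl w)) (M.mem_A'.2 ⟨w, hw, rfl⟩) hwE hx (by
      rwa [comm_cl_rw M φ0 hw]))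
  have k2 : ∀ w : Fin (k + 4) → F, w (iN k) = 0 → (M.ι (cl w) ∈ E ↔ φ ⬝ᵥ w = 0) := fun w hw => by
    constructor
    · intro hwE
      rw [← z_one M, ← comm_cl_rw M φ0 hw]
      exact comm_one (mem_C.1 xO.2.1 _ hwE)
    · intro h0
      by_contra hwE
      apply k1 w hw hwE
      rw [h0, zero_smul, M.ι_zero]
      exact one_mem _
  refine ⟨g, hg, ?_, φ, φ0, xO, xZ, k2⟩
  rw [eq_bot_iff]
  intro y hy
  obtain ⟨l, rfl⟩ := M.mem_Z.1 hy.1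
  rw [mem_bot, z_one]
  by_contra l0
  obtain ⟨w0, hw0, rfl⟩ := M.mem_A'.1 hc
  have n0 : φ ⬝ᵥ w0 ≠ 0 := fun e => cE ((k2 w0 hw0).2 e)
  have hw : ((l / (φ ⬝ᵥ w0)) • w0) (iN k) = 0 := by simp [hw0]
  have e : φ ⬝ᵥ ((l / (φ ⬝ᵥ w0)) • w0) = l := by
    rw [dotProduct_smul, smul_eq_mul, div_mul_cancel₀ _ n0]
  apply k1 _ hw (fun hE' => l0 (e ▸ (k2 _ hw).1 hE'))
  rw [e]
  exact hy.2

/-- the elements of `Ω` -/
theorem Om_span {φ ψ : Fin (k + 4) → F}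
    (k2 : ∀ w : Fin (k + 4) → F, w (iN k) = 0 → (M.ι (cl w) ∈ E ↔ φ ⬝ᵥ w = 0))
    (ψ0 : ψ 0 = 0) (hψ : M.ι (rw_ ψ) ∈ Om E) : ∃ α β : F, ψ = α • φ + β • ev F (iN k) := by
  have : ψ ∈ Submodule.span F {φ, ev F (iN k)} := dual_mem fun w hw => by
    have h1 := hw φ (Submodule.subset_span (by simp))
    have h2 := hw (ev F (iN k)) (Submodule.subset_span (by simp))
    rw [dot_ev1] at h2
    have h3 := (k2 w h2).2 (by rwa [dotProduct_comm])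
    rw [dotProduct_comm, ← z_one M, ← comm_cl_rw M ψ0 h2]
    exact comm_one (mem_C.1 hψ.2.1 _ h3)
  obtain ⟨α, β, e⟩ := Submodule.mem_span_pair.1 this
  exact ⟨α, β, e.symm⟩

theorem mem_E (hE : E ≤ M.S) (hA : M.A ≤ E) (hC : M.S ⊓ C[Om E] ≤ E) {φ : Fin (k + 4) → F}
    (φ0 : φ 0 = 0) (hφ : M.ι (rw_ φ) ∈ Om E)
    (k2 : ∀ w : Fin (k + 4) → F, w (iN k) = 0 → (M.ι (cl w) ∈ E ↔ φ ⬝ᵥ w = 0))
    {n : Mx F (k + 4)} (hn : SU n) : M.ι n ∈ E ↔ φ ᵥ* n = 0 := by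
  constructor
  · intro h
    have := (M.comm_iff hn (su_rw φ0)).1 (mem_C.1 hφ.2.1 _ h)
    rwa [hn.mul_rw, rw_mul, eq_comm, rw_eq_zero] at this
  · intro h
    refine hC (mem_inf.2 ⟨M.memS hn, mem_C.2 fun x hx => ?_⟩)
    obtain ⟨ψ, ψ0, rfl⟩ := M.mem_A.1 (Om_le_A M hE hA hx)
    obtain ⟨α, β, e⟩ := Om_span M k2 ψ0 hx
    rw [M.comm_iff (su_rw ψ0) hn, hn.mul_rw, rw_mul, rw_eq_zero, e, add_vecMul, smul_vecMul,
      smul_vecMul, h, hn.last_vecMul]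
    simp

theorem P_vecMul {n : Mx F (k + 4)} (hn : SU n) :
    ev F (iP k) ᵥ* n = n (iP k) (iN k) • ev F (iN k) := by
  ext j
  rw [ev, single_one_vecMul]
  by_cases e : j = iN k
  · subst e; simp [ev]
  · rw [Pi.smul_apply, ev_ne1 (Ne.symm e), smul_zero]
    refine hn _ _ (Fin.le_def.2 ?_)
    have := j.2
    have : j.val ≠ k + 3 := fun t => e (Fin.ext t)
    simp only
    omega

theorem comm_P (hs : x ∈ M.S) : ⁅M.ι (rw_ (ev F (iP k))), x⁆ ∈ M.Z := by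
  obtain ⟨n, hn, rfl⟩ := (M.mem x).1 hs
  have h0 : ev F (iP k) 0 = 0 := ev_ne1 P_ne_zero
  have ha := su_rw h0
  have e := M.conj_sq ha (ha.mul_rw _) hn
  rw [hn.mul_rw, add_zero, (ha.mul hn).mul_rw, add_zero, rw_mul, P_vecMul hn, rw_smul, rw_ev] at e
  have e2 := M.mul (su_zM.smul (n (iP k) (iN k))) hn
  rw [smul_mul_assoc, ← rw_ev, rw_mul, hn.last_vecMul, rw_eq_zero.2 rfl, smul_zero, add_zero,
    add_comm _ n, rw_ev] at e2
  rw [commutatorElement_def, e, e2, mul_inv_cancel_right]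
  exact z_mem M _

theorem not_low (h : Es H M.S E M0) (hA : M.A ≤ E) (hC : M.S ⊓ C[Om E] ≤ E)
    {φ : Fin (k + 4) → F}
    (k2 : ∀ w : Fin (k + 4) → F, w (iN k) = 0 → (M.ι (cl w) ∈ E ↔ φ ⬝ᵥ w = 0))
    (j : Fin (k + 4)) (hj : j.val < k + 2) : φ j = 0 := by
  by_contra hφ
  have hE := h.lt.le
  have hN := A'_le_N M hE hA hC
  have jN : j ≠ iN k := fun e => by rw [e] at hj; simp at hj
  have jP : j ≠ iP k := fun e => by rw [e] at hj; simp at hj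
  have hw : ev F j (iN k) = 0 := ev_ne1 jN
  have hc : M.ι (cl (ev F j)) ∈ M.A' := M.mem_A'.2 ⟨_, hw, rfl⟩
  have cE : M.ι (cl (ev F j)) ∉ E := fun e => hφ (by rw [← dot_ev1 φ j]; exact (k2 _ hw).1 e)
  obtain ⟨g, hg, hZ, -⟩ := step M h hA hN hc cE
  set c := M.ι (cl (ev F j)) with hcd
  have h0 : ev F (iP k) 0 = 0 := ev_ne1 P_ne_zero
  set a := M.ι (rw_ (ev F (iP k))) with had
  have aA : a ∈ M.A := M.mem_A.2 ⟨_, h0, rfl⟩
  have aO : a ∉ Om E := fun ha => by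
    obtain ⟨α, β, e⟩ := Om_span M k2 h0 ha
    have e1 := congrFun e j
    have e2 := congrFun e (iP k)
    simp only [Pi.add_apply, Pi.smul_apply, smul_eq_mul] at e1 e2
    rw [ev_ne1 jP.symm, ev_ne1 jN.symm, mul_zero, add_zero] at e1
    rw [ev_self1, ev_ne1 P_ne_N.symm, mul_zero, add_zero,
      (mul_eq_zero.1 e1.symm).resolve_right hφ, zero_mul] at e2
    exact one_ne_zero e2
  have ca : ⁅c, a⁆ = 1 := by
    rw [hcd, had, comm_cl_rw M h0 hw, dot_ev1, ev_ne1 jP.symm, zero_smul, M.ι_zero]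
  have EO : E ≤ N[Om E] := (norm_self E).trans (norm_Om E)
  set K := E ⊓ centQ E (Om E) with hK
  have mK : ∀ x, x ∈ K ↔ x ∈ E ∧ ∀ e ∈ E, ⁅x, e⁆ ∈ Om E := fun x => by
    rw [hK, mem_inf, mem_centQ EO]
    exact ⟨fun t => ⟨t.1, t.2.2⟩, fun t => ⟨t.1, EO t.1, t.2⟩⟩
  have NK : N[E] ≤ N[K] := norm_inf le_rfl (norm_centQ le_rfl (norm_Om E))
  have KE : K ≤ E := inf_le_left
  have q : Qd M.S E K (M.A' ⊓ K) ⊥ M.A' g :=
    { KE := KE
      EK := (norm_self E).trans NK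
      gK := NK hg.gH.2
      YK := inf_le_right
      EY := norm_inf (hE.trans (M.R_norm _)) ((norm_self E).trans NK)
      ZY := bot_le
      gZ := by rw [C_bot]; trivial
      EZ := by rw [C_bot]; exact le_top
      YY := fun y hy y' hy' => mem_bot.2 (comm_one (ea_comm1 (eaA' M) hy.1 hy'.1))
      Y2 := fun y hy => mem_bot.2 (ea_sq1 (eaA' M) hy.1)
      BT := fun t ht => mem_inf.2 ⟨A'S M ht, hN ht⟩
      B2 := fun t ht => by rw [ea_sq1 (eaA' M) ht]; exact one_mem _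
      BZ := fun t ht => by rw [C_bot]; trivial
      BK := fun t ht x hx => by
        refine mem_inf.2 ⟨?_, ?_⟩
        · have e : ⁅t, x⁆ = t * (x * t⁻¹ * x⁻¹) := by rw [commutatorElement_def]; group
          rw [e]
          exact mul_mem ht (conj_mem (M.R_norm _ (hE (KE hx))) (inv_mem ht))
        · rw [commutatorElement_def]
          exact mul_mem (conj_mem (NK (hN ht)) hx) (inv_mem hx)
      BY := fun t ht y hy => mem_bot.2 (comm_one (ea_comm1 (eaA' M) ht hy.1)) }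
  have aK : a ∈ K := (mK a).2 ⟨hA aA, fun e he => Z_le_Om M hE hA (comm_P M (hE he))⟩
  obtain ⟨e0, he0, y1, hy1, y2, hy2, ea⟩ := q.w3 hg hc aK
  have w4 := q.w4 hg hc he0
  have EY' : E ≤ N[cj g (M.A' ⊓ K)] := by
    have := norm_cj q.EY g
    rwa [cj_of_mem_N hg.gH.2] at this
  have cy1 : c * y1 = y1 * c := ea_comm1 (eaA' M) hc hy1.1
  have hy2' : y2 ∈ M.A' ⊓ K := by
    refine q.w1 hg hc hc cE hy2 ?_
    have e : (e0 * y1) * ⁅c, y2⁆ * (e0 * y1)⁻¹ = ⁅c, e0⁆⁻¹ * ⁅c, a⁆ := by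
      rw [ea]
      simp only [commutatorElement_def]
      calc e0 * y1 * (c * y2 * c⁻¹ * y2⁻¹) * (e0 * y1)⁻¹
          = e0 * (y1 * c) * y2 * c⁻¹ * y2⁻¹ * y1⁻¹ * e0⁻¹ := by group
        _ = e0 * (c * y1) * y2 * c⁻¹ * y2⁻¹ * y1⁻¹ * e0⁻¹ := by rw [cy1]
        _ = _ := by group
    rw [← conj_mem_iff (EY' (mul_mem (KE he0.1) (KE hy1.2))), e, ca, mul_one]
    exact inv_mem w4.2
  have hy : y1 * y2 ∈ M.A' ⊓ K := mul_mem hy1 hy2'
  set y := y1 * y2 with hyd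
  have ea' : e0 = a * y⁻¹ := by rw [ea, hyd]; group
  have z1 : ∀ e ∈ E, ⁅e0, e⁆ ∈ M.Z := fun e he => by
    have h1 : ⁅y⁻¹, e⁆ ∈ M.Z := by
      refine mem_inf.2 ⟨Om_le_A M hE hA (((mK _).1 (inv_mem hy.2)).2 e he), ?_⟩
      have e' : ⁅y⁻¹, e⁆ = y⁻¹ * (e * y * e⁻¹) := by rw [commutatorElement_def]; group
      rw [e']
      exact mul_mem (inv_mem hy.1) (conj_mem (M.R_norm _ (hE he)) hy.1)
    have e' : ⁅e0, e⁆ = a * ⁅y⁻¹, e⁆ * a⁻¹ * ⁅a, e⁆ := by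
      rw [ea']; simp only [commutatorElement_def]; group
    rw [e']
    exact mul_mem (conj_mem (C_le_N _ (M.Z_cent (AS M aA))) h1) (comm_P M (hE he))
  have z2 : e0 ∈ C[E] := mem_C'.2 fun e he => by
    rw [← commutatorElement_eq_one_iff_mul_comm, ← mem_bot, ← hZ]
    refine mem_inf.2 ⟨z1 e he, mem_cj.2 ?_⟩
    have ge : g * e0 = e0 * g := (mem_C1.1 he0.2).symm
    have e' : g⁻¹ * ⁅e0, e⁆ * g = ⁅e0, g⁻¹ * e * g⁆ := by
      have : e0 = g⁻¹ * e0 * g := by rw [mul_assoc, ← ge]; group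
      conv_rhs => rw [this]
      simp only [commutatorElement_def]; group
    rw [e']
    exact z1 _ (conj_mem' hg.gH.2 he)
  have e0A : e0 ∈ M.A :=
    M.R_cent (i := 1) (by omega) (by omega) (mem_inf.2 ⟨hE (KE he0.1), C_anti hA z2⟩)
  have yZ : y ∈ M.Z := by
    refine mem_inf.2 ⟨?_, hy.1⟩
    have : y = e0⁻¹ * a := by rw [ea']; group
    rw [this]
    exact mul_mem (inv_mem e0A) aA
  refine aO ⟨hA aA, ?_, ea_sq1 (eaA M) aA⟩
  have : a = e0 * y := by rw [ea']; group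
  rw [this]
  exact mul_mem z2 (Z_le_Om M hE hA yZ).2.1

theorem low_form {φ : Fin (k + 4) → F} (h : ∀ j : Fin (k + 4), j.val < k + 2 → φ j = 0) :
    φ = φ (iP k) • ev F (iP k) + φ (iN k) • ev F (iN k) := by
  ext j
  simp only [Pi.add_apply, Pi.smul_apply, smul_eq_mul]
  by_cases e1 : j = iP k
  · subst e1; rw [ev_self1, ev_ne1 P_ne_N.symm]; ring
  by_cases e2 : j = iN k
  · subst e2; rw [ev_self1, ev_ne1 P_ne_N]; ring
  rw [ev_ne1 (Ne.symm e1), ev_ne1 (Ne.symm e2), h j]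
  · ring
  · have := j.2
    have h1 : j.val ≠ k + 2 := fun t => e1 (Fin.ext t)
    have h2 : j.val ≠ k + 3 := fun t => e2 (Fin.ext t)
    omega

end LE1

open LE1

/-! ### LE1 -/

theorem Mod.e1 (M : Mod G F (k + 4)) (h : Es H M.S E M0) (hA : M.A ≤ E) (hA' : ¬ M.A' ≤ E) :
    E = M.UL ∧ ∃ g ∈ H ⊓ N[E], M.Z ⊓ cj g M.Z = ⊥ ∧
      ∀ x ∈ Om E, x ∈ M.Z ∨ ∃ s ∈ M.A', s * x * s⁻¹ ∈ cj g M.Z := by
  have hE := h.lt.le
  have hC := hC_of M h hA hA'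
  have hN := A'_le_N M hE hA hC
  obtain ⟨c, hc, cE⟩ := SetLike.not_le_iff_exists.1 hA'
  obtain ⟨g, hg, hZ, φ, φ0, φO, φZ, k2⟩ := step M h hA hN hc cE
  have low := not_low M h hA hC k2
  have φf := low_form low
  have φP : φ (iP k) ≠ 0 := fun e => φZ (by
    rw [φf, e, zero_smul, zero_add, rw_smul, rw_ev]; exact z_mem M _)
  have hP : ev F (iP k) (iN k) = 0 := ev_ne1 P_ne_N
  refine ⟨?_, g, hg.gH, hZ, fun x hx => ?_⟩
  · have key : ∀ n, SU n → (M.ι n ∈ E ↔ M.ι n ∈ M.UL) := fun n hn => by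
      rw [mem_E M hE hA hC φ0 φO k2 hn, M.mem_UL hn]
      conv_lhs => rw [φf]
      rw [add_vecMul, smul_vecMul, smul_vecMul, hn.last_vecMul, smul_zero, add_zero, P_vecMul hn,
        smul_smul]
      constructor
      · intro e
        have := congrFun e (iN k)
        rw [Pi.smul_apply, ev_self1, smul_eq_mul, mul_one, Pi.zero_apply] at this
        exact (mul_eq_zero.1 this).resolve_left φP
      · intro e
        rw [e, mul_zero, zero_smul]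
    ext x
    constructor
    · intro hx
      obtain ⟨n, hn, rfl⟩ := (M.mem x).1 (hE hx)
      exact (key n hn).1 hx
    · intro hx
      obtain ⟨n, hn, rfl⟩ := (M.mem x).1 (M.U_le _ hx)
      exact (key n hn).2 hx
  · have lowO : ∀ ψ : Fin (k + 4) → F, ψ 0 = 0 → M.ι (rw_ ψ) ∈ Om E →
        ψ = ψ (iP k) • ev F (iP k) + ψ (iN k) • ev F (iN k) := fun ψ ψ0 hψ => by
      obtain ⟨α, β, e⟩ := Om_span M k2 ψ0 hψ
      refine low_form fun j hj => ?_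
      have jN : j ≠ iN k := fun e => by rw [e] at hj; simp at hj
      rw [e, Pi.add_apply, Pi.smul_apply, Pi.smul_apply, low j hj, ev_ne1 jN.symm]
      simp
    obtain ⟨ψ, ψ0, rfl⟩ := M.mem_A.1 (Om_le_A M hE hA hx)
    have ψf := lowO ψ ψ0 hx
    by_cases ψP : ψ (iP k) = 0
    · left
      rw [ψf, ψP, zero_smul, zero_add, rw_smul, rw_ev]; exact z_mem M _
    right
    have q := qd1 M hE hA hN hg.gH.2
    have tA : M.ι (cl (ev F (iP k))) ∈ M.A' := M.mem_A'.2 ⟨_, hP, rfl⟩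
    have tE : M.ι (cl (ev F (iP k))) ∉ E := fun e => φP (by
      rw [← dot_ev1 φ (iP k)]; exact (k2 _ hP).1 e)
    obtain ⟨v, hv, c', hc', e⟩ := q.w2 hg hc tA tE (z_mem M (ψ (iP k)))
    rw [hZ, mem_bot] at hc'
    have vO : v ∈ Om E := cj_le_of_mem_N q.YK q.gK hv
    obtain ⟨χ, χ0, rfl⟩ := M.mem_A.1 (Om_le_A M hE hA vO)
    rw [hc', mul_one, comm_cl_rw M χ0 hP, dot_ev1] at e
    have e1 : ψ (iP k) = χ (iP k) := by
      have := M.inj (su_zM.smul _) (su_zM.smul _) e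
      rw [← sub_eq_zero, ← sub_smul, smul_zM_eq_zero, sub_eq_zero] at this
      exact this
    have χf := lowO χ χ0 vO
    set l := (χ (iN k) - ψ (iN k)) / ψ (iP k) with hl
    have hw : (l • ev F (iP k)) (iN k) = 0 := by rw [Pi.smul_apply, hP, smul_zero]
    refine ⟨M.ι (cl (l • ev F (iP k))), M.mem_A'.2 ⟨_, hw, rfl⟩, ?_⟩
    have e2 : ∀ s y : G, s * y * s⁻¹ = ⁅s, y⁆ * y := fun s y => by
      rw [commutatorElement_def]; group
    have h0 : ((χ (iN k) - ψ (iN k)) • ev F (iN k)) 0 = 0 := by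
      rw [Pi.smul_apply, ev_ne1 N_ne_zero1, smul_zero]
    rw [e2, comm_cl_rw M ψ0 hw, dotProduct_smul, dot_ev1, smul_eq_mul, hl, div_mul_cancel₀ _ ψP,
      ← rw_ev, ← rw_smul, ← rw_mul' M h0 ψ0]
    convert hv using 3
    rw [χf, ← e1]
    conv_lhs => rw [ψf]
    simp only [Pi.add_apply, Pi.smul_apply, ev_self1, hP, ev_ne1 P_ne_N.symm, smul_eq_mul]
    module

end H26.LM
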