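import Mathlib
import Cfsg.Agent.H26.LM0
import Cfsg.Agent.H26.LC2
import Cfsg.Agent.H26.LMS

set_option autoImplicit false
set_option linter.unusedVariables false
set_option linter.unusedSectionVars false

namespace H26.LM

open Cfsg H24 H26.Gold Subgroup Matrix
open scoped commutatorElement

universe u v

variable {G : Type u} [Group G] [Finite G] {F : Type v} [Field F] [Finite F] [CharP F 2] {k m : ℕ}
  {H S E K Y Z0 M0 B R : Subgroup G} {𝓑 : Set G} {b c g t x y : G}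

/-! ### LE2 -/

namespace E2

theorem exists_eps (P O : Mx F m → Prop) (su : ∀ a, P a → SU a)
    (mul : ∀ a b, P a → P b → P (a * b)) (h0 : ∃ e, P e ∧ ∃ n, O n ∧ e * n ≠ 0) :
    ∃ e, P e ∧ (∃ n, O n ∧ e * n ≠ 0) ∧ (∀ e', P e' → ∀ n, O n → e' * e * n = 0) ∧
      ∀ e', P e' → ∀ n, O n → e * e' * n = 0 := by
  by_contra hcon
  have key : ∀ j : ℕ, ∃ l : List (Mx F m), l.length = j + 1 ∧ (∀ a ∈ l, P a) ∧ P l.prod ∧
      ∃ n, O n ∧ l.prod * n ≠ 0 := by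
    intro j
    induction j with
    | zero =>
      obtain ⟨e, he, hn⟩ := h0
      exact ⟨[e], rfl, by simpa using he, by simpa using he, by simpa using hn⟩
    | succ j ih =>
      obtain ⟨l, hl, hP, hp, hn⟩ := ih
      by_cases h1 : ∀ e', P e' → ∀ n, O n → e' * l.prod * n = 0
      · by_cases h2 : ∀ e', P e' → ∀ n, O n → l.prod * e' * n = 0
        · exact (hcon ⟨_, hp, hn, h1, h2⟩).elim
        · push Not at h2
          obtain ⟨e', he', n, hO, hne⟩ := h2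
          refine ⟨l ++ [e'], by simp [hl], ?_, ?_, n, hO, by simpa using hne⟩
          · intro a ha
            rcases List.mem_append.1 ha with ha | ha
            · exact hP a ha
            · rw [List.mem_singleton.1 ha]; exact he'
          · simpa using mul _ _ hp he'
      · push Not at h1
        obtain ⟨e', he', n, hO, hne⟩ := h1
        refine ⟨e' :: l, by simp [hl], ?_, ?_, n, hO, by simpa using hne⟩
        · intro a ha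
          rcases List.mem_cons.1 ha with ha | ha
          · rw [ha]; exact he'
          · exact hP a ha
        · simpa using mul _ _ he' hp
  obtain ⟨l, hl, hP, -, n, -, hn⟩ := key m
  rw [su_prod (fun a ha => su a (hP a ha)) (by omega) (by omega), zero_mul] at hn
  exact hn rfl

theorem exists_sec (W : Submodule F (Fin m → F)) :
    ∃ s : W → (Fin m → F), ∀ a a', (∀ r ∈ W, (s a + s a') ⬝ᵥ r = 0) → a = a' := by
  let e := (Module.finBasis F W).toDualEquiv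
  have ex : ∀ ψ : Module.Dual F W, ∃ φ : Fin m → F, ∀ r : W, φ ⬝ᵥ (r : Fin m → F) = ψ r := by
    intro ψ
    obtain ⟨ψ', hψ⟩ := LinearMap.exists_extend ψ
    refine ⟨fun i => ψ' (Pi.single i 1), fun r => ?_⟩
    have e1 : ψ r = ψ' r := by rw [← hψ]; rfl
    rw [e1, LinearMap.pi_apply_eq_sum_univ ψ' (r : Fin m → F)]
    unfold dotProduct
    refine Finset.sum_congr rfl fun i _ => ?_
    rw [smul_eq_mul, mul_comm]
    have e2 : (Pi.single i 1 : Fin m → F) = fun j => if i = j then 1 else 0 := by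
      ext j
      simp [Pi.single_apply, eq_comm]
    simp only [e2]
  choose σ hσ using ex
  refine ⟨fun a => σ (e a), fun a a' h => e.injective ?_⟩
  ext r
  have := h r r.2
  rw [add_dotProduct, hσ, hσ] at this
  exact (CharTwo.add_eq_zero).1 this

theorem comm_mul (b c x : G) : ⁅b * c, x⁆ = b * ⁅c, x⁆ * b⁻¹ * ⁅b, x⁆ := by
  simp only [commutatorElement_def]; group

end E2

open E2 in
theorem Mod.e2 (M : Mod G F (k + 4)) (h : Es H M.S E M0) (hC : M.S ⊓ C[Om E] ≤ E)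
    (h0 : ∃ e ∈ M.alg E, ∃ n ∈ M.alg (Om E), e * n ≠ 0) :
    ∃ b ∈ M.A, ∃ c ∈ M.A', b ∈ N[E] ∧ c ∈ N[E] ∧ b ∉ E ∧ c ∉ E ∧ b * c ∈ E := by
  have hE : E ≤ M.S := h.lt.le
  have hc := h.cent
  obtain ⟨ε, hε, ⟨n0, hn0, hne⟩, l1, l2⟩ := exists_eps (fun a => a ∈ M.alg E)
    (fun n => n ∈ M.alg (Om E)) (fun a ha => ha.1) (fun a b ha hb => by
      rw [M.mem_algE hE hC] at ha hb ⊢
      refine ⟨ha.1.mul hb.1, fun n hn => ?_⟩
      rw [mul_assoc, hb.2 n hn, ← mul_assoc, ha.2 n hn, mul_assoc]) h0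
  obtain ⟨𝒪, h𝒪⟩ := M.exists_subOm hE hc
  have sε : SU ε := hε.1
  have oe : ∀ n ∈ M.alg (Om E), ∀ e ∈ M.alg E, e * n = n * e := fun n hn =>
    ((M.mem_algOm hE hc).1 hn).2.2
  have o2 : ∀ n ∈ M.alg (Om E), n * n = 0 := fun n hn => ((M.mem_algOm hE hc).1 hn).2.1
  -- the elements `b φ`, `c w`
  have sb : ∀ φ : Fin (k + 4) → F, SU (rw_ (φ ᵥ* ε)) := fun φ => su_rw (sε.vecMul_zero φ)
  have sc : ∀ w : Fin (k + 4) → F, SU (cl (ε *ᵥ w)) := fun w => su_cl (sε.mulVec_last w)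
  have b2 : ∀ φ : Fin (k + 4) → F, rw_ (φ ᵥ* ε) * rw_ (φ ᵥ* ε) = 0 := fun φ => (sb φ).mul_rw _
  have c2 : ∀ w : Fin (k + 4) → F, cl (ε *ᵥ w) * cl (ε *ᵥ w) = 0 := fun w => (sc w).cl_mul _
  have bn : ∀ φ : Fin (k + 4) → F, ∀ n ∈ M.alg (Om E), rw_ (φ ᵥ* ε) * n ∈ M.alg (Om E) := by
    intro φ n hn
    rw [M.mem_algOm hE hc]
    refine ⟨(sb φ).mul hn.1, ?_, fun e he => ?_⟩
    · rw [rw_mul, SU.mul_rw]
      exact su_rw (hn.1.vecMul_zero _)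
    · rw [rw_mul, he.1.mul_rw, rw_mul, vecMul_vecMul, vecMul_vecMul, ← oe n hn e he, ← mul_assoc,
        l2 e he n hn, vecMul_zero, eq_comm, rw_eq_zero]
  have nc : ∀ w : Fin (k + 4) → F, ∀ n ∈ M.alg (Om E), n * cl (ε *ᵥ w) ∈ M.alg (Om E) := by
    intro w n hn
    rw [M.mem_algOm hE hc]
    refine ⟨hn.1.mul (sc w), ?_, fun e he => ?_⟩
    · rw [mul_cl, SU.cl_mul]
      exact su_cl (hn.1.mulVec_last _)
    · rw [mul_cl, he.1.cl_mul, mul_cl, mulVec_mulVec, mulVec_mulVec, mul_assoc, ← oe n hn ε hε,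
        ← mul_assoc, l1 e he n hn, zero_mulVec, cl_eq_zero]
  have bN : ∀ φ : Fin (k + 4) → F, M.ι (rw_ (φ ᵥ* ε)) ∈ N[E] := fun φ =>
    M.mem_N_of hE hC (sb φ) (b2 φ) fun n hn => by
      rw [mul_assoc, hn.1.mul_rw, mul_zero, add_zero, add_zero, ← h𝒪]
      exact add_mem ((h𝒪 _).2 hn) ((h𝒪 _).2 (bn φ n hn))
  have cN : ∀ w : Fin (k + 4) → F, M.ι (cl (ε *ᵥ w)) ∈ N[E] := fun w =>
    M.mem_N_of hE hC (sc w) (c2 w) fun n hn => by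
      rw [hn.1.cl_mul, zero_mul, add_zero, zero_add, ← h𝒪]
      exact add_mem ((h𝒪 _).2 hn) ((h𝒪 _).2 (nc w n hn))
  have bA : ∀ φ : Fin (k + 4) → F, M.ι (rw_ (φ ᵥ* ε)) ∈ M.A := fun φ =>
    M.mem_A.2 ⟨_, sε.vecMul_zero φ, rfl⟩
  have cA : ∀ w : Fin (k + 4) → F, M.ι (cl (ε *ᵥ w)) ∈ M.A' := fun w =>
    M.mem_A'.2 ⟨_, sε.mulVec_last w, rfl⟩
  have cb : ∀ φ : Fin (k + 4) → F, ∀ n ∈ M.alg (Om E),
      ⁅M.ι (rw_ (φ ᵥ* ε)), M.ι n⁆ = M.ι (rw_ (φ ᵥ* ε) * n) := by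
    intro φ n hn
    rw [M.comm_sq (sb φ) (b2 φ) hn.1 (o2 n hn), mul_assoc _ n (rw_ _), hn.1.mul_rw, mul_zero,
      add_zero, add_zero, mul_assoc, o2 n hn, mul_zero, add_zero]
  have cc : ∀ w : Fin (k + 4) → F, ∀ n ∈ M.alg (Om E),
      ⁅M.ι (cl (ε *ᵥ w)), M.ι n⁆ = M.ι (n * cl (ε *ᵥ w)) := by
    intro w n hn
    rw [M.comm_sq (sc w) (c2 w) hn.1 (o2 n hn), hn.1.cl_mul, zero_mul, add_zero, zero_add,
      mul_assoc, hn.1.cl_mul, mul_zero, add_zero]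
  have OS : Om E ≤ M.S := fun x hx => hE hx.1
  let D : Set G := {t | (∃ φ, t = M.ι (rw_ (φ ᵥ* ε))) ∨ ∃ w, t = M.ι (cl (ε *ᵥ w))}
  let Y : Subgroup G := Om E ⊓ centralizer D
  let 𝓑 : Set G := {t | ∃ φ w, t = M.ι (rw_ (φ ᵥ* ε)) * M.ι (cl (ε *ᵥ w))}
  have bY : ∀ φ : Fin (k + 4) → F, ∀ n ∈ M.alg (Om E), M.ι (rw_ (φ ᵥ* ε) * n) ∈ Y := by
    intro φ n hn
    have s1 : SU (rw_ (φ ᵥ* ε) * n) := (sb φ).mul hn.1
    refine ⟨(bn φ n hn).2, mem_centralizer_iff.2 ?_⟩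
    rintro _ (⟨φ', rfl⟩ | ⟨w, rfl⟩)
    · rw [M.comm_iff (sb φ') s1, s1.mul_rw, rw_mul (φ ᵥ* ε), (sb φ').mul_rw]
    · rw [M.comm_iff (sc w) s1, s1.cl_mul, rw_mul, rw_mul_cl, vecMul_vecMul, dotProduct_mulVec,
        vecMul_vecMul, mul_assoc, ← oe n hn ε hε, ← mul_assoc, l1 ε hε n hn, vecMul_zero,
        zero_dotProduct, zero_smul]
  have cY : ∀ w : Fin (k + 4) → F, ∀ n ∈ M.alg (Om E), M.ι (n * cl (ε *ᵥ w)) ∈ Y := by
    intro w n hn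
    have s1 : SU (n * cl (ε *ᵥ w)) := hn.1.mul (sc w)
    refine ⟨(nc w n hn).2, mem_centralizer_iff.2 ?_⟩
    rintro _ (⟨φ', rfl⟩ | ⟨w', rfl⟩)
    · rw [M.comm_iff (sb φ') s1, s1.mul_rw, mul_cl, rw_mul_cl, mulVec_mulVec, dotProduct_mulVec,
        vecMul_vecMul, ← oe n hn ε hε, ← mul_assoc, l1 ε hε n hn, vecMul_zero,
        zero_dotProduct, zero_smul]
    · rw [M.comm_iff (sc w') s1, s1.cl_mul, mul_cl n, (sc w').cl_mul]
  have Yb : ∀ φ : Fin (k + 4) → F, ∀ y ∈ Y, M.ι (rw_ (φ ᵥ* ε)) * y = y * M.ι (rw_ (φ ᵥ* ε)) :=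
    fun φ y hy => mem_centralizer_iff.1 hy.2 _ (Or.inl ⟨φ, rfl⟩)
  have Yc : ∀ w : Fin (k + 4) → F, ∀ y ∈ Y, M.ι (cl (ε *ᵥ w)) * y = y * M.ι (cl (ε *ᵥ w)) :=
    fun w y hy => mem_centralizer_iff.1 hy.2 _ (Or.inr ⟨w, rfl⟩)
  have cbc : ∀ φ w : Fin (k + 4) → F, ∀ n ∈ M.alg (Om E),
      ⁅M.ι (rw_ (φ ᵥ* ε)) * M.ι (cl (ε *ᵥ w)), M.ι n⁆ =
        M.ι (n * cl (ε *ᵥ w)) * M.ι (rw_ (φ ᵥ* ε) * n) := by
    intro φ w n hn
    rw [comm_mul, cb φ n hn, cc w n hn, Yb φ _ (cY w n hn), mul_inv_cancel_right]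
  have bB : ∀ φ : Fin (k + 4) → F, M.ι (rw_ (φ ᵥ* ε)) ∈ 𝓑 := fun φ =>
    ⟨φ, 0, by rw [mulVec_zero, cl_eq_zero.2 rfl, M.ι_zero, mul_one]⟩
  have cB : ∀ w : Fin (k + 4) → F, M.ι (cl (ε *ᵥ w)) ∈ 𝓑 := fun w =>
    ⟨0, w, by rw [zero_vecMul, rw_eq_zero.2 rfl, M.ι_zero, one_mul]⟩
  have bE : ∀ φ : Fin (k + 4) → F, M.ι (rw_ (φ ᵥ* ε)) ∈ E →
      ∀ n ∈ M.alg (Om E), φ ᵥ* (ε * n) = 0 := by
    intro φ hφ n hn
    have := oe n hn _ ⟨sb φ, hφ⟩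
    rwa [hn.1.mul_rw, rw_mul, rw_eq_zero, vecMul_vecMul] at this
  have cE : ∀ w : Fin (k + 4) → F, M.ι (cl (ε *ᵥ w)) ∈ E →
      ∀ n ∈ M.alg (Om E), (ε * n) *ᵥ w = 0 := by
    intro w hw n hn
    have := oe n hn _ ⟨sc w, hw⟩
    rwa [hn.1.cl_mul, mul_cl, eq_comm, cl_eq_zero, mulVec_mulVec, ← oe n hn ε hε] at this
  obtain ⟨φ1, hφ1⟩ : ∃ φ1 : Fin (k + 4) → F, φ1 ᵥ* (ε * n0) ≠ 0 := by
    by_contra hh
    push Not at hh
    apply hne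
    ext i j
    simpa using congrFun (hh (Pi.single i 1)) j
  obtain ⟨w1, hw1⟩ : ∃ w1 : Fin (k + 4) → F, (ε * n0) *ᵥ w1 ≠ 0 := by
    by_contra hh
    push Not at hh
    apply hne
    ext i j
    simpa using congrFun (hh (Pi.single j 1)) i
  have b1E : M.ι (rw_ (φ1 ᵥ* ε)) ∉ E := fun t => hφ1 (bE _ t n0 hn0)
  have c1E : M.ι (cl (ε *ᵥ w1)) ∉ E := fun t => hw1 (cE _ t n0 hn0)
  obtain ⟨g, hd⟩ := h.dih ⟨M.memS (sb φ1), bN φ1⟩ b1E ((M.sq_iff (sb φ1)).2 (b2 φ1))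
  have hg : g ∉ C[Om E] := M.case2 hc hd (M.A_le_Q (bA φ1))
  have ZE : M.Z ≤ E := fun z hz => hc ⟨M.R_le 1 hz.1, centsC.1 (hE.trans M.Z_cent) hz⟩
  have EO : E ≤ C[Om E] := centsC.1 fun x hx => hx.2.1
  have gO : g ∈ N[Om E] := norm_Om E hd.gH.2
  have q : Qd M.S E (Om E) Y ⊥ 𝓑 g :=
    { KE := fun x hx => hx.1
      EK := norm_of_cent EO
      gK := gO
      YK := inf_le_left
      EY := norm_of_cent (EO.trans (C_anti inf_le_left))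
      ZY := bot_le
      gZ := by rw [C_bot]; trivial
      EZ := by rw [C_bot]; exact le_top
      YY := fun y hy y' hy' => by
        rw [mem_bot, commutatorElement_eq_one_iff_mul_comm]
        exact (mem_C.1 hy.1.2.1 y' hy'.1.1).symm
      Y2 := fun y hy => by rw [hy.1.2.2]; exact one_mem _
      BT := by
        rintro _ ⟨φ, w, rfl⟩
        exact mul_mem ⟨M.memS (sb φ), bN φ⟩ ⟨M.memS (sc w), cN w⟩
      B2 := by
        rintro _ ⟨φ, w, rfl⟩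
        exact ZE (M.Q_sq (mul_mem (M.A_le_Q (bA φ)) (M.A'_le_Q (cA w))))
      BZ := fun t _ => by rw [C_bot]; trivial
      BK := by
        rintro _ ⟨φ, w, rfl⟩ x hx
        obtain ⟨n, hn, rfl⟩ := M.exists_alg OS hx
        rw [cbc φ w n hn]
        exact mul_mem (cY w n hn) (bY φ n hn)
      BY := by
        rintro _ ⟨φ, w, rfl⟩ y hy
        rw [mem_bot, commutatorElement_eq_one_iff_mul_comm, mul_assoc, Yc w y hy, ← mul_assoc,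
          Yb φ y hy, mul_assoc] }
  obtain ⟨x, hx, xY⟩ := q.w5 hd (bB φ1) hg
  have gY : cj g Y ≤ Om E := cj_le_of_mem_N inf_le_left gO
  obtain ⟨n, hn, rfl⟩ := M.exists_alg OS (gY hx)
  let L : Mx F (k + 4) →ₗ[F] (Fin (k + 4) → F) :=
    { toFun := fun a => a *ᵥ (ε *ᵥ w1)
      map_add' := fun a b => add_mulVec _ _ _
      map_smul' := fun c a => smul_mulVec _ _ _ }
  let W : Submodule F (Fin (k + 4) → F) := 𝒪.map L
  obtain ⟨s, hs⟩ := exists_sec W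
  have ex : ∀ a : W, ∃ r : W, ∃ c ∈ Y ⊓ cj g Y,
      M.ι (rw_ (s a ᵥ* ε) * n) = M.ι (cl (r : Fin (k + 4) → F)) * c := by
    intro a
    obtain ⟨x', hx', c, hc', e⟩ := q.w2 hd (bB φ1) (cB w1) c1E (bY (s a) n hn)
    obtain ⟨n', hn', rfl⟩ := M.exists_alg OS (gY hx')
    refine ⟨⟨L n', n', (h𝒪 _).2 hn', rfl⟩, c, hc', ?_⟩
    rw [e, cc w1 n' hn', mul_cl]
    rfl
  choose r c hcm hr using ex
  have WY : ∀ r : W, M.ι (cl (r : Fin (k + 4) → F)) ∈ Y := by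
    rintro ⟨_, n', hn', rfl⟩
    have := cY w1 n' ((h𝒪 _).1 hn')
    rwa [mul_cl] at this
  have trick : ∀ u ∈ Y, ∀ c1 ∈ Y, ∀ c2 ∈ Y, u * c1 * (u * c2) = c1 * c2 := by
    intro u hu c1 h1 c2 h2
    have e1 : c1 * u = u * c1 := mem_C.1 hu.1.2.1 c1 h1.1.1
    calc u * c1 * (u * c2) = u * (c1 * u) * c2 := by group
      _ = u * u * c1 * c2 := by rw [e1]; group
      _ = c1 * c2 := by rw [hu.1.2.2, one_mul]
  have inj : Function.Injective r := by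
    intro a a' e
    refine hs a a' ?_
    have m1 : ⁅M.ι (rw_ ((s a + s a') ᵥ* ε)), M.ι n⁆ ∈ cj g Y := by
      have s1 : SU (rw_ (s a ᵥ* ε) * n) := (sb _).mul hn.1
      have s2 : SU (rw_ (s a' ᵥ* ε) * n) := (sb _).mul hn.1
      have e0 : rw_ ((s a + s a') ᵥ* ε) * n = rw_ (s a ᵥ* ε) * n + rw_ (s a' ᵥ* ε) * n +
          rw_ (s a ᵥ* ε) * n * (rw_ (s a' ᵥ* ε) * n) := by
        rw [rw_mul (s a' ᵥ* ε), s1.mul_rw, add_zero, add_vecMul, rw_add, add_mul, rw_mul (s a' ᵥ* ε)]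
      rw [cb _ n hn, e0, M.mul s1 s2, hr, hr, e, trick _ (WY _) _ (hcm a).1 _ (hcm a').1]
      exact mul_mem (hcm a).2 (hcm a').2
    have m2 : M.ι (rw_ ((s a + s a') ᵥ* ε)) ∈ E := by
      by_contra t
      exact xY (q.w1 hd (bB φ1) (bB _) t hx m1)
    rintro _ ⟨n', hn', rfl⟩
    have hn'' := (h𝒪 _).1 hn'
    show (s a + s a') ⬝ᵥ (n' *ᵥ (ε *ᵥ w1)) = 0
    rw [mulVec_mulVec, ← oe n' hn'' ε hε, dotProduct_mulVec, bE _ m2 n' hn'', zero_dotProduct]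
  obtain ⟨a, ha⟩ := Finite.injective_iff_surjective.1 inj ⟨L n, n, (h𝒪 _).2 hn, rfl⟩
  have m1 : ⁅M.ι (rw_ (s a ᵥ* ε)) * M.ι (cl (ε *ᵥ w1)), M.ι n⁆ ∈ cj g Y := by
    have e1 : M.ι (n * cl (ε *ᵥ w1)) = M.ι (cl (r a : Fin (k + 4) → F)) := by
      rw [ha, mul_cl]; rfl
    have := trick _ (WY (r a)) 1 (one_mem _) _ (hcm a).1
    rw [mul_one, one_mul] at this
    rw [cbc _ _ n hn, hr, e1, this]
    exact (hcm a).2
  have m2 : M.ι (rw_ (s a ᵥ* ε)) * M.ι (cl (ε *ᵥ w1)) ∈ E := by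
    by_contra t
    exact xY (q.w1 hd (bB φ1) ⟨_, _, rfl⟩ t hx m1)
  refine ⟨_, bA (s a), _, cA w1, bN _, cN _, fun t => c1E ?_, c1E, m2⟩
  simpa using mul_mem (inv_mem t) m2

end H26.LM
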