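import Mathlib
import Cfsg.Agent.H26.LM0
import Cfsg.Agent.H26.LMS
import Cfsg.Agent.H26.LMD

set_option autoImplicit false
set_option linter.unusedVariables false
set_option linter.unusedSectionVars false

namespace H26.LM

open Cfsg H24 H26.Gold Subgroup Matrix
open scoped commutatorElement

universe u v

variable {G : Type u} [Group G] [Finite G] {F : Type v} [Field F] [Finite F] [CharP F 2] {k m : ℕ}
  {H S E K Y Z0 M0 B R : Subgroup G} {𝓑 : Set G} {b c g t x y : G}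

/-! ### LE3 -/

theorem Mod.e3 (M : Mod G F (k + 4)) (h : Es H M.S E M0) (hC : M.S ⊓ C[Om E] ≤ E)
    (wc : WC M.S M.A) (hA : ¬ M.A ≤ E) (hA' : ¬ M.A' ≤ E)
    (h0 : ∀ e ∈ M.alg E, ∀ n ∈ M.alg (Om E), e * n = 0) : False := by
  have hE := h.lt.le
  have mO := fun n => M.mem_algOm (n := n) hE h.cent
  obtain ⟨𝒪, h𝒪⟩ := M.exists_subOm hE h.cent
  have h1 : ∀ e ∈ M.alg E, ∀ n ∈ M.alg (Om E), n * e = 0 := fun e he n hn => by
    rw [← ((mO n).1 hn).2.2 e he, h0 e he n hn]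
  have colO : ∀ n ∈ M.alg (Om E), ∀ w, cl (n *ᵥ w) ∈ M.alg (Om E) := fun n hn w => by
    have s := su_cl (hn.1.mulVec_last w)
    refine (mO _).2 ⟨s, s.cl_mul _, fun e he => ?_⟩
    rw [he.1.cl_mul, mul_cl, mulVec_mulVec, h0 e he n hn, zero_mulVec, cl_eq_zero]
  have rowO : ∀ n ∈ M.alg (Om E), ∀ φ, rw_ (φ ᵥ* n) ∈ M.alg (Om E) := fun n hn φ => by
    have s := su_rw (hn.1.vecMul_zero φ)
    refine (mO _).2 ⟨s, s.mul_rw _, fun e he => ?_⟩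
    rw [he.1.mul_rw, rw_mul, vecMul_vecMul, h1 e he n hn, vecMul_zero, eq_comm, rw_eq_zero]
  obtain ⟨b, hb, bN, bE, -, bz⟩ := up_cent M.two hE M.A_le (inf_le_left.trans M.A_norm) hA
  obtain ⟨c, hc, cN, cE, c2, cz⟩ := up_cent M.two hE M.A'_le (inf_le_left.trans M.A'_norm) hA'
  have AT : M.A ≤ M.S ⊓ N[E] := fun a ha => mem_inf.2 ⟨M.A_le ha, by
    obtain ⟨φ, hφ, rfl⟩ := M.mem_A.1 ha
    have s := su_rw hφ
    refine M.mem_N_of hE hC s (s.mul_rw _) fun n hn => ?_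
    rw [hn.1.mul_rw, (s.mul hn.1).mul_rw, add_zero, add_zero, rw_mul]
    exact (h𝒪 _).1 (add_mem ((h𝒪 _).2 hn) ((h𝒪 _).2 (rowO n hn φ)))⟩
  obtain ⟨x, -, xT, hx⟩ := h.burn (AT hb) bE (Mod.ea_sq (M.R_ea _) hb) (mem_inf.2 ⟨M.A'_le hc, cN⟩) cE c2
    bz cz
  have e : cj x M.A = M.A :=
    wc x ((cj_mono x AT).trans ((cj_of_mem_N xT).le.trans inf_le_left))
  have hb1 : (x * b * x⁻¹)⁻¹ ∈ M.A := inv_mem (e ▸ mem_cj'.2 ⟨b, hb, rfl⟩)
  generalize (x * b * x⁻¹)⁻¹ = b1 at hx hb1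
  obtain ⟨β, hβ, rfl⟩ := M.mem_A.1 hb1
  obtain ⟨w, hw, rfl⟩ := M.mem_A'.1 hc
  have sb := su_rw hβ
  have sc := su_cl hw
  refine cE ((mul_mem_cancel_left ?_).1 hx)
  refine ((M.mem_algE hE hC).2 ⟨sb, fun n hn => ?_⟩).2
  rw [hn.1.mul_rw, rw_mul, rw_eq_zero]
  ext j
  have h2 := h0 _ ⟨sb.circ sc, (M.mul sb sc).symm ▸ hx⟩ _ (colO n hn (ev F j))
  have s := su_cl (hn.1.mulVec_last (ev F j))
  rw [add_mul, add_mul, s.cl_mul, mul_assoc, s.cl_mul, mul_zero, add_zero, add_zero, rw_mul_cl,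
    smul_zM_eq_zero, dotProduct_mulVec, dot_ev] at h2
  exact h2

end H26.LM
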