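import Mathlib
import Cfsg.Agent.H26.LM0
import Cfsg.Agent.H26.LMS

set_option autoImplicit false
set_option linter.unusedVariables false
set_option linter.unusedSectionVars false

namespace H26.LM

open Cfsg H24 H26.Gold Subgroup Matrix
open scoped commutatorElement

universe u v

variable {G : Type u} [Group G] [Finite G] {F : Type v} [Field F] [Finite F] [CharP F 2] {k m : ℕ}
  {H S E K Y Z0 M0 B R : Subgroup G} {𝓑 : Set G} {b c g t x y : G}

/-! ### LK1 -/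

namespace K1

/-- the matrix with row `1` equal to `φ` -/
def e1 (φ : Fin (k + 4) → F) : Mx F (k + 4) := vecMulVec (ev F 1) φ

theorem e1_apply (φ : Fin (k + 4) → F) (i j : Fin (k + 4)) :
    e1 φ i j = if i = 1 then φ j else 0 := by
  simp [e1, vecMulVec_apply, ev_apply]

theorem zo : (0 : Fin (k + 4)) ≠ 1 := fun e => by simpa using congrArg Fin.val e
theorem P1 : iP k ≠ 1 := fun e => by simpa using congrArg Fin.val e
theorem P0 : iP k ≠ 0 := fun e => by simpa using congrArg Fin.val e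
theorem N1 : iN k ≠ 1 := fun e => by simpa using congrArg Fin.val e
theorem NP : iN k ≠ iP k := fun e => by simpa using congrArg Fin.val e

theorem e1_su {φ : Fin (k + 4) → F} (h0 : φ 0 = 0) (h1 : φ 1 = 0) : SU (e1 φ) := fun i j h => by
  rw [e1_apply]
  split_ifs with e
  · subst e
    have : j = 0 ∨ j = 1 := by
      have := Fin.le_def.1 h
      simp only [Fin.val_one] at this
      rcases Nat.le_one_iff_eq_zero_or_eq_one.1 this with t | t
      · exact .inl (Fin.ext t)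
      · exact .inr (Fin.ext t)
    rcases this with rfl | rfl
    · exact h0
    · exact h1
  · rfl

theorem col1 {n : Mx F (k + 4)} (h : SU n) : n *ᵥ ev F 1 = n 0 1 • ev F 0 := by
  rw [mulVec_ev]; ext i
  by_cases e : i = 0
  · subst e; simp [ev_self]
  · rw [Pi.smul_apply, ev_ne e, smul_zero]
    refine h i 1 (Fin.le_def.2 ?_)
    have : i.val ≠ 0 := fun t => e (Fin.ext t)
    simp only [Fin.val_one]; omega

theorem mul_e1 {n : Mx F (k + 4)} (h : SU n) (φ : Fin (k + 4) → F) :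
    n * e1 φ = n 0 1 • rw_ φ := by
  rw [e1, mul_vecMulVec, col1 h, smul_vecMulVec]; rfl

theorem e1_mul (φ : Fin (k + 4) → F) (n : Mx F (k + 4)) : e1 φ * n = e1 (φ ᵥ* n) :=
  vecMulVec_mul _ _ _

theorem e1_add (φ ψ : Fin (k + 4) → F) : e1 (φ + ψ) = e1 φ + e1 ψ := vecMulVec_add _ _ _
theorem e1_smul (l : F) (φ : Fin (k + 4) → F) : e1 (l • φ) = l • e1 φ := vecMulVec_smul _ _ _
theorem e1_zero : e1 (0 : Fin (k + 4) → F) = 0 := vecMulVec_zero _
theorem rw_zero : rw_ (0 : Fin (k + 4) → F) = 0 := rw_eq_zero.2 rfl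

theorem vm1 {n : Mx F (k + 4)} (h : SU n) {φ : Fin (k + 4) → F} (h0 : φ 0 = 0) : (φ ᵥ* n) 1 = 0 := by
  rw [← dot_ev 1 (φ ᵥ* n), ← dotProduct_mulVec, col1 h, dotProduct_smul, dot_ev, h0, smul_zero]

theorem e1_sq {φ : Fin (k + 4) → F} (h0 : φ 0 = 0) (h1 : φ 1 = 0) : e1 φ * e1 φ = 0 := by
  rw [mul_e1 (e1_su h0 h1), e1_apply, if_neg zo, zero_smul]

theorem e1_UL (M : Mod G F (k + 4)) {φ : Fin (k + 4) → F} (h0 : φ 0 = 0) (h1 : φ 1 = 0) :
    M.ι (e1 φ) ∈ M.UL := (M.mem_UL (e1_su h0 h1)).2 (by rw [e1_apply, if_neg P1])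

theorem A_UL (M : Mod G F (k + 4)) : M.A ≤ M.UL := fun x hx => by
  obtain ⟨φ, h0, rfl⟩ := M.mem_A.1 hx
  exact (M.mem_UL (su_rw h0)).2 (by rw [rw_apply, if_neg P0])

/-- vectors supported in the last two coordinates -/
def lst (a b : F) : Fin (k + 4) → F := a • ev F (iP k) + b • ev F (iN k)

theorem lst0 (a b : F) : lst (k := k) a b 0 = 0 := by
  simp [lst, ev_ne P0.symm, ev_ne N_ne_zero.symm]
theorem lst1 (a b : F) : lst (k := k) a b 1 = 0 := by
  simp [lst, ev_ne P1.symm, ev_ne N1.symm]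
theorem lstP (a b : F) : lst (k := k) a b (iP k) = a := by simp [lst, ev_self, ev_ne NP.symm]
theorem lstN (a b : F) : lst (k := k) a b (iN k) = b := by simp [lst, ev_self, ev_ne NP]

theorem lst_mul (M : Mod G F (k + 4)) {n : Mx F (k + 4)} (h : SU n) (hn : M.ι n ∈ M.UL) (a b : F) :
    lst a b ᵥ* n = 0 := by
  rw [lst, add_vecMul, smul_vecMul, smul_vecMul, h.last_vecMul, smul_zero, add_zero, ev_vecMul]
  have : n (iP k) = 0 := by
    ext c
    by_cases e : c = iN k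
    · rw [e]; exact (M.mem_UL h).1 hn
    · refine h _ _ (Fin.le_def.2 ?_)
      have : c.val ≠ k + 3 := fun t => e (Fin.ext t)
      have := c.2
      simp only; omega
  rw [this, smul_zero]

theorem lst_Om (M : Mod G F (k + 4)) (a b : F) : M.ι (rw_ (lst a b)) ∈ Om M.UL := by
  rw [M.Om_UL]
  refine ⟨M.mem_A.2 ⟨_, lst0 a b, rfl⟩, (M.rw_mem_R (lst0 a b) (by omega)).2 fun j hj => ?_⟩
  have e1 : j ≠ iP k := fun t => by rw [t] at hj; simp at hj
  have e2 : j ≠ iN k := fun t => by rw [t] at hj; simp at hj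
  simp [lst, ev_ne e1, ev_ne e2]

theorem ea_cj (h : EA B) (g : G) : EA (cj g B) := by
  refine ⟨Abl.cj h.1 g, fun b hb => ?_⟩
  obtain ⟨y, hy, rfl⟩ := mem_cj'.1 hb
  rw [conj_pow, h.2 y hy]; group

/-- an element of `A` whose commutators with `UL` are in `Ω` has three coordinates -/
theorem three (M : Mod G F (k + 4)) (hx : x ∈ M.A) (h : ∀ e ∈ M.UL, ⁅e, x⁆ ∈ Om M.UL) :
    ∃ u : F × F × F, x = M.ι (rw_ (u.1 • ev F ⟨k + 1, by omega⟩ + lst u.2.1 u.2.2)) := by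
  obtain ⟨φ, h0, rfl⟩ := M.mem_A.1 hx
  refine ⟨(φ ⟨k + 1, by omega⟩, φ (iP k), φ (iN k)), congrArg (fun ψ => M.ι (rw_ ψ)) ?_⟩
  ext j
  by_cases c1 : j = ⟨k + 1, by omega⟩
  · subst c1
    have e1 : (⟨k + 1, by omega⟩ : Fin (k + 4)) ≠ iP k := fun t => by simp at t
    have e2 : (⟨k + 1, by omega⟩ : Fin (k + 4)) ≠ iN k := fun t => by
      simpa using congrArg Fin.val t
    simp [lst, ev_ne e1, ev_ne e2, ev_self]
  by_cases c2 : j = iP k
  · subst c2; rw [Pi.add_apply, Pi.smul_apply, ev_ne c1, smul_zero, zero_add, lstP]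
  by_cases c3 : j = iN k
  · subst c3; rw [Pi.add_apply, Pi.smul_apply, ev_ne c1, smul_zero, zero_add, lstN]
  have hj : j.val < k + 1 := by
    have := j.2
    have : j.val ≠ k + 1 := fun t => c1 (Fin.ext t)
    have : j.val ≠ k + 2 := fun t => c2 (Fin.ext t)
    have : j.val ≠ k + 3 := fun t => c3 (Fin.ext t)
    omega
  have : φ j = 0 := by
    set a : Mx F (k + 4) := vecMulVec (ev F j) (ev F ⟨k + 1, by omega⟩) with ha
    have sa : SU a := su_vmv (k + 1) (fun i hi => ev_ne fun t => by rw [t] at hi; omega)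
      (fun i hi => ev_ne fun t => by rw [t] at hi; simp at hi)
    have a2 : a * a = 0 := by rw [ha, vmv_mul_vmv, ev_dot, ev_ne (Ne.symm c1), zero_smul]
    have aU : M.ι a ∈ M.UL := (M.mem_UL sa).2 (by rw [ha, vecMulVec_apply, ev_ne (Ne.symm c2), zero_mul])
    have := h _ aU
    rw [M.comm_sq sa a2 (su_rw h0) ((su_rw h0).mul_rw _), sa.mul_rw, zero_mul, zero_add, add_zero,
      ((su_rw h0).mul sa).mul_rw, add_zero, rw_mul, M.Om_UL] at this
    have := (M.rw_mem_R (sa.vecMul_zero φ) (by omega)).1 this.2 ⟨k + 1, by omega⟩ (by simp)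
    rwa [ha, vecMul_vecMulVec, dot_ev, Pi.smul_apply, ev_self, smul_eq_mul, mul_one] at this
  simp [lst, ev_ne c1, ev_ne c2, ev_ne c3, this]

theorem exists_alpha (M : Mod G F (k + 4)) {h : G} (hh : h ∈ N[M.UL]) :
    ∃ n ∈ M.alg (cj h M.A), n 0 1 ≠ 0 := by
  by_contra hn
  push Not at hn
  have hE : cj h M.A ≤ M.UL := cj_le_of_mem_N (A_UL M) hh
  have hS : cj h M.A ≤ M.S := hE.trans (M.U_le _)
  have hc := M.cj_cent hS
  let f : (F × F) × F × F → Mx F (k + 4) := fun v => rw_ (lst v.1.1 v.1.2) + e1 (lst v.2.1 v.2.2)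
  have su : ∀ v, SU (f v) := fun v => (su_rw (lst0 _ _)).add (e1_su (lst0 _ _) (lst1 _ _))
  have fm : ∀ v n, SU n → M.ι n ∈ M.UL → f v * n = 0 := fun v n h1 h2 => by
    simp only [f]
    rw [add_mul, rw_mul, e1_mul, lst_mul M h1 h2, lst_mul M h1 h2, rw_zero, e1_zero, add_zero]
  have mf : ∀ v n, SU n → n * f v = n 0 1 • rw_ (lst v.2.1 v.2.2) := fun v n h1 => by
    simp only [f]
    rw [mul_add, h1.mul_rw, zero_add, mul_e1 h1]
  have fB : ∀ v, f v ∈ M.alg (cj h M.A) := fun v => M.alg_max hS hc (su v) fun n h1 => by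
    rw [fm v n h1.1 (hE h1.2), mf v n h1.1, hn n h1, zero_smul]
  have hO : cj h⁻¹ (Om M.UL) = Om M.UL := by
    have e := cj_of_mem_N (inv_mem hh)
    refine cj_of_mem_N (mem_N_of_cj_le fun y hy => ?_)
    obtain ⟨x, hx, rfl⟩ := mem_cj'.1 hy
    refine ⟨e ▸ conj_mem_cj _ hx.1, ?_, by rw [conj_mul, hx.2.2]; group⟩
    have := conj_mem_cj h⁻¹ hx.2.1
    rwa [cj_C, e] at this
  have key : ∀ v, ∃ u : F × F × F, h⁻¹ * M.ι (f v) * h⁻¹⁻¹ =
      M.ι (rw_ (u.1 • ev F ⟨k + 1, by omega⟩ + lst u.2.1 u.2.2)) := fun v => by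
    refine three M (by rw [inv_inv]; exact mem_cj.1 (fB v).2) fun e he => ?_
    have he' : h * e * h⁻¹ ∈ M.UL := (mem_normalizer_iff.1 hh e).1 he
    obtain ⟨a, sa, ea⟩ := (M.mem _).1 (M.U_le _ he')
    obtain ⟨a', sa', e1, -, -, e2⟩ := M.exists_inv sa
    have c : ⁅h * e * h⁻¹, M.ι (f v)⁆ ∈ Om M.UL := by
      have f2 : f v * f v = 0 := fm v _ (su v) (hE (fB v).2)
      have t : (1 + a) * f v * (1 + a') = a 0 1 • rw_ (lst v.2.1 v.2.2) + f v := by
        rw [mul_assoc, mul_add, mul_one, fm v a' sa' (e1 ▸ inv_mem (ea ▸ he')), add_zero, add_mul,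
          one_mul, mf v a sa, add_comm (f v)]
      have s0 : SU (a 0 1 • rw_ (lst (k := k) v.2.1 v.2.2)) := (su_rw (lst0 _ _)).smul _
      have t2 : M.ι (a 0 1 • rw_ (lst v.2.1 v.2.2) + f v) =
          M.ι (a 0 1 • rw_ (lst v.2.1 v.2.2)) * M.ι (f v) := by
        rw [← M.mul s0 (su v), smul_mul_assoc, rw_mul, lst_mul M (su v) (hE (fB v).2), rw_zero,
          smul_zero, add_zero]
      rw [commutatorElement_def, ← ea, (e2 _ (su v)).2, t, t2, mul_inv_cancel_right, ← rw_smul]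
      have : a 0 1 • lst (k := k) v.2.1 v.2.2 = lst (a 0 1 * v.2.1) (a 0 1 * v.2.2) := by
        simp [lst, smul_add, smul_smul]
      rw [this]; exact lst_Om M _ _
    have := conj_mem_cj h⁻¹ c
    rw [hO] at this
    convert this using 1
    simp only [commutatorElement_def]; group
  choose u hu using key
  have inj : Function.Injective u := fun v w e => by
    have e' : M.ι (f v) = M.ι (f w) := by
      have := (hu v).trans (e ▸ (hu w).symm)
      simpa using this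
    have e2 := M.inj (su v) (su w) e'
    have r0 := fun j => congrFun (congrFun e2 0) j
    have r1 := fun j => congrFun (congrFun e2 1) j
    simp only [f, Matrix.add_apply, rw_apply, e1_apply, if_true, if_neg zo, if_neg zo.symm, add_zero,
      zero_add] at r0 r1
    have p1 := r0 (iP k); have p2 := r0 (iN k); have p3 := r1 (iP k); have p4 := r1 (iN k)
    rw [lstP, lstP] at p1 p3
    rw [lstN, lstN] at p2 p4
    exact Prod.ext (Prod.ext p1 p2) (Prod.ext p3 p4)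
  have := Nat.card_le_card_of_injective u inj
  simp only [Nat.card_prod] at this
  have q : 1 < Nat.card F := Finite.one_lt_card
  have q2 : 0 < Nat.card F * (Nat.card F * Nat.card F) := by positivity
  nlinarith

end K1

open K1 in
theorem Mod.k1a (M : Mod G F (k + 4)) (hF : Big F) : N[M.UL] ≤ N[M.A] := by
  intro h hh
  have hE : cj h M.A ≤ M.UL := cj_le_of_mem_N (A_UL M) hh
  have hS : cj h M.A ≤ M.S := hE.trans (M.U_le _)
  have hN : M.UL ≤ N[cj h M.A] := by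
    have := norm_cj ((M.U_le (k + 2)).trans M.A_norm) h
    rwa [show cj h (M.U (k + 2)) = M.UL from cj_of_mem_N hh] at this
  have hB : EA (cj h M.A) := K1.ea_cj (M.R_ea 1) h
  have hc := M.cj_cent hS
  obtain ⟨𝒜, h1, -, -⟩ := M.exists_sub hB hS hc
  have su : ∀ n ∈ 𝒜, SU n := fun n hn => ((h1 n).1 hn).1
  have cm : ∀ n ∈ 𝒜, ∀ a ∈ 𝒜, n * a = a * n := fun n hn a ha =>
    M.alg_comm hB ((h1 n).1 hn) ((h1 a).1 ha)
  have sq : ∀ n ∈ 𝒜, n * n = 0 := fun n hn => M.alg_sq hB ((h1 n).1 hn)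
  obtain ⟨n0, hn0, a0⟩ : ∃ n ∈ 𝒜, n 0 1 = 1 := by
    obtain ⟨n, hn, a⟩ := exists_alpha M hh
    exact ⟨(n 0 1)⁻¹ • n, 𝒜.smul_mem _ ((h1 n).2 hn), by
      rw [Matrix.smul_apply, smul_eq_mul, inv_mul_cancel₀ a]⟩
  have s2 : ∀ ψ, e1 ψ ∈ 𝒜 → ψ = 0 := fun ψ hψ => by
    have := cm _ hn0 _ hψ
    rw [mul_e1 (su _ hn0), a0, one_smul, e1_mul] at this
    ext j
    have := congrFun (congrFun this 0) j
    rwa [rw_apply, if_pos rfl, e1_apply, if_neg zo] at this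
  have dl : ∀ φ : Fin (k + 4) → F, φ 0 = 0 → φ 1 = 0 → ∀ n, SU n →
      e1 φ * n + n * e1 φ + e1 φ * n * e1 φ = e1 (φ ᵥ* n) + n 0 1 • rw_ φ := fun φ h0 h1' n sn => by
    rw [mul_e1 ((e1_su h0 h1').mul sn), e1_mul, e1_apply, if_neg zo, zero_smul, add_zero, mul_e1 sn]
  have s3 : ∀ φ : Fin (k + 4) → F, φ 0 = 0 → φ 1 = 0 → ∀ n ∈ 𝒜,
      e1 (φ ᵥ* n) + n 0 1 • rw_ φ ∈ 𝒜 := fun φ h0 h1' n hn => by
    have hn' := (h1 n).1 hn
    have e : M.ι (e1 φ) * M.ι n * (M.ι (e1 φ))⁻¹ ∈ cj h M.A :=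
      (mem_normalizer_iff.1 (hN (e1_UL M h0 h1')) _).1 hn'.2
    rw [M.conj_sq (e1_su h0 h1') (e1_sq h0 h1') hn'.1, dl φ h0 h1' n hn'.1] at e
    have s := (e1_su (hn'.1.vecMul_zero φ) (vm1 hn'.1 h0)).add ((su_rw h0).smul (n 0 1))
    have := 𝒜.sub_mem ((h1 _).2 ⟨hn'.1.add s, e⟩) hn
    rwa [add_sub_cancel_left] at this
  have s4 : ∀ φ : Fin (k + 4) → F, φ 0 = 0 → φ 1 = 0 → ∀ n ∈ 𝒜,
      φ ᵥ* n = n 0 1 • (φ ᵥ* n0) := fun φ h0 h1' n hn => by
    have := s3 φ h0 h1' _ (𝒜.sub_mem hn (𝒜.smul_mem (n 0 1) hn0))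
    rw [Matrix.sub_apply, Matrix.smul_apply, a0, smul_eq_mul, mul_one, sub_self, zero_smul,
      add_zero] at this
    have := s2 _ this
    rwa [vecMul_sub, vecMul_smul, sub_eq_zero] at this
  by_cases hcase : ∀ φ : Fin (k + 4) → F, φ 0 = 0 → φ 1 = 0 → φ ᵥ* n0 = 0
  · have r2 : ∀ n ∈ 𝒜, ∀ a, a ≠ 0 → a ≠ 1 → n a = 0 := fun n hn a e0 e1' => by
      rw [← ev_vecMul n a, s4 _ (ev_ne e0.symm) (ev_ne e1'.symm) n hn,
        hcase _ (ev_ne e0.symm) (ev_ne e1'.symm), smul_zero]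
    have r1 : ∀ n ∈ 𝒜, n 0 1 ≠ 0 → n 1 = 0 := fun n hn e => by
      ext c
      have := congrFun (congrFun (sq n hn) 0) c
      rw [mul_apply, Finset.sum_eq_single 1 (fun b _ hb => ?_) (by simp)] at this
      · exact (mul_eq_zero.1 this).resolve_left e
      · by_cases b0 : b = 0
        · rw [b0, su n hn 0 0 le_rfl, zero_mul]
        · rw [r2 n hn b b0 hb, Pi.zero_apply, mul_zero]
    have r1' : ∀ n ∈ 𝒜, n 1 = 0 := fun n hn => by
      by_cases e : n 0 1 = 0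
      · have := r1 _ (𝒜.add_mem hn hn0) (by rw [Matrix.add_apply, e, a0, zero_add]; exact one_ne_zero)
        have t := r1 _ hn0 (by rw [a0]; exact one_ne_zero)
        ext c
        have := congrFun this c
        rwa [Matrix.add_apply, t, Pi.zero_apply, add_zero] at this
      · exact r1 n hn e
    refine mem_N_of_cj_le fun x hx => ?_
    obtain ⟨n, hn, rfl⟩ := M.exists_alg hS hx
    have hn' := (h1 n).2 hn
    refine M.mem_A.2 ⟨n 0, hn.1 0 0 le_rfl, congrArg M.ι ?_⟩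
    ext a c
    rw [rw_apply]
    split_ifs with e
    · rw [e]
    · by_cases e' : a = 1
      · rw [e', r1' n hn', Pi.zero_apply]
      · rw [r2 n hn' a e e', Pi.zero_apply]
  exfalso
  push Not at hcase
  obtain ⟨φ, p0, p1, hψ⟩ := hcase
  set ψ := φ ᵥ* n0 with eψ
  have q0 : ψ 0 = 0 := (su _ hn0).vecMul_zero φ
  have q1 : ψ 1 = 0 := vm1 (su _ hn0) p0
  have q2 : ∀ n ∈ 𝒜, ψ ᵥ* n = 0 := fun n hn => by
    rw [s4 ψ q0 q1 n hn, eψ, vecMul_vecMul, sq _ hn0, vecMul_zero, smul_zero]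
  have x0 : ∀ τ σ : F, (τ • φ + σ • ψ) 0 = 0 := fun τ σ => by simp [p0, q0]
  have x1 : ∀ τ σ : F, (τ • φ + σ • ψ) 1 = 0 := fun τ σ => by simp [p1, q1]
  have cc : ∀ τ σ : F, ∀ n ∈ 𝒜, ⁅M.ι (e1 (τ • φ + σ • ψ)), M.ι n⁆ =
      M.ι ((n 0 1 * τ) • (e1 ψ + rw_ φ) + (n 0 1 * σ + n 0 1 ^ 2 * τ) • rw_ ψ) := fun τ σ n hn => by
    rw [M.comm_sq (e1_su (x0 τ σ) (x1 τ σ)) (e1_sq (x0 τ σ) (x1 τ σ)) (su n hn) (sq n hn),
      dl _ (x0 τ σ) (x1 τ σ) n (su n hn)]
    congr 1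
    have t : (τ • φ + σ • ψ) ᵥ* n = (n 0 1 * τ) • ψ := by
      rw [add_vecMul, smul_vecMul, smul_vecMul, q2 n hn, smul_zero, add_zero, s4 φ p0 p1 n hn,
        smul_smul, mul_comm]
    rw [add_mul, e1_mul, smul_mul_assoc, rw_mul, t, smul_vecMul, q2 n hn, smul_zero, e1_zero,
      zero_add, e1_smul, rw_add, rw_smul, rw_smul, rw_smul]
    module
  refine M.fine hF hS (n₁ := e1 ψ + rw_ φ) (z₀ := rw_ ψ) ((e1_su q0 q1).add (su_rw p0)) (su_rw q0)
    (fun α β e => ?_) (fun τ σ => M.ι (e1 (τ • φ + σ • ψ)))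
    (fun τ σ => ⟨M.memS (e1_su (x0 τ σ) (x1 τ σ)), hN (e1_UL M (x0 τ σ) (x1 τ σ))⟩) fun τ σ => ?_
  · have ha : α = 0 := by
      by_contra ha
      refine hψ (funext fun j => ?_)
      have := congrFun (congrFun e 1) j
      simpa [rw_apply, e1_apply, zo.symm, ha] using this
    rw [ha, zero_smul, zero_add, ← rw_smul, rw_eq_zero] at e
    exact ⟨ha, (smul_eq_zero.1 e).resolve_right hψ⟩
  · ext y
    constructor
    · rintro ⟨b, hb, rfl⟩
      obtain ⟨n, hn, rfl⟩ := M.exists_alg hS hb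
      exact ⟨n 0 1, cc τ σ n ((h1 n).2 hn)⟩
    · rintro ⟨α, rfl⟩
      refine ⟨M.ι (α • n0), ((h1 _).1 (𝒜.smul_mem α hn0)).2, ?_⟩
      rw [cc τ σ _ (𝒜.smul_mem α hn0), Matrix.smul_apply, a0, smul_eq_mul, mul_one]

end H26.LM
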