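import Mathlib
import Cfsg.Agent.H26.LM0
import Cfsg.Agent.H26.LMS

set_option autoImplicit false
set_option linter.unusedVariables false
set_option linter.unusedSectionVars false

namespace H26.LM

open Cfsg H24 H26.Gold Subgroup Matrix
open scoped commutatorElement

universe u v

variable {G : Type u} [Group G] [Finite G] {F : Type v} [Field F] [Finite F] [CharP F 2] {k m : ℕ}
  {H S E K Y Z0 M0 B R : Subgroup G} {𝓑 : Set G} {b c g t x y : G}

/-! ### LK2 -/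

namespace K2

/-- matrices of `Q` -/
def QS (F : Type v) [Field F] (k : ℕ) : Submodule F (Mx F (k + 4)) where
  carrier := {n | SU n ∧ ∀ a b, a ≠ 0 → b ≠ iN k → n a b = 0}
  zero_mem' := ⟨SU.zero, fun _ _ _ _ => rfl⟩
  add_mem' := fun {x y} hx hy => ⟨hx.1.add hy.1, fun a b ha hb => by
    rw [Matrix.add_apply, hx.2 a b ha hb, hy.2 a b ha hb, add_zero]⟩
  smul_mem' := fun c {x} hx => ⟨hx.1.smul c, fun a b ha hb => by
    rw [Matrix.smul_apply, hx.2 a b ha hb, smul_zero]⟩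

theorem mem_QS {n : Mx F (k + 4)} :
    n ∈ QS F k ↔ SU n ∧ ∀ a b, a ≠ 0 → b ≠ iN k → n a b = 0 := Iff.rfl

theorem rw_QS {φ : Fin (k + 4) → F} (h : φ 0 = 0) : rw_ φ ∈ QS F k :=
  ⟨su_rw h, fun a b ha hb => by simp [rw_, ev, vecMulVec_apply, ha]⟩

theorem cl_QS {w : Fin (k + 4) → F} (h : w (iN k) = 0) : cl w ∈ QS F k :=
  ⟨su_cl h, fun a b ha hb => by simp [cl, ev, vecMulVec_apply, hb]⟩

theorem QS_mul {x y : Mx F (k + 4)} (hx : x ∈ QS F k) (hy : y ∈ QS F k) (a c : Fin (k + 4))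
    (h : a ≠ 0 ∨ c ≠ iN k) : (x * y) a c = 0 := by
  rw [mul_apply]
  refine Finset.sum_eq_zero fun b _ => ?_
  by_cases b0 : b = 0
  · rw [hx.1 a b (b0 ▸ Fin.zero_le _), zero_mul]
  by_cases bN : b = iN k
  · rw [hy.1 b c (bN ▸ Fin.le_last _), mul_zero]
  rcases h with h | h
  · rw [hx.2 a b h bN, zero_mul]
  · rw [hy.2 b c b0 h, mul_zero]

theorem memQ (M : Mod G F (k + 4)) {n : Mx F (k + 4)} (h : n ∈ QS F k) : M.ι n ∈ M.Q := by
  refine (M.mem_pat h.1).2 fun a b hab => h.2 a b (fun e => hab (.inl ?_)) (fun e => hab (.inr ?_))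
  · rw [e]; rfl
  · rw [e]; rfl

theorem rank_of {𝒜 : Submodule F (Mx F m)} {j : ℕ} (h : Nat.card 𝒜 = Nat.card F ^ j) :
    Module.finrank F 𝒜 = j := by
  rw [Module.natCard_eq_pow_finrank (K := F)] at h
  exact Nat.pow_right_injective Finite.one_lt_card h

theorem ea_cj (h : EA B) (g : G) : EA (cj g B) := by
  refine ⟨Abl.cj h.1 g, fun b hb => ?_⟩
  obtain ⟨y, hy, rfl⟩ := mem_cj'.1 hb
  rw [conj_pow, h.2 y hy]; group

theorem rankQ (M : Mod G F (k + 4)) : 2 * k + 5 ≤ Module.finrank F (QS F k) := by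
  obtain ⟨𝒜, h1, -, c1⟩ := M.exists_sub (B := M.A) (M.R_ea 1) (M.R_le 1)
    (M.R_cent (by omega) (by omega))
  obtain ⟨𝒞, h2, -, c2⟩ := M.exists_sub (B := M.A') (M.R_ea _) (M.R_le _)
    (M.R_cent (by omega) (by omega))
  have r1 := rank_of (c1.trans M.cardA)
  have r2 := rank_of (c2.trans (by simpa using M.flip.cardA))
  have l1 : 𝒜 ≤ QS F k := fun n hn => by
    obtain ⟨hs, hm⟩ := (h1 n).1 hn
    obtain ⟨φ, h0, e⟩ := M.mem_A.1 hm
    rw [← M.inj (su_rw h0) hs e]; exact rw_QS h0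
  have l2 : 𝒞 ≤ QS F k := fun n hn => by
    obtain ⟨hs, hm⟩ := (h2 n).1 hn
    obtain ⟨φ, h0, e⟩ := M.mem_A'.1 hm
    rw [← M.inj (su_cl h0) hs e]; exact cl_QS h0
  have l3 : 𝒜 ⊓ 𝒞 ≤ F ∙ zM F k := fun n hn => by
    obtain ⟨hs, hm⟩ := (h1 n).1 hn.1
    obtain ⟨l, e⟩ := M.mem_Z.1 ⟨hm, ((h2 n).1 hn.2).2⟩
    rw [← M.inj (su_zM.smul l) hs e]
    exact Submodule.smul_mem _ _ (Submodule.mem_span_singleton_self _)
  have a1 := Submodule.finrank_sup_add_finrank_inf_eq 𝒜 𝒞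
  have a2 := Submodule.finrank_mono (sup_le l1 l2)
  have a3 := (Submodule.finrank_mono l3).trans (finrank_span_le_card (R := F) {zM F k})
  simp only [Set.toFinset_singleton, Finset.card_singleton] at a3
  omega

theorem zM_ne : zM F k 0 (iN k) = 1 := by simp [zM, ev, vecMulVec_apply]

theorem zM_mul {n : Mx F (k + 4)} (h : SU n) : zM F k * n = 0 := by
  rw [← cl_ev]; exact h.cl_mul _
theorem mul_zM {n : Mx F (k + 4)} (h : SU n) : n * zM F k = 0 := by
  rw [← rw_ev]; exact h.mul_rw _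

/-- a self-centralizing subspace of `alg Q` is large -/
theorem big (M : Mod G F (k + 4)) {𝒜 : Submodule F (Mx F (k + 4))} (hz : zM F k ∈ 𝒜)
    (hQ : 𝒜 ≤ QS F k) (hc : ∀ x ∈ QS F k, (∀ y ∈ 𝒜, x * y = y * x) → x ∈ 𝒜) :
    k + 3 ≤ Module.finrank F 𝒜 := by
  let β : Mx F (k + 4) →ₗ[F] Mx F (k + 4) →ₗ[F] F :=
    LinearMap.mk₂ F (fun x y => (x * y - y * x) 0 (iN k))
      (fun x x' y => by simp [add_mul, mul_add]; ring)
      (fun c x y => by simp [mul_sub])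
      (fun x y y' => by simp [add_mul, mul_add]; ring)
      (fun c x y => by simp [mul_sub])
  let f : QS F k →ₗ[F] Module.Dual F 𝒜 := β.domRestrict₁₂ (QS F k) 𝒜
  have hf : ∀ x y, f x y = ((x : Mx F (k + 4)) * y - y * x) 0 (iN k) := fun x y => rfl
  have r1 : LinearMap.range f ≠ ⊤ := fun e => by
    let ε : Module.Dual F 𝒜 :=
      { toFun := fun y => (y : Mx F (k + 4)) 0 (iN k)
        map_add' := fun _ _ => rfl
        map_smul' := fun _ _ => rfl }
    obtain ⟨x, hx⟩ : ε ∈ LinearMap.range f := e ▸ Submodule.mem_top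
    have : f x ⟨_, hz⟩ = zM F k 0 (iN k) := congrArg (fun φ : Module.Dual F 𝒜 => φ ⟨_, hz⟩) hx
    rw [hf, zM_ne] at this
    simp only [zM_mul x.2.1, mul_zM x.2.1] at this
    simp at this
  have r2 := Submodule.finrank_lt r1
  rw [Subspace.dual_finrank_eq] at r2
  have r3 : (LinearMap.ker f).map (QS F k).subtype ≤ 𝒜 := by
    rintro _ ⟨x, hx, rfl⟩
    refine hc _ x.2 fun y hy => ?_
    ext a c
    by_cases h : a ≠ 0 ∨ c ≠ iN k
    · exact (QS_mul x.2 (hQ hy) a c h).trans (QS_mul (hQ hy) x.2 a c h).symm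
    · push Not at h
      have := congrArg (fun φ : Module.Dual F 𝒜 => φ ⟨_, hy⟩) (LinearMap.mem_ker.1 hx)
      simp only [hf, LinearMap.zero_apply, Matrix.sub_apply] at this
      rw [h.1, h.2]; exact sub_eq_zero.1 this
  have r4 := Submodule.finrank_mono r3
  rw [Submodule.finrank_map_subtype_eq] at r4
  have r5 := f.finrank_range_add_finrank_ker
  have r6 := rankQ M
  omega

theorem row_eq {n : Mx F m} {a : Fin m} (h : ev F a ᵥ* n = 0) (c : Fin m) : n a c = 0 := by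
  have := congrFun h c
  simpa [ev] using this

theorem col_eq {n : Mx F m} {c : Fin m} (h : n *ᵥ ev F c = 0) (a : Fin m) : n a c = 0 := by
  have := congrFun h a
  simpa [ev] using this

theorem ev_ne {a c : Fin m} (h : a ≠ c) : ev F a c = 0 := by simp [ev, h.symm]

theorem le_Q (M : Mod G F (k + 4)) (hS : cj g M.A ≤ M.S) (hN : M.Q ≤ N[cj g M.A]) :
    cj g M.A ≤ M.Q := by
  have hB : EA (cj g M.A) := ea_cj (M.R_ea 1) g
  have hc := M.cj_cent hS
  obtain ⟨𝒜, h1, -, c1⟩ := M.exists_sub hB hS hc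
  have r1 := rank_of (c1.trans ((card_cj _ _).trans M.cardA))
  have su : ∀ n ∈ 𝒜, SU n := fun n hn => ((h1 n).1 hn).1
  have cm : ∀ n ∈ 𝒜, ∀ a ∈ 𝒜, n * a = a * n := fun n hn a ha =>
    M.alg_comm hB ((h1 n).1 hn) ((h1 a).1 ha)
  have mx : ∀ a, SU a → (∀ n ∈ 𝒜, a * n = n * a) → a ∈ 𝒜 := fun a ha h =>
    (h1 a).2 (M.alg_max hS hc ha fun n hn => h n ((h1 n).2 hn))
  have cjm : ∀ a ∈ QS F k, a * a = 0 → ∀ n ∈ 𝒜, a * n + n * a + a * n * a ∈ 𝒜 := fun a ha a2 n hn => by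
    have hn' := (h1 n).1 hn
    have e : M.ι a * M.ι n * (M.ι a)⁻¹ ∈ cj g M.A :=
      (mem_normalizer_iff.1 (hN (memQ M ha)) _).1 hn'.2
    rw [M.conj_sq ha.1 a2 hn'.1] at e
    have s := ((ha.1.mul hn'.1).add (hn'.1.mul ha.1)).add ((ha.1.mul hn'.1).mul ha.1)
    have := 𝒜.sub_mem ((h1 _).2 ⟨hn'.1.add s, e⟩) hn
    rwa [add_sub_cancel_left] at this
  have hr : ∀ n ∈ 𝒜, ∀ φ : Fin (k + 4) → F, φ 0 = 0 → rw_ (φ ᵥ* n) ∈ 𝒜 := fun n hn φ h0 => by
    have := cjm _ (rw_QS h0) ((su_rw h0).mul_rw φ) n hn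
    rwa [(su n hn).mul_rw, ((su_rw h0).mul (su n hn)).mul_rw, add_zero, add_zero, rw_mul] at this
  have hl : ∀ n ∈ 𝒜, ∀ w : Fin (k + 4) → F, w (iN k) = 0 → cl (n *ᵥ w) ∈ 𝒜 := fun n hn w h0 => by
    have := cjm _ (cl_QS h0) ((su_cl h0).cl_mul w) n hn
    rwa [(su n hn).cl_mul, zero_mul, zero_add, add_zero, mul_cl] at this
  -- something commuting with all rows and columns
  have k1 : ∀ n ∈ 𝒜, ∀ x, SU x → ∀ a, a ≠ 0 →
      rw_ (ev F a ᵥ* n) * x = x * rw_ (ev F a ᵥ* n) → ∀ c, (n * x) a c = 0 :=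
    fun n hn x hx a ha e => by
      rw [hx.mul_rw, rw_mul, rw_eq_zero, vecMul_vecMul] at e
      exact row_eq e
  have k2 : ∀ n ∈ 𝒜, ∀ x, SU x → ∀ c, c ≠ iN k →
      x * cl (n *ᵥ ev F c) = cl (n *ᵥ ev F c) * x → ∀ a, (x * n) a c = 0 :=
    fun n hn x hx c hc e => by
      rw [hx.cl_mul, mul_cl, cl_eq_zero, mulVec_mulVec] at e
      exact col_eq e
  let bar : Mx F (k + 4) → Mx F (k + 4) := fun n => of fun a b => if a = 0 ∨ b = iN k then 0 else n a b
  have bar_ap : ∀ n a b, bar n a b = if a = 0 ∨ b = iN k then 0 else n a b := fun _ _ _ => rfl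
  have hbar : ∀ n ∈ 𝒜, bar n ∈ 𝒜 := fun n hn => by
    refine mx _ (fun a b h => ?_) fun n' hn' => ?_
    · rw [bar_ap, su n hn a b h, ite_self]
    have e1 : bar n * n' = 0 := by
      ext a c
      by_cases ha : a = 0
      · rw [mul_apply]; exact Finset.sum_eq_zero fun b _ => by simp [bar_ap, ha]
      rw [Matrix.zero_apply, ← k1 n hn n' (su n' hn') a ha
        (cm _ (hr n hn _ (ev_ne ha)) _ hn') c, mul_apply, mul_apply]
      refine Finset.sum_congr rfl fun b _ => ?_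
      by_cases hb : b = iN k
      · rw [su n' hn' b c (hb ▸ Fin.le_last _), mul_zero, mul_zero]
      · rw [bar_ap, if_neg (by tauto)]
    have e2 : n' * bar n = 0 := by
      ext a c
      by_cases hc : c = iN k
      · rw [mul_apply]; exact Finset.sum_eq_zero fun b _ => by simp [bar_ap, hc]
      rw [Matrix.zero_apply, ← k2 n hn n' (su n' hn') c hc
        (cm _ hn' _ (hl n hn _ (ev_ne hc))) a, mul_apply, mul_apply]
      refine Finset.sum_congr rfl fun b _ => ?_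
      by_cases hb : b = 0
      · rw [su n' hn' a b (hb ▸ Fin.zero_le _), zero_mul, zero_mul]
      · rw [bar_ap, if_neg (by tauto)]
    rw [e1, e2]
  have hz : zM F k ∈ 𝒜 := mx _ su_zM fun n hn => by rw [zM_mul (su n hn), mul_zM (su n hn)]
  have hb := big M (𝒜 := 𝒜 ⊓ QS F k) ⟨hz, rw_ev (F := F) (k := k) ▸ rw_QS (ev_ne (by
    rw [Ne, Fin.ext_iff]; simp))⟩ inf_le_right fun x hx h => ⟨mx x hx.1 fun n hn => by
      have hn' := hbar n hn
      have e0 : n - bar n ∈ 𝒜 ⊓ QS F k := ⟨𝒜.sub_mem hn hn', su _ (𝒜.sub_mem hn hn'),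
        fun a b ha hb => by rw [Matrix.sub_apply, bar_ap, if_neg (by tauto), sub_self]⟩
      have e1 : x * bar n = 0 := by
        ext a c
        by_cases hc : c = iN k
        · rw [mul_apply]; exact Finset.sum_eq_zero fun b _ => by simp [bar_ap, hc]
        exact k2 _ hn' x hx.1 c hc (h _ ⟨hl _ hn' _ (ev_ne hc),
          cl_QS ((su _ hn').mulVec_last _)⟩) a
      have e2 : bar n * x = 0 := by
        ext a c
        by_cases ha : a = 0
        · rw [mul_apply]; exact Finset.sum_eq_zero fun b _ => by simp [bar_ap, ha]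
        exact k1 _ hn' x hx.1 a ha (h _ ⟨hr _ hn' _ (ev_ne ha),
          rw_QS ((su _ hn').vecMul_zero _)⟩).symm c
      have := h _ e0
      rwa [mul_sub, sub_mul, e1, e2, sub_zero, sub_zero] at this, hx⟩
  have heq : 𝒜 ⊓ QS F k = 𝒜 := Submodule.eq_of_le_of_finrank_le inf_le_left (by omega)
  intro x hx
  obtain ⟨n, hn, rfl⟩ := M.exists_alg hS hx
  have : n ∈ 𝒜 ⊓ QS F k := by rw [heq]; exact (h1 n).2 hn
  exact memQ M this.2

end K2

theorem Mod.k1b (M : Mod G F (k + 4)) (hQ : M.Q ≤ E) (hE : E ≤ M.S) : N[E] ≤ N[M.Q] := by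
  intro h hh
  have hA : M.A ≤ E := M.A_le_Q.trans hQ
  have hh' := inv_mem hh
  have b1 : cj h⁻¹ M.A ≤ M.Q := by
    refine K2.le_Q M ((cj_le_of_mem_N hA hh').trans hE) (hQ.trans ?_)
    have := norm_cj (hE.trans (M.R_norm 1)) h⁻¹
    rwa [cj_of_mem_N hh'] at this
  have hZ : M.Z = E ⊓ C[E] := le_antisymm
    (le_inf (inf_le_left.trans hA) fun z hz => mem_centralizer_iff.2 fun e he =>
      (mem_centralizer_iff.1 (M.Z_cent (hE he)) z hz).symm)
    fun z hz => M.cent_Q ⟨hE hz.1, centralizer_le hQ hz.2⟩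
  have hZ' : cj h M.Z = M.Z := by rw [hZ, cj_inf, cj_C, cj_of_mem_N hh]
  refine mem_N_of_cj_le fun y hy => ?_
  obtain ⟨x, hx, rfl⟩ := mem_cj'.1 hy
  refine M.mem_Q_of_A (hE ((mem_normalizer_iff.1 hh x).1 (hQ hx))) fun a ha => ?_
  have := conj_mem_cj h (M.Q_comm (b1 (conj_mem_cj h⁻¹ ha)) hx)
  rw [hZ'] at this
  convert this using 1
  simp only [commutatorElement_def]; group

end H26.LM
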