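import Mathlib
import Cfsg.Agent.H26.LM0
import Cfsg.Agent.H26.LMS

set_option autoImplicit false
set_option linter.unusedVariables false
set_option linter.unusedSectionVars false

namespace H26.LM

open Cfsg H24 H26.Gold Subgroup Matrix
open scoped commutatorElement

universe u v

variable {G : Type u} [Group G] [Finite G] {F : Type v} [Field F] [Finite F] [CharP F 2] {k m : ℕ}
  {H S E K Y Z0 M0 B R : Subgroup G} {𝓑 : Set G} {b c g t x y : G}

/-! ### LK3 -/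

namespace K3

theorem pm {r s r' s' : Fin (k + 4) → F} (h1 : r 0 = 0) (h2 : s (iN k) = 0)
    (h4 : s' (iN k) = 0) : (rw_ r + cl s) * (rw_ r' + cl s') = (r ⬝ᵥ s') • zM F k := by
  rw [add_mul, mul_add, mul_add, (su_rw h1).mul_rw, (su_cl h2).mul_rw, (su_cl h4).cl_mul,
    rw_mul_cl]
  simp

theorem zinj {a b : F} (h : a • zM F k = b • zM F k) : a = b := by
  have : (a - b) • zM F k = 0 := by rw [sub_smul, h, sub_self]
  exact sub_eq_zero.1 (smul_zM_eq_zero.1 this)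

theorem ext2 {W : Submodule F (Fin m → F)} {r : Fin m → F} (i : ℕ)
    (h : ∀ w ∈ W, (∀ a : Fin m, i ≤ a.val → w a = 0) → r ⬝ᵥ w = 0) :
    ∃ φ : Fin m → F, (∀ a : Fin m, a.val < i → φ a = 0) ∧ ∀ w ∈ W, φ ⬝ᵥ w = r ⬝ᵥ w := by
  let U : Submodule F (Fin m → F) :=
    { carrier := {v | ∃ φ : Fin m → F, (∀ a : Fin m, a.val < i → φ a = 0) ∧
        ∀ w ∈ W, φ ⬝ᵥ w = v ⬝ᵥ w}
      zero_mem' := ⟨0, fun _ _ => rfl, fun _ _ => rfl⟩
      add_mem' := fun ⟨φ, p, q⟩ ⟨φ', p', q'⟩ => ⟨φ + φ', fun a ha => by simp [p a ha, p' a ha],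
        fun w hw => by rw [add_dotProduct, add_dotProduct, q w hw, q' w hw]⟩
      smul_mem' := fun c _ ⟨φ, p, q⟩ => ⟨c • φ, fun a ha => by simp [p a ha],
        fun w hw => by rw [smul_dotProduct, smul_dotProduct, q w hw]⟩ }
  refine dual_mem (W := U) fun θ hθ => ?_
  rw [dotProduct_comm]
  refine h θ (dual_mem fun φ hφ => ?_) fun a ha => ?_
  · rw [dotProduct_comm]
    exact hθ φ ⟨0, fun _ _ => rfl, fun w hw => by rw [hφ w hw, zero_dotProduct]⟩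
  · have := hθ (ev F a) ⟨ev F a, fun b hb => by
      rw [ev, Pi.single_eq_of_ne (by rintro rfl; omega)], fun _ _ => rfl⟩
    rwa [ev, dotProduct_single_one] at this

end K3

open K3 in
theorem Mod.split (M : Mod G F (k + 4)) (hF : Big F) (hg : cj g M.A ≤ M.Q) (hx : x ∈ cj g M.A) :
    ∃ a ∈ M.A ⊓ cj g M.A, ∃ a' ∈ M.A' ⊓ cj g M.A, x = a * a' := by
  have hS : cj g M.A ≤ M.S := hg.trans M.Q_le
  have hc := M.cj_cent hS
  have hA : EA M.A := M.R_ea 1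
  have hB : EA (cj g M.A) := by
    refine ⟨⟨⟨fun a b => Subtype.ext ?_⟩⟩, fun a ha => ?_⟩
    · obtain ⟨a, ha⟩ := a
      obtain ⟨b, hb⟩ := b
      obtain ⟨a, ha', rfl⟩ := mem_cj'.1 ha
      obtain ⟨b, hb', rfl⟩ := mem_cj'.1 hb
      have : a * b = b * a := congrArg Subtype.val (hA.1.is_comm.comm ⟨a, ha'⟩ ⟨b, hb'⟩)
      show g * a * g⁻¹ * (g * b * g⁻¹) = g * b * g⁻¹ * (g * a * g⁻¹)
      rw [conj_mul, conj_mul, this]
    · obtain ⟨a, ha', rfl⟩ := mem_cj'.1 ha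
      rw [conj_pow, hA.2 a ha', mul_one, mul_inv_cancel]
  obtain ⟨𝒜, h𝒜, -, -⟩ := M.exists_sub hB hS hc
  have su : ∀ {r s : Fin (k + 4) → F}, r 0 = 0 → s (iN k) = 0 → SU (rw_ r + cl s) :=
    fun h1 h2 => (su_rw h1).add (su_cl h2)
  let P : (Fin (k + 4) → F) → (Fin (k + 4) → F) → Prop := fun r s =>
    r 0 = 0 ∧ s 0 = 0 ∧ s (iN k) = 0 ∧ rw_ r + cl s ∈ 𝒜
  have dec : ∀ n ∈ M.alg (cj g M.A), ∃ r s, P r s ∧ n = rw_ r + cl s := fun n hn => by
    obtain ⟨r, s, h1, h2, h3, e⟩ := M.mem_Q.1 (hg hn.2)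
    have := M.inj (su h1 h3) hn.1 e
    exact ⟨r, s, ⟨h1, h2, h3, this ▸ (h𝒜 n).2 hn⟩, this.symm⟩
  have sym : ∀ {r s r' s'}, r 0 = 0 → s (iN k) = 0 → rw_ r + cl s ∈ 𝒜 → P r' s' →
      r ⬝ᵥ s' = r' ⬝ᵥ s := fun h1 h2 h3 p => by
    have := M.alg_comm hB ((h𝒜 _).1 h3) ((h𝒜 _).1 p.2.2.2)
    rw [pm h1 h2 p.2.2.1, pm p.1 p.2.2.1 h2] at this
    exact zinj this
  have sq : ∀ {r s}, P r s → r ⬝ᵥ s = 0 := fun p => by
    have := M.alg_sq hB ((h𝒜 _).1 p.2.2.2)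
    rw [pm p.1 p.2.2.1 p.2.2.1] at this
    exact smul_zM_eq_zero.1 this
  have mx : ∀ {r s}, r 0 = 0 → s (iN k) = 0 → (∀ r' s', P r' s' → r ⬝ᵥ s' = r' ⬝ᵥ s) →
      rw_ r + cl s ∈ 𝒜 := fun h1 h2 h => by
    refine (h𝒜 _).2 (M.alg_max hS hc (su h1 h2) fun n hn => ?_)
    obtain ⟨r', s', p, rfl⟩ := dec n hn
    rw [pm h1 h2 p.2.2.1, pm p.1 p.2.2.1 h2, h r' s' p]
  have r0 : rw_ (0 : Fin (k + 4) → F) = 0 := rw_eq_zero.2 rfl
  have c0 : cl (0 : Fin (k + 4) → F) = 0 := cl_eq_zero.2 rfl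
  have Pl : ∀ {r s r' s'} (l : F), P r s → P r' s' → P (r' + l • r) (s' + l • s) :=
    fun l p p' => ⟨by simp [p.1, p'.1], by simp [p.2.1, p'.2.1], by
      rw [Pi.add_apply, Pi.smul_apply, p.2.2.1, p'.2.2.1, smul_zero, add_zero], by
      rw [rw_add, cl_add, rw_smul, cl_smul, add_add_add_comm, ← smul_add]
      exact 𝒜.add_mem p'.2.2.2 (𝒜.smul_mem l p.2.2.2)⟩
  have P0 : P 0 0 := ⟨rfl, rfl, rfl, by rw [r0, c0, add_zero]; exact 𝒜.zero_mem⟩
  have hz : zM F k ∈ 𝒜 := by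
    have := mx (r := ev F (iN k)) (s := 0) (by
      rw [ev, Pi.single_eq_of_ne (by simp [Fin.ext_iff])]) rfl fun r' s' p => by
      rw [ev, single_one_dotProduct, p.2.2.1, dotProduct_zero]
    rwa [rw_ev, c0, add_zero] at this
  have key : ∀ i : ℕ, ∀ r s, P r s → (∀ a : Fin (k + 4), i ≤ a.val → s a = 0) → cl s ∈ 𝒜 := by
    intro i
    induction i with
    | zero =>
      intro r s p h
      rw [show s = 0 from funext fun a => h a (Nat.zero_le _), c0]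
      exact 𝒜.zero_mem
    | succ i ih =>
      intro r s p h
      by_contra hn
      obtain ⟨I, hI, sI⟩ : ∃ I : Fin (k + 4), I.val = i ∧ s I ≠ 0 := by
        by_contra t
        push Not at t
        exact hn (ih r s p fun a ha => ha.eq_or_lt.elim (fun e => t a e.symm) (h a))
      let W : Submodule F (Fin (k + 4) → F) :=
        { carrier := {s' | ∃ r', P r' s'}
          zero_mem' := ⟨0, P0⟩
          add_mem' := fun ⟨r1, p1⟩ ⟨r2, p2⟩ => ⟨_, by simpa using Pl 1 p2 p1⟩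
          smul_mem' := fun l _ ⟨r1, p1⟩ => ⟨_, by simpa using Pl l p1 P0⟩ }
      obtain ⟨φ, φ0, φW⟩ := ext2 (W := W) (r := r) (i + 1) fun s' ⟨r', p'⟩ h' => by
        have q := Pl (-(s' I / s I)) p p'
        have m1 := ih _ _ q fun a ha => by
          rcases ha.eq_or_lt with e | e
          · obtain rfl : I = a := Fin.ext (hI.trans e)
            simp [sI]
          · simp [h a e, h' a e]
        have := sym (r := 0) rfl q.2.2.1 (by rwa [r0, zero_add]) p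
        rw [zero_dotProduct, dotProduct_add, dotProduct_smul, sq p, smul_zero, add_zero] at this
        exact this.symm
      have f0 : φ 0 = 0 := φ0 0 (by simp)
      have p1 : P φ s := ⟨f0, p.2.1, p.2.2.1, mx f0 p.2.2.1 fun r' s' p' =>
        (φW s' ⟨r', p'⟩).trans (sym p.1 p.2.2.1 p.2.2.2 p')⟩
      have IN : I ≠ iN k := fun e => sI (e ▸ p.2.2.1)
      have I0 : I ≠ 0 := fun e => sI (e ▸ p.2.1)
      have iN' : i < k + 3 := by
        have := I.2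
        have : I.val ≠ k + 3 := fun e => IN (Fin.ext e)
        omega
      obtain ⟨r1, s1, q1, a1⟩ : ∃ r1 s1, P r1 s1 ∧ φ ⬝ᵥ s1 ≠ 0 := by
        by_contra t
        push Not at t
        have := mx (r := 0) rfl p.2.2.1 fun r' s' p' => by
          rw [zero_dotProduct, ← sym f0 p.2.2.1 p1.2.2.2 p', t r' s' p']
        rw [r0, zero_add] at this
        exact hn this
      let X : F → F → Mx F (k + 4) := fun τ σ => vecMulVec s (τ • φ + σ • ev F (iN k))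
      have sX : ∀ τ σ, SU (X τ σ) := fun τ σ => su_vmv (i + 1) h fun a ha => by
        rw [Pi.add_apply, Pi.smul_apply, Pi.smul_apply, φ0 a ha, ev,
          Pi.single_eq_of_ne (by rintro rfl; simp at ha; omega)]
        simp
      have dt : ∀ (τ σ : F) {r' s'}, P r' s' → (τ • φ + σ • ev F (iN k)) ⬝ᵥ s' = τ * (φ ⬝ᵥ s') :=
        fun τ σ _ _ p' => by
        rw [add_dotProduct, smul_dotProduct, smul_dotProduct, ev, single_one_dotProduct, p'.2.2.1]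
        simp
      have X2 : ∀ τ σ, X τ σ * X τ σ = 0 := fun τ σ => by
        rw [vecMulVec_mul_vecMulVec, dt τ σ p, sq p1]
        simp
      have hδ : ∀ τ σ {r' s'}, P r' s' → X τ σ * (rw_ r' + cl s') + (rw_ r' + cl s') * X τ σ +
          X τ σ * (rw_ r' + cl s') * X τ σ =
          ((φ ⬝ᵥ s') * τ) • (rw_ φ + cl s) + ((φ ⬝ᵥ s') * σ) • zM F k := fun τ σ r' s' p' => by
        have e1 : X τ σ * (rw_ r' + cl s') = cl ((τ * (φ ⬝ᵥ s')) • s) := by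
          rw [mul_add, (sX τ σ).mul_rw, zero_add, mul_cl, vecMulVec_mulVec, dt τ σ p',
            op_smul_eq_smul]
        have e2 : (rw_ r' + cl s') * X τ σ = rw_ ((φ ⬝ᵥ s') • (τ • φ + σ • ev F (iN k))) := by
          rw [add_mul, (sX τ σ).cl_mul, add_zero, rw_mul, vecMul_vecMulVec,
            sym f0 p.2.2.1 p1.2.2.2 p']
        rw [e1, e2, (sX τ σ).cl_mul, add_zero, cl_smul, rw_smul, rw_add, rw_smul, rw_smul, rw_ev]
        module
      have hcm : ∀ τ σ {r' s'}, P r' s' → ⁅M.ι (X τ σ), M.ι (rw_ r' + cl s')⁆ =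
          M.ι (((φ ⬝ᵥ s') * τ) • (rw_ φ + cl s) +
            ((φ ⬝ᵥ s') * σ + (φ ⬝ᵥ s') ^ 2 * τ) • zM F k) := fun τ σ r' s' p' => by
        rw [M.comm_sq (sX τ σ) (X2 τ σ) (su p'.1 p'.2.2.1)
          (M.alg_sq hB ((h𝒜 _).1 p'.2.2.2)), hδ τ σ p', add_mul, smul_mul_assoc, smul_mul_assoc,
          pm f0 p.2.2.1 p'.2.2.1, ← cl_ev, (su p'.1 p'.2.2.1).cl_mul]
        congr 1
        module
      refine M.fine hF hS (su f0 p.2.2.1) su_zM (fun α β e => ?_) (fun τ σ => M.ι (X τ σ))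
        (fun τ σ => ⟨M.memS (sX τ σ), mem_N_of_finite fun y hy => ?_⟩) fun τ σ => ?_
      · have e1 := congrFun (congrFun e I) (iN k)
        simp [rw_, cl, zM, vecMulVec_apply, ev, Pi.single_eq_of_ne I0, sI] at e1
        rw [e1, zero_smul, zero_add] at e
        exact ⟨e1, smul_zM_eq_zero.1 e⟩
      · obtain ⟨n, hn, rfl⟩ := M.exists_alg hS hy
        obtain ⟨r', s', p', rfl⟩ := dec n hn
        rw [M.conj_sq (sX τ σ) (X2 τ σ) hn.1, hδ τ σ p']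
        exact ((h𝒜 _).1 (𝒜.add_mem p'.2.2.2 (𝒜.add_mem (𝒜.smul_mem _ p1.2.2.2)
          (𝒜.smul_mem _ hz)))).2
      · ext y
        constructor
        · rintro ⟨b, hb, rfl⟩
          obtain ⟨n, hn, rfl⟩ := M.exists_alg hS hb
          obtain ⟨r', s', p', rfl⟩ := dec n hn
          exact ⟨_, hcm τ σ p'⟩
        · rintro ⟨α, rfl⟩
          have q := Pl (α / (φ ⬝ᵥ s1)) q1 P0
          refine ⟨_, ((h𝒜 _).1 q.2.2.2).2, ?_⟩
          rw [hcm τ σ q, zero_add, dotProduct_smul, smul_eq_mul, div_mul_cancel₀ _ a1]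
  obtain ⟨n, hn, rfl⟩ := M.exists_alg hS hx
  obtain ⟨r, s, p, rfl⟩ := dec n hn
  have m1 := key (k + 4) r s p fun a ha => absurd a.2 (not_lt.2 ha)
  have m2 : rw_ r ∈ 𝒜 := by simpa using 𝒜.sub_mem p.2.2.2 m1
  refine ⟨_, ⟨M.mem_A.2 ⟨r, p.1, rfl⟩, ((h𝒜 _).1 m2).2⟩, _,
    ⟨M.mem_A'.2 ⟨s, p.2.2.1, rfl⟩, ((h𝒜 _).1 m1).2⟩, ?_⟩
  rw [← M.mul (su_rw p.1) (su_cl p.2.2.1), rw_mul_cl, sq p, zero_smul, add_zero]

end H26.LM
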