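import Mathlib
import Cfsg.Agent.H26.LM0
import Cfsg.Agent.H26.LK3

set_option autoImplicit false
set_option linter.unusedVariables false
set_option linter.unusedSectionVars false

namespace H26.LM

open Cfsg H24 H26.Gold Subgroup Matrix
open scoped commutatorElement

universe u v

variable {G : Type u} [Group G] [Finite G] {F : Type v} [Field F] [Finite F] [CharP F 2] {k m : ℕ}
  {H S E K Y Z0 M0 B R : Subgroup G} {𝓑 : Set G} {b c g t x y : G}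

/-! ### LK4 -/

namespace K18

/-- last column without the corner -/
def cc (n : Mx F (k + 4)) : Fin (k + 4) → F := fun i => if i = 0 then 0 else n i (iN k)

theorem su_cc {n : Mx F (k + 4)} (h : SU n) : cc n (iN k) = 0 := by
  simp [cc, h _ _ le_rfl]

variable (M : Mod G F (k + 4)) {B' : Subgroup G} {𝒜 𝒜' : Submodule F (Mx F (k + 4))}

theorem col (h𝒜 : ∀ n, n ∈ 𝒜 ↔ n ∈ M.alg B) (hZ : M.Z ≤ B)
    (sp : ∀ x ∈ B, ∃ a ∈ M.A, ∃ a' ∈ M.A' ⊓ B, x = a * a') {n : Mx F (k + 4)} (hn : n ∈ 𝒜) :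
    cl (cc n) ∈ 𝒜 := by
  obtain ⟨n1, n2⟩ := (h𝒜 n).1 hn
  obtain ⟨a, ha, a', ⟨h1, h2⟩, e⟩ := sp _ n2
  obtain ⟨r, hr, rfl⟩ := M.mem_A.1 ha
  obtain ⟨s, hs, rfl⟩ := M.mem_A'.1 h1
  rw [← M.mul (su_rw hr) (su_cl hs)] at e
  have e' := M.inj n1 ((su_rw hr).circ (su_cl hs)) e
  have : cl (cc n) = cl s + s 0 • zM F k := by
    rw [← cl_ev, ← cl_smul, ← cl_add]
    congr 1
    ext i
    by_cases c : i = 0
    · simp [cc, c, ev_self, CharTwo.add_self_eq_zero]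
    · simp [cc, c, ev_ne c, e', rw_mul_cl, rw_apply, cl_apply, zM_apply]
  rw [this]
  exact add_mem ((h𝒜 _).2 ⟨su_cl hs, h2⟩) ((h𝒜 _).2 ⟨su_zM.smul _, hZ (M.mem_Z.2 ⟨_, rfl⟩)⟩)

theorem cc_mul {a n : Mx F (k + 4)} (ha : SU a) (hn : SU n) (h : M.ι a ∈ M.Q) :
    cc (a + n + a * n) = cc a + cc n := by
  ext i
  by_cases c : i = 0
  · simp [cc, c]
  · simp only [cc, if_neg c, Matrix.add_apply, Pi.add_apply, mul_apply, add_eq_left]
    refine Finset.sum_eq_zero fun l _ => ?_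
    by_cases c' : l = iN k
    · rw [c', hn _ _ le_rfl, mul_zero]
    · rw [(M.mem_Q0 ha).1 h i l c c', zero_mul]

theorem cc_conj {φ : Fin (k + 4) → F} (h0 : φ 0 = 0) (hN : φ (iN k) = 0) (l : F)
    (n : Mx F (k + 4)) :
    cc (n + (vecMulVec (l • ev F 1) φ * n + n * vecMulVec (l • ev F 1) φ +
      vecMulVec (l • ev F 1) φ * n * vecMulVec (l • ev F 1) φ)) =
      cc n + (l * (φ ⬝ᵥ cc n)) • ev F 1 := by
  have e : φ ⬝ᵥ cc n = (φ ᵥ* n) (iN k) := Finset.sum_congr rfl fun i _ => by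
    by_cases c : i = 0 <;> simp [cc, c, h0]
  rw [e, mul_vecMulVec, mul_vecMulVec, vecMulVec_mul]
  ext i
  by_cases c : i = 0
  · simp [cc, c, ev_ne (zero_ne_one (α := Fin (k + 4)))]
  · simp only [cc, if_neg c, Matrix.add_apply, vecMulVec_apply, hN, Pi.add_apply, Pi.smul_apply,
      smul_eq_mul]
    ring

theorem core (hF : Big F) (h𝒜 : ∀ n, n ∈ 𝒜 ↔ n ∈ M.alg B) (h𝒜' : ∀ n, n ∈ 𝒜' ↔ n ∈ M.alg B')
    (BQ : B ≤ M.Q) (BQ' : B' ≤ M.Q) (hZ : M.Z ≤ B) (hZ' : M.Z ≤ B') (hi : B ⊓ B' ≤ M.Z)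
    (sp : ∀ x ∈ B, ∃ a ∈ M.A, ∃ a' ∈ M.A' ⊓ B, x = a * a')
    (sp' : ∀ x ∈ B', ∃ a ∈ M.A, ∃ a' ∈ M.A' ⊓ B', x = a * a')
    (hs : ∀ s ∈ M.S, ∀ x ∈ cj s B, ∃ y ∈ B ⊓ cj s B, ∃ y' ∈ B', x = y * y')
    (e1 : M.ι (cl (ev F 1)) ∉ B) : B ≤ M.A := by
  have e2 : ∀ l : F, cl (l • ev F 1) ∈ 𝒜 → l = 0 := fun l hl => by_contra fun c => e1 (by
    have := 𝒜.smul_mem l⁻¹ hl
    rw [← cl_smul, smul_smul, inv_mul_cancel₀ c, one_smul] at this
    exact ((h𝒜 _).1 this).2)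
  intro x hx
  obtain ⟨n0, hn0, rfl⟩ := M.exists_alg (BQ.trans M.Q_le) hx
  have k1 := col M h𝒜 hZ sp ((h𝒜 _).2 hn0)
  have kN := su_cc hn0.1
  have k0 : cc n0 0 = 0 := if_pos rfl
  by_cases hj : ∀ j : Fin (k + 4), 2 ≤ j.val → cc n0 j = 0
  · have e : cc n0 = cc n0 1 • ev F 1 := by
      ext j
      by_cases c : j = 1
      · simp [c, ev_self]
      · rw [Pi.smul_apply, ev_ne c, smul_zero]
        by_cases c' : j = 0
        · rw [c', k0]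
        · exact hj j (by
            have : j.val ≠ 1 := fun e => c (Fin.ext e)
            have : j.val ≠ 0 := fun e => c' (Fin.ext e)
            omega)
    rw [e2 (cc n0 1) (by rw [← e]; exact k1), zero_smul] at e
    refine (M.mem_R hn0.1).2 fun a b hab => ?_
    by_cases c : a = 0
    · exact hn0.1 _ _ (by rw [c] at hab ⊢; exact Fin.le_def.2 (by simpa using hab))
    by_cases c' : b = iN k
    · simpa [cc, c, c'] using congrFun e a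
    · exact (M.mem_Q0 hn0.1).1 (BQ hx) a b c c'
  exfalso
  push Not at hj
  obtain ⟨j, j1, j2⟩ := hj
  generalize cc n0 = v at *
  set φ : Fin (k + 4) → F := (v j)⁻¹ • ev F j with hφ
  have p0 : ∀ a : Fin (k + 4), a.val < 2 → φ a = 0 := fun a ha => by
    rw [hφ, Pi.smul_apply, ev_ne fun e => by rw [e] at ha; omega, smul_zero]
  have pN : φ (iN k) = 0 := by
    rw [hφ, Pi.smul_apply, ev_ne fun e : iN k = j => j2 (e ▸ kN), smul_zero]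
  have pv : φ ⬝ᵥ v = 1 := by rw [hφ, smul_dotProduct, ev_dot, smul_eq_mul, inv_mul_cancel₀ j2]
  have p1 : φ ⬝ᵥ ev F 1 = 0 := (dot_ev _ _).trans (p0 1 (by simp))
  have cv : cc (cl v) = v := funext fun i => by
    by_cases c : i = 0 <;> simp [cc, c, k0, cl_apply]
  have main : ∀ l : F, l ≠ 0 → ∃ w, cl w ∈ 𝒜 ∧ φ ⬝ᵥ w = 0 ∧ cl (v + l • ev F 1 + w) ∈ 𝒜' := by
    intro l hl
    have X1 : SU (vecMulVec (l • ev F 1) φ) := su_vmv 2 (fun a ha => by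
      rw [Pi.smul_apply, ev_ne fun e => by simp [e] at ha, smul_zero]) p0
    have X2 : (vecMulVec (l • ev F 1) φ * vecMulVec (l • ev F 1) φ : Mx F (k + 4)) = 0 := by
      rw [vmv_mul_vmv, dotProduct_smul, p1, smul_zero, zero_smul]
    have su : ∀ {n}, SU n → SU (n + (vecMulVec (l • ev F 1) φ * n + n * vecMulVec (l • ev F 1) φ +
        vecMulVec (l • ev F 1) φ * n * vecMulVec (l • ev F 1) φ)) := fun hn =>
      hn.add (((X1.mul hn).add (hn.mul X1)).add ((X1.mul hn).mul X1))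
    obtain ⟨y, ⟨y1, y2⟩, y', y3, e⟩ := hs _ (M.memS X1) _ (conj_mem_cj _ ((h𝒜 _).1 k1).2)
    obtain ⟨n1, hn1, rfl⟩ := M.exists_alg (BQ.trans M.Q_le) y1
    obtain ⟨n2, hn2, rfl⟩ := M.exists_alg (BQ'.trans M.Q_le) y3
    obtain ⟨y, y4, e'⟩ := mem_cj'.1 y2
    obtain ⟨n, hn, rfl⟩ := M.exists_alg (BQ.trans M.Q_le) y4
    rw [M.conj_sq X1 X2 hn.1] at e'
    rw [M.conj_sq X1 X2 (su_cl kN), ← M.mul hn1.1 hn2.1] at e
    have f := congrArg cc (M.inj (su (su_cl kN)) (hn1.1.circ hn2.1) e)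
    have f' := congrArg cc (M.inj hn1.1 (su hn.1) e')
    rw [cc_conj (p0 0 (by simp)) pN] at f f'
    rw [cc_mul M hn1.1 hn2.1 (BQ y1), cv, pv, mul_one] at f
    have c1 := col M h𝒜 hZ sp ((h𝒜 _).2 hn1)
    refine ⟨cc n1, c1, ?_, ?_⟩
    · rw [f', cl_add, add_mem_cancel_left (col M h𝒜 hZ sp ((h𝒜 _).2 hn))] at c1
      rw [f', dotProduct_add, dotProduct_smul, p1, (mul_eq_zero.1 (e2 _ c1)).resolve_left hl,
        smul_zero, add_zero]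
    · rw [f, add_right_comm, CharTwo.add_self_eq_zero, zero_add]
      exact col M h𝒜' hZ' sp' ((h𝒜' _).2 hn2)
  obtain ⟨ω, o0, o1⟩ := hF
  obtain ⟨w, w1, w2, w3⟩ := main 1 one_ne_zero
  obtain ⟨w', w1', w2', w3'⟩ := main ω o0
  have u1 := add_mem (𝒜'.smul_mem ω w3) w3'
  have u2 := add_mem (add_mem (𝒜.smul_mem (ω + 1) k1) (𝒜.smul_mem ω w1)) w1'
  rw [← cl_smul, ← cl_add] at u1
  rw [← cl_smul, ← cl_smul, ← cl_add, ← cl_add] at u2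
  rw [show ω • (v + (1 : F) • ev F 1 + w) + (v + ω • ev F 1 + w') =
    (ω + 1) • v + ω • w + w' + (ω • ev F 1 + ω • ev F 1) by module, CharTwo.add_self_eq_zero,
    add_zero] at u1
  obtain ⟨l, hl⟩ := M.mem_Z.1 (hi ⟨((h𝒜 _).1 u2).2, ((h𝒜' _).1 u1).2⟩)
  have := M.inj (su_zM.smul l) ((h𝒜 _).1 u2).1 hl
  rw [← cl_ev, ← cl_smul, ← sub_eq_zero, CharTwo.sub_eq_add, ← cl_add, cl_eq_zero] at this
  have := congrArg (φ ⬝ᵥ ·) this
  simp only [dotProduct_add, dotProduct_smul, pv, w2, w2', dot_ev, p0 0 (by simp), smul_eq_mul,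
    mul_zero, mul_one, add_zero, zero_add, dotProduct_zero] at this
  exact o1 (by rwa [← CharTwo.sub_eq_add, sub_eq_zero] at this)

theorem dich (hF : Big F) (hg : g ∈ N[M.Q]) : cj g M.A = M.A ∨ cj g M.A' = M.A := by
  have hQ : ∀ {X}, X ≤ M.Q → ∀ {g}, g ∈ N[M.Q] → cj g X ≤ M.Q := fun h _ hg =>
    (cj_mono _ h).trans (mem_N_iff_cj.1 hg).le
  have eZ : M.Z = M.Q ⊓ C[M.Q] := le_antisymm (le_inf (inf_le_left.trans M.A_le_Q)
    (cents_symm (M.Q_le.trans M.Z_cent))) ((inf_le_inf_right _ M.Q_le).trans M.cent_Q)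
  have gZ : cj g M.Z = M.Z := mem_N_iff_cj.1 (by rw [eZ]; exact norm_Z le_rfl hg)
  have Q1 := hQ M.A_le_Q hg
  have Q2 := hQ M.A'_le_Q hg
  have c1 := M.cj_cent (Q1.trans M.Q_le)
  have c2 : M.S ⊓ C[cj g M.A'] ≤ cj g M.A' := by
    simpa using M.flip.cj_cent (g := g) (by simpa using Q2.trans M.Q_le)
  have ea : ∀ {X : Subgroup G}, EA X → EA (cj g X) := fun h => ⟨Abl.cj h.1 g, fun x hx => by
    obtain ⟨y, hy, rfl⟩ := mem_cj'.1 hx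
    rw [conj_pow, h.2 y hy, mul_one, mul_inv_cancel]⟩
  obtain ⟨𝒜, h1, -⟩ := M.exists_sub (ea (M.R_ea _)) (Q1.trans M.Q_le) c1
  obtain ⟨𝒜', h2, -⟩ := M.exists_sub (ea (M.R_ea _)) (Q2.trans M.Q_le) c2
  have Z1 : M.Z ≤ cj g M.A := gZ.ge.trans (cj_mono g inf_le_left)
  have Z2 : M.Z ≤ cj g M.A' := gZ.ge.trans (cj_mono g inf_le_right)
  have hi : cj g M.A ⊓ cj g M.A' ≤ M.Z := (cj_inf g _ _).ge.trans gZ.le
  have sf : ∀ {g}, g ∈ N[M.Q] → ∀ x ∈ cj g M.A',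
      ∃ a ∈ M.A' ⊓ cj g M.A', ∃ a' ∈ M.A ⊓ cj g M.A', x = a * a' := fun {g} hg x hx => by
    simpa using M.flip.split (g := g) (x := x) hF (by simpa using hQ M.A'_le_Q hg) (by simpa using hx)
  have s1 : ∀ x ∈ cj g M.A, ∃ a ∈ M.A, ∃ a' ∈ M.A' ⊓ cj g M.A, x = a * a' := fun x hx => by
    obtain ⟨a, ha, a', ha', e⟩ := M.split hF Q1 hx
    exact ⟨a, ha.1, a', ha', e⟩
  have s2 : ∀ x ∈ cj g M.A', ∃ a ∈ M.A, ∃ a' ∈ M.A' ⊓ cj g M.A', x = a * a' := fun x hx => by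
    obtain ⟨a, ha, a', ha', e⟩ := sf hg x hx
    exact ⟨a', ha'.1, a, ha, e.trans (Mod.ea_comm (ea (M.R_ea _)) ha.2 ha'.2)⟩
  have tr : ∀ {X X' : Subgroup G}, (∀ {g}, g ∈ N[M.Q] → ∀ x ∈ cj g X,
      ∃ a ∈ X ⊓ cj g X, ∃ a' ∈ X' ⊓ cj g X, x = a * a') → ∀ s ∈ M.S, ∀ x ∈ cj s (cj g X),
      ∃ y ∈ cj g X ⊓ cj s (cj g X), ∃ y' ∈ cj g X', x = y * y' := by
    intro X X' h s hs x hx
    obtain ⟨a, ha, a', ha', e⟩ := h (mul_mem (inv_mem hg) (mul_mem (M.Q_norm hs) hg))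
      (g⁻¹ * x * g) (by rwa [cj_mul, cj_mul, ← conj_mem_cj_iff (g := g), cj_cj_inv,
        show g * (g⁻¹ * x * g) * g⁻¹ = x by group])
    refine ⟨_, ⟨conj_mem_cj g ha.1, ?_⟩, _, conj_mem_cj g ha'.1, by rw [conj_mul, ← e]; group⟩
    have := conj_mem_cj g ha.2
    rwa [cj_mul, cj_mul, cj_cj_inv] at this
  have fin : ∀ {X}, X ≤ M.A → M.S ⊓ C[X] ≤ X → X = M.A := fun h h' => le_antisymm h
    ((le_inf M.A_le (Abl.cents (M.R_ea 1).1 le_rfl h)).trans h')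
  by_cases e : M.ι (cl (ev F 1)) ∈ cj g M.A
  · refine Or.inr (fin (core M hF h2 h1 Q2 Q1 Z2 Z1 (by rwa [inf_comm]) s2 s1 (tr sf) fun e' => ?_) c2)
    obtain ⟨l, hl⟩ := M.mem_Z.1 (hi ⟨e, e'⟩)
    have := congrFun (congrFun (M.inj (su_zM.smul l) (su_cl (ev_ne fun e => by
      simpa using congrArg Fin.val e)) hl) 1) (iN k)
    simp [zM_apply, cl_apply, ev_self] at this
  · exact Or.inl (fin (core M hF h1 h2 Q1 Q2 Z1 Z2 hi s1 s2
      (tr fun hg _ hx => M.split hF (hQ M.A_le_Q hg) hx) e) c1)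

end K18

theorem Mod.k1c (M : Mod G F (k + 4)) (hF : Big F) : N[M.Q] ≤ N[M.A] := by
  intro a ha
  by_contra c
  have h : ∀ b ∈ N[M.Q], b ∉ N[M.A] → cj b M.A' = M.A := fun b hb h =>
    (K18.dich M hF hb).resolve_left fun e => h (mem_N_iff_cj.2 e)
  have h1 : cj a M.A = M.A' := by
    rw [← h _ (inv_mem ha) (by rwa [inv_mem_iff]), cj_cj_inv]
  refine (M.sylH M.Q_norm).not_dvd Nat.prime_two (Dvd.dvd.trans (Eq.dvd (Eq.symm ?_))
    (relIndex_dvd_of_le_left _ M.A_norm))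
  refine relIndex_eq_two_iff.2 ⟨a, ha, fun b hb => ?_⟩
  by_cases e : b ∈ N[M.A]
  · exact Or.inr ⟨e, fun e' => c ((mul_mem_cancel_left e).1 e')⟩
  · exact Or.inl ⟨mem_N_iff_cj.2 (by rw [cj_mul, h1, h b hb e]), e⟩

end H26.LM
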