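import Mathlib
import Cfsg.Agent.H26.LM0

set_option autoImplicit false
set_option linter.unusedVariables false
set_option linter.unusedSectionVars false

namespace H26.LM

open Cfsg H24 H26.Gold Subgroup Matrix
open scoped commutatorElement

universe u v

variable {G : Type u} [Group G] [Finite G] {F : Type v} [Field F] [Finite F] [CharP F 2] {k m : ℕ}
  {H S E K Y Z0 M0 B R : Subgroup G} {𝓑 : Set G} {b c g t x y : G}

/-! ### LMA -/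

/-- the subgroup generated by the centralizer and the normalizers of overgroups -/
def gmA (H T D : Subgroup G) : Subgroup G :=
  (H ⊓ C[D]) ⊔ ⨆ R : {R : Subgroup G // D < R ∧ R ≤ T}, H ⊓ N[D] ⊓ N[R.1]

theorem gmA_le {T D M : Subgroup G} (h1 : H ⊓ C[D] ≤ M)
    (h2 : ∀ R, D < R → R ≤ T → H ⊓ N[D] ⊓ N[R] ≤ M) : gmA H T D ≤ M :=
  sup_le h1 (iSup_le fun R => h2 R.1 R.2.1 R.2.2)

theorem le_gmA {T D : Subgroup G} (h1 : D < R) (h2 : R ≤ T) : H ⊓ N[D] ⊓ N[R] ≤ gmA H T D :=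
  le_sup_of_le_right (le_iSup (fun R : {R : Subgroup G // D < R ∧ R ≤ T} => H ⊓ N[D] ⊓ N[R.1])
    ⟨R, h1, h2⟩)

theorem gmA_le_N (H T D : Subgroup G) : gmA H T D ≤ H ⊓ N[D] :=
  gmA_le (inf_le_inf_left _ (C_le_N D)) fun _ _ _ => inf_le_left

theorem gmA_se {T D : Subgroup G} (hT : Syl 2 (H ⊓ N[D]) T) (hD : D < T) :
    ∀ (R : Subgroup G) (h : G), D < R → R ≤ T → h ∈ H ⊓ N[D] → cj h R ≤ gmA H T D →
      h ∈ gmA H T D := by
  have hTM : T ≤ gmA H T D := (le_inf hT.le (norm_self T)).trans (le_gmA hD le_rfl)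
  have hT' : Syl 2 (gmA H T D) T := hT.of_le hTM (gmA_le_N H T D)
  suffices HH : ∀ n, ∀ (R : Subgroup G) (h : G), ♯T - ♯R = n → D < R → R ≤ T → h ∈ H ⊓ N[D] →
      cj h R ≤ gmA H T D → h ∈ gmA H T D from fun R h => HH _ R h rfl
  intro n
  induction n using Nat.strong_induction_on with
  | _ n ih =>
  intro R h hn h1 h2 hh h3
  obtain ⟨l, hl, h4⟩ := Sylow_Jsub Nat.prime_two hT' ((hT.pi.of_le h2).cj h) h3
  rw [← cj_mul] at h4
  have hk : l * h ∈ H ⊓ N[D] := mul_mem (gmA_le_N H T D hl) hh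
  refine (mul_mem_cancel_left hl).1 ?_
  by_cases e : R = T
  · subst e
    exact le_gmA h1 le_rfl ⟨hk, mem_N_of_cj_le h4⟩
  have h5 : R < T ⊓ N[R] := (hT.pi.nil Nat.prime_two).proper_norm (lt_of_le_of_ne h2 e)
  have h6 : D < cj (l * h) R := by
    have := cj_lt_cj (g := l * h).2 h1
    rwa [cj_of_mem_N hk.2] at this
  refine ih _ ?_ (T ⊓ N[R]) (l * h) rfl (h1.trans h5) inf_le_left hk
    (le_trans (le_inf ?_ ?_) (le_gmA h6 h4))
  · have := card_lt h5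
    have := card_le (inf_le_left : T ⊓ N[R] ≤ T)
    omega
  · exact cj_le_of_mem (inf_le_left.trans hT.le) hk
  · exact norm_cj inf_le_right _

theorem alp (hS : Syl 2 H S) (P : Subgroup G → G → Prop)
    (cent : ∀ D c, D ≤ S → c ∈ H ⊓ C[D] → P D c)
    (mul : ∀ D g k, P D k → P (cj k D) g → P D (g * k))
    (inv : ∀ D g, P D g → P (cj g D) g⁻¹)
    (mono : ∀ D D' g, D' ≤ D → P D g → P D' g)
    (ess : ∀ E, AFam H S E → ∀ g ∈ H ⊓ N[E], P E g) :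
    ∀ D g, D ≤ S → g ∈ H → cj g D ≤ S → P D g := by
  suffices HH : ∀ n, ∀ (D : Subgroup G) (g : G), ♯S - ♯D = n → D ≤ S → g ∈ H → cj g D ≤ S →
      P D g from fun D g => HH _ D g rfl
  intro n
  induction n using Nat.strong_induction_on with
  | _ n ih =>
  intro D g hn hD hgH hg
  by_cases e : D = S
  · subst e
    exact ess _ (Or.inl rfl) g ⟨hgH, mem_N_of_cj_le hg⟩
  have ih' : ∀ (R : Subgroup G) (k : G), ♯D < ♯R → R ≤ S → k ∈ H → cj k R ≤ S → P R k :=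
    fun R k h1 h2 h3 h4 => ih _ (by have := card_le h2; omega) R k rfl h2 h3 h4
  have hlt : ∀ u : G, cj u D ≤ S → cj u D < S ⊓ N[cj u D] := fun u hu =>
    (hS.pi.nil Nat.prime_two).proper_norm (lt_of_card_lt hu (by
      rw [card_cj]; exact card_lt (lt_of_le_of_ne hD e)))
  obtain ⟨T, hT, hDT⟩ := Sylow_superset (M := H ⊓ N[D]) Nat.prime_two (hS.pi.of_le hD)
    (le_inf (hD.trans hS.le) (norm_self D))
  obtain ⟨y, hyH, hTA⟩ := Sylow_Jsub Nat.prime_two hS hT.pi (hT.le.trans inf_le_left)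
  set D' := cj y D with hD'
  have hD'A : D' ≤ S := (cj_mono y hDT).trans hTA
  have hT' : Syl 2 (H ⊓ N[D']) (S ⊓ N[D']) := by
    have h1 := hT.cj y
    rw [cj_inf, cj_N, cj_of_mem hyH] at h1
    exact h1.of_ge (inf_le_inf_right _ hS.le) (hS.pi.inf_left _)
      (le_inf hTA (h1.le.trans inf_le_right))
  have key : ∀ u ∈ H, cj u D ≤ S → ∃ x ∈ H, cj x (cj u D) = D' ∧ P (cj u D) x := fun u huH hu => by
    have hyu : y * u⁻¹ ∈ H := mul_mem hyH (inv_mem huH)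
    obtain ⟨l, hl, h1⟩ := Sylow_Jsub Nat.prime_two hT' (Q := cj (y * u⁻¹) (S ⊓ N[cj u D]))
      ((hS.pi.inf_left _).cj _) (le_inf (cj_le_of_mem (inf_le_left.trans hS.le) hyu) (by
        rw [cj_inf, cj_N, ← cj_mul, inv_mul_cancel_right]; exact inf_le_right))
    refine ⟨l * (y * u⁻¹), mul_mem hl.1 hyu, ?_,
      mono _ _ _ (hlt u hu).le (ih' _ _ ?_ inf_le_left (mul_mem hl.1 hyu) ?_)⟩
    · rw [cj_mul, ← cj_mul (y * u⁻¹), inv_mul_cancel_right, cj_of_mem_N hl.2]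
    · rw [← card_cj u D]; exact card_lt (hlt u hu)
    · rw [cj_mul]; exact h1.trans inf_le_left
  let Γ : Subgroup G :=
    { carrier := {x | x ∈ H ⊓ N[D'] ∧ P D' x}
      one_mem' := ⟨one_mem _, cent _ _ hD'A (one_mem _)⟩
      mul_mem' := fun {a b} ha hb => ⟨mul_mem ha.1 hb.1, mul _ _ _ hb.2 (by
        rw [cj_of_mem_N hb.1.2]; exact ha.2)⟩
      inv_mem' := fun {a} ha => ⟨inv_mem ha.1, by
        have := inv _ _ ha.2
        rwa [cj_of_mem_N ha.1.2] at this⟩ }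
  have hlt' : D' < S ⊓ N[D'] := hlt y hD'A
  have hN : H ⊓ N[D'] ≤ Γ := by
    have hG : gmA H (S ⊓ N[D']) D' ≤ Γ := gmA_le
      (fun c hc => ⟨⟨hc.1, C_le_N _ hc.2⟩, cent _ _ hD'A hc⟩)
      fun R h1 h2 n hn => ⟨hn.1, mono _ _ _ h1.le (ih' R n (by
        rw [← card_cj y D]; exact card_lt h1) (h2.trans inf_le_left) hn.1.1
        ((cj_of_mem_N hn.2).le.trans (h2.trans inf_le_left)))⟩
    by_cases h1 : H ⊓ N[D'] ≤ gmA H (S ⊓ N[D']) D'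
    · exact h1.trans hG
    have hTM : S ⊓ N[D'] ≤ gmA H (S ⊓ N[D']) D' :=
      (le_inf hT'.le (norm_self _)).trans (le_gmA hlt' le_rfl)
    by_cases h2 : S ⊓ C[D'] ≤ D'
    · refine fun n hn => ⟨hn, ess _ (Or.inr ⟨_, hlt'.trans_le inf_le_left, hS.le, hS.pi, h2, hT',
        hTM, le_sup_left, gmA_le_N _ _ _, h1, fun h hh t ht tE hm => ?_⟩) n hn⟩
      refine gmA_se hT' hlt' (D' ⊔ zpowers t) h (lt_of_le_of_ne le_sup_left fun e => tE ?_)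
        (sup_le hlt'.le (zpowers_le.2 ht)) hh ?_
      · rw [e]; exact mem_sup_right (mem_zpowers t)
      · rw [cj_sup, cj_of_mem_N hh.2, cj_zpowers]
        exact sup_le (hlt'.le.trans hTM) (zpowers_le.2 hm)
    refine absurd ?_ h1
    have hDn : D' ⊴ H ⊓ N[D'] := ⟨hlt'.le.trans hT'.le, inf_le_right⟩
    have hK : D' ⊔ (H ⊓ C[D']) ⊴ H ⊓ N[D'] := hDn.sup
      ⟨inf_le_inf_left _ (C_le_N _), norm_inf (norm_of_le inf_le_left) (norm_C inf_le_right)⟩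
    have h3 : D' ≤ S ⊓ N[D'] ⊓ (D' ⊔ (H ⊓ C[D'])) := le_inf hlt'.le le_sup_left
    have h4 : D' < S ⊓ N[D'] ⊓ (D' ⊔ (H ⊓ C[D'])) := lt_of_le_of_ne h3 fun e => h2
      ((le_inf (inf_le_inf_left _ (C_le_N _))
        ((inf_le_inf_right _ hS.le).trans le_sup_right)).trans e.ge)
    have h5 := le_gmA (H := H) h4 (inf_le_left : _ ≤ S ⊓ N[D'])
    refine (Frattini_arg Nat.prime_two hK (hT'.inf_nml hK)).sup_eq.ge.trans
      (sup_le (sup_le (hlt'.le.trans hTM) le_sup_left) h5)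
  obtain ⟨x, hxH, e1, m1⟩ := key 1 (one_mem _) (by rwa [cj_one])
  obtain ⟨x', hxH', e2, m2⟩ := key g hgH hg
  rw [cj_one] at e1 m1
  have h1 : x' * g * x⁻¹ ∈ H ⊓ N[D'] := mem_inf.2 ⟨mul_mem (mul_mem hxH' hgH) (inv_mem hxH), by
    rw [mem_N_iff_cj, cj_mul, cj_mul, ← e1, cj_inv_cj, e2, e1]⟩
  have m3 := mul _ (x' * g * x⁻¹) _ m1 (e1 ▸ (hN h1).2)
  have m4 := inv _ _ m2
  rw [← cj_mul, ← inv_mul_cancel_right (x' * g) x] at m4
  have := mul _ _ _ m3 m4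
  rwa [show x'⁻¹ * (x' * g * x⁻¹ * x) = g by group] at this

theorem alp_sc (hS : Syl 2 H S)
    (h : ∀ E, AFam H S E → ∀ g ∈ H ⊓ N[E], ∀ x ∈ R, x ∈ E → g * x * g⁻¹ ∈ R) (hR : R ≤ S) :
    StC H S R := fun x hx g hg hy => by
  refine (alp hS (fun D g => ∀ x ∈ D, x ∈ R ↔ g * x * g⁻¹ ∈ R) ?_ ?_ ?_ ?_ ?_ (zpowers x) g
    (zpowers_le.2 (hR hx)) hg (by rw [cj_zpowers]; exact zpowers_le.2 hy) x (mem_zpowers x)).1 hx
  · intro D c _ hc x hx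
    rw [conj_eq_of_mem_C hc.2 hx]
  · intro D g k h1 h2 x hx
    rw [h1 x hx, h2 _ (conj_mem_cj k hx), show g * (k * x * k⁻¹) * g⁻¹ = g * k * x * (g * k)⁻¹ by
      group]
  · intro D g h1 x hx
    obtain ⟨y, hy, rfl⟩ := mem_cj'.1 hx
    rw [← h1 y hy, show g⁻¹ * (g * y * g⁻¹) * g⁻¹⁻¹ = y by group]
  · exact fun D D' g h1 h2 x hx => h2 x (h1 hx)
  · intro E hE g hg x hx
    refine ⟨fun h1 => h E hE g hg x h1 hx, fun h1 => ?_⟩
    have := h E hE g⁻¹ (inv_mem hg) _ h1 (conj_mem hg.2 hx)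
    rwa [show g⁻¹ * (g * x * g⁻¹) * g⁻¹⁻¹ = x by group] at this

theorem alp_wc (hS : Syl 2 ⊤ S) (h : ∀ E, AFam ⊤ S E → B ≤ E → N[E] ≤ N[B]) (hB : B ≤ S) :
    WC S B := fun g hg => by
  refine cj_of_mem_N (alp hS (fun D g => B ≤ D ∨ B ≤ cj g D → g ∈ N[B]) ?_ ?_ ?_ ?_ ?_ B g hB
    (mem_top g) hg (Or.inl le_rfl))
  · intro D c _ hc h1
    rw [cj_of_mem_C hc.2, or_self] at h1
    exact C_le_N _ (C_anti h1 hc.2)
  · rintro D g k h1 h2 (h3 | h3)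
    · have h4 := h1 (Or.inl h3)
      exact mul_mem (h2 (Or.inl ((cj_of_mem_N h4).ge.trans (cj_mono k h3)))) h4
    · rw [cj_mul] at h3
      have h4 := h2 (Or.inr h3)
      refine mul_mem h4 (h1 (Or.inr ?_))
      rwa [le_cj_iff, cj_of_mem_N (inv_mem h4)] at h3
  · intro D g h1 h2
    rw [cj_inv_cj] at h2
    exact inv_mem (h1 h2.symm)
  · exact fun D D' g h1 h2 h3 => h2 (h3.imp (fun h4 => h4.trans h1) fun h4 => h4.trans (cj_mono g h1))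
  · intro E hE g hg h1
    rw [cj_of_mem_N hg.2, or_self] at h1
    exact h E hE h1 hg.2

theorem alp_ctl (hS : Syl 2 H S) (h : ∀ E, AFam H S E → H ⊓ N[E] ≤ M0) (hx : x ∈ S) (hg : g ∈ H)
    (hy : g * x * g⁻¹ ∈ S) : ∃ n ∈ M0, ∃ c ∈ H ⊓ C{x}, g = n * c := by
  suffices hh : ∃ n ∈ M0 ⊓ H, ∃ c ∈ H ⊓ C[zpowers x], g = n * c by
    obtain ⟨n, hn, c, hc, e⟩ := hh
    exact ⟨n, hn.1, c, by rwa [C_zpowers] at hc, e⟩
  refine alp hS (fun D g => ∃ n ∈ M0 ⊓ H, ∃ c ∈ H ⊓ C[D], g = n * c)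
    ?_ ?_ ?_ ?_ ?_ (zpowers x) g (zpowers_le.2 hx) hg (by rw [cj_zpowers]; exact zpowers_le.2 hy)
  · exact fun D c _ hc => ⟨1, one_mem _, c, hc, (one_mul c).symm⟩
  · rintro D g k ⟨n, hn, c, hc, rfl⟩ ⟨n', hn', c', hc', rfl⟩
    refine ⟨n' * n, mul_mem hn' hn, n⁻¹ * c' * n * c, mul_mem (mem_inf.2 ⟨?_, ?_⟩) hc, by group⟩
    · exact mul_mem (mul_mem (inv_mem hn).2 hc'.1) hn.2
    · have h1 := hc'.2
      rw [cj_mul, cj_of_mem_C hc.2, ← cj_C] at h1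
      exact mem_cj.1 h1
  · rintro D g ⟨n, hn, c, hc, rfl⟩
    refine ⟨n⁻¹, inv_mem hn, n * c⁻¹ * n⁻¹, mem_inf.2 ⟨?_, ?_⟩, by group⟩
    · exact mul_mem (mul_mem hn.2 (inv_mem hc).1) (inv_mem hn).2
    · rw [cj_mul, cj_of_mem_C hc.2, ← cj_C]
      exact conj_mem_cj n (inv_mem hc).2
  · rintro D D' g h1 ⟨n, hn, c, hc, rfl⟩
    exact ⟨n, hn, c, ⟨hc.1, C_anti h1 hc.2⟩, rfl⟩
  · exact fun E hE g hg => ⟨g, ⟨h E hE hg, hg.1⟩, 1, one_mem _, (mul_one g).symm⟩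

end H26.LM
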