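import Mathlib
import Cfsg.Agent.H26.LM0
import Cfsg.Agent.H26.LK1

set_option autoImplicit false
set_option linter.unusedVariables false
set_option linter.unusedSectionVars false

namespace H26.LM

open Cfsg H24 H26.Gold Subgroup Matrix
open scoped commutatorElement

universe u v

variable {G : Type u} [Group G] [Finite G] {F : Type v} [Field F] [Finite F] [CharP F 2] {k m : ℕ}
  {H S E K Y Z0 M0 B R : Subgroup G} {𝓑 : Set G} {b c g t x y : G}

namespace MRx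

variable (M : Mod G F (k + 4))

theorem mul_rw' {n : Mx F (k + 4)} (hn : SU n) {φ : Fin (k + 4) → F} (h : φ 0 = 0) :
    M.ι n * M.ι (rw_ φ) = M.ι (n + rw_ φ) := by
  rw [← M.mul hn (su_rw h), hn.mul_rw, add_zero]

theorem comm_inv_rw {n : Mx F (k + 4)} (hn : SU n) {φ : Fin (k + 4) → F} (h : φ 0 = 0) :
    ⁅(M.ι n)⁻¹, M.ι (rw_ φ)⁆ = M.ι (rw_ (φ ᵥ* n)) := by
  have ha := su_rw h
  have e := M.conj_sq ha (ha.mul_rw _) hn
  rw [hn.mul_rw, add_zero, (ha.mul hn).mul_rw, add_zero, rw_mul,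
    ← mul_rw' M hn (hn.vecMul_zero φ)] at e
  rw [commutatorElement_def, inv_inv]
  calc (M.ι n)⁻¹ * M.ι (rw_ φ) * M.ι n * (M.ι (rw_ φ))⁻¹
      = (M.ι n)⁻¹ * (M.ι (rw_ φ) * M.ι n * (M.ι (rw_ φ))⁻¹) := by group
    _ = _ := by rw [e]; group

theorem rwA {φ : Fin (k + 4) → F} (h : φ 0 = 0) : M.ι (rw_ φ) ∈ M.A := M.mem_A.2 ⟨_, h, rfl⟩

theorem ev_zero {j : Fin (k + 4)} (h : 0 < j.val) : ev F j 0 = 0 :=
  ev_ne fun e => by rw [← e] at h; simp at h

theorem evA {i : ℕ} (h1 : 1 ≤ i) {j : Fin (k + 4)} (h : i ≤ j.val) :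
    M.ι (rw_ (ev F j)) ∈ M.A ⊓ M.R i :=
  mem_inf.2 ⟨rwA M (ev_zero (by omega)), (M.rw_mem_R (ev_zero (by omega)) (by omega)).2
    fun a ha => ev_ne fun e => by rw [e] at ha; omega⟩

theorem row_zero {i : ℕ} (h1 : 1 ≤ i) {n : Mx F (k + 4)} (hn : SU n)
    (hc : M.ι n ∈ C[M.A ⊓ M.R i]) {j : Fin (k + 4)} (h : i ≤ j.val) (l : Fin (k + 4)) :
    n j l = 0 := by
  have := (M.comm_iff (su_rw (ev_zero (j := j) (by omega))) hn).1 (mem_C.1 hc _ (evA M h1 h))
  rw [hn.mul_rw, rw_mul, rw_eq_zero, ev_vecMul] at this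
  exact congrFun this l

theorem step {i : ℕ} (h1 : 1 ≤ i) (h2 : i ≤ k + 1) :
    M.A ⊓ M.R i = M.A ⊓ centQ M.UL (M.A ⊓ M.R (i + 1)) := by
  have hN : M.S ≤ N[M.A ⊓ M.R (i + 1)] := norm_inf M.A_norm (M.R_norm _)
  have hU : M.UL ≤ M.S := M.U_le _
  ext x
  rw [mem_inf, mem_inf, mem_centQ (hU.trans hN)]
  refine and_congr_right fun hx => ?_
  obtain ⟨φ, φ0, rfl⟩ := M.mem_A.1 hx
  rw [M.rw_mem_R φ0 (by omega)]
  constructor
  · intro h
    refine ⟨hN (M.A_le hx), fun u hu => ?_⟩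
    obtain ⟨n, hn, e⟩ := (M.mem u⁻¹).1 (inv_mem (hU hu))
    have e' : u = (M.ι n)⁻¹ := by rw [e, inv_inv]
    rw [e', ← inv_mem_iff, commutatorElement_inv, comm_inv_rw M hn φ0]
    refine mem_inf.2 ⟨rwA M (hn.vecMul_zero φ),
      (M.rw_mem_R (hn.vecMul_zero φ) (by omega)).2 fun a ha => ?_⟩
    rw [vecMul, dotProduct]
    refine Finset.sum_eq_zero fun l _ => ?_
    by_cases e : l.val < i
    · rw [h l e, zero_mul]
    · rw [hn l a (Fin.le_def.2 (by omega)), mul_zero]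
  · rintro ⟨-, h⟩ a ha
    let a' : Fin (k + 4) := ⟨a.val + 1, by omega⟩
    have hn : SU (vecMulVec (ev F a) (ev F a')) :=
      su_vmv (a.val + 1) (fun c hc => ev_ne fun e => by rw [e] at hc; omega)
        (fun c hc => ev_ne fun e => by rw [e] at hc; simp [a'] at hc)
    have hu : M.ι (vecMulVec (ev F a) (ev F a')) ∈ M.UL := by
      rw [M.mem_UL hn, vecMulVec_apply, ev_ne (i := a) fun e => by rw [← e] at ha; simp at ha; omega,
        zero_mul]
    have := h _ (inv_mem hu)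
    rw [← inv_mem_iff, commutatorElement_inv, comm_inv_rw M hn φ0] at this
    have := (M.rw_mem_R (hn.vecMul_zero φ) (by omega)).1 this.2 a' (by simp [a']; omega)
    rwa [vecMul_vecMulVec, dot_ev, Pi.smul_apply, ev_self, smul_eq_mul, mul_one] at this

theorem normAi (hF : Big F) : ∀ d i : ℕ, i + d = k + 2 → 1 ≤ i → N[M.UL] ≤ N[M.A ⊓ M.R i] := by
  intro d
  induction d with
  | zero =>
    intro i e _
    obtain rfl : i = k + 2 := by omega
    rw [← M.Om_UL]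
    exact norm_Om' _
  | succ d ih =>
    intro i e h1
    rw [step M h1 (by omega)]
    exact norm_inf (M.k1a hF) (norm_centQ le_rfl (ih (i + 1) (by omega) (by omega)))
where
  norm_Om' (E : Subgroup G) : N[E] ≤ N[Om E] := fun g hg => mem_N_of_finite fun x hx =>
    ⟨conj_mem hg hx.1, conj_mem (N_le_NC _ hg) hx.2.1, by
      calc g * x * g⁻¹ * (g * x * g⁻¹) = g * (x * x) * g⁻¹ := by group
        _ = 1 := by rw [hx.2.2]; group⟩

/-- the subgroup `R_i A` -/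
def Yi (i : ℕ) : Subgroup G := M.UL ⊓ C[M.A ⊓ M.R i] ⊓ centQ M.A (M.A ⊓ M.R i)

theorem R_le_Y {i : ℕ} (h1 : 1 ≤ i) (h2 : i ≤ k + 2) : M.R i ≤ Yi M i := fun x hx => by
  have hN : M.S ≤ N[M.A ⊓ M.R i] := norm_inf M.A_norm (M.R_norm _)
  refine mem_inf.2 ⟨mem_inf.2 ⟨?_, mem_C.2 fun y hy => Mod.ea_comm (M.R_ea i) hy.2 hx⟩,
    (mem_centQ (M.A_le.trans hN)).2 ⟨hN (M.R_le _ hx), fun u hu => mem_inf.2 ⟨?_, ?_⟩⟩⟩
  · obtain ⟨n, hn, rfl⟩ := (M.mem x).1 (M.R_le _ hx)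
    rw [M.mem_UL hn]
    exact (M.mem_R hn).1 hx _ _ (by simp; omega)
  · rw [commutatorElement_def]
    exact mul_mem (conj_mem (M.A_norm (M.R_le _ hx)) hu) (inv_mem hu)
  · have e : ⁅x, u⁆ = x * (u * x⁻¹ * u⁻¹) := by rw [commutatorElement_def]; group
    rw [e]
    exact mul_mem hx (conj_mem (M.R_norm _ (M.A_le hu)) (inv_mem hx))

theorem Y_split {i : ℕ} (h1 : 1 ≤ i) (hx : x ∈ Yi M i) : ∃ r ∈ M.R i, ∃ a ∈ M.A, x = r * a := by
  have hN : M.S ≤ N[M.A ⊓ M.R i] := norm_inf M.A_norm (M.R_norm _)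
  obtain ⟨n, hn, rfl⟩ := (M.mem x).1 (M.U_le _ hx.1.1)
  have r1 := fun j h l => row_zero M h1 hn hx.1.2 (j := j) h l
  have r2 : ∀ j l : Fin (k + 4), 0 < j.val → l.val < i → n j l = 0 := fun j l hj hl => by
    have := ((mem_centQ (M.A_le.trans hN)).1 (inv_mem hx.2)).2 _ (rwA M (ev_zero (F := F) hj))
    rw [comm_inv_rw M hn (ev_zero hj)] at this
    have := (M.rw_mem_R (hn.vecMul_zero _) (by omega)).1 this.2 l hl
    rwa [ev_vecMul] at this
  let φ : Fin (k + 4) → F := fun j => if j.val < i then n 0 j else 0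
  have φ0 : φ 0 = 0 := by simp [φ, hn 0 0 le_rfl]
  have hs : SU (n + rw_ φ) := hn.add (su_rw φ0)
  refine ⟨M.ι (n + rw_ φ), (M.mem_R hs).2 fun a b hab => ?_, M.ι (rw_ φ), rwA M φ0, ?_⟩
  · rw [Matrix.add_apply, rw_apply]
    by_cases e : a = 0
    · subst e
      have hb : b.val < i := by simp at hab; omega
      simp only [φ, hb, if_true]
      exact CharTwo.add_self_eq_zero _
    · have ha : 0 < a.val := Nat.pos_of_ne_zero fun t => e (Fin.ext t)
      rw [if_neg e, add_zero]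
      by_cases hb : b.val < i
      · exact r2 a b ha hb
      · exact r1 a (by omega) b
  · rw [mul_rw' M hs φ0, add_assoc, add_self_mx, add_zero]

end MRx

open MRx

/-! ### LMR -/

theorem Mod.nR (M : Mod G F (k + 4)) (hF : Big F) {i : ℕ} (h1 : 1 ≤ i) (h2 : i ≤ k + 2) :
    N[M.UL] ≤ N[M.R i] := by
  intro h hh
  have nA : h ∈ N[M.A] := M.k1a hF hh
  have nAi' := normAi M hF (k + 2 - i) i (by omega) h1
  have nAi : h ∈ N[M.A ⊓ M.R i] := nAi' hh
  have nY : h ∈ N[Yi M i] :=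
    norm_inf (norm_inf le_rfl (norm_C nAi')) (norm_centQ (M.k1a hF) nAi') hh
  have YS : Yi M i ≤ M.S := fun x hx => M.U_le _ hx.1.1
  have R'S : cj h (M.R i) ≤ M.S := (cj_le_of_mem_N (R_le_Y M h1 h2) nY).trans YS
  have ab : ∀ x ∈ cj h (M.R i), ∀ y ∈ cj h (M.R i), x * y = y * x := fun x hx y hy => by
    obtain ⟨x', hx', rfl⟩ := mem_cj'.1 hx
    obtain ⟨y', hy', rfl⟩ := mem_cj'.1 hy
    calc h * x' * h⁻¹ * (h * y' * h⁻¹) = h * (x' * y') * h⁻¹ := by group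
      _ = h * (y' * x') * h⁻¹ := by rw [Mod.ea_comm (M.R_ea i) hx' hy']
      _ = _ := by group
  have su : ∀ a b : Fin (k + 4), a.val < i → i ≤ b.val → SU (vecMulVec (ev F a) (ev F b)) :=
    fun a b ha hb => su_vmv i (fun c hc => ev_ne fun e => by rw [e] at hc; omega)
      (fun c hc => ev_ne fun e => by rw [e] at hc; omega)
  have k1 : ∀ a b : Fin (k + 4), a.val < i → i ≤ b.val → ∃ φ : Fin (k + 4) → F, φ 0 = 0 ∧
      M.ι (vecMulVec (ev F a) (ev F b) + rw_ φ) ∈ cj h (M.R i) := fun a b ha hb => by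
    have hx : M.ι (vecMulVec (ev F a) (ev F b)) ∈ M.R i :=
      M.vmv_mem_R (fun c hc => ev_ne fun e => by rw [e] at hc; omega)
        (fun c hc => ev_ne fun e => by rw [e] at hc; omega)
    obtain ⟨r, hr, u, hu, e⟩ := Y_split M h1 (conj_mem' nY (R_le_Y M h1 h2 hx))
    obtain ⟨φ, φ0, eφ⟩ := M.mem_A.1 (conj_mem nA (inv_mem hu))
    refine ⟨φ, φ0, ?_⟩
    rw [← mul_rw' M (su a b ha hb) φ0, eφ, mem_cj]
    have : h⁻¹ * (M.ι (vecMulVec (ev F a) (ev F b)) * (h * u⁻¹ * h⁻¹)) * h =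
        (h⁻¹ * M.ι (vecMulVec (ev F a) (ev F b)) * h) * u⁻¹ := by group
    rw [this, e, mul_inv_cancel_right]
    exact hr
  have k2 : ∀ a b : Fin (k + 4), a.val < i → i ≤ b.val →
      M.ι (vecMulVec (ev F a) (ev F b)) ∈ cj h (M.R i) := fun a b ha hb => by
    obtain ⟨φ, φ0, hφ⟩ := k1 a b ha hb
    have low : ∀ j : Fin (k + 4), j.val < i → φ j = 0 := fun j hj => by
      obtain ⟨b', hb', ne⟩ : ∃ b' : Fin (k + 4), i ≤ b'.val ∧ b' ≠ b := by
        by_cases e : b = iN k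
        · exact ⟨iP k, by simpa using h2, fun t => by rw [e] at t; simpa using congrArg Fin.val t⟩
        · exact ⟨iN k, by simp; omega, Ne.symm e⟩
      obtain ⟨φ', φ0', hφ'⟩ := k1 j b' hj hb'
      have e := (M.comm_iff ((su a b ha hb).add (su_rw φ0)) ((su j b' hj hb').add (su_rw φ0'))).1
        (ab _ hφ _ hφ')
      have z1 : ev F b j = 0 := ev_ne fun e => by rw [e] at hj; omega
      have z2 : ev F b' a = 0 := ev_ne fun e => by rw [e] at ha; omega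
      rw [mul_add, mul_add, ((su a b ha hb).add (su_rw φ0)).mul_rw,
        ((su j b' hj hb').add (su_rw φ0')).mul_rw, add_zero, add_zero, add_mul, add_mul,
        vmv_mul_vmv, vmv_mul_vmv, rw_mul, rw_mul, vecMul_vecMulVec, vecMul_vecMulVec] at e
      simp only [dot_ev] at e
      rw [z1, z2, zero_smul, zero_smul, zero_add, zero_add] at e
      have e2 := congrFun (congrFun e 0) b'
      rw [rw_apply, rw_apply, if_pos rfl, if_pos rfl, Pi.smul_apply, Pi.smul_apply, ev_self,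
        ev_ne ne] at e2
      simpa using e2
    have hA : M.ι (rw_ φ) ∈ cj h (M.R i) :=
      mem_cj.2 (conj_mem' nAi (mem_inf.2 ⟨rwA M φ0, (M.rw_mem_R φ0 (by omega)).2 low⟩)).2
    rw [← mul_rw' M (su a b ha hb) φ0] at hφ
    exact (mul_mem_cancel_right hA).1 hφ
  refine mem_N_of_cj_le fun x hx => ?_
  obtain ⟨n, hn, rfl⟩ := (M.mem x).1 (R'S hx)
  have k3 : ∀ a b : Fin (k + 4), a.val < i → i ≤ b.val →
      n * vecMulVec (ev F a) (ev F b) = vecMulVec (ev F a) (ev F b) * n := fun a b ha hb =>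
    (M.comm_iff hn (su a b ha hb)).1 (ab _ hx _ (k2 a b ha hb))
  refine (M.mem_R hn).2 fun c d hcd => ?_
  by_cases hd : d.val < i
  · have e := congrFun (congrFun (k3 d (iN k) hd (by simp; omega)) c) (iN k)
    rw [mul_vecMulVec, vecMulVec_mul, hn.last_vecMul, vecMulVec_apply, vecMulVec_apply, mulVec_ev,
      ev_self] at e
    simpa using e
  · have e := congrFun (congrFun (k3 0 c (by simp; omega) (by omega)) 0) d
    rw [mul_vecMulVec, vecMulVec_mul, hn.mulVec_zero, vecMulVec_apply, vecMulVec_apply, ev_vecMul,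
      ev_self] at e
    simpa using e.symm

theorem Mod.cent_R (M : Mod G F (k + 4)) {i : ℕ} (h1 : 1 ≤ i) (h2 : i ≤ k + 3) :
    M.A' ⊓ C[M.A ⊓ M.R i] = M.A' ⊓ M.R i ∧
      M.S ⊓ C[M.A ⊓ M.R i] ⊓ C[M.A' ⊓ M.R i] = M.R i := by
  have c1 : ∀ X : Subgroup G, M.R i ≤ C[X ⊓ M.R i] := fun X x hx =>
    mem_C.2 fun y hy => Mod.ea_comm (M.R_ea i) hy.2 hx
  refine ⟨le_antisymm (fun x hx => mem_inf.2 ⟨hx.1, ?_⟩)
    (le_inf inf_le_left (inf_le_right.trans (c1 _))),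
    le_antisymm (fun x hx => ?_) (le_inf (le_inf (M.R_le _) (c1 _)) (c1 _))⟩
  · obtain ⟨w, hw, rfl⟩ := M.mem_A'.1 hx.1
    refine (M.mem_R (su_cl hw)).2 fun a b hab => ?_
    by_cases ha : a.val < i
    · rw [cl_apply, if_neg]
      rintro rfl
      simp at hab
      omega
    · exact row_zero M h1 (su_cl hw) hx.2 (by omega) b
  · obtain ⟨n, hn, rfl⟩ := (M.mem x).1 hx.1.1
    refine (M.mem_R hn).2 fun a b hab => ?_
    by_cases hb : b.val < i
    · have hw : ev F b (iN k) = 0 := ev_ne fun e => by rw [← e] at hb; simp at hb; omega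
      have hm : M.ι (cl (ev F b)) ∈ M.A' ⊓ M.R i :=
        mem_inf.2 ⟨M.mem_A'.2 ⟨_, hw, rfl⟩,
          M.vmv_mem_R (fun c hc => ev_ne fun e => by rw [e] at hc; omega)
            (fun c hc => ev_ne fun e => by rw [e] at hc; simp at hc; omega)⟩
      have := (M.comm_iff (su_cl hw) hn).1 (mem_C.1 hx.2 _ hm)
      rw [hn.cl_mul, mul_cl, eq_comm, cl_eq_zero, mulVec_ev] at this
      exact congrFun this a
    · exact row_zero M h1 hn hx.1.2 (by omega) b

end H26.LM
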