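import Mathlib
import Cfsg.Agent.H26.LM0
import Cfsg.Agent.H26.LMA
import Cfsg.Agent.H26.LK1
import Cfsg.Agent.H26.LK2
import Cfsg.Agent.H26.LK4
import Cfsg.Agent.H26.LE1
import Cfsg.Agent.H26.LE2
import Cfsg.Agent.H26.LE3
import Cfsg.Agent.H26.LD2
import Cfsg.Agent.H26.LMR

set_option autoImplicit false
set_option linter.unusedVariables false
set_option linter.unusedSectionVars false

namespace H26.LM

open Cfsg H24 H26.Gold Subgroup Matrix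
open scoped commutatorElement

universe u v

variable {G : Type u} [Group G] [Finite G] {F : Type v} [Field F] [Finite F] [CharP F 2] {k m : ℕ}
  {H S E K Y Z0 M0 B R : Subgroup G} {𝓑 : Set G} {b c g t x y : G}

/-! ### LES -/

theorem Mod.normA_of_Q (M : Mod G F (k + 4)) (hF : Big F) (hQ : M.Q ≤ E) (hE : E ≤ M.S) :
    N[E] ≤ N[M.A] := (M.k1b hQ hE).trans (M.k1c hF)
theorem Mod.normA'_of_Q (M : Mod G F (k + 4)) (hF : Big F) (hQ : M.Q ≤ E) (hE : E ≤ M.S) :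
    N[E] ≤ N[M.A'] := by
  simpa using M.flip.normA_of_Q (E := E) hF (by simpa using hQ) hE
theorem Mod.k1a' (M : Mod G F (k + 4)) (hF : Big F) : N[M.UF] ≤ N[M.A'] := by
  simpa using M.flip.k1a hF

theorem Mod.wcA (M : Mod G F (k + 4)) (hF : Big F) : WC M.S M.A := by
  refine alp_wc M.syl (fun E hE hA => ?_) M.A_le
  rcases hE with rfl | ⟨M0, h⟩
  · exact M.normA_of_Q hF M.Q_le le_rfl
  by_cases hA' : M.A' ≤ E
  · exact M.normA_of_Q hF (M.Q_eq ▸ sup_le hA hA') h.lt.le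
  · rw [(M.e1 h hA hA').1]; exact M.k1a hF
theorem Mod.wcA' (M : Mod G F (k + 4)) (hF : Big F) : WC M.S M.A' := by
  simpa using M.flip.wcA hF
theorem Mod.ess (M : Mod G F (k + 4)) (hF : Big F) (h : Es H M.S E M0) :
    M.Q ≤ E ∨
      (E = M.UL ∧ ∃ g ∈ H ⊓ N[E], M.Z ⊓ cj g M.Z = ⊥ ∧
        ∀ x ∈ Om E, x ∈ M.Z ∨ ∃ s ∈ M.A', s * x * s⁻¹ ∈ cj g M.Z) ∨
      (E = M.UF ∧ ∃ g ∈ H ⊓ N[E], M.Z ⊓ cj g M.Z = ⊥ ∧
        ∀ x ∈ Om E, x ∈ M.Z ∨ ∃ s ∈ M.A, s * x * s⁻¹ ∈ cj g M.Z) := by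
  by_cases hA : M.A ≤ E <;> by_cases hA' : M.A' ≤ E
  · exact Or.inl (M.Q_eq ▸ sup_le hA hA')
  · exact Or.inr (Or.inl (M.e1 h hA hA'))
  · exact Or.inr (Or.inr (by simpa using M.flip.e1 (E := E) h (by simpa using hA') (by simpa using hA)))
  exfalso
  obtain ⟨b, hb, bN, bE, -⟩ := up M.two h.lt.le M.A_le (h.lt.le.trans M.A_norm) hA
  obtain ⟨g, d⟩ := h.dih (mem_inf.2 ⟨M.A_le hb, bN⟩) bE (Mod.ea_sq (M.R_ea _) hb)
  have hC := d.case1 h.SH (M.case2 h.cent d (M.A_le_Q hb))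
  by_cases h0 : ∃ e ∈ M.alg E, ∃ n ∈ M.alg (Om E), e * n ≠ 0
  · obtain ⟨b, hb, c, hc, bN, cN, bE, cE, bc⟩ := M.e2 h hC h0
    exact M.d2 hF h hC hb hc bN cN bE cE bc
  · push Not at h0
    exact M.e3 h hC (M.wcA hF) hA hA' h0
theorem conj_mem_of_N (hg : g ∈ N[R]) (hx : x ∈ R) : g * x * g⁻¹ ∈ R := (mem_normalizer_iff.1 hg x).1 hx
/-- `A` is strongly closed with respect to every overgroup of `S` centralizing an element of `Z#` -/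
theorem Mod.stcA (M : Mod G F (k + 4)) (hF : Big F) (hH : M.S ≤ H) (hx : x ∈ M.Z) (x1 : x ≠ 1)
    (hc : H ≤ C{x}) : StC H M.S M.A ∧ StC H M.S M.A' := by
  have key : ∀ E, AFam H M.S E → M.Q ≤ E ∧ E ≤ M.S := by
    rintro E (rfl | ⟨M0, h⟩)
    · exact ⟨M.Q_le, le_rfl⟩
    have t : ∀ g ∈ H ⊓ N[E], M.Z ⊓ cj g M.Z ≠ ⊥ := fun g hg e => x1 (mem_bot.1 (e ▸ mem_inf.2 ⟨hx,
      mem_cj'.2 ⟨x, hx, by rw [mem_C1.1 (hc (mem_inf.1 hg).1), mul_inv_cancel_right]⟩⟩))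
    rcases M.ess hF h with e | ⟨-, g, hg, e, -⟩ | ⟨-, g, hg, e, -⟩
    · exact ⟨e, h.lt.le⟩
    · exact (t g hg e).elim
    · exact (t g hg e).elim
  exact ⟨alp_sc (M.sylH hH) (fun E hE g hg y hy _ => conj_mem_of_N
      (M.normA_of_Q hF (key E hE).1 (key E hE).2 (mem_inf.1 hg).2) hy) M.A_le,
    alp_sc (M.sylH hH) (fun E hE g hg y hy _ => conj_mem_of_N
      (M.normA'_of_Q hF (key E hE).1 (key E hE).2 (mem_inf.1 hg).2) hy) M.A'_le⟩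

end H26.LM
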