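import Mathlib
import Cfsg.Agent.H5.LySE
import Cfsg.Agent.H5.LyI
import Cfsg.Agent.H5.LyAut

/-! Standard subgroups of type `2Aₙ` (`n = 8, 11`): permutation lemmas. -/

set_option autoImplicit false
set_option linter.unusedSectionVars false
set_option linter.unusedVariables false
set_option maxRecDepth 100000

namespace H26
namespace LS

open H5.Ly Equiv Equiv.Perm H29

section gen

variable {α : Type*} [DecidableEq α]

/-- the 3-cycle `a → b → c → a` -/
def c3 (a b c : α) : Perm α := swap a b * swap b c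

theorem c3_a {a b c : α} (hab : a ≠ b) (hac : a ≠ c) : c3 a b c a = b := by
  rw [c3, mul_apply, swap_apply_of_ne_of_ne hab hac, swap_apply_left]

theorem c3_b {a b c : α} (hac : a ≠ c) (hbc : b ≠ c) : c3 a b c b = c := by
  rw [c3, mul_apply, swap_apply_left, swap_apply_of_ne_of_ne hac.symm hbc.symm]

theorem c3_o {a b c x : α} (h1 : x ≠ a) (h2 : x ≠ b) (h3 : x ≠ c) : c3 a b c x = x :=
  sw2_fix h1 h2 h2 h3

theorem c3_conj (f : Perm α) (a b c : α) : f * c3 a b c * f⁻¹ = c3 (f a) (f b) (f c) := by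
  rw [c3, c3, swap_apply_apply, swap_apply_apply]; group

theorem c3_comm {a b c d e f : α} (h1 : a ≠ d) (h2 : a ≠ e) (h3 : a ≠ f) (h4 : b ≠ d) (h5 : b ≠ e)
    (h6 : b ≠ f) (h7 : c ≠ d) (h8 : c ≠ e) (h9 : c ≠ f) : Commute (c3 a b c) (c3 d e f) :=
  Equiv.Perm.Disjoint.commute fun x => by
    by_cases ha : x = a
    · exact Or.inr (ha ▸ c3_o h1 h2 h3)
    by_cases hb : x = b
    · exact Or.inr (hb ▸ c3_o h4 h5 h6)
    by_cases hc : x = c
    · exact Or.inr (hc ▸ c3_o h7 h8 h9)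
    exact Or.inl (c3_o ha hb hc)

theorem exists_out [Fintype α] {S : Finset α} (T : Finset α) (h : T.card < S.card) :
    ∃ x ∈ S, x ∉ T := Finset.exists_mem_notMem_of_card_lt_card h

/-- a pair of 3-cycles interchanged by `υ` -/
theorem wit_two {υ τ : Perm α} (hυ : ∀ x, υ (υ x) = x) (hτ : ∀ x, τ (τ x) = x)
    (hc : ∀ x, υ (τ x) = τ (υ x)) {x u : α} (h1 : τ x ≠ x) (h2 : υ x ≠ x) (h3 : υ x ≠ τ x)
    (h4 : υ u ≠ u) (h5 : u ≠ x) (h6 : u ≠ τ x) (h7 : u ≠ υ x) (h8 : u ≠ τ (υ x)) :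
    ∃ ρ : Perm α, ρ ^ 3 = 1 ∧ (∀ i, υ i = i → τ i = i → ρ i = i) ∧ υ * ρ = ρ * υ ∧
      τ * ρ ≠ ρ * τ := by
  have e1 := hυ x
  have e2 := hυ u
  have e3 := hτ x
  have e4 := hc x
  have e5 := hτ (υ x)
  have e6 := hc (υ x)
  have i1 : ∀ a b, υ a = υ b → a = b := fun a b h => υ.injective h
  have i2 : ∀ a b, τ a = τ b → a = b := fun a b h => τ.injective h
  have hcm : Commute (c3 x (τ x) u) (c3 (υ x) (τ (υ x)) (υ u)) := by
    apply c3_comm <;> grind
  refine ⟨c3 x (τ x) u * c3 (υ x) (τ (υ x)) (υ u), ?_, fun i a b => ?_, ?_, fun h => ?_⟩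
  · rw [hcm.mul_pow, c3, c3, c3_cube (by grind) (by grind) (by grind),
      c3_cube (by grind) (by grind) (by grind), one_mul]
  · rw [mul_apply, c3_o (x := i) (by grind) (by grind) (by grind),
      c3_o (by grind) (by grind) (by grind)]
  · rw [← mul_inv_eq_iff_eq_mul, show υ * (c3 x (τ x) u * c3 (υ x) (τ (υ x)) (υ u)) * υ⁻¹ =
      υ * c3 x (τ x) u * υ⁻¹ * (υ * c3 (υ x) (τ (υ x)) (υ u) * υ⁻¹) by group, c3_conj, c3_conj,
      e4, e6, e1, e2, hcm.eq]
  · have := congrArg (· x) h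
    simp only [mul_apply] at this
    rw [c3_o (x := x) (by grind) (by grind) (by grind), c3_a h1.symm h5.symm,
      c3_o (x := τ x) (by grind) (by grind) (by grind), c3_b h5.symm h6.symm, e3] at this
    exact h5 this.symm

theorem wit_one {υ τ : Perm α} (hτ : ∀ x, τ (τ x) = x) (hc : ∀ x, υ (τ x) = τ (υ x)) {x y : α}
    (h1 : τ x ≠ x) (h2 : τ y ≠ y) (h3 : υ x = x) (h4 : υ y = y) (h5 : y ≠ x) (h6 : y ≠ τ x) :
    ∃ ρ : Perm α, ρ ^ 3 = 1 ∧ (∀ i, υ i = i → τ i = i → ρ i = i) ∧ υ * ρ = ρ * υ ∧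
      τ * ρ ≠ ρ * τ := by
  have e3 := hτ x
  refine ⟨c3 x (τ x) y, c3_cube h1.symm h5.symm h6.symm, fun i a b => ?_, ?_, fun h => ?_⟩
  · exact c3_o (by grind) (by grind) (by grind)
  · rw [← mul_inv_eq_iff_eq_mul, c3_conj, hc, h3, h4]
  · have := congrArg (· x) h
    simp only [mul_apply] at this
    rw [c3_a h1.symm h5.symm, c3_b h5.symm h6.symm, e3] at this
    exact h5 this.symm

theorem witness [Fintype α] {υ τ : Perm α} (hυ : υ * υ = 1) (hτ : τ * τ = 1) (hc : υ * τ = τ * υ)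
    (h8 : 5 ≤ τ.support.card) :
    ∃ ρ : Perm α, ρ ^ 3 = 1 ∧ (∀ i, υ i = i → τ i = i → ρ i = i) ∧
      (υ * ρ = ρ * υ ∨ υ * τ * ρ = ρ * (υ * τ)) ∧ τ * ρ ≠ ρ * τ := by
  have a1 : ∀ x, υ (υ x) = x := fun x => by rw [← mul_apply, hυ, one_apply]
  have a2 : ∀ x, τ (τ x) = x := fun x => by rw [← mul_apply, hτ, one_apply]
  have a3 : ∀ x, υ (τ x) = τ (υ x) := fun x => by rw [← mul_apply, hc, mul_apply]
  have b1 : ∀ x, (υ * τ) ((υ * τ) x) = x := fun x => by
    rw [mul_apply, mul_apply, ← a3, a1, a2]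
  have b3 : ∀ x, (υ * τ) (τ x) = τ ((υ * τ) x) := fun x => by rw [mul_apply, mul_apply, a3]
  have fin : (∃ ρ : Perm α, ρ ^ 3 = 1 ∧ (∀ i, (υ * τ) i = i → τ i = i → ρ i = i) ∧
      υ * τ * ρ = ρ * (υ * τ) ∧ τ * ρ ≠ ρ * τ) → ∃ ρ : Perm α, ρ ^ 3 = 1 ∧
      (∀ i, υ i = i → τ i = i → ρ i = i) ∧
      (υ * ρ = ρ * υ ∨ υ * τ * ρ = ρ * (υ * τ)) ∧ τ * ρ ≠ ρ * τ := fun ⟨ρ, h1, h2, h3, h4⟩ =>
    ⟨ρ, h1, fun i a b => h2 i (by rw [mul_apply, b, a]) b, Or.inr h3, h4⟩
  have fin' : (∃ ρ : Perm α, ρ ^ 3 = 1 ∧ (∀ i, υ i = i → τ i = i → ρ i = i) ∧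
      υ * ρ = ρ * υ ∧ τ * ρ ≠ ρ * τ) → ∃ ρ : Perm α, ρ ^ 3 = 1 ∧
      (∀ i, υ i = i → τ i = i → ρ i = i) ∧
      (υ * ρ = ρ * υ ∨ υ * τ * ρ = ρ * (υ * τ)) ∧ τ * ρ ≠ ρ * τ := fun ⟨ρ, h1, h2, h3, h4⟩ =>
    ⟨ρ, h1, h2, Or.inl h3, h4⟩
  by_cases h : ∃ x, τ x ≠ x ∧ υ x ≠ x ∧ υ x ≠ τ x
  · obtain ⟨x, h1, h2, h3⟩ := h
    obtain ⟨u, hu, hu'⟩ := exists_out (S := τ.support) {x, τ x, υ x, τ (υ x)}
      (lt_of_le_of_lt Finset.card_le_four (by omega))
    simp only [Finset.mem_insert, Finset.mem_singleton, not_or] at hu'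
    rw [mem_support] at hu
    by_cases h4 : υ u = u
    · refine fin (wit_two b1 a2 b3 h1 (u := u) ?_ ?_ ?_ hu'.1 hu'.2.1 ?_ ?_) <;>
        simp only [mul_apply] <;> grind
    · exact fin' (wit_two a1 a2 a3 h1 h2 h3 h4 hu'.1 hu'.2.1 hu'.2.2.1 hu'.2.2.2)
  · push Not at h
    obtain ⟨x, hx, -⟩ := exists_out (S := τ.support) ∅ (by rw [Finset.card_empty]; omega)
    obtain ⟨y, hy, hy'⟩ := exists_out (S := τ.support) {x, τ x}
      (lt_of_le_of_lt Finset.card_le_two (by omega))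
    obtain ⟨w, hw, hw'⟩ := exists_out (S := τ.support) {x, τ x, y, τ y}
      (lt_of_le_of_lt Finset.card_le_four (by omega))
    simp only [Finset.mem_insert, Finset.mem_singleton, not_or] at hy' hw'
    rw [mem_support] at hx hy hw
    have k : ∀ p, τ p ≠ p → υ p ≠ p → (υ * τ) p = p := fun p h1 h2 => by
      rw [mul_apply, a3, h p h1 h2, a2]
    by_cases h1 : υ x = x <;> by_cases h2 : υ y = y <;> by_cases h3 : υ w = w
    · exact fin' (wit_one a2 a3 hx hy h1 h2 hy'.1 hy'.2)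
    · exact fin' (wit_one a2 a3 hx hy h1 h2 hy'.1 hy'.2)
    · exact fin' (wit_one a2 a3 hx hw h1 h3 hw'.1 hw'.2.1)
    · exact fin (wit_one a2 b3 hy hw (k y hy h2) (k w hw h3) hw'.2.2.1 hw'.2.2.2)
    · exact fin' (wit_one a2 a3 hy hw h2 h3 hw'.2.2.1 hw'.2.2.2)
    · exact fin (wit_one a2 b3 hx hw (k x hx h1) (k w hw h3) hw'.1 hw'.2.1)
    · exact fin (wit_one a2 b3 hx hy (k x hx h1) (k y hy h2) hy'.1 hy'.2)
    · exact fin (wit_one a2 b3 hx hy (k x hx h1) (k y hy h2) hy'.1 hy'.2)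

theorem five_le [Fintype α] {τ a b : Perm α} (h1 : τ ≠ 1) (h2 : τ * τ = 1) (ha : a * a = τ)
    (hb : b * b = τ) (hab : a * b * (a * b) = τ) : 5 ≤ τ.support.card := by
  obtain ⟨x, hx⟩ : ∃ x, τ x ≠ x := by
    by_contra h; exact h1 (Equiv.ext fun x => by simpa using fun h3 => h ⟨x, h3⟩)
  have a2 : ∀ x, τ (τ x) = x := fun x => by rw [← mul_apply, h2, one_apply]
  have key : ∀ c : Perm α, c * c = τ → ∀ y, τ y ≠ y → c y ≠ y ∧ c y ≠ τ y ∧ τ (c y) ≠ c y :=
    fun c hc y hy => by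
      have e1 : ∀ p, c (c p) = τ p := fun p => by rw [← mul_apply, hc]
      have e2 := e1 y
      have e3 := e1 (c y)
      have e4 := a2 y
      have i1 : ∀ a b, c a = c b → a = b := fun a b h => c.injective h
      grind
  obtain ⟨b1, b2, b3⟩ := key b hb x hx
  obtain ⟨c1, c2, c3⟩ := key a ha (b x) b3
  obtain ⟨d1, d2, -⟩ := key (a * b) hab x hx
  rw [mul_apply] at d1 d2
  have e4 := a2 x
  have e5 := a2 (b x)
  have hs : ({x, τ x, b x, τ (b x), a (b x)} : Finset α) ⊆ τ.support := fun p hp => by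
    simp only [Finset.mem_insert, Finset.mem_singleton] at hp
    rw [mem_support]
    grind
  refine le_trans (le_of_eq ?_) (Finset.card_le_card hs)
  rw [Finset.card_insert_of_notMem, Finset.card_insert_of_notMem, Finset.card_insert_of_notMem,
    Finset.card_pair] <;> grind

end gen

theorem eight_of {τ : Perm (Fin 11)} (h2 : τ * τ = 1) (hs : sign τ = 1)
    (h5 : 5 ≤ τ.support.card) : τ.support.card = 8 := by
  have h3 : τ ^ 2 = 1 := by rw [sq, h2]
  have h4 := sign_of_pow_two_eq_one h3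
  have h5 : τ.support.card ≤ 11 := by simpa using Finset.card_le_univ τ.support
  have h6 : Fintype.card (Function.fixedPoints τ) = 11 - τ.support.card := by
    rw [card_fixedPoints, sum_cycleType]; simp
  have h7 := two_dvd_card_support h3
  rw [hs, h6, Fintype.card_fin] at h4
  by_contra h8
  have h9 : τ.support.card = 10 ∨ τ.support.card = 6 := by omega
  rcases h9 with h9 | h9 <;> rw [h9] at h4 <;> exact absurd h4 (by decide)

variable {n : ℕ}

/-- fixing the points from `n` on -/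
def Fx (n : ℕ) (σ : Perm (Fin 11)) : Prop := ∀ i : Fin 11, n ≤ i.1 → σ i = i

theorem Fx.mul {σ τ : Perm (Fin 11)} (h : Fx n σ) (h' : Fx n τ) : Fx n (σ * τ) := fun i hi => by
  rw [mul_apply, h' i hi, h i hi]

theorem Fx.inv {σ : Perm (Fin 11)} (h : Fx n σ) : Fx n σ⁻¹ := fun i hi => by
  rw [Perm.inv_eq_iff_eq, h i hi]

theorem Fx.lt {σ : Perm (Fin 11)} (h : Fx n σ) {i : Fin 11} (hi : σ i ≠ i) : i.1 < n := by
  by_contra e; exact hi (h i (by omega))

theorem conj_mem {s m : PP 11} (hs : Fx n (pr s)) (hm : m ∈ Mn 11 n) : s * m * s⁻¹ ∈ Mn 11 n := by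
  refine ⟨?_, fun i hi => ?_⟩
  · simp only [map_mul, map_inv, hm.1, mul_one, mul_inv_cancel]
  · rw [map_mul, map_mul, map_inv]
    exact ((hs.mul hm.2).mul hs.inv) i hi

theorem card_lt_n (hn : n ≤ 11) : (Finset.univ.filter fun i : Fin 11 => i.1 < n).card = n := by
  interval_cases n <;> decide

theorem uniq (h8 : 8 ≤ n) (hn : n ≤ 11) {σ : Perm (Fin 11)} (hσ : Fx n σ)
    (h : ∀ m ∈ Mn 11 n, σ * pr m = pr m * σ) : σ = 1 := by
  refine Equiv.ext fun a => ?_
  by_contra ha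
  rw [one_apply] at ha
  obtain ⟨c, hc, hc'⟩ := exists_out (S := Finset.univ.filter fun i : Fin 11 => i.1 < n) {a, σ a}
    (lt_of_le_of_lt Finset.card_le_two (by rw [card_lt_n hn]; omega))
  obtain ⟨d, hd, hd'⟩ := exists_out (S := Finset.univ.filter fun i : Fin 11 => i.1 < n) {a, σ a, c}
    (lt_of_le_of_lt Finset.card_le_three (by rw [card_lt_n hn]; omega))
  simp only [Finset.mem_insert, Finset.mem_singleton, not_or, Finset.mem_filter, Finset.mem_univ,
    true_and] at hc hc' hd hd'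
  have h1 := congrArg (· a) (h _ (vv_mem (Ne.symm hc'.1) (Ne.symm hd'.2.2) (hσ.lt ha) hc hc hd))
  simp only [map_mul, pr_vv] at h1
  rw [mul_apply σ, mul_apply _ σ] at h1
  change σ (c3 a c d a) = c3 a c d (σ a) at h1
  rw [c3_a (Ne.symm hc'.1) (Ne.symm hd'.1), c3_o ha (Ne.symm hc'.2) (Ne.symm hd'.2.1)] at h1
  exact hc'.1 (σ.injective h1)

theorem two_comm' {s : PP 11} (h2 : ∀ x, pr s (pr s x) = x) {a c : Fin 11}
    (ha : a ≠ pr s a) (hc : c ≠ pr s c) : s * (vv ha * vv hc) = vv ha * vv hc * s := by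
  obtain ⟨e, he, he2, key⟩ : ∃ e : PP 11, (∀ x, e * x = x * e) ∧ e * e = 1 ∧
      ∀ {a : Fin 11} (ha : a ≠ pr s a), s * vv ha = e * vv ha * s := by
    rcases Int.units_eq_one_or (sign (pr s)) with hs | hs
    · exact ⟨zz, zz_comm, zz_mul_zz, fun {a} ha => by
        rw [even_vv hs ha, ← vv_symm ha, vv_congr ((pr s).injective.ne ha) ha.symm rfl (h2 a)]⟩
    · exact ⟨1, by simp, by simp, fun {a} ha => by
        rw [odd_vv hs ha, vv_congr ((pr s).injective.ne ha) ha.symm rfl (h2 a), vv_symm ha,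
          ← mul_assoc, ← mul_assoc, zz_mul_zz]⟩
  rw [← mul_assoc, key, mul_assoc _ s, key, ← mul_assoc, mul_assoc e, ← mul_assoc (vv ha),
    ← he, ← mul_assoc, ← mul_assoc, he2, one_mul]

theorem exists_q8 (h8 : 8 ≤ n) (hn : n ≤ 11) {s : PP 11} (hs : Fx n (pr s))
    (h2 : pr s * pr s = 1) : ∃ α ∈ Mn 11 n, ∃ β ∈ Mn 11 n, s * α = α * s ∧ s * β = β * s ∧
      α * α = zz ∧ β * β = zz ∧ α * β * (α * β) = zz := by
  have a2 : ∀ x, pr s (pr s x) = x := fun x => by rw [← mul_apply, h2, one_apply]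
  by_cases h5 : 5 ≤ (pr s).support.card
  · obtain ⟨a, ha, -⟩ := exists_out (S := (pr s).support) ∅ (by rw [Finset.card_empty]; omega)
    obtain ⟨b, hb, hb'⟩ := exists_out (S := (pr s).support) {a, pr s a}
      (lt_of_le_of_lt Finset.card_le_two (by omega))
    obtain ⟨c, hc, hc'⟩ := exists_out (S := (pr s).support) {a, pr s a, b, pr s b}
      (lt_of_le_of_lt Finset.card_le_four (by omega))
    simp only [Finset.mem_insert, Finset.mem_singleton, not_or] at hb' hc'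
    rw [mem_support] at ha hb hc
    have e1 := a2 a
    have e2 := a2 b
    have e3 := a2 c
    have l : ∀ {x}, pr s x ≠ x → (pr s x).1 < n := fun {x} h => hs.lt (by rw [a2]; exact h.symm)
    refine ⟨vv ha.symm * vv hb.symm, vv_mem _ _ (hs.lt ha) (l ha) (hs.lt hb) (l hb),
      vv hb.symm * vv hc.symm, vv_mem _ _ (hs.lt hb) (l hb) (hs.lt hc) (l hc),
      two_comm' a2 _ _, two_comm' a2 _ _, ?_, ?_, ?_⟩
    · exact sq_double ha.symm hb.symm (by grind) (by grind) (by grind) (by grind) (by simp)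
    · exact sq_double hb.symm hc.symm (by grind) (by grind) (by grind) (by grind) (by simp)
    · rw [mul_assoc (vv ha.symm) (vv hb.symm), ← mul_assoc (vv hb.symm), vv_mul_vv, one_mul]
      exact sq_double ha.symm hc.symm (by grind) (by grind) (by grind) (by grind) (by simp)
  · have h4 : 4 ≤ ((Finset.univ.filter fun i : Fin 11 => i.1 < n) \ (pr s).support).card :=
      le_trans (by rw [card_lt_n hn]; omega) (Finset.le_card_sdiff _ _)
    obtain ⟨a, ha, -⟩ := exists_out ∅ (lt_of_lt_of_le (by simp) h4)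
    obtain ⟨b, hb, hb'⟩ := exists_out {a} (lt_of_lt_of_le (by simp) h4)
    obtain ⟨c, hc, hc'⟩ := exists_out {a, b} (lt_of_lt_of_le
      (lt_of_le_of_lt Finset.card_le_two (by omega)) h4)
    obtain ⟨d, hd, hd'⟩ := exists_out {a, b, c} (lt_of_lt_of_le
      (lt_of_le_of_lt Finset.card_le_three (by omega)) h4)
    simp only [Finset.mem_insert, Finset.mem_singleton, not_or, Finset.mem_filter, Finset.mem_univ,
      true_and, Finset.mem_sdiff, mem_support, not_not] at ha hb hc hd hb' hc' hd'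
    have hab : a ≠ b := Ne.symm hb'
    have hac : a ≠ c := Ne.symm hc'.1
    have hbc : b ≠ c := Ne.symm hc'.2
    have had : a ≠ d := Ne.symm hd'.1
    have hbd : b ≠ d := Ne.symm hd'.2.1
    have hcd : c ≠ d := Ne.symm hd'.2.2
    have m1 := vv_mem hab hcd ha.1 hb.1 hc.1 hd.1
    have m2 := vv_mem hac hbd ha.1 hc.1 hb.1 hd.1
    refine ⟨_, m1, _, m2, (comm_of_disjoint m1.1 fun i hi => ?_).symm,
      (comm_of_disjoint m2.1 fun i hi => ?_).symm,
      sq_double hab hcd hac had hbc hbd (by simp),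
      sq_double hac hbd hab had hbc.symm hcd (by simp),
      sq_double had hbc hab hac hbd.symm hcd.symm ?_⟩
    · simp only [map_mul, pr_vv]
      exact sw2_fix (by grind) (by grind) (by grind) (by grind)
    · simp only [map_mul, pr_vv]
      exact sw2_fix (by grind) (by grind) (by grind) (by grind)
    · simp only [map_mul, pr_vv]
      refine Equiv.ext fun x => ?_
      simp only [mul_apply, swap_apply_def]
      grind

theorem t_sq : l0 9 * l0 9 = 1 := by
  have := l0_iv 9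
  nth_rw 1 [show l0 9 = (l0 9)⁻¹ from this]; simp

theorem l0_sq (k : ℕ) : l0 k * l0 k = 1 := by
  have := l0_iv k
  nth_rw 1 [show l0 k = (l0 k)⁻¹ from this]; simp

theorem t_supp : (pr (l0 9)).support.card = 8 := by
  rw [show (pr (l0 9)).support = {0, 1, 2, 3, 4, 5, 6, 7} from Finset.ext fun i => by
    rw [mem_support, Ne, Fin.ext_iff, l0_nine, app_ec val_ct]
    revert i
    decide +kernel]
  rfl

theorem sq_of_eight {x : PP 11} (h2 : pr x * pr x = 1) (h8 : (pr x).support.card = 8) :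
    x * x = 1 := by
  have : Fact (Nat.Prime 2) := ⟨Nat.prime_two⟩
  have ct : ∀ s : Perm (Fin 11), s * s = 1 → s.support.card = 8 →
      s.cycleType = Multiset.replicate 4 2 := fun s h2 hc => by
    have ho : orderOf s = 2 := orderOf_eq_prime (by rw [pow_two, h2]) (fun h => by simp [h] at hc)
    obtain ⟨k, hk⟩ := cycleType_prime_order (σ := s) (ho ▸ Nat.prime_two)
    have h3 := sum_cycleType s
    rw [hk, ho, hc] at h3
    simp only [Multiset.sum_replicate, smul_eq_mul] at h3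
    rw [hk, ho, show k + 1 = 4 by omega]
  obtain ⟨γ, hγ⟩ := isConj_iff.1 (isConj_of_cycleType_eq (σ := pr x) (τ := pr (l0 9)) (by
    rw [ct _ h2 h8, ct _ (by rw [← map_mul, t_sq, map_one]) t_supp]))
  obtain ⟨y, rfl⟩ := pr_surj γ
  rw [← map_inv, ← map_mul, ← map_mul] at hγ
  have h3 : y * x * y⁻¹ * (y * x * y⁻¹) = 1 := by
    rcases pr_eq hγ with h | h <;> rw [h]
    · exact t_sq
    · rw [mul_assoc, ← mul_assoc (l0 9), ← zz_comm, mul_assoc, t_sq, mul_one, zz_mul_zz]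
  rw [show y * x * y⁻¹ * (y * x * y⁻¹) = y * (x * x) * y⁻¹ by group, mul_inv_eq_one,
    mul_eq_left] at h3
  exact h3

theorem pr_l0 (k : ℕ) (i : Fin 11) : (pr (l0 k) i).1 = appA 10 (nth c1 lc k) i.1 :=
  app_ec (val_nth lc_val k) i

theorem l0_t {k : ℕ} (hk : k < 4) : l0 k * l0 9 = l0 9 * l0 k :=
  comm_of_chk (val_nth lc_val k) val_ct (by revert k; decide +kernel)

theorem cent_inv (hn : n = 8 ∨ n = 11) {ω : Perm (Fin 11)} (hω : Fx n ω)
    (h : ∀ a ∈ Mn 11 n, a * a = 1 → a * l0 9 = l0 9 * a → ω * pr a = pr a * ω) :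
    ω = 1 ∨ ω = pr (l0 9) := by
  have h8 : 8 ≤ n := by omega
  have hk : ∀ k, k < 4 ∨ k = 9 → ∀ i, ω (pr (l0 k) i) = pr (l0 k) (ω i) := fun k hk i => by
    rw [← mul_apply, h _ (Mn_mono h8 (l0_mem k)) (l0_sq k) (by
      rcases hk with hk | rfl
      · exact l0_t hk
      · rfl), mul_apply]
  have top : ∀ i : Fin 11, 8 ≤ i.1 → ω i = i := by
    rcases hn with rfl | rfl
    · exact hω
    have c1 : ec ci * l0 9 = l0 9 * ec ci := comm_of_chk val_ci val_ct (by decide +kernel)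
    have d1 := h _ (Mn_mono (by omega) ci_mem) ci_sq c1
    have vc : Val 10 (mul (mul cy ci) (mul cy cy)) :=
      mul_val (mul_val val_cy val_ci) (mul_val val_cy val_cy)
    have d2 := h (ec (mul (mul cy ci) (mul cy cy))) (inM_mem (by decide +kernel))
      (by rw [← ec_mul vc vc, ← ec_c1]; exact congrArg ec (by decide +kernel))
      (comm_of_chk vc val_ct (by decide +kernel))
    have fx : ∀ c, Val 10 c → ω * pr (ec c) = pr (ec c) * ω → ∀ i : Fin 11, 8 ≤ i.1 →
        appA 10 c i.1 = i.1 → (∀ j : Fin 11, appA 10 c j.1 = j.1 → appA 10 ct j.1 = j.1 → j = i) →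
        ω i = i := fun c hc e i hi h1 h2 => by
      refine h2 _ ?_ ?_
      · rw [← app_ec hc, ← mul_apply, ← e, mul_apply, show pr (ec c) i = i from
          Fin.ext ((app_ec hc i).trans h1)]
      · rw [← app_ec val_ct, ← l0_nine, ← hk 9 (Or.inr rfl), (l0_mem 9).2 i hi]
    have e1 := fx _ val_ci d1 10 (by decide) (by decide +kernel) (by decide +kernel)
    have e2 := fx _ vc d2 8 (by decide) (by decide +kernel) (by decide +kernel)
    have e3 : ω 9 = 9 := by
      have h1 : pr (l0 9) (ω 9) = ω 9 := by rw [← hk 9 (Or.inr rfl), (l0_mem 9).2 9 (by decide)]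
      have h2 : ω 9 ≠ 8 := fun e => absurd (ω.injective (e.trans e2.symm)) (by decide)
      have h3 : ω 9 ≠ 10 := fun e => absurd (ω.injective (e.trans e1.symm)) (by decide)
      rw [Fin.ext_iff, pr_l0] at h1
      revert h1 h2 h3
      generalize ω 9 = j
      revert j
      decide +kernel
    intro i hi
    have : i = 8 ∨ i = 9 ∨ i = 10 := by revert i; decide
    rcases this with rfl | rfl | rfl <;> assumption
  have main : ∀ ω' : Perm (Fin 11), (∀ k, k < 4 ∨ k = 9 → ∀ i, ω' (pr (l0 k) i) = pr (l0 k) (ω' i)) →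
      (∀ i : Fin 11, 8 ≤ i.1 → ω' i = i) → ω' 6 = 6 → ω' = 1 := fun ω' hk top h6 => by
    have st : ∀ k, k < 4 ∨ k = 9 → ∀ i j : Fin 11, appA 10 (nth c1 lc k) i.1 = j.1 → ω' i = i →
        ω' j = j := fun k h i j e e' => by
      rw [← show pr (l0 k) i = j from Fin.ext ((pr_l0 k i).trans e), hk k h, e']
    have h4 := st 0 (by omega) 6 4 (by decide +kernel) h6
    have h2 := st 1 (by omega) 6 2 (by decide +kernel) h6
    have h0 := st 0 (by omega) 2 0 (by decide +kernel) h2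
    have h1 := st 9 (by omega) 0 1 (by decide +kernel) h0
    have h3 := st 9 (by omega) 2 3 (by decide +kernel) h2
    have h5 := st 9 (by omega) 4 5 (by decide +kernel) h4
    have h7 := st 9 (by omega) 6 7 (by decide +kernel) h6
    refine Equiv.ext fun i => ?_
    by_cases hi : 8 ≤ i.1
    · exact top i hi
    have : i = 0 ∨ i = 1 ∨ i = 2 ∨ i = 3 ∨ i = 4 ∨ i = 5 ∨ i = 6 ∨ i = 7 := by revert i; decide
    rcases this with rfl | rfl | rfl | rfl | rfl | rfl | rfl | rfl <;> assumption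
  have v : ∀ k (i j : Fin 11), appA 10 (nth c1 lc k) i.1 = j.1 → pr (l0 k) i = j := fun k i j e =>
    Fin.ext ((pr_l0 k i).trans e)
  have h67 : ω 6 = 6 ∨ ω 6 = 7 := by
    have h1 : pr (l0 0) (ω 6) = pr (l0 2) (ω 6) := by
      rw [← hk 0 (by omega), ← hk 2 (by omega), v 0 6 4 (by decide +kernel),
        v 2 6 4 (by decide +kernel)]
    have h2 : pr (l0 1) (ω 6) = pr (l0 3) (ω 6) := by
      rw [← hk 1 (by omega), ← hk 3 (by omega), v 1 6 2 (by decide +kernel),
        v 3 6 2 (by decide +kernel)]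
    have h3 : ¬ 8 ≤ (ω 6).1 := fun e => by
      have := ω.injective (top _ e)
      rw [this] at e
      exact absurd e (by decide)
    rw [Fin.ext_iff, pr_l0, pr_l0] at h1 h2
    revert h1 h2 h3
    generalize ω 6 = j
    revert j
    decide +kernel
  rcases h67 with h6 | h6
  · exact Or.inl (main ω hk top h6)
  · right
    have := main (pr (l0 9) * ω) (fun k h i => by
      rw [mul_apply, mul_apply, hk k h, ← mul_apply, ← map_mul, ← mul_apply (pr (l0 k)), ← map_mul]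
      rcases h with h | rfl
      · rw [l0_t h]
      · rfl) (fun i hi => by rw [mul_apply, top i hi, (l0_mem 9).2 i hi])
      (by rw [mul_apply, h6, v 9 7 6 (by decide +kernel)])
    rw [← one_mul ω, ← map_one (pr (N := 11)), ← t_sq, map_mul, mul_assoc, this, mul_one]

end LS
end H26
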