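import Mathlib
import Cfsg.Agent.H26.LyS1
import Cfsg.Agent.H3.Transfer

/-! A standard subgroup `2Aₙ` (`n = 8, 11`) of a simple group is an involution centraliser. -/

set_option autoImplicit false
set_option linter.unusedSectionVars false
set_option linter.unusedVariables false
set_option maxRecDepth 100000

namespace H26
namespace LS

open H5.Ly Equiv Equiv.Perm H29 Subgroup

theorem odd_index_cent {G : Type*} [Group G] [Finite G] {z : G} (hz : z * z = 1)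
    (h : ∀ g, g * z * g⁻¹ * z = z * (g * z * g⁻¹) → g * z * g⁻¹ ≠ z →
      ∃ g', z * (g * z * g⁻¹) = g' * z * g'⁻¹) (hz1 : z ≠ 1) :
    Odd (centralizer ({z} : Set G)).index := by
  classical
  have e1 : (centralizer ({z} : Set G)).index = (MulAction.orbit (ConjAct G) z).ncard := by
    rw [← MulAction.index_stabilizer]
    exact (congrArg Subgroup.index (centralizer_eq_comap_stabilizer z)).trans
      (index_comap_of_surjective _ ConjAct.toConjAct.surjective)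
  have hm : ∀ u, u ∈ MulAction.orbit (ConjAct G) z ↔ ∃ g, g * z * g⁻¹ = u := fun u =>
    ⟨fun ⟨g, e⟩ => ⟨ConjAct.ofConjAct g, e⟩, fun ⟨g, e⟩ => ⟨ConjAct.toConjAct g, e⟩⟩
  have := Fintype.ofFinite (MulAction.orbit (ConjAct G) z)
  have zi : z⁻¹ = z := inv_eq_of_mul_eq_one_left hz
  have zz' : ∀ x, z * (z * x) = x := fun x => by rw [← mul_assoc, hz, one_mul]
  let F : G → G := fun u => if u = z then z else if u * z = z * u then z * u else z * u * z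
  have hF : ∀ u ∈ MulAction.orbit (ConjAct G) z, F u ∈ MulAction.orbit (ConjAct G) z := fun u hu => by
    obtain ⟨g, rfl⟩ := (hm u).mp hu
    simp only [F]
    split_ifs with h1 h2
    · exact MulAction.mem_orbit_self z
    · obtain ⟨g', e⟩ := h g h2 h1
      exact (hm _).mpr ⟨g', e.symm⟩
    · exact (hm _).mpr ⟨z * g, by rw [mul_inv_rev, zi]; group⟩
  have hu1 : ∀ u ∈ MulAction.orbit (ConjAct G) z, u ≠ 1 := fun u hu e => by
    obtain ⟨g, rfl⟩ := (hm u).mp hu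
    exact hz1 (by simpa using e)
  have hFF : ∀ u ∈ MulAction.orbit (ConjAct G) z, F (F u) = u := fun u hu => by
    have := hu1 u hu
    by_cases h1 : u = z
    · simp [F, h1]
    by_cases h2 : u * z = z * u
    · have h3 : z * u ≠ z := by simpa using this
      have h4 : z * u * z = z * (z * u) := by rw [mul_assoc, h2]
      simp only [F, if_neg h1, if_pos h2, if_neg h3, if_pos h4]
      exact zz' u
    · have h3 : z * u * z ≠ z := fun e => h1 (by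
        rw [← zz' u, mul_eq_right.mp e, mul_one])
      have h4 : ¬ z * u * z * z = z * (z * u * z) := fun e => h2 (by
        rw [mul_assoc _ z z, hz, mul_one, mul_assoc z u z, zz'] at e; exact e.symm)
      simp only [F, if_neg h1, if_neg h2, if_neg h3, if_neg h4]
      rw [mul_assoc z u z, zz', mul_assoc, hz, mul_one]
  let f : Function.End (MulAction.orbit (ConjAct G) z) := fun u => ⟨F u, hF u u.2⟩
  have := card_fixedPoints_modEq (f := f) (p := 2) (n := 1) (by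
    funext u
    exact Subtype.ext (hFF u u.2))
  rw [Fintype.card_eq_one_iff (α := Function.fixedPoints f) |>.mpr ⟨⟨⟨z, MulAction.mem_orbit_self z⟩,
    Subtype.ext (by simp [f, F])⟩, fun u => Subtype.ext (Subtype.ext (by
      have h1 : F u.1 = u.1 := congrArg Subtype.val u.2
      by_contra h2
      simp only [F, if_neg h2] at h1
      split_ifs at h1 with h3
      · exact hz1 (mul_eq_right.mp h1)
      · refine h3 ?_
        generalize u.1.1 = v at h1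
        rw [← zz' (v * z), ← mul_assoc z v, h1]))⟩] at this
  rw [e1, ← Nat.card_coe_set_eq, Nat.card_eq_fintype_card, Nat.odd_iff]
  exact this

/-- the configuration -/
structure SD (G : Type*) [Group G] (n : ℕ) where
  /-- the embedding -/
  f : PP 11 → G
  hn : n = 8 ∨ n = 11
  f_mul : ∀ x ∈ Mn 11 n, ∀ y ∈ Mn 11 n, f (x * y) = f x * f y
  f_inj : ∀ x ∈ Mn 11 n, f x = 1 → x = 1
  act : ∀ g, g * f zz = f zz * g →
    ∃ s, Fx n (pr s) ∧ ∀ m ∈ Mn 11 n, g * f m * g⁻¹ = f (s * m * s⁻¹)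
  tight : ∀ u g, (∀ m ∈ Mn 11 n, u * f m = f m * u) → u * u = 1 → u ≠ 1 →
    (∀ m ∈ Mn 11 n, g * u * g⁻¹ * f m = f m * (g * u * g⁻¹)) → g * f zz = f zz * g

namespace SD

variable {G : Type*} [Group G] {n : ℕ} (c : SD G n)

/-- the central involution -/
noncomputable def z : G := c.f zz

/-- the centraliser of `L` -/
def K : Subgroup G := centralizer (c.f '' (Mn 11 n : Set (PP 11)))

theorem mem_K {u : G} : u ∈ c.K ↔ ∀ m ∈ Mn 11 n, u * c.f m = c.f m * u :=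
  ⟨fun h m hm => (h _ ⟨m, hm, rfl⟩).symm, fun h _ ⟨m, hm, e⟩ => e ▸ (h m hm).symm⟩

/-- `x` acts like `s` -/
def A (x : G) (s : PP 11) : Prop :=
  Fx n (pr s) ∧ ∀ m ∈ Mn 11 n, x * c.f m * x⁻¹ = c.f (s * m * s⁻¹)

include c in
theorem h8 : 8 ≤ n := by have := c.hn; omega

include c in
theorem h11 : n ≤ 11 := by have := c.hn; omega

theorem f_one : c.f 1 = 1 := by simpa using c.f_mul 1 (one_mem _) 1 (one_mem _)

theorem f_inv {x : PP 11} (hx : x ∈ Mn 11 n) : c.f x⁻¹ = (c.f x)⁻¹ :=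
  eq_inv_of_mul_eq_one_left (by rw [← c.f_mul _ (inv_mem hx) _ hx, inv_mul_cancel, f_one])

theorem f_eq {x y : PP 11} (hx : x ∈ Mn 11 n) (hy : y ∈ Mn 11 n) (h : c.f x = c.f y) : x = y :=
  mul_inv_eq_one.mp (c.f_inj _ (mul_mem hx (inv_mem hy)) (by
    rw [c.f_mul _ hx _ (inv_mem hy), c.f_inv hy, h, mul_inv_cancel]))

theorem f_conj {x y : PP 11} (hx : x ∈ Mn 11 n) (hy : y ∈ Mn 11 n) :
    c.f (x * y * x⁻¹) = c.f x * c.f y * (c.f x)⁻¹ := by
  rw [c.f_mul _ (mul_mem hx hy) _ (inv_mem hx), c.f_mul _ hx _ hy, c.f_inv hx]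

theorem z_sq : c.z * c.z = 1 := by
  rw [z, ← c.f_mul _ (zz_mem n) _ (zz_mem n), zz_mul_zz, f_one]

theorem z_ne : c.z ≠ 1 := fun e => zz_ne (c.f_inj _ (zz_mem n) e)

theorem z_mem : c.z ∈ c.K := c.mem_K.mpr fun m hm => by
  rw [z, ← c.f_mul _ (zz_mem n) _ hm, ← c.f_mul _ hm _ (zz_mem n), zz_comm]

theorem f_z {m : PP 11} (hm : m ∈ Mn 11 n) : c.f m * c.z = c.z * c.f m :=
  (c.mem_K.mp c.z_mem m hm).symm

theorem K_z {k : G} (hk : k ∈ c.K) : k * c.z = c.z * k := c.mem_K.mp hk _ (zz_mem n)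

theorem exA {g : G} (h : g * c.z = c.z * g) : ∃ s, c.A g s := c.act g h

theorem tig {u g : G} (hu : u ∈ c.K) (h2 : u * u = 1) (h1 : u ≠ 1) (h : g * u * g⁻¹ ∈ c.K) :
    g * c.z = c.z * g := c.tight u g (c.mem_K.mp hu) h2 h1 (c.mem_K.mp h)

variable {c}

theorem A.mul {x y : G} {s t : PP 11} (h : c.A x s) (h' : c.A y t) : c.A (x * y) (s * t) :=
  ⟨by rw [map_mul]; exact h.1.mul h'.1, fun m hm => by
    rw [show x * y * c.f m * (x * y)⁻¹ = x * (y * c.f m * y⁻¹) * x⁻¹ by group, h'.2 m hm,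
      h.2 _ (conj_mem h'.1 hm)]
    congr 1; group⟩

theorem A.inv {x : G} {s : PP 11} (h : c.A x s) : c.A x⁻¹ s⁻¹ := by
  have h1 : Fx n (pr s⁻¹) := by rw [map_inv]; exact h.1.inv
  refine ⟨h1, fun m hm => ?_⟩
  have := h.2 _ (conj_mem h1 hm)
  rw [show s * (s⁻¹ * m * s⁻¹⁻¹) * s⁻¹ = m by group] at this
  rw [← this]; group

theorem A_f {m : PP 11} (hm : m ∈ Mn 11 n) : c.A (c.f m) m :=
  ⟨hm.2, fun y hy => (c.f_conj hm hy).symm⟩

theorem A.uniq {x : G} {s t : PP 11} (h : c.A x s) (h' : c.A x t) : pr s = pr t := by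
  have := LS.uniq c.h8 c.h11 (h'.1.inv.mul h.1) fun m hm => by
    have e := congrArg pr (c.f_eq (conj_mem h.1 hm) (conj_mem h'.1 hm)
      ((h.2 m hm).symm.trans (h'.2 m hm)))
    simp only [map_mul, map_inv] at e
    rw [mul_assoc, mul_inv_eq_iff_eq_mul.mp e]; group
  rw [inv_mul_eq_one] at this
  exact this.symm

theorem A.congr {x : G} {s t : PP 11} (h : c.A x s) (e : pr t = pr s) : c.A x t := by
  rcases pr_eq e with rfl | rfl
  · exact h
  · refine ⟨e ▸ h.1, fun m hm => ?_⟩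
    rw [h.2 m hm, show zz * s * m * (zz * s)⁻¹ = zz * (s * m * s⁻¹) * zz⁻¹ by group, zz_comm,
      mul_inv_cancel_right]

theorem A_K {k : G} (hk : k ∈ c.K) : c.A k 1 :=
  ⟨fun i _ => by simp, fun m hm => by simp [c.mem_K.mp hk m hm]⟩

theorem A.mem_K {x : G} {s : PP 11} (h : c.A x s) (e : pr s = 1) : x ∈ c.K :=
  c.mem_K.mpr fun m hm => by
    have := (h.congr (t := 1) (by rw [e, map_one])).2 m hm
    rwa [one_mul, inv_one, mul_one, mul_inv_eq_iff_eq_mul] at this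

theorem A.comm_z {x : G} {s : PP 11} (h : c.A x s) : x * c.z = c.z * x := by
  have := h.2 _ (zz_mem n)
  rwa [← zz_comm, mul_inv_cancel_right, mul_inv_eq_iff_eq_mul] at this

theorem A.comm {x : G} {s m : PP 11} (h : c.A x s) (hm : m ∈ Mn 11 n) :
    x * c.f m = c.f m * x ↔ s * m = m * s := by
  rw [← mul_inv_eq_iff_eq_mul, h.2 m hm, ← mul_inv_eq_iff_eq_mul]
  exact ⟨c.f_eq (conj_mem h.1 hm) hm, fun e => by rw [e]⟩

theorem A.sq {x : G} {s : PP 11} (h : c.A x s) (h2 : x * x ∈ c.K) : pr s * pr s = 1 := by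
  rw [← map_mul, (h.mul h).uniq (A_K h2), map_one]

theorem A.pow {x : G} {s : PP 11} (h : c.A x s) (k : ℕ) : c.A (x ^ k) (s ^ k) := by
  induction k with
  | zero => simpa using A_K (one_mem c.K)
  | succ k ih => rw [pow_succ, pow_succ]; exact ih.mul h

variable (c)

theorem conj_sq (g : G) : g * c.z * g⁻¹ * (g * c.z * g⁻¹) = 1 := by
  rw [show g * c.z * g⁻¹ * (g * c.z * g⁻¹) = g * (c.z * c.z) * g⁻¹ by group, z_sq]; group

theorem swap_c {g : G} (h : g * c.z * g⁻¹ * c.z = c.z * (g * c.z * g⁻¹)) :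
    g⁻¹ * c.z * g⁻¹⁻¹ * c.z = c.z * (g⁻¹ * c.z * g⁻¹⁻¹) := by
  rw [show g⁻¹ * c.z * g⁻¹⁻¹ * c.z = g⁻¹ * (c.z * (g * c.z * g⁻¹)) * g by group, ← h]; group

theorem swap_ne {g : G} (h : g * c.z * g⁻¹ ≠ c.z) : g⁻¹ * c.z * g⁻¹⁻¹ ≠ c.z := fun e => h (by
  nth_rw 1 [← e]; group)

theorem not_K {g : G} (h : g * c.z * g⁻¹ ≠ c.z) : g * c.z * g⁻¹ ∉ c.K := fun e =>
  h (by rw [c.tig c.z_mem c.z_sq c.z_ne e, mul_inv_cancel_right])

theorem pull {g x : G} (h : x * (g * c.z * g⁻¹) = g * c.z * g⁻¹ * x) :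
    g⁻¹ * x * g * c.z = c.z * (g⁻¹ * x * g) := by
  rw [show g⁻¹ * x * g * c.z = g⁻¹ * (x * (g * c.z * g⁻¹)) * g by group, h]; group

variable {c}

theorem supp8 {g : G} {s : PP 11} (h : c.A (g * c.z * g⁻¹) s) (hne : g * c.z * g⁻¹ ≠ c.z) :
    (pr s).support.card = 8 ∧ sign (pr s) = 1 := by
  obtain ⟨s', hs'⟩ := c.exA (c.swap_c h.comm_z)
  obtain ⟨α, hα, β, hβ, c1, c2, q1, q2, q3⟩ := exists_q8 c.h8 c.h11 hs'.1
    (hs'.sq (by rw [c.conj_sq]; exact one_mem _))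
  have key : ∀ m ∈ Mn 11 n, s' * m = m * s' → ∃ a, c.A (g * c.f m * g⁻¹) a := fun m hm e => by
    have := c.pull ((hs'.comm hm).mpr e).symm
    rw [inv_inv] at this
    exact c.exA this
  have sq : ∀ m ∈ Mn 11 n, m * m = zz → ∀ a, c.A (g * c.f m * g⁻¹) a → pr a * pr a = pr s :=
    fun m hm e a ha => by
      have := ha.mul ha
      rw [show g * c.f m * g⁻¹ * (g * c.f m * g⁻¹) = g * (c.f m * c.f m) * g⁻¹ by group,
        ← c.f_mul _ hm _ hm, e] at this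
      rw [← map_mul, this.uniq h]
  obtain ⟨a, ha⟩ := key α hα c1
  obtain ⟨b, hb⟩ := key β hβ c2
  have hab := ha.mul hb
  rw [show g * c.f α * g⁻¹ * (g * c.f β * g⁻¹) = g * (c.f α * c.f β) * g⁻¹ by group,
    ← c.f_mul _ hα _ hβ] at hab
  have e1 := sq α hα q1 a ha
  have e3 := sq _ (mul_mem hα hβ) q3 _ hab
  rw [map_mul] at e3
  have h2 := h.sq (by rw [c.conj_sq]; exact one_mem _)
  have hs : sign (pr s) = 1 := by rw [← e1, Perm.sign_mul, Int.units_mul_self]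
  exact ⟨eight_of h2 hs (five_le (fun e => c.not_K hne (h.mem_K e)) h2 e1 (sq β hβ q2 b hb) e3), hs⟩

theorem uniq_inv {g κ : G} (hc : g * c.z * g⁻¹ * c.z = c.z * (g * c.z * g⁻¹))
    (hne : g * c.z * g⁻¹ ≠ c.z) (hκ : κ ∈ c.K) (h2 : κ * κ = 1)
    (hκt : κ * (g * c.z * g⁻¹) = g * c.z * g⁻¹ * κ) : κ = 1 ∨ κ = c.z := by
  by_contra! hh
  obtain ⟨τ, hτ⟩ := c.exA (c.swap_c hc)
  obtain ⟨υ, hυ⟩ := c.exA (c.pull hκt)
  have t8 := supp8 hτ (c.swap_ne hne)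
  have hkz := c.K_z hκ
  obtain ⟨ρ, r1, r2, r3, r4⟩ := witness (υ := pr υ) (τ := pr τ)
    (hυ.sq (by
      rw [show g⁻¹ * κ * g * (g⁻¹ * κ * g) = g⁻¹ * (κ * κ) * g by group, h2]; simp))
    (hτ.sq (by rw [c.conj_sq]; exact one_mem _))
    (by
      have := hτ.mul hυ
      rw [show g⁻¹ * c.z * g⁻¹⁻¹ * (g⁻¹ * κ * g) = g⁻¹ * (c.z * κ) * g by group, ← hkz,
        show g⁻¹ * (κ * c.z) * g = g⁻¹ * κ * g * (g⁻¹ * c.z * g⁻¹⁻¹) by group] at this
      rw [← map_mul, ← map_mul, (hυ.mul hτ).uniq this]) (by omega)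
  obtain ⟨m, rfl, m3⟩ := exists_cube r1
  have hm : m ∈ Mn 11 n := ⟨by
    have := congrArg sign r1
    rw [map_pow, map_one, pow_succ, pow_two, Int.units_mul_self, one_mul] at this
    exact this, fun i hi => r2 i (hυ.1 i hi) (hτ.1 i hi)⟩
  have key : ∀ κ' ∈ c.K, κ' * κ' = 1 → κ' ≠ 1 → ∀ a, c.A (g⁻¹ * κ' * g) a →
      pr a * pr m = pr m * pr a → False := fun κ' hk h2 h1 a ha e => by
    have e1 := (ha.comm hm).mpr (comm_of_cube m3 e.symm).symm
    have e2 := c.tig (g := g * c.f m * g⁻¹) hk h2 h1 (by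
      rwa [show g * c.f m * g⁻¹ * κ' * (g * c.f m * g⁻¹)⁻¹ =
        g * (c.f m * (g⁻¹ * κ' * g)) * (c.f m)⁻¹ * g⁻¹ by group, ← e1,
        show g * (g⁻¹ * κ' * g * c.f m) * (c.f m)⁻¹ * g⁻¹ = κ' by group])
    refine r4 ?_
    rw [← map_mul, ← map_mul, (hτ.comm hm).mp (by
      rw [show g⁻¹ * c.z * g⁻¹⁻¹ * c.f m = g⁻¹ * (c.z * (g * c.f m * g⁻¹)) * g by group, ← e2]
      group)]
  rcases r3 with r3 | r3
  · exact key κ hκ h2 hh.1 υ hυ r3
  · refine key (κ * c.z) (mul_mem hκ c.z_mem) (by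
      rw [mul_assoc, ← mul_assoc c.z, ← hkz, mul_assoc, c.z_sq, mul_one, h2])
      (fun e => hh.2 (by rw [← mul_one κ, ← c.z_sq, ← mul_assoc, e, one_mul])) (υ * τ) ?_
      (by rwa [map_mul])
    rw [show g⁻¹ * (κ * c.z) * g = g⁻¹ * κ * g * (g⁻¹ * c.z * g⁻¹⁻¹) by group]
    exact hυ.mul hτ

theorem mem_L {g : G} (hc : g * c.z * g⁻¹ * c.z = c.z * (g * c.z * g⁻¹)) :
    ∃ m ∈ Mn 11 n, c.f m = g * c.z * g⁻¹ := by
  by_cases hne : g * c.z * g⁻¹ = c.z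
  · exact ⟨zz, zz_mem n, hne.symm⟩
  obtain ⟨s, hs⟩ := c.exA hc
  obtain ⟨h8, h1⟩ := supp8 hs hne
  have hm : s ∈ Mn 11 n := ⟨h1, hs.1⟩
  have s2 := sq_of_eight (hs.sq (by rw [c.conj_sq]; exact one_mem _)) h8
  have f2 : c.f s * c.f s = 1 := by rw [← c.f_mul _ hm _ hm, s2, c.f_one]
  have hk : g * c.z * g⁻¹ * (c.f s)⁻¹ ∈ c.K := (hs.mul (A_f hm).inv).mem_K (by simp)
  have h3 := (hs.comm hm).mpr rfl
  have fi : (c.f s)⁻¹ = c.f s := inv_eq_of_mul_eq_one_left f2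
  rw [fi] at hk
  rcases uniq_inv hc hne hk (by
      rw [mul_assoc, ← mul_assoc (c.f s), ← h3, mul_assoc _ (c.f s), f2, mul_one, c.conj_sq])
      (by rw [mul_assoc _ (c.f s), ← h3]) with e | e
  · exact ⟨s, hm, by rw [← fi]; exact inv_eq_of_mul_eq_one_left e⟩
  · refine ⟨zz * s, mul_mem (zz_mem n) hm, ?_⟩
    rw [c.f_mul _ (zz_mem n) _ hm, ← show c.z = c.f zz from rfl]
    nth_rw 1 [← e]
    rw [mul_assoc _ (c.f s), f2, mul_one]

theorem t_mem (c : SD G n) : l0 9 ∈ Mn 11 n := Mn_mono c.h8 (l0_mem 9)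

theorem t_ne (c : SD G n) : c.f (l0 9) ≠ c.z := fun e => by
  have h1 := t_supp
  rw [c.f_eq c.t_mem (zz_mem n) e] at h1
  simp at h1

theorem exists_g {g : G} (hc : g * c.z * g⁻¹ * c.z = c.z * (g * c.z * g⁻¹))
    (hne : g * c.z * g⁻¹ ≠ c.z) : ∃ g, g * c.z * g⁻¹ = c.f (l0 9) := by
  obtain ⟨m, hm, e⟩ := mem_L hc
  have m2 : m * m = 1 := c.f_inj _ (mul_mem hm hm) (by rw [c.f_mul _ hm _ hm, e, c.conj_sq])
  rcases inv_cases c.h8 c.h11 hm m2 (fun e' => c.z_ne (by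
    rw [e', c.f_one] at e; simpa using e.symm)) with rfl | ⟨x, hx, e'⟩
  · exact absurd e.symm hne
  · exact ⟨c.f x * g, by rw [← e', c.f_conj hx hm, e]; group⟩

section main

variable {g : G} (hg : g * c.z * g⁻¹ = c.f (l0 9))
include hg

theorem inv_conj {H : Subgroup G} (hH : ∀ m ∈ Mn 11 n, c.f m ∈ H) (hgH : g ∈ H) {m : PP 11}
    (hm : m ∈ Mn 11 n) (h2 : m * m = 1) (h1 : m ≠ 1) : ∃ h ∈ H, h * c.z * h⁻¹ = c.f m := by
  rcases inv_cases c.h8 c.h11 hm h2 h1 with rfl | ⟨x, hx, e⟩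
  · exact ⟨1, one_mem _, by simp [z]⟩
  · exact ⟨(c.f x)⁻¹ * g, mul_mem (inv_mem (hH x hx)) hgH, by
      rw [show (c.f x)⁻¹ * g * c.z * ((c.f x)⁻¹ * g)⁻¹ = (c.f x)⁻¹ * (g * c.z * g⁻¹) * c.f x by group,
        hg, ← e, c.f_conj hx hm]; group⟩

theorem K_comm {k : G} (hk : k ∈ c.K) {m : PP 11} (hm : m ∈ Mn 11 n) (h2 : m * m = 1)
    (hc : m * l0 9 = l0 9 * m) : g * k * g⁻¹ * c.f m = c.f m * (g * k * g⁻¹) := by
  by_cases h1 : m = 1
  · simp [h1, c.f_one]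
  obtain ⟨h, -, e⟩ := inv_conj hg (H := ⊤) (fun _ _ => mem_top _) (mem_top g) hm h2 h1
  have e1 := c.pull (g := g) (x := c.f m) (by
    rw [hg, ← c.f_mul _ hm _ c.t_mem, ← c.f_mul _ c.t_mem _ hm, hc])
  have e2 : g⁻¹ * c.f m * g = g⁻¹ * h * c.z * (g⁻¹ * h)⁻¹ := by rw [← e]; group
  rw [e2] at e1
  obtain ⟨m', hm', e3⟩ := mem_L e1
  rw [show g * k * g⁻¹ * c.f m = g * (k * (g⁻¹ * c.f m * g)) * g⁻¹ by group, e2, ← e3,
    c.mem_K.mp hk m' hm', e3, ← e2]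
  group

theorem K_cases {k : G} (hk : k ∈ c.K) : g * k * g⁻¹ ∈ c.K ∨
    (g * k * g⁻¹ * c.f (l0 9) ∈ c.K ∧ ∃ s, c.A (g * k * g⁻¹) s ∧ pr s = pr (l0 9)) := by
  obtain ⟨s, hs⟩ := c.exA (K_comm hg hk (zz_mem n) zz_mul_zz (zz_comm _))
  rcases cent_inv c.hn hs.1 (fun a ha h2 hc => by
    rw [← map_mul, ← map_mul, (hs.comm ha).mp (K_comm hg hk ha h2 hc)]) with e | e
  · exact Or.inl (hs.mem_K e)
  · exact Or.inr ⟨(hs.mul (A_f c.t_mem)).mem_K (by rw [map_mul, e, ← map_mul, t_sq, map_one]),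
      s, hs, e⟩

theorem hne : g * c.z * g⁻¹ ≠ c.z := hg ▸ c.t_ne

theorem hcz : g * c.z * g⁻¹ * c.z = c.z * (g * c.z * g⁻¹) := hg ▸ c.f_z c.t_mem

theorem K_inv {k : G} (hk : k ∈ c.K) (h2 : k * k = 1) : k = 1 ∨ k = c.z :=
  uniq_inv (hcz hg) (hne hg) hk h2 (by rw [hg]; exact c.mem_K.mp hk _ c.t_mem)

theorem K_sq {k : G} (hk : k ∈ c.K) : k * k ≠ c.z := fun e => by
  refine c.not_K (hne hg) ?_
  rw [← e, show g * (k * k) * g⁻¹ = g * k * g⁻¹ * (g * k * g⁻¹) by group]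
  rcases K_cases hg hk with h | ⟨-, s, hs, h⟩
  · exact mul_mem h h
  · exact (hs.mul hs).mem_K (by rw [map_mul, h, ← map_mul, t_sq, map_one])

theorem K_two {k : G} (hk : k ∈ c.K) {j : ℕ} (h : k ^ 2 ^ j = 1) : k = 1 ∨ k = c.z := by
  induction j generalizing k with
  | zero => exact Or.inl (by simpa using h)
  | succ j ih =>
    rcases ih (mul_mem hk hk) (by rw [← pow_two, ← pow_mul, ← pow_succ', h]) with e | e
    · exact K_inv hg hk e
    · exact absurd e (K_sq hg hk)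

theorem K_odd {k : G} (hk : k ∈ c.K) {j : ℕ} (h : k ^ (2 * j + 1) = 1) : g * k * g⁻¹ ∈ c.K := by
  rcases K_cases hg hk with e | ⟨-, s, hs, e⟩
  · exact e
  · have h1 := hs.pow (2 * j + 1)
    rw [conj_pow, h, mul_one, mul_inv_cancel] at h1
    have h2 := h1.uniq (A_K (one_mem _))
    rw [map_pow, e, pow_succ, pow_mul, pow_two, ← map_mul, t_sq, map_one, one_pow, one_mul] at h2
    exact hs.mem_K (e.trans h2)

variable [Finite G]

theorem split {k : G} (hk : k ∈ c.K) : ∃ o ∈ c.K, (∃ j, o ^ (2 * j + 1) = 1) ∧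
    (k = o ∨ k = c.z * o) := by
  obtain ⟨a, b, hb, e⟩ := Nat.exists_eq_two_pow_mul_odd (orderOf_pos k).ne'
  obtain ⟨j, rfl⟩ := hb
  rcases K_two hg (pow_mem hk (2 * j + 1)) (j := a) (by
    rw [← pow_mul, mul_comm, ← e, pow_orderOf_eq_one]) with h | h
  · exact ⟨k, hk, ⟨j, h⟩, Or.inl rfl⟩
  · refine ⟨c.z * k, mul_mem c.z_mem hk, ⟨j, ?_⟩, Or.inr (by rw [← mul_assoc, c.z_sq, one_mul])⟩
    rw [(show Commute c.z k from (c.K_z hk).symm).mul_pow, h, pow_succ, pow_mul, pow_two, c.z_sq,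
      one_pow, one_mul, c.z_sq]

theorem inv_even {y : G} {s : PP 11} (hs : c.A y s) (h1 : sign (pr s) = 1) (h2 : y * y = 1) :
    ∃ m ∈ Mn 11 n, c.f m = y := by
  have hm : s ∈ Mn 11 n := ⟨h1, hs.1⟩
  have hk : y * (c.f s)⁻¹ ∈ c.K := (hs.mul (A_f hm).inv).mem_K (by simp)
  obtain ⟨o, ho, ⟨j, hj⟩, e⟩ := split hg hk
  obtain ⟨m, hm', e'⟩ : ∃ m ∈ Mn 11 n, y = o * c.f m := by
    rcases e with e | e
    · exact ⟨s, hm, by rw [← e]; group⟩
    · exact ⟨zz * s, mul_mem (zz_mem n) hm, by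
        rw [c.f_mul _ (zz_mem n) _ hm, ← show c.z = c.f zz from rfl, ← mul_assoc, c.K_z ho, ← e]
        group⟩
  refine ⟨m ^ (2 * j + 1), pow_mem hm' _, ?_⟩
  have h3 : ∀ i : ℕ, c.f (m ^ i) = c.f m ^ i := fun i => by
    induction i with
    | zero => simpa using c.f_one
    | succ i ih => rw [pow_succ, c.f_mul _ (pow_mem hm' i) _ hm', ih, pow_succ]
  have h4 : y ^ (2 * j + 1) = y := by rw [pow_succ, pow_mul, pow_two, h2, one_pow, one_mul]
  rw [h3, ← h4, e', (show Commute o (c.f m) from c.mem_K.mp ho m hm').mul_pow, hj, one_mul]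

theorem odd_idx : Odd (centralizer ({c.z} : Set G)).index :=
  odd_index_cent c.z_sq (fun h hc hne => by
    obtain ⟨m, hm, e⟩ := mem_L hc
    have m2 : m * m = 1 := c.f_inj _ (mul_mem hm hm) (by rw [c.f_mul _ hm _ hm, e, c.conj_sq])
    obtain ⟨h', -, e'⟩ := inv_conj hg (H := ⊤) (fun _ _ => mem_top _) (mem_top g)
      (mul_mem (zz_mem n) hm) (by
        rw [mul_assoc, ← mul_assoc m, ← zz_comm, mul_assoc, m2, mul_one, zz_mul_zz])
      (fun e' => hne (by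
        rw [← e, show m = zz from by rw [← mul_one zz, ← e', ← mul_assoc, zz_mul_zz, one_mul]]
        rfl))
    exact ⟨h', by rw [e', c.f_mul _ (zz_mem n) _ hm, e]; rfl⟩) c.z_ne

omit hg in
/-- the elements acting evenly -/
def Ev (c : SD G n) : Subgroup G where
  carrier := {x | ∃ s, c.A x s ∧ sign (pr s) = 1}
  mul_mem' := fun ⟨s, h1, h2⟩ ⟨t, h3, h4⟩ => ⟨s * t, h1.mul h3, by simp [h2, h4]⟩
  one_mem' := ⟨1, A_K (one_mem _), by simp⟩
  inv_mem' := fun ⟨s, h1, h2⟩ => ⟨s⁻¹, h1.inv, by simp [h2]⟩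

theorem all_even (hno : ∀ M : Subgroup G, M.index ≠ 2) {x : G} {s : PP 11} (hs : c.A x s) :
    sign (pr s) = 1 := by
  by_contra h1
  have h2 : sign (pr s) = -1 := (Int.units_eq_one_or _).resolve_left h1
  have p0 : (0 : Fin 11) ≠ 1 := by decide
  have p1 : (2 : Fin 11) ≠ 3 := by decide
  have p2 : (4 : Fin 11) ≠ 5 := by decide
  have h8 := c.h8
  have hm : s⁻¹ * vv p0 ∈ Mn 11 n := ⟨by simp [h2], fun i hi => by
    rw [map_mul, map_inv, mul_apply, pr_vv, swap_apply_of_ne_of_ne, hs.1.inv i hi] <;>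
      · rintro rfl; simp at hi; omega⟩
  have h3 := hs.mul (A_f hm)
  rw [mul_inv_cancel_left] at h3
  obtain ⟨a, b, hb, e⟩ := Nat.exists_eq_two_pow_mul_odd (orderOf_pos (x * c.f (s⁻¹ * vv p0))).ne'
  obtain ⟨j, rfl⟩ := hb
  have h4 := h3.pow (2 * j + 1)
  rw [pow_succ (vv p0), pow_mul (vv p0), pow_two (vv p0), vv_mul_vv, one_pow, one_mul] at h4
  generalize hy : (x * c.f (s⁻¹ * vv p0)) ^ (2 * j + 1) = y at h4
  have h5 : y ^ 2 ^ a = 1 := by rw [← hy, ← pow_mul, mul_comm, ← e, pow_orderOf_eq_one]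
  have h6 : y * y ∈ c.K := (h4.mul h4).mem_K (by rw [vv_mul_vv, map_one])
  obtain ⟨u, w, hu, hw, u2⟩ : ∃ u w, c.A u w ∧ sign (pr w) = -1 ∧ u * u = 1 := by
    rcases K_two hg h6 (j := a) (by rw [← pow_two, ← pow_mul, mul_comm, pow_mul, h5, one_pow])
      with h | h
    · exact ⟨y, _, h4, by simp, h⟩
    · have hα := vv_mem (n := n) p1 p2 (by simp; omega) (by simp; omega) (by simp; omega)
        (by simp; omega)
      have hc := (h4.comm hα).mpr (comm_of_disjoint hα.1 fun i hi => by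
        simp only [map_mul, pr_vv] at hi ⊢
        revert i
        decide).symm
      refine ⟨_, _, h4.mul (A_f hα), by simp, ?_⟩
      rw [mul_assoc, ← mul_assoc (c.f _), ← hc, mul_assoc y, ← c.f_mul _ hα _ hα,
        sq_double p1 p2 (by decide) (by decide) (by decide) (by decide) (by simp), ← mul_assoc, h]
      exact c.z_sq
  have hu1 : ∀ {v w}, c.A v w → sign (pr w) = -1 → v ∉ c.Ev := fun hv hw ⟨t, h1, h2⟩ => by
    rw [hv.uniq h1, h2] at hw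
    exact absurd hw (by decide)
  rcases H3.thompson_transfer (centralizer {c.z}) c.Ev (odd_idx hg) (by
      rw [relIndex, index_eq_two_iff]
      refine ⟨⟨u, mem_centralizer_singleton_iff.mpr hu.comm_z⟩, fun b => ?_⟩
      obtain ⟨t, ht⟩ := c.exA (mem_centralizer_singleton_iff.mp b.2)
      rcases Int.units_eq_one_or (sign (pr t)) with h | h
      · exact Or.inr ⟨⟨t, ht, h⟩, hu1 (ht.mul hu) (by simp [h, hw])⟩
      · exact Or.inl ⟨⟨_, ht.mul hu, by simp [h, hw]⟩, hu1 ht h⟩) u u2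
      (mem_centralizer_singleton_iff.mpr hu.comm_z) (hu1 hu hw) with ⟨M, -, h, -⟩ | ⟨h, t, ht, h7⟩
  · exact hno M h
  · have v2 : h * u * h⁻¹ * (h * u * h⁻¹) = 1 := by
      rw [show h * u * h⁻¹ * (h * u * h⁻¹) = h * (u * u) * h⁻¹ by group, u2]; group
    obtain ⟨m, hm, e⟩ := inv_even hg ht h7 v2
    have hu0 : u ≠ 1 := fun e => hu1 hu hw (e ▸ one_mem _)
    obtain ⟨h', -, e'⟩ := inv_conj hg (H := ⊤) (fun _ _ => mem_top _) (mem_top g) hm
      (c.f_inj _ (mul_mem hm hm) (by rw [c.f_mul _ hm _ hm, e, v2]))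
      (fun e' => hu0 (by rw [e', c.f_one] at e; simpa using e.symm))
    have e1 : u = h⁻¹ * h' * c.z * (h⁻¹ * h')⁻¹ := by
      rw [show h⁻¹ * h' * c.z * (h⁻¹ * h')⁻¹ = h⁻¹ * (h' * c.z * h'⁻¹) * h by group, e', e]; group
    obtain ⟨m', hm', e2⟩ := mem_L (e1 ▸ hu.comm_z)
    exact hu1 hu hw ⟨m', by rw [e1, ← e2]; exact A_f hm', hm'.1⟩

theorem odd_triv [IsSimpleGroup G] (hno : ∀ M : Subgroup G, M.index ≠ 2) {o : G} (ho : o ∈ c.K)
    {j : ℕ} (hj : o ^ (2 * j + 1) = 1) : o = 1 := by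
  let O : Subgroup G := closure {o | o ∈ c.K ∧ ∃ j, o ^ (2 * j + 1) = 1}
  have hN : ∀ x : G, (∀ k ∈ c.K, ∀ j, k ^ (2 * j + 1) = 1 → x * k * x⁻¹ ∈ c.K) →
      x ∈ normalizer (O : Set G) := fun x hx => H24.mem_N_of_finite fun y hy => by
    induction hy using closure_induction with
    | mem k hk =>
      obtain ⟨j, hj⟩ := hk.2
      exact subset_closure ⟨hx k hk.1 j hj, j, by rw [conj_pow, hj]; group⟩
    | one => simp
    | mul a b _ _ h1 h2 => rw [← conj_mul]; exact mul_mem h1 h2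
    | inv a _ h1 => rw [← conj_inv]; exact inv_mem h1
  have hC : ∀ x : G, x * c.z = c.z * x → x ∈ normalizer (O : Set G) := fun x hx =>
    hN x fun k hk _ _ => by
      obtain ⟨s, hs⟩ := c.exA hx
      exact ((hs.mul (A_K hk)).mul hs.inv).mem_K (by simp)
  have m0 := Mn_mono c.h8 (l0_mem 0)
  have m2 := Mn_mono c.h8 (l0_mem 2)
  have e2 : (c.f (l0 0) * c.f (l0 2)) ^ 2 = c.z := by
    rw [pow_two, ← c.f_mul _ m0 _ m2, ← c.f_mul _ (mul_mem m0 m2) _ (mul_mem m0 m2), z]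
    congr 1
    have : ev l0 [0, 2, 0, 2] = ev l0 [8] := by
      rw [ev_l0, ev_l0]; exact congrArg ec (by decide +kernel)
    simpa only [ev_cons, ev_nil, mul_one, show l0 8 = zz from ec_cz, mul_assoc] using this
  have htop := se_top (H := normalizer (O : Set G)) (hC _ rfl) c.z_sq hC (fun w _ w2 w1 hw => by
      obtain ⟨s, hs⟩ := c.exA hw
      obtain ⟨m, hm, rfl⟩ := inv_even hg hs (all_even hg hno hs) w2
      exact inv_conj hg (fun m hm => hC _ (c.f_z hm)) (hN g fun k hk j hj => K_odd hg hk hj) hm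
        (c.f_inj _ (mul_mem hm hm) (by rw [c.f_mul _ hm _ hm, w2]))
        (fun e => w1 (by rw [e, c.f_one])))
    (hC _ (c.f_z m0)) (hC _ (c.f_z m2)) (by rw [← c.f_mul _ m0 _ m0, l0_sq, c.f_one])
    (by rw [← c.f_mul _ m2 _ m2, l0_sq, c.f_one]) (e2 ▸ c.z_ne)
    (by rw [show 4 = 2 * 2 from rfl, pow_mul, e2, pow_two, c.z_sq])
  rcases (normalizer_eq_top_iff.mp htop).eq_bot_or_eq_top with h | h
  · exact mem_bot.mp (h ▸ subset_closure ⟨ho, j, hj⟩)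
  · have : O ≤ c.K := (closure_le _).mpr fun _ h => h.1
    exact absurd (this (h ▸ mem_top _)) (c.not_K (hne hg))

theorem cent_eq [IsSimpleGroup G] (hno : ∀ M : Subgroup G, M.index ≠ 2) {x : G}
    (hx : x * c.z = c.z * x) : ∃ m ∈ Mn 11 n, c.f m = x := by
  obtain ⟨s, hs⟩ := c.exA hx
  have hm : s ∈ Mn 11 n := ⟨all_even hg hno hs, hs.1⟩
  obtain ⟨o, ho, ⟨j, hj⟩, e⟩ := split hg ((hs.mul (A_f hm).inv).mem_K (by simp))
  rw [odd_triv hg hno ho hj] at e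
  rcases e with e | e
  · exact ⟨s, hm, (mul_inv_eq_one.mp e).symm⟩
  · exact ⟨zz * s, mul_mem (zz_mem n) hm, by
      rw [c.f_mul _ (zz_mem n) _ hm, ← show c.z = c.f zz from rfl, ← mul_one c.z, ← e]; group⟩

end main

end SD

theorem exists_sd {G : Type*} [Group G] [Finite G] (L : Subgroup G)
    (hL : Cfsg.IsStandardSubgroup L) {n : ℕ} (hn : n = 8 ∨ n = 11)
    (hLX : Cfsg.IsNonsplitDoubleCover L (alternatingGroup (Fin n))) :
    ∃ c : SD G n, ∀ x, x ∈ L ↔ ∃ m ∈ Mn 11 n, c.f m = x := by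
  classical
  obtain ⟨z, hz⟩ := (Nat.card_eq_two_iff' (1 : center L)).mp hLX.1
  obtain ⟨θ, hθ⟩ := exists_theta (N := 11) (by omega) (by omega) hLX (z := z.1)
    (fun e => hz.1 (Subtype.ext e)) z.2
  let f : PP 11 → G := fun x => if h : x ∈ Mn 11 n then θ ⟨x, h⟩ else 1
  have fe : ∀ {x} (h : x ∈ Mn 11 n), f x = θ ⟨x, h⟩ := fun h => dif_pos h
  have hmem : ∀ x, x ∈ L ↔ ∃ m ∈ Mn 11 n, f m = x := fun x =>
    ⟨fun h => ⟨(θ.symm ⟨x, h⟩).1, (θ.symm ⟨x, h⟩).2, by rw [fe (θ.symm ⟨x, h⟩).2]; simp⟩,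
      fun ⟨m, hm, e⟩ => by rw [← e, fe hm]; exact (θ _).2⟩
  have fm : ∀ x ∈ Mn 11 n, ∀ y ∈ Mn 11 n, f (x * y) = f x * f y := fun x hx y hy => by
    rw [fe hx, fe hy, fe (mul_mem hx hy), ← Subgroup.coe_mul, ← map_mul]; rfl
  have fi : ∀ x ∈ Mn 11 n, ∀ y ∈ Mn 11 n, f x = f y → x = y := fun x hx y hy e => by
    rw [fe hx, fe hy] at e
    exact congrArg Subtype.val (θ.injective (Subtype.ext e))
  have f1 : f 1 = 1 := by simpa using fm 1 (one_mem _) 1 (one_mem _)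
  have fz : f zz = z := by rw [fe (zz_mem n), hθ]
  have hK : ∀ u, (∀ m ∈ Mn 11 n, u * f m = f m * u) ↔ u ∈ centralizer (L : Set G) := fun u =>
    ⟨fun h x hx => by obtain ⟨m, hm, rfl⟩ := (hmem x).mp hx; exact (h m hm).symm,
      fun h m hm => (h _ ((hmem _).mpr ⟨m, hm, rfl⟩)).symm⟩
  have tig : ∀ u g, u ∈ centralizer (L : Set G) → u * u = 1 → u ≠ 1 →
      g * u * g⁻¹ ∈ centralizer (L : Set G) → g ∈ normalizer (L : Set G) := fun u g hu h2 h1 h => by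
    rw [hL.2.2.2]
    by_contra e
    exact (H3.B71.Inv.conj ⟨h1, h2⟩ g).not_mem_odd (hL.2.1.2 g e) ⟨h, u, hu, rfl⟩
  have hzL : ∀ y ∈ L, y * z = z * y := fun y hy =>
    congrArg Subtype.val (mem_center_iff.mp z.2 ⟨y, hy⟩)
  have z1 : ((z : L) : G) ≠ 1 := fun e => hz.1 (Subtype.ext (Subtype.ext e))
  refine ⟨⟨f, hn, fm, fun x hx e => fi x hx 1 (one_mem _) (e.trans f1.symm), fun g hg => ?_,
    fun u g hu h2 h1 h => ?_⟩, hmem⟩
  · have hz2 : f zz * f zz = 1 := by rw [← fm _ (zz_mem n) _ (zz_mem n), zz_mul_zz, f1]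
    have hzK : f zz ∈ centralizer (L : Set G) := fun y hy => by rw [fz]; exact hzL y hy
    have hN := tig _ g hzK hz2 (by rw [fz]; exact z1) (by rwa [hg, mul_inv_cancel_right])
    have h1 : ∀ m ∈ Mn 11 n, ∃ m' ∈ Mn 11 n, f m' = g * f m * g⁻¹ := fun m hm =>
      (hmem _).mp ((mem_normalizer_iff.mp hN _).mp ((hmem _).mpr ⟨m, hm, rfl⟩))
    choose! α h2 h3 using h1
    obtain ⟨s, hs, e⟩ := aut_conj hn α h2 (fun x hx y hy => fi _ (h2 _ (mul_mem hx hy)) _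
        (mul_mem (h2 x hx) (h2 y hy)) (by
          rw [fm _ (h2 x hx) _ (h2 y hy), h3 _ (mul_mem hx hy), h3 x hx, h3 y hy, fm x hx y hy]
          group))
      (fun x hx e => fi x hx 1 (one_mem _) (by
        have := h3 x hx
        rw [e, f1] at this
        rw [f1]; simpa using this.symm))
      (fi _ (h2 _ (zz_mem n)) _ (zz_mem n) (by rw [h3 _ (zz_mem n), hg, mul_inv_cancel_right]))
    exact ⟨s, hs, fun m hm => by rw [← e m hm, h3 m hm]⟩
  · have hN := tig u g ((hK u).mp hu) h2 h1 ((hK _).mp h)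
    have h3 : g * z * g⁻¹ ∈ L := (mem_normalizer_iff.mp hN _).mp (z : L).2
    have h4 : (⟨_, h3⟩ : L) ∈ center L := mem_center_iff.mpr fun y => Subtype.ext (by
      have := hzL _ ((mem_normalizer_iff.mp (inv_mem hN) _).mp y.2)
      change y * (g * z * g⁻¹) = g * z * g⁻¹ * y
      rw [show y * (g * z * g⁻¹) = g * (g⁻¹ * y * g⁻¹⁻¹ * z) * g⁻¹ by group, this]; group)
    have h5 := hz.2 ⟨_, h4⟩ (fun e => z1 (by
      have : g * z * g⁻¹ = 1 := congrArg (fun x : center L => ((x : L) : G)) e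
      simpa using this))
    have h6 : g * z * g⁻¹ = z := congrArg (fun x : center L => ((x : L) : G)) h5
    rw [fz, ← mul_inv_eq_iff_eq_mul, h6]

theorem std_cent {G : Type*} [Group G] [Finite G] [IsSimpleGroup G] (hG : ¬ IsMulCommutative G)
    (L : Subgroup G) (hL : Cfsg.IsStandardSubgroup L) {n : ℕ} (hn : n = 8 ∨ n = 11)
    (hLX : Cfsg.IsNonsplitDoubleCover L (alternatingGroup (Fin n))) :
    ∃ z : G, orderOf z = 2 ∧ centralizer {z} = L := by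
  obtain ⟨c, hc⟩ := exists_sd L hL hn hLX
  have hz : orderOf c.z = 2 := H3.B71.Inv.orderOf_eq ⟨c.z_ne, c.z_sq⟩
  have hcm : center G ≠ ⊤ := fun e => hG ⟨⟨fun a b => mem_center_iff.mp (e ▸ mem_top b) a⟩⟩
  have hno : ∀ M : Subgroup G, M.index ≠ 2 := fun M h => by
    rcases (normal_of_index_eq_two h).eq_bot_or_eq_top with e | e
    · rw [e, index_bot] at h
      have := isCyclic_of_prime_card (p := 2) h
      exact hG ⟨⟨fun a b => (IsCyclic.commGroup (α := G)).mul_comm a b⟩⟩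
    · rw [e, index_top] at h
      exact absurd h (by decide)
  obtain ⟨g, h1, h2⟩ : ∃ g, g * c.z * g⁻¹ * c.z = c.z * (g * c.z * g⁻¹) ∧ g * c.z * g⁻¹ ≠ c.z := by
    by_contra h
    push Not at h
    have hO : Cfsg.pPrimeCore 2 G = ⊥ := by
      refine (IsSimpleGroup.eq_bot_or_eq_top_of_normal _ inferInstance).resolve_right fun h1 => ?_
      have h2 := H17.odd_card_pPrimeCore (G := G)
      rw [h1, card_top] at h2
      exact (Nat.not_even_iff_odd.2 h2) (even_iff_two_dvd.2 (hz ▸ orderOf_dvd_natCard c.z))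
    have hc : c.z ∈ center G := mem_center_iff.2 fun g =>
      (H17.zstar_central hO ⟨hz, fun g hg => h g hg.symm⟩ g).symm
    rw [(IsSimpleGroup.eq_bot_or_eq_top_of_normal _ inferInstance).resolve_right hcm] at hc
    exact c.z_ne hc
  obtain ⟨g, hg⟩ := SD.exists_g h1 h2
  refine ⟨c.z, hz, Subgroup.ext fun x => ?_⟩
  rw [mem_centralizer_singleton_iff, hc]
  exact ⟨SD.cent_eq hg hno, fun ⟨m, hm, e⟩ => e ▸ c.f_z hm⟩

end LS
end H26
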