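import Mathlib
import Cfsg.Agent.H5.MCQ

/-!
# A model of the `2`-group `A · Ph` of order `2048` in the case of `Suz : 2`

The element number `v + 8 τ + 16 s` is `f v * t ^ τ * q s`, where `f v` moves `t` to `t * vv v`.
-/

set_option autoImplicit false
set_option linter.unusedSectionVars false
set_option linter.unusedVariables false
set_option maxRecDepth 100000
set_option Elab.async false

namespace H26.MZ

open H9 Cfsg H24 Subgroup H5.MC

/-- the eight elements of `V1` -/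
def vv (v : ℕ) : Ph := lk 0x326c8931420100 v
def act (s w : ℕ) : ℕ := H7.Cay.pk 0xdec4c8fa54c8dec4c8fa54c897e4c8b374c897e4c8b374c8dec4c8fa54c8dec4c8fa54c897e4c8b374c897e4c8b374c8fa54c8dec4c8fa54c8dec4c8b374c897e4c8b374c897e4c8fa54c8dec4c8fa54c8dec4c8b374c897e4c8b374c897e4c897e4c8b374c897e4c8b374c8dec4c8fa54c8dec4c8fa54c897e4c8b374c897e4c8b374c8dec4c8fa54c8dec4c8fa54c8b374c897e4c8b374c897e4c8fa54c8dec4c8fa54c8dec4c8b374c897e4c8b374c897e4c8fa54c8dec4c8fa54c8dec4c8fac688de5688fac688de5688b3e688977688b3e688977688fac688de5688fac688de5688b3e688977688b3e688977688de5688fac688de5688fac688977688b3e688977688b3e688de5688fac688de5688fac688977688b3e688977688b3e688b3e688977688b3e688977688fac688de5688fac688de5688b3e688977688b3e688977688fac688de5688fac688de5688977688b3e688977688b3e688de5688fac688de5688fac688977688b3e688977688b3e688de5688fac688de5688fac688 3 (Nat.add (Nat.mul 8 s) w)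
def cc (v w τ : ℕ) : Ph := lk 0x6d2354cdc1193201fac5cf411b5cdc01358d41117a9888048fc1137ed5eb7002010a589132e1400108326c8931420002000000000000003209aa46e98d80046d63f7ab8c806eb88826ab09804cf41137e908806afdbbd140840048b172604205003664991102810000000000000000 (Nat.add v (Nat.add (Nat.mul 8 w) (Nat.mul 64 τ)))
def ph (n : ℕ) : Ph := (⟨Nat.mod n 128, Nat.mod_lt _ (by norm_num)⟩ : Fin 128)
/-- `C0 = V1 ⟨e1⟩` -/
def C0 (s : Ph) : Prop := Nat.testBit 0xa0a050500a0a0505 s.n = true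
instance (s : Ph) : Decidable (C0 s) := inferInstanceAs (Decidable (_ = _))

def Mo : Type := Fin 2048

instance : DecidableEq Mo := inferInstanceAs (DecidableEq (Fin 2048))
noncomputable instance (priority := 900) (p : Mo → Prop) [h : DecidablePred p] : Decidable (∀ s, p s) :=
  decidable_of_iff _ (@fin_all 2048 (by norm_num) p h)

namespace Mo
def n (u : Mo) : ℕ := Fin.val u
def v (u : Mo) : ℕ := Nat.mod u.n 8
def τ (u : Mo) : ℕ := Nat.mod (Nat.div u.n 8) 2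
def s (u : Mo) : Ph := ph (Nat.div u.n 16)
def mk (v τ : ℕ) (s : Ph) : Mo :=
  (⟨Nat.add (Nat.mod v 8) (Nat.add (Nat.mul 8 (Nat.mod τ 2)) (Nat.mul 16 s.n)), by
    have h1 : s.n < 128 := Fin.isLt s
    change v % 8 + (8 * (τ % 2) + 16 * s.n) < 2048
    omega⟩ : Fin 2048)
noncomputable instance : Mul Mo := ⟨fun a b => H29.lit a.n fun x => H29.lit b.n fun y =>
  H29.lit (act (Nat.div x 16) (Nat.mod y 8)) fun w =>
    mk (Nat.xor (Nat.mod x 8) w) (Nat.add (Nat.div x 8) (Nat.div y 8))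
      (cc (Nat.mod x 8) w (Nat.mod (Nat.div x 8) 2) * (ph (Nat.div x 16) * ph (Nat.div y 16)))⟩
instance : One Mo := ⟨mk 0 0 1⟩
noncomputable instance : Inv Mo := ⟨fun a => H29.lit a.n fun x =>
  mk 0 (Nat.div x 8) (ph (Nat.div x 16))⁻¹ * mk x 0 (vv (Nat.mod x 8))⟩
def A (u : Mo) : Prop := C0 u.s
def U (u : Mo) : Prop := C0 u.s ∧ u.τ = 0
def B (u : Mo) : Prop := C0 u.s ∧ u.n % 16 < 4
def Z (u : Mo) : Prop := u.n % 16 = 0 ∧ C0 u.s
def V (u : Mo) : Prop := u.n % 16 = 0 ∧ u.s.V1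
def E (u : Mo) : Prop := u.V ∨ u.n % 16 = 1 ∧ (e1 * u.s).V1
def U0 (u : Mo) : Prop := u.n % 16 = 0 ∧ u.s.U0
def K8 (u : Mo) : Prop := u.n % 16 < 4 ∧ u.n < 1024
instance : DecidablePred A := fun _ => inferInstanceAs (Decidable (_ = _))
instance : DecidablePred U := fun _ => inferInstanceAs (Decidable (_ ∧ _))
instance : DecidablePred B := fun _ => inferInstanceAs (Decidable (_ ∧ _))
instance : DecidablePred Z := fun _ => inferInstanceAs (Decidable (_ ∧ _))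
instance : DecidablePred V := fun _ => inferInstanceAs (Decidable (_ ∧ _))
instance : DecidablePred E := fun _ => inferInstanceAs (Decidable (_ ∨ _))
instance : DecidablePred U0 := fun _ => inferInstanceAs (Decidable (_ ∧ _))
instance : DecidablePred K8 := fun _ => inferInstanceAs (Decidable (_ ∧ _))

theorem v_mk (v τ : ℕ) (s : Ph) : (mk v τ s).v = v % 8 := by
  change (v % 8 + (8 * (τ % 2) + 16 * s.n)) % 8 = _; omega
theorem τ_mk (v τ : ℕ) (s : Ph) : (mk v τ s).τ = τ % 2 := by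
  change (v % 8 + (8 * (τ % 2) + 16 * s.n)) / 8 % 2 = _; omega
theorem s_mk (v τ : ℕ) (s : Ph) : (mk v τ s).s = s := Fin.ext (by
  have h1 : s.n < 128 := Fin.isLt s
  change (v % 8 + (8 * (τ % 2) + 16 * s.n)) / 16 % 128 = s.n; omega)
theorem v_lt (u : Mo) : u.v < 8 := Nat.mod_lt _ (by norm_num)
theorem τ_lt (u : Mo) : u.τ < 2 := Nat.mod_lt _ (by norm_num)
theorem ext' {a b : Mo} (h1 : a.v = b.v) (h2 : a.τ = b.τ) (h3 : a.s = b.s) : a = b := by
  have h4 : a.n / 16 % 128 = b.n / 16 % 128 := congrArg Fin.val h3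
  have ha : a.n < 2048 := Fin.isLt a
  have hb : b.n < 2048 := Fin.isLt b
  change a.n % 8 = b.n % 8 at h1
  change a.n / 8 % 2 = b.n / 8 % 2 at h2
  exact Fin.ext (show a.n = b.n by omega)
theorem mul_def (a b : Mo) : a * b = mk (a.v ^^^ act (a.n / 16) b.v) (a.n / 8 + b.n / 8)
    (cc a.v (act (a.n / 16) b.v) a.τ * (a.s * b.s)) := rfl
theorem inv_mul : ∀ u : Mo, u⁻¹ * u = 1 := by decide +kernel
end Mo

/-- `t` -/
def T : Mo := Mo.mk 0 1 1
/-- `f v` -/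
def Fv (v : ℕ) : Mo := Mo.mk v 0 1
/-- `q s` -/
def P (s : Ph) : Mo := Mo.mk 0 0 s
/-- `ε = f 1 * e1` -/
def eps : Mo := Mo.mk 1 0 e1

/-- the product of the classes modulo `E` -/
def ad (v w : ℕ) : ℕ := if v / 2 = 0 ∨ w / 2 = 0 ∨ v / 2 = w / 2 then v ^^^ w else v ^^^ w ^^^ 1

theorem act_ok : ∀ s : Ph, ∀ w < 8, act s.n w < 8 ∧ s * vv w * s⁻¹ = vv (act s.n w) := by decide +kernel
theorem cc_one : ∀ v < 8, ∀ w < 8, v ^^^ w < 8 ∧ cc v w 1 = cc v w 0 * vv w ∧ (vv v = vv w → v = w) := by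
  decide +kernel

def cn (p : Mo → Prop) [h : DecidablePred p] : ℕ := (@Finset.filter (Fin 2048) p h Finset.univ).card

theorem cnU : cn Mo.U = 128 := by decide +kernel
theorem cnE : cn Mo.E = 16 := by decide +kernel
theorem cnZ : cn Mo.Z = 16 := by decide +kernel
theorem cnU0 : cn Mo.U0 = 4 := by decide +kernel

structure Cl (p : Mo → Prop) : Prop where
  one : p 1
  mul : ∀ u, p u → ∀ w, p w → p (u * w)
  inv : ∀ u, p u → p u⁻¹

theorem clE : Cl Mo.E := ⟨by decide +kernel, by decide +kernel, by decide +kernel⟩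
theorem clV : Cl Mo.V := ⟨by decide +kernel, by decide +kernel, by decide +kernel⟩
theorem clU0 : Cl Mo.U0 := ⟨by decide +kernel, by decide +kernel, by decide +kernel⟩
theorem cenA : ∀ u : Mo, u.A ↔ ∀ l ∈ [P z2, P i1], l * u = u * l := by decide +kernel
theorem cenU : ∀ u : Mo, u.U ↔ ∀ l ∈ [P z2, P i1, eps], l * u = u * l := by decide +kernel
theorem mP : ∀ s : Ph, ((P s).V ↔ s.V1) ∧ ((P s).A ↔ C0 s) ∧ ((P s).U ↔ C0 s) ∧ ((P s).U0 ↔ s.U0) ∧
    ((P s).Z ↔ C0 s) ∧ ¬ (T * P s).U ∧ (C0 s ↔ s * z2 = z2 * s ∧ s * i1 = i1 * s) := by decide +kernel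
theorem mF : ∀ w < 8, (P (vv w)).V ∧ Fv w * Fv w = P (vv w) ∧ (Fv w).U ∧
    Fv w * T * (Fv w)⁻¹ = T * P (vv w) ∧
    ∀ v < 8, ad v w < 8 ∧ ((Fv v * Fv w)⁻¹ * Fv (ad v w)).E ∧ (((Fv v)⁻¹ * Fv w).E → v = w) := by decide +kernel
theorem mA : ∀ a : Mo, a.A → a * P e1 = P e1 * a ∧ (∀ w < 8, a * P (vv w) = P (vv w) * a) ∧
    (a * a ≠ 1 → a * a ≠ P z1 → a.U) ∧ (a.U ∨ (T * a).U) ∧
    (T * a = a * T → Fv 2 * a = a * Fv 2 → Fv 4 * a = a * Fv 4 → a * a = 1 ∨ a * a = P z1) := by decide +kernel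
theorem mU : ∀ u : Mo, u.U → u.A ∧ (u * u).V ∧ (u * u = 1 → u.E) ∧ (T * (u * T * u⁻¹)).V ∧
    (∃ w < 8, u * u = P (vv w) ∧ ((Fv w)⁻¹ * u).E) ∧
    (u * u ≠ 1 ∧ u * u ≠ P z1 ∨ Fv 4 * u * (Fv 4 * u) ≠ 1 ∧ Fv 4 * u * (Fv 4 * u) ≠ P z1) := by decide +kernel
theorem mE : ∀ e : Mo, e.E → e.U ∧ e * e = 1 ∧ (T * e = e * T → e.V) ∧ (e.V ∨ (eps * e).V) ∧
    ∀ u : Mo, u.U → u * e = e * u := by decide +kernel
theorem mV : ∀ u : Mo, u.V → u.E ∧ ∃ w < 8, u = P (vv w) := by decide +kernel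
theorem mInv : ∀ u : Mo, u.U → T * u * (T * u) = 1 → ∀ e : Mo, e.E → T * (u * e) * (T * (u * e)) = 1 →
    ∃ w < 8, Fv w * (T * u) * (Fv w)⁻¹ = T * (u * e) := by decide +kernel

end H26.MZ
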