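import Mathlib
import Cfsg.Agent.H26.MZ0

/-! # The image of the model in a group with a frame -/

set_option autoImplicit false
set_option linter.unusedSectionVars false
set_option linter.unusedVariables false
set_option maxRecDepth 100000

namespace H26.MZ

open H9 Cfsg H24 Subgroup H5.MC

variable {H : Subgroup PG} {G : Type*} [Group G] [Finite G] {F : Fr H G}

/-- elements `f v` that move `t` to `t * vv v` -/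
structure Fam (F : Fr H G) where
  q : Ph →* G
  f : ℕ → G
  two : emb c0 ∈ H
  qi : ∀ s : Ph, s.inn → q s = F.p s
  qo : ∀ s, q s = F.p s ∨ q s = F.p (s * z1)
  f0 : f 0 = 1
  eqv : ∀ s : Ph, ∀ w < 8, q s * f w = f (act s.n w) * q s
  tf : ∀ w < 8, F.t * f w = f w * F.t * q (vv w)
  ff : ∀ v < 8, ∀ w < 8, f v * f w = f (v ^^^ w) * q (cc v w 0)

namespace Fam
variable (Φ : Fam F)

include Φ in
theorem hH {x : PG} (h : x ∈ AM) : x ∈ H := (F.mem_iff h).2 (Or.inr Φ.two)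
include Φ in
theorem hp (s : Ph) : emb s ∈ H := Φ.hH (emb_AM s)
theorem tq (s : Ph) : Commute F.t (Φ.q s) := by
  rcases Φ.qo s with e | e <;> rw [e] <;> exact F.p_t _
theorem q_ne (s : Ph) : Φ.q s ≠ F.t := by
  rcases Φ.qo s with e | e <;> rw [e] <;> exact F.e_ne_t _
theorem q_inj : Function.Injective Φ.q := (injective_iff_map_eq_one _).2 fun s h => by
  have k : ∀ s, F.p s = 1 → s = 1 := fun s h => F.p_inj (Φ.hp _) (Φ.hp _) (h.trans F.p_one.symm)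
  rcases Φ.qo s with e | e
  · exact k _ (e.symm.trans h)
  · have := eq_inv_of_mul_eq_one_left (k _ (e.symm.trans h))
    exact k _ ((Φ.qi s (by rw [this]; decide +kernel)).symm.trans h)
theorem mem_S0 {g : G} : g ∈ F.S0 ↔ ∃ s, g = Φ.q s ∨ g = F.t * Φ.q s := by
  have k : ∀ s, ∃ s', F.p s = Φ.q s' := fun s => by
    rcases Φ.qo s with e | e
    · exact ⟨s, e.symm⟩
    · refine ⟨s * z1, ?_⟩
      rw [map_mul, e, Φ.qi z1 (by decide), ← F.p_mul (Φ.hp _) (Φ.hp _), mul_assoc,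
        show z1 * z1 = 1 by decide +kernel, mul_one]
  rw [F.mem_S0]
  refine ⟨fun ⟨s, _, h⟩ => ?_, fun ⟨s, h⟩ => ?_⟩
  · obtain ⟨s', e⟩ := k s
    exact ⟨s', e ▸ h⟩
  · rcases Φ.qo s with e | e
    · exact ⟨s, Φ.hp _, e ▸ h⟩
    · exact ⟨_, Φ.hp _, e ▸ h⟩
theorem q_mem (s : Ph) : Φ.q s ∈ F.S0 := Φ.mem_S0.2 ⟨s, Or.inl rfl⟩

noncomputable def ψ (u : Mo) : G := Φ.f u.v * F.t ^ u.τ * Φ.q u.s

theorem ψ_mk (v τ : ℕ) (s : Ph) : Φ.ψ (Mo.mk v τ s) = Φ.f (v % 8) * F.t ^ τ * Φ.q s := by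
  rw [ψ, Mo.v_mk, Mo.τ_mk, Mo.s_mk, ← F.ot, pow_mod_orderOf]
theorem ψP (s : Ph) : Φ.ψ (P s) = Φ.q s := by rw [P, ψ_mk, Φ.f0, pow_zero, one_mul, one_mul]
theorem ψT : Φ.ψ T = F.t := by rw [T, ψ_mk, Φ.f0, pow_one, one_mul, map_one, mul_one]
theorem ψF {v : ℕ} (h : v < 8) : Φ.ψ (Fv v) = Φ.f v := by
  rw [Fv, ψ_mk, Nat.mod_eq_of_lt h, pow_zero, map_one, mul_one, mul_one]
theorem one : Φ.ψ 1 = 1 := (Φ.ψP 1).trans (map_one _)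
theorem mul (a b : Mo) : Φ.ψ (a * b) = Φ.ψ a * Φ.ψ b := by
  have e : act (a.n / 16) b.v = act a.s.n b.v := by
    have : a.n < 2048 := Fin.isLt a
    rw [show a.s.n = a.n / 16 from Nat.mod_eq_of_lt (show a.n / 16 < 128 by omega)]
  have hw := (act_ok a.s _ b.v_lt).1
  have h1 := cc_one _ a.v_lt _ hw
  have e2 : F.t ^ (a.n / 8 + b.n / 8) = F.t ^ a.τ * F.t ^ b.τ := by
    rw [pow_add, ← pow_mod_orderOf _ (a.n / 8), ← pow_mod_orderOf _ (b.n / 8), F.ot]; rfl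
  have e3 : Φ.f a.v * F.t ^ a.τ * Φ.f (act a.s.n b.v) =
      Φ.f (a.v ^^^ act a.s.n b.v) * F.t ^ a.τ * Φ.q (cc a.v (act a.s.n b.v) a.τ) := by
    rcases (by have := a.τ_lt; omega : a.τ = 0 ∨ a.τ = 1) with h | h <;> rw [h]
    · rw [pow_zero, mul_one, mul_one, Φ.ff _ a.v_lt _ hw]
    · rw [pow_one, mul_assoc, Φ.tf _ hw, ← mul_assoc, ← mul_assoc, Φ.ff _ a.v_lt _ hw, h1.2.1, map_mul,
        mul_assoc _ (Φ.q _) F.t, ← (Φ.tq _).eq]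
      simp only [mul_assoc]
  rw [Mo.mul_def, e, ψ_mk, Nat.mod_eq_of_lt h1.1, e2, ψ, ψ, map_mul, map_mul]
  calc _ = Φ.f (a.v ^^^ act a.s.n b.v) * F.t ^ a.τ * Φ.q (cc a.v (act a.s.n b.v) a.τ) *
        (Φ.q a.s * F.t ^ b.τ) * Φ.q b.s := by
        simp only [mul_assoc]
        rw [((Φ.tq _).pow_left b.τ).left_comm, ((Φ.tq _).pow_left b.τ).left_comm]
    _ = _ := by
        rw [← e3, mul_assoc _ (Φ.f _) (_ * _), ← mul_assoc (Φ.f (act _ _)), ← Φ.eqv _ _ b.v_lt]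
        simp only [mul_assoc]
theorem inv (a : Mo) : Φ.ψ a⁻¹ = (Φ.ψ a)⁻¹ :=
  eq_inv_of_mul_eq_one_left (by rw [← Φ.mul, Mo.inv_mul, Φ.one])
theorem inj {a b : Mo} (h : Φ.ψ a = Φ.ψ b) : a = b := by
  have k2 : ∀ u : Mo, Φ.ψ u * F.t * (Φ.ψ u)⁻¹ = F.t * Φ.q (vv u.v) := fun u => by
    have := congrArg Φ.ψ (mF _ u.v_lt).2.2.2.1
    simp only [mul, inv, ψT, ψP, Φ.ψF u.v_lt] at this
    rw [← this, ψ, mul_assoc _ (Φ.q _) F.t, ← (Φ.tq _).eq]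
    group
  have h1 : a.v = b.v := (cc_one _ a.v_lt _ b.v_lt).2.2 (Φ.q_inj (mul_left_cancel (by rw [← k2, ← k2, h])))
  rw [ψ, ψ, h1, mul_assoc, mul_assoc, mul_right_inj] at h
  have n : ∀ s s' : Ph, Φ.q s ≠ F.t * Φ.q s' := fun s s' e =>
    Φ.q_ne (s * s'⁻¹) (by rw [map_mul, map_inv, e, mul_inv_cancel_right])
  rcases (by have := a.τ_lt; omega : a.τ = 0 ∨ a.τ = 1) with h2 | h2 <;>
    rcases (by have := b.τ_lt; omega : b.τ = 0 ∨ b.τ = 1) with h3 | h3 <;>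
    simp only [h2, h3, pow_zero, pow_one, one_mul, mul_right_inj] at h
  · exact Mo.ext' h1 (h2.trans h3.symm) (Φ.q_inj h)
  · exact (n _ _ h).elim
  · exact (n _ _ h.symm).elim
  · exact Mo.ext' h1 (h2.trans h3.symm) (Φ.q_inj h)

/-- the image of a closed set of codes -/
def sub (p : Mo → Prop) (h : Cl p) : Subgroup G where
  carrier := {g | ∃ u, p u ∧ Φ.ψ u = g}
  one_mem' := ⟨1, h.one, Φ.one⟩
  mul_mem' := by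
    rintro _ _ ⟨a, ha, rfl⟩ ⟨b, hb, rfl⟩
    exact ⟨_, h.mul a ha b hb, Φ.mul a b⟩
  inv_mem' := by
    rintro _ ⟨a, ha, rfl⟩
    exact ⟨_, h.inv a ha, Φ.inv a⟩
theorem mem_sub {p : Mo → Prop} {h : Cl p} {u : Mo} : Φ.ψ u ∈ Φ.sub p h ↔ p u :=
  ⟨fun ⟨_, hw, e⟩ => Φ.inj e ▸ hw, fun hu => ⟨u, hu, rfl⟩⟩
theorem comm_iff {a b : Mo} : a * b = b * a ↔ Φ.ψ a * Φ.ψ b = Φ.ψ b * Φ.ψ a := by
  rw [← Φ.mul, ← Φ.mul]; exact ⟨congrArg _, Φ.inj⟩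
include Φ in
theorem cl_cen {p : Mo → Prop} {L : List Mo} (h : ∀ u, p u ↔ ∀ l ∈ L, l * u = u * l) : Cl p := by
  simp only [Φ.comm_iff] at h
  refine ⟨(h _).2 fun l _ => by rw [Φ.one, one_mul, mul_one], fun a ha b hb => (h _).2 fun l hl => ?_,
    fun a ha => (h _).2 fun l hl => ?_⟩
  · rw [Φ.mul]; exact Commute.mul_right ((h a).1 ha l hl) ((h b).1 hb l hl)
  · rw [Φ.inv]; exact Commute.inv_right ((h a).1 ha l hl)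
theorem cn_eq (p : Mo → Prop) [h : DecidablePred p] : cn p = Nat.card {x : Fin 2048 // p x} :=
  (fun (p : Fin 2048 → Prop) (_ : DecidablePred p) =>
    (Nat.card_eq_fintype_card.trans (Fintype.card_subtype p)).symm) p h
theorem cn_le {p : Mo → Prop} [DecidablePred p] {Y : Subgroup G} (h : ∀ u, p u → Φ.ψ u ∈ Y) :
    cn p ≤ Nat.card Y := by
  rw [cn_eq]
  exact Nat.card_le_card_of_injective (fun y => (⟨Φ.ψ y.1, h _ y.2⟩ : Y))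
    fun a b e => Subtype.ext (Φ.inj (congrArg Subtype.val e))
theorem le_cn {p : Mo → Prop} [DecidablePred p] {Y : Subgroup G} (h : ∀ g ∈ Y, ∃ u, p u ∧ Φ.ψ u = g) :
    Nat.card Y ≤ cn p := by
  choose c c1 c2 using h
  have : Finite {x : Fin 2048 // p x} := Subtype.finite
  rw [cn_eq]
  exact Nat.card_le_card_of_injective (β := {x : Fin 2048 // p x}) (fun y : Y => ⟨c y.1 y.2, c1 _ _⟩)
    fun a b e => Subtype.ext (by rw [← c2 _ a.2, ← c2 _ b.2]; exact congrArg Φ.ψ (congrArg Subtype.val e))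
theorem card_sub {p : Mo → Prop} [DecidablePred p] (h : Cl p) : Nat.card (Φ.sub p h) = cn p :=
  le_antisymm (Φ.le_cn fun _ h => h) (Φ.cn_le fun _ h => Φ.mem_sub.2 h)

def Rg : Subgroup G := Φ.sub (fun _ => True) ⟨trivial, fun _ _ _ _ => trivial, fun _ _ => trivial⟩
def A : Subgroup G := Φ.sub Mo.A (Φ.cl_cen cenA)
def U : Subgroup G := Φ.sub Mo.U (Φ.cl_cen cenU)
def E : Subgroup G := Φ.sub Mo.E clE
def V : Subgroup G := Φ.sub Mo.V clV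
def U0 : Subgroup G := Φ.sub Mo.U0 clU0

theorem mA' {u : Mo} : Φ.ψ u ∈ Φ.A ↔ u.A := Φ.mem_sub
theorem mU' {u : Mo} : Φ.ψ u ∈ Φ.U ↔ u.U := Φ.mem_sub
theorem mE' {u : Mo} : Φ.ψ u ∈ Φ.E ↔ u.E := Φ.mem_sub
theorem mV' {u : Mo} : Φ.ψ u ∈ Φ.V ↔ u.V := Φ.mem_sub
theorem mU0' {u : Mo} : Φ.ψ u ∈ Φ.U0 ↔ u.U0 := Φ.mem_sub
theorem card_U : Nat.card Φ.U = 128 := (Φ.card_sub _).trans cnU
theorem card_E : Nat.card Φ.E = 16 := (Φ.card_sub _).trans cnE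
theorem card_U0 : Nat.card Φ.U0 = 4 := (Φ.card_sub _).trans cnU0
theorem qV {s : Ph} : Φ.q s ∈ Φ.V ↔ s.V1 := by rw [← ψP, mV', (mP s).1]
theorem qU {s : Ph} : Φ.q s ∈ Φ.U ↔ C0 s := by rw [← ψP, mU', (mP s).2.2.1]
theorem qU0 {s : Ph} : Φ.q s ∈ Φ.U0 ↔ s.U0 := by rw [← ψP, mU0', (mP s).2.2.2.1]
theorem tqU (s : Ph) : F.t * Φ.q s ∉ Φ.U := by
  rw [← ψP, ← Φ.ψT, ← Φ.mul, mU']; exact (mP s).2.2.2.2.2.1
theorem tU : F.t ∉ Φ.U := by simpa using Φ.tqU 1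
theorem tA : F.t ∈ Φ.A := Φ.ψT ▸ Φ.mA'.2 (by decide +kernel)
theorem vvV {w : ℕ} (h : w < 8) : Φ.q (vv w) ∈ Φ.V := Φ.ψP _ ▸ Φ.mV'.2 (mF w h).1
theorem fU {w : ℕ} (h : w < 8) : Φ.f w ∈ Φ.U := Φ.ψF h ▸ Φ.mU'.2 (mF w h).2.2.1
theorem fsq {w : ℕ} (h : w < 8) : Φ.f w * Φ.f w = Φ.q (vv w) := by
  rw [← Φ.ψF h, ← Φ.mul, (mF w h).2.1, ψP]
theorem ft {w : ℕ} (h : w < 8) : Φ.f w * F.t * (Φ.f w)⁻¹ = F.t * Φ.q (vv w) := by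
  simpa only [mul, inv, ψT, ψP, Φ.ψF h] using congrArg Φ.ψ (mF _ h).2.2.2.1
theorem exV {g : G} (h : g ∈ Φ.V) : ∃ w < 8, g = Φ.q (vv w) := by
  obtain ⟨u, hu, rfl⟩ := h
  obtain ⟨w, hw, e⟩ := (mV u hu).2
  exact ⟨w, hw, by rw [e, ψP]⟩
theorem VE : Φ.V ≤ Φ.E := fun _ ⟨u, hu, e⟩ => ⟨u, (mV u hu).1, e⟩
theorem EU : Φ.E ≤ Φ.U := fun _ ⟨u, hu, e⟩ => ⟨u, (mE u hu).1, e⟩
theorem UA : Φ.U ≤ Φ.A := fun _ ⟨u, hu, e⟩ => ⟨u, (mU u hu).1, e⟩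
theorem UE : Φ.U ≤ C[Φ.E] := by
  rintro _ ⟨u, hu, rfl⟩
  refine mem_C'.2 ?_
  rintro _ ⟨e, he, rfl⟩
  exact Φ.comm_iff.1 ((mE e he).2.2.2.2 u hu)
theorem Esq {g : G} (h : g ∈ Φ.E) : g * g = 1 := by
  obtain ⟨u, hu, rfl⟩ := h
  rw [← Φ.mul, (mE u hu).2.1, Φ.one]
theorem Usq {g : G} (h : g ∈ Φ.U) : g * g ∈ Φ.V := by
  obtain ⟨u, hu, rfl⟩ := h
  rw [← Φ.mul]; exact Φ.mV'.2 (mU u hu).2.1
theorem Uinv {g : G} (h : g ∈ Φ.U) (h2 : g * g = 1) : g ∈ Φ.E := by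
  obtain ⟨u, hu, rfl⟩ := h
  exact Φ.mE'.2 ((mU u hu).2.2.1 (Φ.inj (by rw [Φ.mul, h2, Φ.one])))
theorem EtV {g : G} (h : g ∈ Φ.E) (h2 : F.t * g = g * F.t) : g ∈ Φ.V := by
  obtain ⟨u, hu, rfl⟩ := h
  exact Φ.mV'.2 ((mE u hu).2.2.1 (Φ.comm_iff.2 (by rwa [ψT])))
theorem AU {g : G} (h : g ∈ Φ.A) : g ∈ Φ.U ∨ F.t * g ∈ Φ.U := by
  obtain ⟨u, hu, rfl⟩ := h
  rw [← Φ.ψT, ← Φ.mul, mU', mU']; exact (mA u hu).2.2.2.1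
theorem A_eq : Φ.A = Φ.Rg ⊓ C[Φ.V] := by
  refine le_antisymm ?_ ?_
  · rintro _ ⟨u, hu, rfl⟩
    refine mem_inf.2 ⟨⟨u, trivial, rfl⟩, mem_C'.2 fun g hg => ?_⟩
    obtain ⟨w, hw, rfl⟩ := Φ.exV hg
    rw [← ψP]; exact Φ.comm_iff.1 ((mA u hu).2.1 w hw)
  · rintro _ ⟨⟨u, -, rfl⟩, h⟩
    refine Φ.mA'.2 ((cenA u).2 fun l hl => Φ.comm_iff.2 (mem_C.1 h _ (Φ.mV'.2 ?_)))
    revert l; decide +kernel
theorem AV : Φ.A ≤ C[Φ.V] := Φ.A_eq.le.trans inf_le_right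
theorem qNV (s : Ph) : Φ.q s ∈ N[Φ.V] := mem_N_of_finite fun g hg => by
  obtain ⟨w, hw, rfl⟩ := Φ.exV hg
  rw [← map_inv, ← map_mul, ← map_mul, (act_ok s w hw).2]
  exact Φ.vvV (act_ok s w hw).1
theorem S0A : F.S0 ≤ N[Φ.A] := fun g hg => by
  have k : ∀ s, Φ.q s ∈ N[Φ.A] := fun s => Φ.A_eq ▸ zpowers_le.1 (norm_inf
    (norm_of_le (zpowers_le.2 ⟨P s, trivial, Φ.ψP s⟩)) (norm_C (zpowers_le.2 (Φ.qNV s))))
  obtain ⟨s, rfl | rfl⟩ := Φ.mem_S0.1 hg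
  · exact k s
  · exact mul_mem (norm_self _ Φ.tA) (k s)

/-! ## Characteristic subgroups of `A` -/

theorem NAz {g : G} (hg : g ∈ N[Φ.A]) : g * Φ.q z1 * g⁻¹ = Φ.q z1 := by
  have m : Φ.ψ (P e1) ∈ Φ.A ⊓ C[Φ.A] := mem_inf.2 ⟨Φ.mA'.2 (by decide +kernel), mem_C.2 (by
    rintro _ ⟨u, hu, rfl⟩
    exact Φ.comm_iff.1 (mA u hu).1)⟩
  obtain ⟨⟨b, hb, e⟩, c⟩ := conj_mem (norm_inf le_rfl (N_le_NC _) hg) m
  rw [← e] at c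
  have k : ∀ l : Mo, l.A → l * b = b * l := fun l hl => Φ.comm_iff.2 (mem_C.1 c _ (Φ.mA'.2 hl))
  have e2 : Φ.ψ (b * b) = g * Φ.q z1 * g⁻¹ := by
    rw [Φ.mul, e, conj_mul, ψP, ← map_mul, show e1 * e1 = z1 by decide +kernel]
  rcases (mA b hb).2.2.2.2 (k _ (by decide +kernel)) (k _ (by decide +kernel)) (k _ (by decide +kernel))
    with h | h
  · rw [h, Φ.one, eq_comm, conj_eq_one_iff, map_eq_one_iff _ Φ.q_inj] at e2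
    exact absurd e2 (by decide)
  · rw [← e2, h, ψP]
theorem NAU : N[Φ.A] ≤ N[Φ.U] := fun g hg => by
  have k : ∀ a : Mo, a.U → a * a ≠ 1 ∧ a * a ≠ P z1 → g * Φ.ψ a * g⁻¹ ∈ Φ.U := fun a ha h => by
    obtain ⟨b, hb, e⟩ := conj_mem hg (Φ.mA'.2 (mU a ha).1)
    have e2 : Φ.ψ (b * b) = g * Φ.ψ (a * a) * g⁻¹ := by rw [Φ.mul, e, conj_mul, Φ.mul]
    refine e ▸ Φ.mU'.2 ((mA b hb).2.2.1 (fun h1 => h.1 (Φ.inj ?_)) fun h1 => h.2 (Φ.inj ?_))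
    · rw [h1, Φ.one, eq_comm, conj_eq_one_iff] at e2
      rw [e2, Φ.one]
    · rw [h1, ψP, ← Φ.NAz hg] at e2
      rw [ψP]; exact (mul_left_cancel (mul_right_cancel e2)).symm
  refine mem_N_of_finite ?_
  rintro _ ⟨u, hu, rfl⟩
  rcases (mU u hu).2.2.2.2.2 with h | h
  · exact k u hu h
  · have h4 : (Fv 4).U := by decide +kernel
    have := k _ ((Φ.cl_cen cenU).mul _ h4 _ hu) h
    rwa [Φ.mul, ← conj_mul, mul_mem_cancel_left (k _ h4 (by decide +kernel))] at this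
theorem NAE : N[Φ.A] ≤ N[Φ.E] := fun g hg => mem_N_of_finite fun x hx =>
  Φ.Uinv (conj_mem (Φ.NAU hg) (Φ.EU hx)) (by rw [conj_mul, Φ.Esq hx, mul_one, mul_inv_cancel])
theorem NAV : N[Φ.A] ≤ N[Φ.V] := fun g hg => mem_N_of_finite fun x hx => by
  obtain ⟨w, hw, rfl⟩ := Φ.exV hx
  rw [← Φ.fsq hw, ← conj_mul]
  exact Φ.Usq (conj_mem (Φ.NAU hg) (Φ.fU hw))


/-! ## The action on the involutions of `t U` -/

end Fam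

/-- `t * t ^ g` -/
def δ (F : Fr H G) (g : G) : G := F.t * (g * F.t * g⁻¹)
theorem tδ (g : G) : F.t * δ F g = g * F.t * g⁻¹ := by rw [δ, ← mul_assoc, F.tt, one_mul]
theorem δ_mul (a b : G) : δ F (a * b) = δ F a * (a * δ F b * a⁻¹) := by
  rw [δ, δ, mul_assoc F.t, conj_mul, tδ]; group
theorem tδ_sq (g : G) : F.t * δ F g * (F.t * δ F g) = 1 := by
  rw [tδ, conj_mul, F.tt, mul_one, mul_inv_cancel]
theorem δ_conj {n : G} (h : Commute F.t n) (k : G) : δ F (n * k * n⁻¹) = n * δ F k * n⁻¹ := by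
  have e : n * F.t * n⁻¹ = F.t := by rw [← h.eq, mul_inv_cancel_right]
  have e' : n⁻¹ * F.t * n = F.t := by rw [mul_assoc, h.eq, inv_mul_cancel_left]
  rw [δ, δ, ← conj_mul, e, show n * k * n⁻¹ * F.t * (n * k * n⁻¹)⁻¹ = n * (k * (n⁻¹ * F.t * n) * k⁻¹) * n⁻¹ by group,
    e']
theorem δ_one {n : G} (h : Commute F.t n) : δ F n = 1 := by rw [δ, ← h.eq, mul_inv_cancel_right, F.tt]

namespace Fam
variable (Φ : Fam F)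

theorem δU {g : G} (hg : g ∈ N[Φ.A]) : δ F g ∈ Φ.U :=
  (Φ.AU (conj_mem hg Φ.tA)).resolve_left fun h => Φ.tU ((conj_mem_iff (Φ.NAU hg)).1 h)
theorem UNA : Φ.U ≤ N[Φ.A] := Φ.UA.trans (norm_self _)
theorem UNE : Φ.U ≤ N[Φ.E] := Φ.UE.trans (C_le_N _)
theorem δV {g : G} (h : g ∈ Φ.U) : δ F g ∈ Φ.V := by
  obtain ⟨u, hu, rfl⟩ := h
  simpa only [δ, mul, inv, ψT] using Φ.mV'.2 (mU u hu).2.2.2.1
theorem exw {g : G} (h : g ∈ Φ.U) : ∃ w < 8, g * g = Φ.q (vv w) ∧ cs Φ.E g = cs Φ.E (Φ.f w) := by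
  obtain ⟨u, hu, rfl⟩ := h
  obtain ⟨w, hw, e1, e2⟩ := (mU u hu).2.2.2.2.1
  refine ⟨w, hw, by rw [← Φ.mul, e1, ψP], ((cs_eq_cs (Φ.UNE (Φ.fU hw)) (Φ.UNE (Φ.mU'.2 hu))).2 ?_).symm⟩
  simpa only [mul, inv, Φ.ψF hw] using Φ.mE'.2 e2
theorem K1 {k u : G} (hk : k ∈ N[Φ.A]) (hv : k ∈ C[Φ.V]) (hu : u ∈ Φ.U) :
    cs Φ.E (k * u * k⁻¹) = cs Φ.E u := by
  obtain ⟨v, h1, e1, e2⟩ := Φ.exw (conj_mem (Φ.NAU hk) hu)
  obtain ⟨w, h2, e3, e4⟩ := Φ.exw hu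
  rw [conj_mul, conj_eq_of_mem_C hv (Φ.Usq hu), e3] at e1
  rw [e2, e4, (cc_one _ h2 _ h1).2.2 (Φ.q_inj e1)]
theorem cs_conj {n a b : G} (hn : n ∈ N[Φ.A]) (ha : a ∈ Φ.U) (hb : b ∈ Φ.U) (h : cs Φ.E a = cs Φ.E b) :
    cs Φ.E (n * a * n⁻¹) = cs Φ.E (n * b * n⁻¹) := by
  simp only [cs] at h ⊢
  rw [ap_conj _ (Φ.NAE hn) (Φ.UNE ha), ap_conj _ (Φ.NAE hn) (Φ.UNE hb), h]
theorem conj_inv {a b : G} (ha : a ∈ Φ.U) (hb : b ∈ Φ.U) (h : cs Φ.E a = cs Φ.E b)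
    (h1 : F.t * a * (F.t * a) = 1) (h2 : F.t * b * (F.t * b) = 1) :
    ∃ y ∈ Φ.U, y * (F.t * a) * y⁻¹ = F.t * b := by
  obtain ⟨e, he, e1⟩ := (cs_eq_cs (Φ.UNE ha) (Φ.UNE hb)).1 h
  obtain ⟨u, hu, rfl⟩ := ha
  rw [eq_inv_mul_iff_mul_eq] at e1
  obtain ⟨w, hw, e2⟩ := mInv u hu (Φ.inj (by simpa only [mul, ψT, one] using h1)) e he
    (Φ.inj (by simpa only [mul, ψT, one, e1] using h2))
  exact ⟨_, Φ.fU hw, by simpa only [mul, inv, ψT, e1, Φ.ψF hw] using congrArg Φ.ψ e2⟩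

/-- `k` moves `t` into `t * f w * E` -/
def D (k : G) (w : ℕ) : Prop := cs Φ.E (δ F k) = cs Φ.E (Φ.f w)
theorem Dex {g : G} (hg : g ∈ N[Φ.A]) : ∃ w < 8, Φ.D g w :=
  (Φ.exw (Φ.δU hg)).imp fun _ h => ⟨h.1, h.2.2⟩
theorem D0 {g : G} (hg : g ∈ N[Φ.A]) : Φ.D g 0 ↔ δ F g ∈ Φ.E := by
  rw [D, Φ.f0, cs_of_mem (one_mem _), cs_eq_one (Φ.UNE (Φ.δU hg))]
variable {Φ} in
theorem D.uniq {k : G} {v w : ℕ} (h : Φ.D k v) (h' : Φ.D k w) (hv : v < 8) (hw : w < 8) : v = w :=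
  ((mF w hw).2.2.2.2 v hv).2.2 (Φ.mE'.1 (by
    rw [Φ.mul, Φ.inv, Φ.ψF hv, Φ.ψF hw]
    exact (cs_eq_cs (Φ.UNE (Φ.fU hv)) (Φ.UNE (Φ.fU hw))).1 (h.symm.trans h')))
variable {Φ} in
theorem D.mul {a b : G} {v w : ℕ} (h : Φ.D a v) (h' : Φ.D b w) (hv : v < 8) (hw : w < 8)
    (ha : a ∈ N[Φ.A]) (ha' : a ∈ C[Φ.V]) (hb : b ∈ N[Φ.A]) : Φ.D (a * b) (ad v w) := by
  have k := (mF w hw).2.2.2.2 v hv
  have e := (cs_eq_cs (Φ.UNE (mul_mem (Φ.fU hv) (Φ.fU hw))) (Φ.UNE (Φ.fU k.1))).2 (by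
    simpa only [Φ.mul, Φ.inv, Φ.ψF hv, Φ.ψF hw, Φ.ψF k.1] using Φ.mE'.2 k.2.1)
  have e2 := Φ.K1 ha ha' (Φ.δU hb)
  simp only [D, cs] at *
  rw [δ_mul, ap_mul _ (Φ.UNE (Φ.δU ha)) (Φ.UNE (conj_mem (Φ.NAU ha) (Φ.δU hb))), e2, h, h', ← e,
    ap_mul _ (Φ.UNE (Φ.fU hv)) (Φ.UNE (Φ.fU hw))]
variable {Φ} in
theorem D.conj {k n : G} {v w : ℕ} (h : Φ.D k v) (hk : k ∈ N[Φ.A]) (hv : v < 8) (hn : n ∈ N[Φ.A])
    (ht : Commute F.t n) (e : n * Φ.f v * n⁻¹ = Φ.f w) : Φ.D (n * k * n⁻¹) w := by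
  rw [D, δ_conj ht, ← e]; exact Φ.cs_conj hn (Φ.δU hk) (Φ.fU hv) h

end Fam

/-- the subgroup `K`, of order `2 ^ 7` or `2 ^ 10` -/
structure Dat (Φ : Fam F) where
  K : Subgroup G
  UK : Φ.U ≤ K
  KE : K ≤ C[Φ.E]
  KA : K ≤ N[Φ.A]
  SK : F.S0 ≤ N[K]
  K2 : ∀ k ∈ K, δ F k ∈ Φ.E → k ∈ Φ.U
  sq : ∀ k ∈ K, k * k ∈ Φ.E
  big : K = Φ.U ∨ ∀ w < 8, ∃ k ∈ K, Φ.D k w
  H2 : ∀ g ∈ N[Φ.A], ∃ k ∈ K, g * F.t * g⁻¹ = k * F.t * k⁻¹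
  rho : ∀ s ∈ [sg, sg * j1], ∀ k ∈ K, F.T (Φ.q s * k) → ∃ k' ∈ K, F.T (Φ.q j1 * k')

end H26.MZ
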