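import Mathlib
import Cfsg.Agent.H26.MZ1

/-! # The group `M = K S0` is a Sylow subgroup -/

set_option autoImplicit false
set_option linter.unusedSectionVars false
set_option linter.unusedVariables false
set_option maxRecDepth 100000

namespace H26.MZ

open H9 Cfsg H24 Subgroup H5.MC

variable {H : Subgroup PG} {G : Type*} [Group G] [Finite G] {F : Fr H G} {Φ : Fam F}

theorem mVc : ∀ w < 8, ∃ s : Ph, P s * eps * (P s)⁻¹ * eps⁻¹ = P (vv w) := by decide +kernel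
theorem mEc : ∀ e : Mo, e.E → (T * e * T⁻¹ * e⁻¹).V ∧ ∀ s : Ph, (P s * e * (P s)⁻¹ * e⁻¹).V := by
  decide +kernel
theorem mZt : ∀ u : Mo, u.U → T * u = u * T → u.Z := by decide +kernel

theorem tinv : F.t⁻¹ = F.t := inv_eq_of_mul_eq_one_right F.tt

theorem Fam.actS0 (Φ : Fam F) {g : G} (hg : g ∈ F.S0) : ∃ s, (g = Φ.q s ∨ g = F.t * Φ.q s) ∧
    ∀ v, g * Φ.q v * g⁻¹ = Φ.q (s * v * s⁻¹) := by
  obtain ⟨s, h⟩ := Φ.mem_S0.1 hg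
  refine ⟨s, h, fun v => ?_⟩
  rcases h with rfl | rfl
  · rw [map_mul, map_mul, map_inv]
  · rw [show F.t * Φ.q s * Φ.q v * (F.t * Φ.q s)⁻¹ = F.t * (Φ.q s * Φ.q v * (Φ.q s)⁻¹) * F.t⁻¹ by group,
      ← map_inv, ← map_mul, ← map_mul, (Φ.tq _).eq, mul_inv_cancel_right]
theorem Fam.epsE (Φ : Fam F) : Φ.ψ eps ∈ Φ.E := Φ.mE'.2 (by decide +kernel)
theorem Fam.tE (Φ : Fam F) : F.t ∉ C[Φ.E] := fun h =>
  absurd (Φ.comm_iff.2 (Φ.ψT ▸ mem_C.1 h _ Φ.epsE : Φ.ψ eps * Φ.ψ T = Φ.ψ T * Φ.ψ eps)) (by decide +kernel)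

namespace Dat
variable (D : Dat Φ)

theorem KV : D.K ≤ C[Φ.V] := D.KE.trans (C_anti Φ.VE)
theorem EK : Φ.E ≤ D.K := Φ.EU.trans D.UK
theorem KNE : D.K ≤ N[Φ.E] := D.KE.trans (C_le_N _)
theorem tK : F.t ∉ D.K := fun h => Φ.tE (D.KE h)
theorem cmE {a b : G} (ha : a ∈ D.K) (hb : b ∈ D.K) : a * b * a⁻¹ * b⁻¹ ∈ Φ.E := by
  rw [show a * b * a⁻¹ * b⁻¹ = a * b * (a * b) * (b⁻¹ * (a⁻¹ * a⁻¹) * b) * (b⁻¹ * b⁻¹) by group]
  exact mul_mem (mul_mem (D.sq _ (mul_mem ha hb)) (conj_mem' (D.KNE hb) (D.sq _ (inv_mem ha))))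
    (D.sq _ (inv_mem hb))
theorem same {a b : G} {w : ℕ} (hw : w < 8) (ha : a ∈ D.K) (hb : b ∈ D.K) (h1 : Φ.D a w) (h2 : Φ.D b w) :
    a⁻¹ * b ∈ Φ.U := by
  have m := mul_mem (inv_mem ha) hb
  obtain ⟨v, hv, h3⟩ := Φ.Dex (D.KA m)
  have h4 := h1.mul h3 hw hv (D.KA ha) (D.KV ha) (D.KA m)
  rw [mul_inv_cancel_left] at h4
  have := (by decide : ∀ w < 8, ∀ v < 8, w = ad w v → v = 0) w hw v hv
    (h2.uniq h4 hw ((mF v hv).2.2.2.2 w hw).1)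
  exact D.K2 _ m ((Φ.D0 (D.KA m)).1 (this ▸ h3))
theorem Lk {a k : G} (ha : a * F.t ∈ D.K) (hk : k ∈ D.K) (h : a * k * a⁻¹ * k⁻¹ ∈ Φ.E) : k ∈ Φ.U := by
  have := mul_mem (inv_mem (D.cmE ha (conj_mem (D.SK F.t_mem) hk))) h
  refine D.K2 k hk ?_
  rw [δ, show F.t * (k * F.t * k⁻¹) = F.t * k * F.t * k⁻¹ by group]
  convert this using 1
  rw [show a * F.t * (F.t * k * F.t⁻¹) * (a * F.t)⁻¹ = a * (F.t * F.t) * k * (F.t * F.t)⁻¹ * a⁻¹ by group, F.tt,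
    tinv]
  group

noncomputable def M : Subgroup G := D.K ⊔ F.S0
theorem memM {m : G} : m ∈ D.M ↔ ∃ k ∈ D.K, ∃ σ ∈ F.S0, m = k * σ := mem_sup_of_norm D.SK
theorem KM : D.K ≤ D.M := le_sup_left
theorem SM : F.S0 ≤ D.M := le_sup_right
theorem tM : F.t ∈ D.M := D.SM F.t_mem
theorem MA : D.M ≤ N[Φ.A] := sup_le D.KA Φ.S0A
theorem MK : D.M ≤ N[D.K] := sup_le (norm_self _) D.SK
theorem AM : Φ.A ≤ D.M := fun g hg => (Φ.AU hg).elim (fun h => D.KM (D.UK h)) fun h =>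
  (mul_mem_cancel_left D.tM).1 (D.KM (D.UK h))
theorem ψM (u : Mo) : Φ.ψ u ∈ D.M :=
  mul_mem (mul_mem (D.KM (D.UK (Φ.fU u.v_lt))) (pow_mem D.tM _)) (D.SM (Φ.q_mem _))
theorem two : IsPGroup 2 D.M := by
  refine ((isPi_of_isPGroup Nat.prime_two fun g => ⟨2, Subtype.ext ?_⟩).sup
    (isPi_of_isPGroup Nat.prime_two F.S0_two) D.SK).isPGroup Nat.prime_two
  rw [coe_pow, show 2 ^ 2 = 2 + 2 from rfl, pow_add, pow_two]
  exact Φ.Esq (D.sq _ g.2)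
theorem CMV {m : G} (hm : m ∈ D.M) (h : m ∈ C[Φ.V]) : m ∈ D.K ∨ m * F.t ∈ D.K := by
  obtain ⟨k, hk, σ, hσ, rfl⟩ := D.memM.1 hm
  obtain ⟨s, e, ac⟩ := Φ.actS0 hσ
  have h2 := (mul_mem_cancel_left (D.KV hk)).1 h
  have k1 : ∀ v : Ph, v.V1 → s * v = v * s := fun v hv => mul_inv_eq_iff_eq_mul.1 (Φ.q_inj (by
    rw [← ac, conj_eq_of_mem_C h2 (Φ.qV.2 hv)]))
  have k2 := D.UK (Φ.qU.2 ((mP s).2.2.2.2.2.2.2 ⟨k1 _ (by decide +kernel), k1 _ (by decide +kernel)⟩))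
  rcases e with rfl | rfl
  · exact Or.inl (mul_mem hk k2)
  · refine Or.inr ?_
    rw [(Φ.tq s).eq, mul_assoc, mul_assoc, F.tt, mul_one]; exact mul_mem hk k2
theorem CME {m : G} (hm : m ∈ D.M) (h : m ∈ C[Φ.E]) : m ∈ D.K :=
  (D.CMV hm (C_anti Φ.VE h)).resolve_right fun h1 => Φ.tE ((mul_mem_cancel_left h).1 (D.KE h1))
theorem cmt {m : G} (hm : m ∈ D.M) : m * F.t * m⁻¹ * F.t⁻¹ ∈ D.K := by
  have := conj_mem (D.SK F.t_mem) (D.UK (Φ.δU (D.MA hm)))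
  rwa [tδ] at this
theorem cmEV {m x : G} (hm : m ∈ D.M) (hx : x ∈ Φ.E) : m * x * m⁻¹ * x⁻¹ ∈ Φ.V := by
  obtain ⟨k, hk, σ, hσ, rfl⟩ := D.memM.1 hm
  rw [show k * σ * x * (k * σ)⁻¹ = k * (σ * x * σ⁻¹) * k⁻¹ by group,
    conj_eq_of_mem_C (D.KE hk) (conj_mem (Φ.NAE (Φ.S0A hσ)) hx)]
  have k1 : ∀ s, ∀ x ∈ Φ.E, Φ.q s * x * (Φ.q s)⁻¹ * x⁻¹ ∈ Φ.V := by
    rintro s _ ⟨e, he, rfl⟩
    simpa only [Φ.mul, Φ.inv, Φ.ψP] using Φ.mV'.2 ((mEc e he).2 s)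
  obtain ⟨s, rfl | rfl⟩ := Φ.mem_S0.1 hσ
  · exact k1 s x hx
  · obtain ⟨e, he, e1⟩ := conj_mem (Φ.NAE (Φ.S0A (Φ.q_mem s))) hx
    have := Φ.mV'.2 (mEc e he).1
    simp only [Φ.mul, Φ.inv, Φ.ψT, e1] at this
    convert mul_mem this (k1 s x hx) using 1
    group

theorem normA {y : G} (hy : y ∈ N[D.M]) : y ∈ N[Φ.A] := by
  have hE : cj y Φ.E ≤ D.M := cj_le_of_mem_N (D.EK.trans D.KM) hy
  have nE : D.M ≤ N[cj y Φ.E] := by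
    have := norm_cj (D.MA.trans Φ.NAE) y
    rwa [cj_of_mem_N hy] at this
  have sq := Fr.q_sq (fun e he => Φ.Esq he) y
  have cm : ∀ m ∈ D.M, ∀ x ∈ cj y Φ.E, m * x * m⁻¹ * x⁻¹ ∈ cj y Φ.E := fun m hm x hx =>
    mul_mem (conj_mem (nE hm) hx) (inv_mem hx)
  have a : ∀ x ∈ cj y Φ.E, x ∈ D.K → x ∈ Φ.E := fun x hx hk => by
    have := cm _ D.tM x hx
    rw [tinv, mul_assoc, mul_assoc, ← mul_assoc x] at this
    exact Φ.Uinv (D.K2 x hk (Φ.Uinv (Φ.δU (D.KA hk)) (sq _ this))) (sq _ hx)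
  have a' : ∀ x ∈ cj y Φ.E, ∀ k ∈ D.K, x * k * x⁻¹ * k⁻¹ ∈ Φ.E := fun x hx k hk =>
    a _ (by convert inv_mem (cm k (D.KM hk) x hx) using 1; group)
      (mul_mem (conj_mem (D.MK (hE hx)) hk) (inv_mem hk))
  have b : ∀ x ∈ cj y Φ.E, x ∈ D.K ∨ x * F.t ∈ D.K := fun x hx => D.CMV (hE hx) (mem_C'.2 fun v hv => by
    obtain ⟨w, hw, rfl⟩ := Φ.exV hv
    have h1 := a' x hx _ (D.UK (Φ.fU hw))
    have h2 := mem_C.1 (Φ.UE (Φ.fU hw)) _ h1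
    rw [← mul_inv_eq_iff_eq_mul, ← Φ.fsq hw, ← conj_mul]
    generalize Φ.f w = f at *
    obtain ⟨e, e1⟩ : ∃ e, x * f * x⁻¹ = e * f := ⟨_, (inv_mul_cancel_right _ f).symm⟩
    rw [e1, mul_inv_cancel_right] at h1 h2
    rw [e1, mul_assoc, ← mul_assoc f, ← h2, ← mul_assoc, ← mul_assoc, Φ.Esq h1, one_mul])
  have c : ∀ m ∈ D.M, ∀ x ∈ cj y Φ.E, m * x * m⁻¹ * x⁻¹ ∈ Φ.V := fun m hm x hx => by
    by_cases h : ∀ x ∈ cj y Φ.E, x ∈ D.K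
    · exact D.cmEV hm (a x hx (h x hx))
    push Not at h
    obtain ⟨x0, h0, h1⟩ := h
    have h2 : m * x * m⁻¹ * x⁻¹ ∈ Φ.E := a _ (cm m hm x hx) (by
      rcases b x hx with h | h
      · exact mul_mem (conj_mem (D.MK hm) h) (inv_mem h)
      · convert mul_mem (mul_mem (conj_mem (D.MK hm) h) (D.cmt hm)) (inv_mem h) using 1
        rw [show m * (x * F.t) * m⁻¹ * (m * F.t * m⁻¹ * F.t⁻¹) * (x * F.t)⁻¹ =
          m * x * (F.t * F.t) * m⁻¹ * (F.t * F.t)⁻¹ * x⁻¹ by group, F.tt]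
        group)
    have h3 : x0 ∈ C{m * x * m⁻¹ * x⁻¹} :=
      C_le_C1 (cm m hm x hx) (cent_cj (Φ.EU.trans Φ.UE) y h0)
    exact Φ.EtV h2 (mem_C1.1 ((mul_mem_cancel_left h3).1 (C_le_C1 h2 (D.KE ((b x0 h0).resolve_left h1)))))
  have d : y ∈ N[Φ.V] := mem_N_of_finite fun v hv => by
    obtain ⟨w, hw, rfl⟩ := Φ.exV hv
    obtain ⟨s, e⟩ := mVc w hw
    have := congrArg Φ.ψ e
    simp only [Φ.mul, Φ.inv, Φ.ψP] at this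
    convert c _ (conj_mem hy (D.SM (Φ.q_mem s))) _ (conj_mem_cj y Φ.epsE) using 1
    rw [← this]; group
  have d' : ∀ g ∈ Φ.A, y * g * y⁻¹ ∈ D.K ∨ y * g * y⁻¹ * F.t ∈ D.K := fun g hg =>
    D.CMV (conj_mem hy (D.AM hg)) (conj_mem (N_le_NC _ d) (Φ.AV hg))
  by_cases h : ∀ x ∈ cj y Φ.E, x ∈ D.K
  · have nE := mem_N_of_cj_le fun x hx => a x hx (h x hx)
    have nK : ∀ g ∈ D.M, y * g * y⁻¹ ∈ D.K ↔ g ∈ D.K := fun g hg =>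
      ⟨fun h => D.CME hg ((conj_mem_iff (N_le_NC _ nE)).1 (D.KE h)),
        fun h => D.CME (conj_mem hy hg) (conj_mem (N_le_NC _ nE) (D.KE h))⟩
    have h1 := (d' _ Φ.tA).resolve_left fun h => D.tK ((nK _ D.tM).1 h)
    have h2 : ∀ u ∈ Φ.U, y * u * y⁻¹ ∈ Φ.U := fun u hu => D.Lk h1 ((nK _ (D.KM (D.UK hu))).2 (D.UK hu)) (by
      convert conj_mem nE (Φ.VE (Φ.δV hu)) using 1
      rw [δ, ← tinv]; group; rw [zpow_neg_one F.t, tinv])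
    have h3 : y * F.t * y⁻¹ ∈ Φ.A := by
      refine (mul_mem_cancel_right Φ.tA).1 (Φ.UA (D.K2 _ h1 ?_))
      convert D.sq _ (inv_mem h1) using 1
      rw [δ, mul_inv_rev, tinv, conj_inv, tinv, mul_assoc _ F.t F.t, F.tt]
      group
    refine mem_N_of_finite fun g hg => (Φ.AU hg).elim (fun h => Φ.UA (h2 g h)) fun h => ?_
    have := Φ.UA (h2 _ h)
    rwa [← conj_mul, mul_mem_cancel_left h3] at this
  · push Not at h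
    obtain ⟨x0, h0, h1⟩ := h
    have h2 : D.K ≤ Φ.U := fun k hk => D.Lk ((b x0 h0).resolve_left h1) hk (a' x0 h0 k hk)
    exact mem_N_of_finite fun g hg => (d' g hg).elim (fun h => Φ.UA (h2 h)) fun h =>
      (mul_mem_cancel_right Φ.tA).1 (Φ.UA (h2 h))

theorem sylow : ∃ S : Sylow 2 G, (S : Subgroup G) = D.M := by
  obtain ⟨S, hS⟩ := D.two.exists_le_sylow
  refine ⟨S, by_contra fun h => ?_⟩
  obtain ⟨y, ⟨h1, h2⟩, h3⟩ := SetLike.exists_of_lt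
    (((isPi_of_isPGroup Nat.prime_two S.2).nil Nat.prime_two).proper_norm (lt_of_le_of_ne hS (Ne.symm h)))
  obtain ⟨k, hk, e⟩ := D.H2 y (D.normA h2)
  refine h3 ((mul_mem_cancel_left (inv_mem (D.KM hk))).1 (D.SM (F.cent_S S.2 (D.SM.trans hS)
    (mul_mem (inv_mem (hS (D.KM hk))) h1) (mul_inv_eq_iff_eq_mul.1 ?_))))
  rw [show k⁻¹ * y * F.t * (k⁻¹ * y)⁻¹ = k⁻¹ * (y * F.t * y⁻¹) * k by group, e]; group

end Dat

end H26.MZ
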