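import Mathlib
import Cfsg.Agent.H26.MZ2

/-! # The transfer of `t` -/

set_option autoImplicit false
set_option linter.unusedSectionVars false
set_option linter.unusedVariables false
set_option maxRecDepth 100000

namespace H26.MZ

open H9 Cfsg H24 Subgroup H5.MC

variable {H : Subgroup PG} {G : Type*} [Group G] [Finite G] {F : Fr H G} {Φ : Fam F}

/-- the elements that fix the coset `x N` -/
def stab (x : G) (N : Subgroup G) : Subgroup G where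
  carrier := {m | m ∈ N[N] ∧ x⁻¹ * (m * x * m⁻¹) ∈ N}
  one_mem' := ⟨one_mem _, by simp⟩
  mul_mem' := fun {a b} ha hb => ⟨mul_mem ha.1 hb.1, by
    convert mul_mem ha.2 (conj_mem ha.1 hb.2) using 1; group⟩
  inv_mem' := fun {a} ha => ⟨inv_mem ha.1, by
    convert conj_mem' ha.1 (inv_mem ha.2) using 1; group⟩

theorem idx {β : Type*} [Finite β] {Y N : Subgroup G} {x : G} (hN : Y ≤ N[N]) (l : β → G)
    (h : ∀ m ∈ Y, ∃ i, (l i)⁻¹ * (x⁻¹ * (m * x * m⁻¹)) ∈ N) :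
    Nat.card Y ≤ Nat.card β * Nat.card ↥(Y ⊓ stab x N) := by
  choose c hc using fun m : Y => h m.1 m.2
  let r : β → Y := Function.invFun c
  have hr : ∀ a, c (r (c a)) = c a := fun a => Function.invFun_eq ⟨a, rfl⟩
  rw [← Nat.card_prod]
  have m : ∀ a : Y, (r (c a) : G)⁻¹ * a ∈ Y := fun a => mul_mem (inv_mem (r _).2) a.2
  refine Nat.card_le_card_of_injective (fun a => (c a, ⟨(r (c a) : G)⁻¹ * a,
    mem_inf.2 ⟨m a, hN (m a), ?_⟩⟩)) fun a b e => ?_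
  · have := hc (r (c a))
    rw [hr] at this
    convert conj_mem' (hN (r (c a)).2) (mul_mem (inv_mem this) (hc a)) using 1
    group
  · have e1 : c a = c b := congrArg Prod.fst e
    have e2 : (r (c a) : G)⁻¹ * a = (r (c b) : G)⁻¹ * b := congrArg (fun z => z.2.1) e
    rw [e1] at e2
    exact Subtype.ext (mul_left_cancel e2)

theorem cls {Y Z : Subgroup G} {x : G} (h : ∀ m ∈ Y, x⁻¹ * (m * x * m⁻¹) ∈ Z) :
    Nat.card Y ≤ Nat.card Z * Nat.card ↥(Y ⊓ C{x}) :=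
  (idx (N := ⊥) (by simp) (fun z : Z => z.1) fun m hm => ⟨⟨_, h m hm⟩, mem_bot.2 (inv_mul_cancel _)⟩).trans
    (Nat.mul_le_mul_left _ (card_le (inf_le_inf_left _ fun m hm =>
      mem_C1_iff_conj.2 (inv_mul_eq_one.1 (mem_bot.1 hm.2)).symm)))

theorem cos {n : ℕ} {U Y : Subgroup G} (hU : U ≤ Y) (L : Fin n → G) (hL : ∀ i, L i ∈ Y)
    (h : ∀ i j, (L i)⁻¹ * L j ∈ U → i = j) : n * Nat.card U ≤ Nat.card Y := by
  refine le_of_eq_of_le (by rw [Nat.card_prod, Nat.card_fin]) (Nat.card_le_card_of_injective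
    (fun a : Fin n × U => (⟨L a.1 * a.2, mul_mem (hL _) (hU a.2.2)⟩ : Y)) fun a b e => ?_)
  have e1 : L _ * a.2.1 = L _ * b.2.1 := congrArg Subtype.val e
  have e2 := h _ _ (show (L a.1)⁻¹ * L b.1 ∈ U by
    rw [← mul_inv_eq_iff_eq_mul, mul_assoc, ← eq_inv_mul_iff_mul_eq] at e1
    rw [← e1]; exact mul_mem a.2.2 (inv_mem b.2.2))
  rw [e2] at e1
  exact Prod.ext e2 (Subtype.ext (mul_left_cancel e1))

theorem mR : ∀ s : Ph, C0 (s * s) → ∃ s0 ∈ [1, j1, j2, j3, sg, sg * j1], C0 (s0⁻¹ * s) := by decide +kernel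
theorem m8 : ∀ j ∈ [P j1, P j2, P j3], ∀ u : Mo, u.U → j * u * (j * u) = 1 → (j * u).K8 ∧
    64 ≤ cn fun m => m.K8 ∧ m * (j * u) = j * u * m := by decide +kernel
theorem m8c : ∀ m : Mo, m.K8 → m * Fv 1 = Fv 1 * m ∧ m * Fv 2 = Fv 2 * m := by decide +kernel
theorem mJ : ∀ j ∈ [j1, j2, j3], j * z2 = z2 * j ∧ C0 (j * j) ∧ (∀ w < 8, j * vv w = vv w * j → w < 4) ∧
    (∀ s : Ph, s * z2 = z2 * s → (j⁻¹ * (s * j * s⁻¹)).U0) ∧ ∀ e : Mo, e.E → P j * e = e * P j → e.U0 := by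
  decide +kernel
theorem mJ2 : ∀ s : Ph, (z2⁻¹ * (s * z2 * s⁻¹) = 1 ∨ z2⁻¹ * (s * z2 * s⁻¹) = z1) ∧
    (s * z2 = z2 * s → ∀ w < 4, act s.n w = w) ∧
    (s.U0 → C0 s ∧ (s = 1 ∨ s = z1 ∨ s = z2 ∨ s = z1 * z2) ∧ (s = 1 ∨ s.inn ∧ s.zc)) := by decide +kernel
theorem mU0 : ∀ u : Mo, u.U0 → u = P u.s ∧ u.s.U0 := by decide +kernel

theorem Tsq {x : G} (h : F.T x) : x * x = 1 := by
  obtain ⟨g, rfl⟩ := isConj_iff.1 h
  rw [conj_mul, F.tt, mul_one, mul_inv_cancel]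
theorem Fam.exU0 (Φ : Fam F) {g : G} (h : g ∈ Φ.U0) : ∃ s : Ph, s.U0 ∧ g = Φ.q s := by
  obtain ⟨u, hu, rfl⟩ := h
  exact ⟨_, (mU0 u hu).2, by rw [← Φ.ψP, ← (mU0 u hu).1]⟩
theorem Fam.qf (Φ : Fam F) (s : Ph) {w : ℕ} (hw : w < 8) : Φ.q s * Φ.f w * (Φ.q s)⁻¹ = Φ.f (act s.n w) := by
  rw [Φ.eqv s w hw, mul_inv_cancel_right]

namespace Dat
variable (D : Dat Φ)

theorem DU {k : G} {w : ℕ} (hk : k ∈ D.K) (h : Φ.D k w) (hw : w < 8) {u : G} (hu : u ∈ Φ.U) : Φ.D (k * u) w := by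
  have := h.mul ((Φ.D0 (Φ.UNA hu)).2 (Φ.VE (Φ.δV hu))) hw (by norm_num) (D.KA hk) (D.KV hk) (Φ.UNA hu)
  rwa [(by decide : ∀ w < 8, ad w 0 = w) w hw] at this
theorem cosK {n : ℕ} (hn : n ≤ 8) (h : ∀ w < 8, ∃ k ∈ D.K, Φ.D k w) {Y : Subgroup G} (hU : Φ.U ≤ Y)
    (hY : ∀ w < n, ∀ k ∈ D.K, Φ.D k w → k ∈ Y) : n * 128 ≤ Nat.card Y := by
  choose κ k1 k2 using fun i : Fin n => h i (i.2.trans_le hn)
  rw [← Φ.card_U]
  refine cos hU κ (fun i => hY i i.2 _ (k1 i) (k2 i)) fun i j e => Fin.ext ?_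
  have := D.DU (k1 i) (k2 i) (i.2.trans_le hn) e
  rw [mul_inv_cancel_left] at this
  exact this.uniq (k2 j) (i.2.trans_le hn) (j.2.trans_le hn)

theorem noK {x : G} (hx : x ∈ D.K) : ¬ F.T x := fun hT => by
  by_cases h : x ∈ Φ.U
  · have := F.E16 hT (D.two.to_le (D.UK.trans D.KM)) (mem_C_iff_le_C1.1 (cents_symm Φ.UE (Φ.Uinv h (Tsq hT))))
      Φ.EU (fun e he => Φ.Esq he) Φ.card_E.ge Φ.UE
    rw [Φ.card_U] at this; omega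
  have h1 := D.cosK le_rfl (D.big.resolve_left fun e => h (e ▸ hx)) D.UK fun _ _ _ h _ => h
  have h2 := cls (Y := D.K) (Z := Φ.E) (x := x) fun m hm => by
    simpa only [mul_assoc, inv_inv] using D.cmE (inv_mem hx) hm
  have h3 := F.E16 hT (D.two.to_le (inf_le_left.trans D.KM)) (inf_le_right (a := D.K))
    (le_inf D.EK (mem_C_iff_le_C1.1 (D.KE hx))) (fun e he => Φ.Esq he) Φ.card_E.ge (inf_le_left.trans D.KE)
  rw [Φ.card_E] at h2; omega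

include D in
theorem noJ1 {j : Ph} (hj : j ∈ [j1, j2, j3]) {k : G} (hk : k ∈ Φ.U) : ¬ F.T (Φ.q j * k) := fun hT => by
  obtain ⟨u, hu, rfl⟩ := hk
  rw [← Φ.ψP, ← Φ.mul] at hT
  obtain ⟨h1, h2⟩ := m8 (P j) (List.mem_map_of_mem (f := P) hj) u hu (Φ.inj (by rw [Φ.mul, Tsq hT, Φ.one]))
  generalize P j * u = x at *
  have o : ∀ w < 8, vv w ≠ 1 → orderOf (Φ.ψ (Fv w)) = 4 := fun w hw h =>
    orderOf_eq_prime_pow (p := 2) (n := 1) (by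
      rw [pow_one, pow_two, Φ.ψF hw, Φ.fsq hw, map_eq_one_iff _ Φ.q_inj]; exact h) (by
      rw [show 2 ^ (1 + 1) = 2 + 2 from rfl, pow_add, pow_two, Φ.ψF hw]
      exact Φ.Esq (Φ.VE (Φ.Usq (Φ.fU hw))))
  have m : ∀ m : Mo, m.K8 ∧ m * x = x * m → Φ.ψ m ∈ D.M ⊓ C{Φ.ψ x} ⊓ C{Φ.ψ (Fv 1)} ⊓ C{Φ.ψ (Fv 2)} :=
    fun m h => mem_inf.2 ⟨mem_inf.2 ⟨mem_inf.2 ⟨D.ψM m, mem_C1.2 (Φ.comm_iff.1 h.2)⟩,
      mem_C1.2 (Φ.comm_iff.1 (m8c m h.1).1)⟩, mem_C1.2 (Φ.comm_iff.1 (m8c m h.1).2)⟩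
  have := F.E44 hT (D.two.to_le (inf_le_left.trans (inf_le_left.trans inf_le_left)))
    (inf_le_left.trans (inf_le_left.trans inf_le_right)) (m _ ⟨by decide +kernel, (m8c x h1).1.symm⟩)
    (m _ ⟨by decide +kernel, (m8c x h1).2.symm⟩) (o 1 (by decide) (by decide +kernel))
    (o 2 (by decide) (by decide +kernel)) (fun e => absurd (Φ.inj (by rwa [Φ.mul, Φ.mul] :
      Φ.ψ (Fv 1 * Fv 1) = Φ.ψ (Fv 2 * Fv 2))) (by decide +kernel)) (inf_le_left.trans inf_le_right) inf_le_right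
  have := h2.trans (Φ.cn_le m)
  omega

include D in
theorem noJ8 (big : ∀ w < 8, ∃ k ∈ D.K, Φ.D k w) {j : Ph} (hj : j ∈ [j1, j2, j3]) {k : G} (hk : k ∈ D.K) :
    ¬ F.T (Φ.q j * k) := fun hT => by
  obtain ⟨j1', j2', j3', j4, j5⟩ := mJ j hj
  obtain ⟨x, e⟩ : ∃ x, x = Φ.q j * k := ⟨_, rfl⟩
  rw [← e] at hT
  have xM : x ∈ D.M := e ▸ mul_mem (D.SM (Φ.q_mem j)) (D.KM hk)
  have xi : x⁻¹ = x := inv_eq_of_mul_eq_one_right (Tsq hT)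
  have z2E : Φ.q z2 ∈ Φ.E := Φ.VE (Φ.qV.2 (by decide +kernel))
  have xE : ∀ v ∈ Φ.E, x * v * x⁻¹ = v → Φ.q j * v = v * Φ.q j := fun v hv h => by
    rw [e, mul_inv_rev, mul_assoc _ k, mul_assoc, ← mul_assoc _ k⁻¹, conj_eq_of_mem_C (D.KE hk) hv,
      ← mul_assoc] at h
    exact mul_inv_eq_iff_eq_mul.1 h
  have inv : ∀ m, x * (x⁻¹ * (m * x * m⁻¹)) * x⁻¹ = (x⁻¹ * (m * x * m⁻¹))⁻¹ := fun m => by
    rw [mul_inv_rev, conj_inv, inv_inv, xi, ← mul_assoc x x, Tsq hT, one_mul]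
  have B : ∀ u ∈ Φ.U, x * u * x⁻¹ = u⁻¹ → ∃ w < 4, cs Φ.E u = cs Φ.E (Φ.f w) := fun u hu h => by
    obtain ⟨w, hw, e1, e2⟩ := Φ.exw hu
    refine ⟨w, j3' w hw (Φ.q_inj ?_), e2⟩
    rw [map_mul, map_mul, ← e1]
    refine xE _ (Φ.VE (Φ.Usq hu)) ?_
    rw [← conj_mul, h, ← mul_inv_rev, inv_eq_of_mul_eq_one_right (Φ.Esq (Φ.VE (Φ.Usq hu)))]
  have qA := fun s => Φ.S0A (Φ.q_mem s)
  have cj : ∀ s : Ph, s * z2 = z2 * s → ∀ w < 4, ∀ κ ∈ D.K, Φ.D κ w → κ⁻¹ * (Φ.q s * κ * (Φ.q s)⁻¹) ∈ Φ.U :=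
    fun s hs w hw κ hκ h => D.same (by omega : w < 8) hκ (conj_mem (D.SK (Φ.q_mem s)) hκ) h
      (h.conj (D.KA hκ) (by omega) (qA s) (Φ.tq s) (by rw [Φ.qf _ (by omega), (mJ2 s).2.1 hs w hw]))
  obtain ⟨w0, h0, k0⟩ : ∃ w < 4, Φ.D k w := by
    obtain ⟨w, hw, h⟩ := B _ (Φ.δU (D.MA xM)) (by
      have := δ_mul (F := F) x x
      rw [Tsq hT, δ_one (Commute.one_right _)] at this
      exact eq_inv_of_mul_eq_one_right this.symm)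
    have h1 : Φ.D ((Φ.q j⁻¹ * (Φ.q j * k * (Φ.q j)⁻¹) * (Φ.q j⁻¹)⁻¹)) w :=
      Fam.D.conj (v := w) (by rwa [Fam.D, δ_mul, δ_one (Φ.tq j).inv_right, mul_one, mul_inv_cancel, mul_one, ← e])
        (D.KA (conj_mem (D.SK (Φ.q_mem j)) hk)) (by omega) (qA _) (Φ.tq _)
        (by rw [Φ.qf _ (by omega), (mJ2 _).2.1 (Commute.inv_left j1') w hw])
    exact ⟨w, hw, by simpa [mul_assoc] using h1⟩
  let Y := D.M ⊓ C{Φ.q z2} ⊓ stab x Φ.U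
  have mY : ∀ m ∈ D.M, m ∈ C{Φ.q z2} → x⁻¹ * (m * x * m⁻¹) ∈ Φ.U → m ∈ Y := fun m h1 h2 h3 =>
    mem_inf.2 ⟨mem_inf.2 ⟨h1, h2⟩, Φ.NAU (D.MA h1), h3⟩
  have c1 : 4 * 128 ≤ Nat.card ↥(D.K ⊓ Y) := D.cosK (by norm_num) big (fun u hu => mem_inf.2 ⟨D.UK hu,
      mY u (D.KM (D.UK hu)) (C_le_C1 z2E (Φ.UE hu)) (by
        simpa only [mul_assoc] using mul_mem (conj_mem' (Φ.NAU (D.MA xM)) hu) (inv_mem hu))⟩)
    fun w hw κ hκ h => mem_inf.2 ⟨hκ, mY κ (D.KM hκ) (C_le_C1 z2E (D.KE hκ)) (by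
      have a := conj_mem (Φ.NAU (D.KA hκ)) (cj _ (Commute.inv_left j1') w hw κ hκ h)
      have b := Φ.EU (D.cmE (inv_mem hk) (conj_mem (D.SK (Φ.q_mem j⁻¹)) hκ))
      rw [map_inv] at a b
      convert mul_mem b a using 1
      rw [e]; group)⟩
  have c2 : 128 ≤ Nat.card ↥(F.S0 ⊓ Y) := by
    have a := cls (Y := F.S0) (Z := zpowers (Φ.q z1)) (x := Φ.q z2) fun m hm => by
      obtain ⟨s, -, h⟩ := Φ.actS0 hm
      rw [h, ← map_inv, ← map_mul]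
      rcases (mJ2 s).1 with h | h <;> rw [h]
      exacts [(map_one Φ.q).symm ▸ one_mem _, mem_zpowers _]
    rw [Nat.card_zpowers, orderOf_injective _ Φ.q_inj, orderOf_eq_prime (p := 2) (by decide +kernel) (by decide),
      F.card_S0.1 Φ.two] at a
    have b : F.S0 ⊓ C{Φ.q z2} ≤ F.S0 ⊓ Y := fun m hm => mem_inf.2 ⟨hm.1, by
      obtain ⟨s, h, h'⟩ := Φ.actS0 hm.1
      have hs : s * z2 = z2 * s := mul_inv_eq_iff_eq_mul.1 (Φ.q_inj ((h' _).symm.trans (mem_C1_iff_conj.1 hm.2)))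
      have k1 : Φ.q s ∈ Y := mY _ (D.SM (Φ.q_mem s)) (mem_C1.2 (by rw [← map_mul, hs, map_mul])) (by
        have a := conj_mem' (Φ.NAU (D.KA hk)) (Φ.qU.2 ((mJ2 _).2.2 (j4 s hs)).1)
        simp only [map_mul, map_inv] at a
        convert mul_mem a (cj s hs w0 h0 k hk k0) using 1
        rw [e]; group)
      rcases h with rfl | rfl
      · exact k1
      · refine mul_mem (mY _ D.tM (mem_C1.2 (Φ.tq _).eq) ?_) k1
        have := conj_mem (Φ.NAU (norm_self _ Φ.tA)) (Φ.δU (D.MA xM))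
        rw [tδ] at this
        simpa only [xi, mul_assoc] using this⟩
    have := card_le b
    omega
  have c3 : Nat.card ↥(D.K ⊓ Y ⊓ (F.S0 ⊓ Y)) ≤ 16 := cnZ ▸ Φ.le_cn fun g hg => by
    have a := (mem_C1.1 (F.S0_C hg.2.1)).symm
    obtain ⟨u, hu, rfl⟩ := D.K2 g hg.1.1 (by rw [δ_one a]; exact one_mem _)
    exact ⟨u, mZt u hu (Φ.comm_iff.2 (Φ.ψT ▸ a)), rfl⟩
  have c4 := card_sup (A := D.K ⊓ Y) (B := F.S0 ⊓ Y)
    (norm_inf (inf_le_left.trans D.SK) (norm_of_le inf_le_right))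
  have c5 := card_le (sup_le inf_le_right inf_le_right : D.K ⊓ Y ⊔ F.S0 ⊓ Y ≤ Y)
  have c6 : 4096 ≤ Nat.card Y := by
    have := Nat.mul_le_mul c1 c2
    have := Nat.mul_le_mul c5 c3
    omega
  have YM : Y ≤ D.M := inf_le_left.trans inf_le_left
  have c7 := idx (Y := Y) (N := Φ.E) (x := x) (YM.trans (D.MA.trans Φ.NAE)) (fun i : Fin 4 => Φ.f i)
    fun m hm => by
      obtain ⟨w, hw, h⟩ := B _ hm.2.2 (inv m)
      exact ⟨⟨w, hw⟩, (cs_eq_cs (Φ.UNE (Φ.fU (by omega))) (Φ.UNE hm.2.2)).1 h.symm⟩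
  have c8 := cls (Y := Y ⊓ stab x Φ.E) (Z := Φ.U0) (x := x) fun m hm => by
    obtain ⟨u, hu, e1⟩ := hm.2.2
    have := xE _ hm.2.2 (by rw [inv, inv_eq_of_mul_eq_one_right (Φ.Esq hm.2.2)])
    rw [← e1] at this ⊢
    exact Φ.mU0'.2 (j5 u hu (Φ.comm_iff.2 (by rwa [Φ.ψP])))
  have c9 := card_le (inf_le_inf_right C{x} (inf_le_left.trans inf_le_left) :
    Y ⊓ stab x Φ.E ⊓ C{x} ≤ D.M ⊓ C{Φ.q z2} ⊓ C{x})
  rw [Nat.card_fin] at c7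
  rw [Φ.card_U0] at c8
  have z := F.Z4 hT (Y := D.M ⊓ C{Φ.q z2} ⊓ C{x}) (D.two.to_le (inf_le_left.trans inf_le_left)) inf_le_right
    (by rw [F.card_S0.1 Φ.two]; omega)
  have xz : x ∈ D.M ⊓ C{Φ.q z2} := mem_inf.2 ⟨xM, e ▸ mul_mem (mem_C1.2 (by rw [← map_mul, j1', map_mul]))
    (C_le_C1 z2E (D.KE hk))⟩
  have U0C : D.M ⊓ C{Φ.q z2} ≤ C[Φ.U0] := fun m hm => mem_C'.2 fun g hg => by
    obtain ⟨s, hs, rfl⟩ := Φ.exU0 hg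
    have a : Commute m (Φ.q z1) := mul_inv_eq_iff_eq_mul.1 (Φ.NAz (D.MA hm.1))
    have b : Commute m (Φ.q z2) := mem_C1.1 hm.2
    rcases ((mJ2 s).2.2 hs).2.1 with rfl | rfl | rfl | rfl
    exacts [by simp, a, b, by rw [map_mul]; exact a.mul_right b]
  have le : Φ.U0 ≤ D.M ⊓ C{Φ.q z2} ⊓ C{x} ⊓ C[D.M ⊓ C{Φ.q z2} ⊓ C{x}] := by
    refine le_inf (le_inf (fun g hg => ?_) (mem_C_iff_le_C1.1 (U0C xz))) (cents_symm (inf_le_left.trans U0C))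
    obtain ⟨s, hs, rfl⟩ := Φ.exU0 hg
    exact mem_inf.2 ⟨D.SM (Φ.q_mem s), C_le_C1 z2E (Φ.UE (Φ.qU.2 ((mJ2 s).2.2 hs).1))⟩
  obtain ⟨s, hs, e1⟩ := Φ.exU0 ((eq_of_card_ge le (by rw [z, Φ.card_U0])).ge (mem_inf.2
    ⟨mem_inf.2 ⟨xz, self_mem_C1 x⟩, mem_C_iff_le_C1.2 inf_le_right⟩))
  rcases ((mJ2 s).2.2 hs).2.2 with rfl | ⟨h1, h2⟩
  · rw [e1, map_one] at hT; exact F.t_ne (isConj_one_left.1 hT)
  · rw [e1, Φ.qi s h1] at hT; exact F.not_T h2 hT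

theorem noJ {j : Ph} (hj : j ∈ [j1, j2, j3]) {k : G} (hk : k ∈ D.K) : ¬ F.T (Φ.q j * k) :=
  D.big.elim (fun e => D.noJ1 hj (e ▸ hk)) fun h => D.noJ8 h hj hk

include D in
theorem false (hG : ∀ K : Subgroup G, K.index ≠ 2) : False := by
  obtain ⟨S, hS⟩ := D.sylow
  have n : Φ.q.range ≤ N[D.K] := by rintro _ ⟨s, rfl⟩; exact D.SK (Φ.q_mem s)
  have tR : F.t ∉ D.K ⊔ Φ.q.range := fun h => by
    obtain ⟨k, hk, _, ⟨s, rfl⟩, e⟩ := (mem_sup_of_norm n).1 h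
    rw [← mul_inv_eq_iff_eq_mul, ← map_inv] at e
    exact Φ.tqU _ (e ▸ D.K2 k hk (by
      rw [δ_one (e ▸ (Commute.refl _).mul_right (Φ.tq _))]; exact one_mem _))
  obtain ⟨x, hx, hT, -⟩ := F.transfer hG S (hS ▸ D.SM) (R := D.K ⊔ Φ.q.range)
    (hS ▸ sup_le D.KM (by rintro _ ⟨s, rfl⟩; exact D.SM (Φ.q_mem s))) (by
      rw [hS, relIndex_eq_two_iff]
      refine ⟨F.t, D.tM, fun b hb => ?_⟩
      obtain ⟨k, hk, σ, hσ, rfl⟩ := D.memM.1 hb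
      obtain ⟨s, rfl | rfl⟩ := Φ.mem_S0.1 hσ
      · have := mul_mem_sup hk (MonoidHom.mem_range.2 ⟨s, rfl⟩ : Φ.q s ∈ _)
        exact Or.inr ⟨this, fun h => tR ((mul_mem_cancel_left this).1 h)⟩
      · have := mul_mem_sup hk (MonoidHom.mem_range.2 ⟨s, rfl⟩ : Φ.q s ∈ _)
        rw [(Φ.tq s).eq, ← mul_assoc, mul_assoc _ F.t F.t, F.tt, mul_one]
        exact Or.inl ⟨this, fun h => tR ((mul_mem_cancel_left this).1 h)⟩) tR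
  obtain ⟨_, ⟨s, rfl⟩, k, hk, rfl⟩ := (mem_sup_of_norm' n).1 (sup_comm D.K _ ▸ hx)
  have h1 : Φ.q (s * s) ∈ D.K := by
    have := Tsq hT
    rw [show Φ.q s * k * (Φ.q s * k) = Φ.q s * Φ.q s * (((Φ.q s)⁻¹ * k * Φ.q s) * k) by group,
      mul_eq_one_iff_eq_inv, ← map_mul] at this
    rw [this]; exact inv_mem (mul_mem (conj_mem' (D.SK (Φ.q_mem s)) hk) hk)
  obtain ⟨s0, h0, h2⟩ := mR s (Φ.qU.1 (D.K2 _ h1 (by rw [δ_one (Φ.tq _)]; exact one_mem _)))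
  have h3 := mul_mem (D.UK (Φ.qU.2 h2)) hk
  rw [show Φ.q s * k = Φ.q s0 * (Φ.q (s0⁻¹ * s) * k) by rw [map_mul, map_inv]; group] at hT
  generalize Φ.q (s0⁻¹ * s) * k = k' at *
  rcases List.mem_cons.1 h0 with rfl | h0
  · rw [map_one, one_mul] at hT; exact D.noK h3 hT
  rcases List.mem_append.1 (show s0 ∈ [j1, j2, j3] ++ [sg, sg * j1] from h0) with h0 | h0
  · exact D.noJ h0 h3 hT
  · obtain ⟨k2, h4, h5⟩ := D.rho s0 h0 _ h3 hT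
    exact D.noJ (by simp) h4 h5

end Dat

end H26.MZ
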