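import Mathlib
import Cfsg.Agent.H26.MZ1

/-! # The family `f v` in the case of `Suz : 2` -/

set_option autoImplicit false
set_option linter.unusedSectionVars false
set_option linter.unusedVariables false
set_option maxRecDepth 100000

namespace H26.MZ

open H9 Cfsg H24 Subgroup H5.MC

variable {H : Subgroup PG} {X : Type*} [Group X] [Finite X] {F : Fr H X}

/-- the family in a frame with `W = 1` -/
structure FX (F : Fr H X) extends Fam F where
  hW : F.W = ⊥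
  qN : N1 →* X
  qof : ∀ s, qN (NX.of s) = q s
  qr : qN NX.r = F.ρ
  tN : ∀ n, Commute F.t (qN n)
  eqN : ∀ n : N1, ∀ v < 8, ∀ w < 8, n * NX.of (vv v) * n⁻¹ = NX.of (vv w) → qN n * f v * (qN n)⁻¹ = f w
  rf : F.r * f 1 * F.r⁻¹ = f 2
  rf' : F.r * f 2 * F.r⁻¹ = f 3
  f123 : f 1 * f 2 * f 3 = 1

theorem of_mul {Y : XT} [Fact Y.OK] (s u : Ph) : (NX.of (s * u) : NX Y) = NX.of s * NX.of u :=
  NX.emb_inj (by rw [map_mul, NX.emb_of, NX.emb_of, NX.emb_of, map_mul])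
theorem emb_cj {Y : XT} [Fact Y.OK] {n : NX Y} {s u : Ph} (h : n * NX.of s * n⁻¹ = NX.of u) :
    NX.emb n * emb s * (NX.emb n)⁻¹ = emb u := by
  simpa only [map_mul, map_inv, NX.emb_of] using congrArg NX.emb h
theorem rcj {s u : Ph} (h : (NX.r : N2) * NX.of s * NX.r⁻¹ = NX.of u) : r2 * emb s * r2⁻¹ = emb u := by
  have := emb_cj h
  rwa [NX.emb_r] at this
theorem r2_AM : r2 ∈ AM := M12_le NX.r_12

theorem twist : ∃ σ : N1 →* N1, ∀ n, σ n = if n.p.inn then n else n * NX.of z1 := by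
  have c : ∀ n : N1, n * NX.of z1 = NX.of z1 * n := by decide +kernel
  refine ⟨MonoidHom.mk' (fun n => if n.p.inn then n else n * NX.of z1) fun a b => ?_, fun _ => rfl⟩
  have := mul_mem12 (NX.emb_AM a) (NX.emb_AM b)
  rw [← map_mul, NX.emb_12, NX.emb_12, NX.emb_12] at this
  by_cases ha : a.p.inn <;> by_cases hb : b.p.inn <;>
    simp only [this, ha, hb, iff_self, iff_false, not_true, if_true, if_false, false_iff]
  · rw [mul_assoc]
  · rw [mul_assoc, mul_assoc, c b]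
  · rw [mul_assoc, ← mul_assoc (NX.of z1), ← c b, mul_assoc b, show NX.of z1 * NX.of z1 = (1 : N1) by decide +kernel,
      mul_one]

theorem nQ : ∀ s : Ph, ∃ a ∈ [1, i2, e1, i2 * e1], (s * a⁻¹).Q := by decide +kernel
theorem nZ : ∀ v < 8, (vv v).inn ∧ vv v * vv v = 1 ∧ (vv v = 1 ∧ v = 0 ∨ (vv v).zc) := by decide +kernel
theorem nJ : ∀ n : N1, (∀ s ∈ [j1, j2, i0, c0], n * NX.of s = NX.of s * n) → n = NX.of n.p ∧
    ((NX.r : N2) * NX.of n.p * NX.r⁻¹ = NX.of n.p → n.p = 1) := by decide +kernel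
theorem nE : ∀ v : Ph, v.V1 → ∀ v0 : Ph, v0.V1 → ∀ a ∈ [(NX.of (e1 * v0) : N1)], ∀ b ∈ [NX.r * a * NX.r⁻¹],
    ∀ m ∈ [NX.of v * (NX.r⁻¹ * a * NX.r) * b * a],
    a * NX.of (vv 4) * a⁻¹ = NX.of (vv 4) ∧ a * NX.of (vv 7) * a⁻¹ = NX.of (vv 7) ∧
    b * NX.of (vv 7) * b⁻¹ = NX.of (vv 7) ∧ m * NX.of (vv 3) * m⁻¹ = NX.of (vv 3) ∧
    (NX.r * m * NX.r⁻¹ = m → m = NX.of e1 ∨ m = NX.of e1 * NX.of z1) := by decide +kernel
set_option synthInstance.maxSize 2000 in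
theorem nW : ∀ v < 8, ∀ w < 8, v = 0 ∧ cc v w 0 = 1 ∨ w = 0 ∧ cc v w 0 = 1 ∨ v = w ∧ cc v w 0 = vv v ∨
    ∃ p ∈ [(1, 2), (2, 1), (2, 3), (3, 4)], ∀ n ∈ [(NX.lk 0x2118a858050508004280108c480d010a0060a04008082515000040301020082d110200028100200001008000229108240000000000422150081200000000000000000000000000 (8 * v + w) : N1)],
      n * NX.of (vv p.1) * n⁻¹ = NX.of (vv v) ∧ n * NX.of (vv p.2) * n⁻¹ = NX.of (vv w) ∧
      n * NX.of (vv (p.1 ^^^ p.2)) * n⁻¹ = NX.of (vv (v ^^^ w)) ∧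
      n * NX.of (cc p.1 p.2 0) * n⁻¹ = NX.of (cc v w 0) := by decide +kernel

theorem exists_FX (hW : F.W = ⊥) (B : CaseS F) : Nonempty (FX F) := by
  classical
  have hH : ∀ {x}, x ∈ AM → x ∈ H := fun h => (F.mem_iff h).2 (Or.inr B.two)
  have hp : ∀ s, emb s ∈ H := fun s => hH (emb_AM s)
  have pm : ∀ s u, F.p (s * u) = F.p s * F.p u := fun s u => F.p_mul (hp s) (hp u)
  let q0 : N1 →* X := MonoidHom.mk' (fun n => F.e (NX.emb n)) fun a b => by
    rw [map_mul, F.e_mul (hH (NX.emb_AM a)) (hH (NX.emb_AM b))]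
  have q0e : ∀ n, q0 n = F.e (NX.emb n) := fun _ => rfl
  have q0p : ∀ s, q0 (NX.of s) = F.p s := fun s => by rw [q0e, NX.emb_of]; rfl
  have q0r : q0 NX.r = F.ρ := by rw [q0e, NX.emb_r]; rfl
  have q0i : Function.Injective q0 := fun a b h =>
    NX.emb_inj (F.e_inj (hH (NX.emb_AM a)) (hH (NX.emb_AM b)) h)
  have dN : ∀ n, Commute B.d (q0 n) := fun n => by
    have k : ∀ s, Commute B.d (F.p s) := fun s => by
      obtain ⟨a, ha, h⟩ := nQ s
      rw [← inv_mul_cancel_right s a, pm]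
      refine (B.dQ _ h).mul_right ?_
      simp only [List.mem_cons, List.not_mem_nil, or_false] at ha
      rcases ha with rfl | rfl | rfl | rfl
      exacts [F.p_one ▸ Commute.one_right _, B.ds, B.de, pm _ _ ▸ B.ds.mul_right B.de]
    rw [show n = NX.of n.p * NX.r ^ n.k from NX.emb_inj (by
      rw [map_mul, map_pow, NX.emb_of, NX.emb_r, NX.emb_eq]), map_mul, map_pow, q0p, q0r]
    exact (k _).mul_right (B.dρ.pow_right _)
  let f : ℕ → X := fun v => if h : (vv v).zc then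
    F.e (zc_conj h).choose * B.d * (F.e (zc_conj h).choose)⁻¹ else 1
  have fh : ∀ v, (vv v).zc → ∀ h ∈ AM, h * emb z1 * h⁻¹ = emb (vv v) → f v = F.e h * B.d * (F.e h)⁻¹ :=
    fun v hv h hh e => by
      obtain ⟨h1, h2⟩ := (zc_conj hv).choose_spec
      rw [show f v = _ from dif_pos hv]
      generalize (zc_conj hv).choose = g at *
      obtain ⟨n, hn⟩ := cent_z (mul_mem (inv_mem hh) (M12_le h1)) (mul_inv_eq_iff_eq_mul.1 (by
        rw [show h⁻¹ * g * emb z1 * (h⁻¹ * g)⁻¹ = h⁻¹ * (g * emb z1 * g⁻¹) * h by group, h2, ← e]; group))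
      rw [show g = h * NX.emb n by rw [hn, mul_inv_cancel_left], F.e_mul (hH hh) (hH (NX.emb_AM n)), ← q0e,
        mul_assoc (F.e h), ← (dN n).eq]
      group
  have f0 : f 0 = 1 := dif_neg (by decide +kernel)
  have ex : ∀ v < 8, v = 0 ∨ ∃ h ∈ AM, h * emb z1 * h⁻¹ = emb (vv v) ∧ f v = F.e h * B.d * (F.e h)⁻¹ :=
    fun v hv => (nZ v hv).2.2.imp (fun h => h.2) fun h =>
      ⟨_, M12_le (zc_conj h).choose_spec.1, (zc_conj h).choose_spec.2, dif_pos h⟩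
  have cjf : ∀ x ∈ AM, ∀ v < 8, ∀ w < 8, x * emb (vv v) * x⁻¹ = emb (vv w) →
      F.e x * f v * (F.e x)⁻¹ = f w := fun x hx v hv w hw e => by
    rcases (nZ w hw).2.2 with ⟨h1, rfl⟩ | h1
    · rw [h1, map_one, conj_eq_one_iff, map_eq_one_iff _ emb_inj] at e
      rw [((nZ v hv).2.2.resolve_right fun h => h.1 e).2, f0, mul_one, mul_inv_cancel]
    rcases ex v hv with rfl | ⟨h, hh, e1, e2⟩
    · rw [show vv 0 = 1 by decide +kernel, map_one, mul_one, mul_inv_cancel, eq_comm,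
        map_eq_one_iff _ emb_inj] at e
      exact absurd e h1.1
    rw [fh w h1 (x * h) (mul_mem hx hh) (by rw [← e, ← e1]; group), e2, F.e_mul (hH hx) (hH hh)]
    group
  have cjN : ∀ n : N1, ∀ v < 8, ∀ w < 8, n * NX.of (vv v) * n⁻¹ = NX.of (vv w) →
      q0 n * f v * (q0 n)⁻¹ = f w := fun n v hv w hw e => cjf _ (NX.emb_AM n) v hv w hw (emb_cj e)
  have fc : ∀ s, ∀ v < 8, s * vv v = vv v * s → Commute (F.p s) (f v) := fun s v hv e =>
    mul_inv_eq_iff_eq_mul.1 (cjf _ (emb_AM s) v hv v hv (by rw [← map_mul, e, map_mul, mul_inv_cancel_right]))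
  have f1 : f 1 = B.d := by
    rw [fh 1 (by decide +kernel) 1 (one_mem _) (by rw [one_mul, inv_one, mul_one]; rfl), F.e_one]; group
  have fsq : ∀ v < 8, f v * f v = F.p (vv v) ∧ f v * F.t * (f v)⁻¹ = F.t * F.p (vv v) := fun v hv => by
    rcases ex v hv with rfl | ⟨h, hh, e1, e2⟩
    · rw [f0, show vv 0 = 1 by decide +kernel, F.p_one]; simp
    have e3 : F.p (vv v) = F.e h * F.p z1 * (F.e h)⁻¹ := by rw [Fr.p, ← e1, F.e_conj (hH hh) (hp _)]; rfl
    have e4 : F.e h * F.t * (F.e h)⁻¹ = F.t := by rw [← (F.e_t h).eq, mul_inv_cancel_right]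
    refine ⟨by rw [e2, conj_mul, B.dd, e3], ?_⟩
    rw [e2, e3, ← e4, conj_inv, conj_mul, conj_mul, conj_mul, B.dt]
  have mv : ∀ v < 8, ∀ s, s * vv v = vv v * s → f v * (F.t * F.p s) * (f v)⁻¹ = F.t * F.p (vv v * s) :=
    fun v hv s e => by
      rw [← conj_mul, (fsq v hv).2, ← (fc s v hv e).eq, mul_inv_cancel_right, pm, mul_assoc]
  have cX : ∀ g, Commute g F.t → Commute g B.d → ∃ n, g = q0 n := fun g h1 h2 => by
    obtain ⟨w, hw, x, hx, e⟩ := F.cent' h1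
    rw [hW, mem_bot] at hw
    simp only [hw, one_mul] at e
    have h3 : Commute g (F.p z1) := B.dd ▸ h2.mul_right h2
    have h4 : Commute (F.e x) (F.p z1) := by
      rcases e with rfl | rfl
      · exact h3
      · simpa [← mul_assoc] using (F.p_t z1).inv_left.mul_left h3
    obtain ⟨n, rfl⟩ := cent_z (F.hAM hx) (F.e_inj (mul_mem hx (hp _)) (mul_mem (hp _) hx) (by
      rw [F.e_mul hx (hp _), F.e_mul (hp _) hx]; exact h4))
    refine ⟨n, e.resolve_right ?_⟩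
    rintro rfl
    have h5 : Commute F.t B.d := by simpa [q0e] using h2.mul_left (dN n).symm.inv_left
    have := B.dt
    rw [← h5.eq, mul_inv_cancel_right, eq_comm, mul_eq_left, ← F.p_one] at this
    exact absurd (F.p_inj (hp _) (hp _) this) (by decide)
  have r12 : F.r * f 1 * F.r⁻¹ = f 2 := cjf _ r2_AM 1 (by decide) 2 (by decide) (rcj (by decide +kernel))
  have r23 : F.r * f 2 * F.r⁻¹ = f 3 := cjf _ r2_AM 2 (by decide) 3 (by decide) (rcj (by decide +kernel))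
  have r31 : F.r * f 3 * F.r⁻¹ = f 1 := cjf _ r2_AM 3 (by decide) 1 (by decide) (rcj (by decide +kernel))
  obtain ⟨v0, hv0, e3⟩ := B.f3
  rw [← f1, ← r31, show F.r⁻¹ * (F.r * f 3 * F.r⁻¹) * F.r = f 3 by group, mul_assoc, ← pm, ← q0p] at e3
  have c13 : Commute (f 1) (f 3) := by rw [f1, e3]; exact B.dw.mul_right (dN _)
  have c21 : Commute (f 2) (f 1) := by have := c13.conj F.r; rwa [r12, r31] at this
  have c32 : Commute (f 3) (f 2) := by have := c21.conj F.r; rwa [r12, r23] at this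
  have R1 : f 1 * f 2 * f 3 = 1 := by
    obtain ⟨n, e⟩ := cX (f 1 * f 2 * f 3) (mul_inv_eq_iff_eq_mul.1 (by
      rw [show f 1 * f 2 * f 3 * F.t * (f 1 * f 2 * f 3)⁻¹ =
        f 1 * (f 2 * (f 3 * F.t * (f 3)⁻¹) * (f 2)⁻¹) * (f 1)⁻¹ by group, (fsq 3 (by decide)).2,
        mv 2 (by decide) _ (by decide +kernel), mv 1 (by decide) _ (by decide +kernel),
        show vv 1 * (vv 2 * vv 3) = 1 by decide +kernel, F.p_one, mul_one]))
      (f1 ▸ ((Commute.refl _).mul_left c21).mul_left c13.symm)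
    obtain ⟨h1, h2⟩ := nJ n fun s hs => q0i (by
      obtain ⟨a, b, c⟩ := (by decide +kernel : ∀ s ∈ [j1, j2, i0, c0], s * vv 1 = vv 1 * s ∧
        s * vv 2 = vv 2 * s ∧ s * vv 3 = vv 3 * s) s hs
      rw [map_mul, map_mul, ← e, q0p]
      exact (((fc s 1 (by decide) a).mul_right (fc s 2 (by decide) b)).mul_right (fc s 3 (by decide) c)).symm)
    rw [h1, q0p] at e
    rw [e, h2 (NX.emb_inj ?_), F.p_one]
    rw [map_mul, map_mul, map_inv, NX.emb_of, NX.emb_r]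
    refine F.e_inj (hH (mul_mem (mul_mem r2_AM (emb_AM _)) (inv_mem r2_AM))) (hp _) ?_
    refine (F.e_conj (hH r2_AM) (hp _)).trans ?_
    change F.r * F.p _ * F.r⁻¹ = F.p _
    rw [← e, ← conj_mul, ← conj_mul, r12, r23, r31, mul_assoc, ← c13.eq, ← mul_assoc, c21.eq]
  have s34 : F.ρ * f 3 * F.ρ⁻¹ = f 4 := q0r ▸ cjN _ 3 (by decide) 4 (by decide) (by decide +kernel)
  have s47 : F.ρ * f 4 * F.ρ⁻¹ = f 7 := q0r ▸ cjN _ 4 (by decide) 7 (by decide) (by decide +kernel)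
  have s73 : F.ρ * f 7 * F.ρ⁻¹ = f 3 := q0r ▸ cjN _ 7 (by decide) 3 (by decide) (by decide +kernel)
  obtain ⟨σ, σ1, σ2, σ3⟩ : ∃ σ : N1 →* N1, (∀ n, n.p.inn → σ n = n) ∧ (∀ n, σ n = n ∨ σ n = n * NX.of z1) ∧
      f 3 * f 4 * f 7 = q0 (σ (NX.of e1)) := by
    obtain ⟨v, hv, w3⟩ := B.w3
    obtain ⟨a1, a2, a3, a4, a5⟩ := nE v hv v0 hv0 _ (List.mem_singleton_self _) _ (List.mem_singleton_self _) _
      (List.mem_singleton_self _)
    have b1 : Commute _ _ := mul_inv_eq_iff_eq_mul.1 (cjN _ 4 (by decide) 4 (by decide) a1)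
    have b2 : Commute _ _ := mul_inv_eq_iff_eq_mul.1 (cjN _ 7 (by decide) 7 (by decide) a2)
    have b3 : Commute _ _ := mul_inv_eq_iff_eq_mul.1 (cjN _ 7 (by decide) 7 (by decide) a3)
    have b4 : Commute _ _ := mul_inv_eq_iff_eq_mul.1 (cjN _ 3 (by decide) 3 (by decide) a4)
    generalize (NX.of (e1 * v0) : N1) = a at *
    have e : f 3 * f 4 * f 7 = q0 (NX.of v * (NX.r⁻¹ * a * NX.r) * (NX.r * a * NX.r⁻¹) * a) := by
      rw [map_mul, map_mul, map_mul, q0p, ← w3, ← mul_inv_eq_iff_eq_mul, mul_assoc _ (f 7), ← b2.inv_left.eq,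
        ← mul_assoc, mul_assoc _ (f 4), ← b1.inv_left.eq, ← mul_inv_eq_iff_eq_mul, mul_assoc _ (f 7),
        ← b3.inv_left.eq, ← s34, show f 7 = F.ρ⁻¹ * f 3 * F.ρ by rw [← s73]; group, e3]
      simp only [map_mul, map_inv, q0r]
      group
    generalize NX.of v * (NX.r⁻¹ * a * NX.r) * (NX.r * a * NX.r⁻¹) * a = m at *
    rcases a5 (q0i (by
      rw [map_mul, map_mul, map_inv, q0r, ← e, ← conj_mul, ← conj_mul, s34, s47, s73, ← mul_right_inj (f 3),
        ← mul_assoc, ← mul_assoc, e, b4.eq])) with h | h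
    · exact ⟨MonoidHom.id _, fun _ _ => rfl, fun _ => Or.inl rfl, h ▸ e⟩
    · obtain ⟨σ, hσ⟩ := twist
      refine ⟨σ, fun n hn => by rw [hσ, if_pos hn], fun n => ?_, by rw [hσ, if_neg (by decide +kernel), ← h, e]⟩
      rw [hσ]; split_ifs <;> simp
  let qN := q0.comp σ
  have qN1 : ∀ n, qN n = q0 (σ n) := fun _ => rfl
  have qi : ∀ s : Ph, s.inn → qN (NX.of s) = F.p s := fun s h => by
    rw [qN1, σ1 _ (by rwa [NX.of, NX.p_mk]), q0p]
  have eqN : ∀ n : N1, ∀ v < 8, ∀ w < 8, n * NX.of (vv v) * n⁻¹ = NX.of (vv w) →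
      qN n * f v * (qN n)⁻¹ = f w := fun n v hv w hw e => by
    rw [qN1, ← cjN n v hv w hw e]
    rcases σ2 n with h | h <;> rw [h]
    rw [map_mul, q0p, mul_assoc (q0 n), (fc z1 v hv ((Q0.fZ' _).symm)).eq]
    group
  have fi : ∀ v < 8, (f v)⁻¹ = f v * qN (NX.of (vv v)) := fun v hv => by
    rw [qi _ (nZ v hv).1, inv_eq_iff_mul_eq_one, ← mul_assoc, (fsq v hv).1, ← pm, (nZ v hv).2.1, F.p_one]
  refine ⟨⟨⟨qN.comp (MonoidHom.mk' NX.of of_mul), f, B.two, qi, fun s => ?_, f0, fun s w hw => ?_,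
    fun w hw => ?_, fun v hv w hw => ?_⟩, hW, qN, fun _ => rfl, ?_, fun n => F.e_t _, eqN, r12, r23, R1⟩⟩
  · exact (σ2 (NX.of s)).imp (fun h => by rw [← q0p, ← h]; rfl) fun h => by rw [← q0p, of_mul, ← h]; rfl
  · refine mul_inv_eq_iff_eq_mul.1 (eqN _ w hw _ (act_ok s w hw).1 ?_)
    rw [← (act_ok s w hw).2, of_mul, of_mul]
    exact congrArg _ (map_inv (MonoidHom.mk' NX.of of_mul : Ph →* N1) s).symm
  · change _ = f w * F.t * qN (NX.of (vv w))
    rw [mul_inv_eq_iff_eq_mul.1 (fsq w hw).2, qi _ (nZ w hw).1, mul_assoc F.t, (fc _ w hw rfl).eq, mul_assoc,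
      mul_assoc, ← pm, (nZ w hw).2.1, F.p_one, mul_one]
  · change _ = f (v ^^^ w) * qN (NX.of (cc v w 0))
    have o : qN (NX.of 1) = 1 := by rw [qi _ (by decide), F.p_one]
    rcases nW v hv w hw with ⟨rfl, h⟩ | ⟨rfl, h⟩ | ⟨rfl, h⟩ | ⟨p, hp, h⟩
    · rw [h, o, f0, Nat.zero_xor, one_mul, mul_one]
    · rw [h, o, f0, Nat.xor_zero]
    · rw [h, Nat.xor_self, f0, one_mul, qi _ (nZ v hv).1, (fsq v hv).1]
    obtain ⟨h1, h2, h3, h4⟩ := h _ (List.mem_singleton_self _)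
    obtain ⟨b1, b2, b3⟩ := (by decide : ∀ p ∈ [(1, 2), (2, 1), (2, 3), (3, 4)], p.1 < 8 ∧ p.2 < 8 ∧
      p.1 ^^^ p.2 < 8) p hp
    rw [← eqN _ _ b1 _ hv h1, ← eqN _ _ b2 _ hw h2, ← eqN _ _ b3 _ (cc_one v hv w hw).1 h3, ← h4, map_mul,
      map_mul, map_inv, conj_mul, conj_mul, mul_left_inj, mul_right_inj]
    simp only [List.mem_cons, List.not_mem_nil, or_false] at hp
    rcases hp with rfl | rfl | rfl | rfl
    · exact (eq_inv_of_mul_eq_one_left R1).trans (fi 3 (by decide))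
    · exact c21.eq.trans ((eq_inv_of_mul_eq_one_left R1).trans (fi 3 (by decide)))
    · exact (eq_inv_of_mul_eq_one_right (mul_assoc (f 1) _ _ ▸ R1)).trans (fi 1 (by decide))
    · change f 3 * f 4 = f 7 * qN (NX.of (cc 3 4 0))
      rw [show cc 3 4 0 = vv 7 * e1 by decide +kernel, of_mul, map_mul, ← mul_assoc, ← fi 7 (by decide),
        eq_inv_mul_iff_mul_eq, ← mul_left_inj (f 7), mul_assoc (f 7), σ3, ← qN1, mul_inv_eq_iff_eq_mul.1
          (eqN (NX.of e1) 7 (by decide) 7 (by decide) (by decide +kernel))]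
  · rw [qN1, σ1 _ (by decide +kernel), q0r]

end H26.MZ
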