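import Mathlib
import Cfsg.Agent.H26.MZ3
import Cfsg.Agent.H26.MZ4

/-! # The normalizer of `A` in a frame with `W = 1` -/

set_option autoImplicit false
set_option linter.unusedSectionVars false
set_option linter.unusedVariables false
set_option maxRecDepth 100000

namespace H26.MZ

open H9 Cfsg H24 Subgroup H5.MC

variable {H : Subgroup PG} {X : Type*} [Group X] [Finite X] {F : Fr H X}

theorem nC : ∀ n : N1, n * NX.of z2 = NX.of z2 * n → n * NX.of i1 = NX.of i1 * n → n = NX.of n.p := by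
  decide +kernel
theorem nV : ∀ n : N1, ∀ v < 8, ∃ w < 8, n * NX.of (vv v) * n⁻¹ = NX.of (vv w) := by decide +kernel
theorem nvv : ∀ w < 8, vv w = z1 ^ (w % 2) * z2 ^ (w / 2 % 2) * i1 ^ (w / 4) := by decide +kernel
set_option synthInstance.maxSize 2000 in
theorem n1 : ∀ a < 8, ∀ b < 8, (∀ u ∈ [1, z1], vv a ≠ u) → (∀ u ∈ [1, z1], vv b ≠ u) →
    (∀ u ∈ [1, z1], vv a * vv b ≠ u) → ∀ n ∈ [(NX.lk 0x108c480d000000000018a8580504000040300000082d10000060a040000825140000229108240000000000028100200000000000000000000000000000000000000000000000 (8 * a + b) : N1)],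
    n * NX.of z2 * n⁻¹ = NX.of (vv a) ∧ n * NX.of i1 * n⁻¹ = NX.of (vv b) ∧
      n * NX.of z1 * n⁻¹ = NX.of z1 := by decide +kernel
theorem n2 : ∀ w < 8, w ≠ 0 → w = 1 ∨ ∃ s : Ph, ad w (act s.n w) = 1 := by decide +kernel
theorem n4 : ∀ w < 8, ∀ w' < 8, (NX.r : N1) * NX.of (vv w) * NX.r⁻¹ = NX.of (vv w') →
    vv w' = vv w ∨ vv w' = vv w * z1 → vv w = 1 ∨ vv w = z1 := by decide +kernel
theorem act1 : ∀ s : Ph, act s.n 1 = 1 := by decide +kernel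

theorem Fam.tEV (Φ : Fam F) {u : X} (h : u ∈ Φ.E) (h2 : F.t * u * (F.t * u) = 1) : u ∈ Φ.V :=
  Φ.EtV h (by rw [eq_inv_of_mul_eq_one_left h2, mul_inv_rev, tinv, inv_eq_of_mul_eq_one_right (Φ.Esq h)])
theorem Fam.δA (Φ : Fam F) {a : X} (h : a ∈ Φ.A) : δ F a ∈ Φ.V := (Φ.AU h).elim Φ.δV fun h1 => by
  have := Φ.δV h1
  rwa [δ_mul, δ_one (Commute.refl _), one_mul, conj_mem_iff (Φ.NAV (norm_self _ Φ.tA))] at this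
theorem Fam.CV (Φ : Fam F) {g : X} (h1 : g * Φ.q z1 * g⁻¹ = Φ.q z1) (h2 : g * Φ.q z2 * g⁻¹ = Φ.q z2)
    (h3 : g * Φ.q i1 * g⁻¹ = Φ.q i1) : g ∈ C[Φ.V] := mem_C'.2 fun v hv => by
  obtain ⟨w, hw, rfl⟩ := Φ.exV hv
  rw [nvv w hw, map_mul, map_mul, map_pow, map_pow, map_pow]
  exact ((Commute.pow_right (mul_inv_eq_iff_eq_mul.1 h1) _).mul_right
    (Commute.pow_right (mul_inv_eq_iff_eq_mul.1 h2) _)).mul_right
    (Commute.pow_right (mul_inv_eq_iff_eq_mul.1 h3) _)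
theorem Fam.qf1 (Φ : Fam F) (s : Ph) : Commute (Φ.q s) (Φ.f 1) := by
  have := Φ.eqv s 1 (by decide)
  rwa [act1] at this
theorem Fam.tf1 (Φ : Fam F) : F.t * (F.t * Φ.f 1) * F.t⁻¹ = F.t * Φ.f 1 * Φ.q z1 ∧
    F.t * Φ.f 1 * (F.t * Φ.f 1) = 1 ∧ ¬ Commute F.t (Φ.f 1) := by
  rw [← Φ.ψT, ← Φ.ψF (by decide : 1 < 8), ← Φ.ψP, ← Φ.inv, ← Φ.one]
  simp only [← Φ.mul]
  exact ⟨congrArg _ (by decide +kernel), congrArg _ (by decide +kernel),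
    fun h => absurd (Φ.comm_iff.2 h) (by decide +kernel)⟩

namespace FX
variable (Φ : FX F)

theorem CX2 {g : X} (h1 : Commute g F.t) (h2 : g ∈ C[Φ.V]) : ∃ s, C0 s ∧ (g = Φ.q s ∨ g = F.t * Φ.q s) := by
  have tV := Φ.AV Φ.tA
  obtain ⟨s, h⟩ : ∃ s, g = Φ.q s ∨ g = F.t * Φ.q s := by
    obtain ⟨w, hw, x, hx, e⟩ := F.cent' h1
    rw [Φ.hW, mem_bot] at hw
    simp only [hw, one_mul] at e
    have h3 : F.e x ∈ C[Φ.V] := e.elim (fun e => e ▸ h2) fun e => (mul_mem_cancel_left tV).1 (e ▸ h2)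
    have k : ∀ v : Ph, v.V1 → v.inn → x * emb v = emb v * x := fun v hv hi =>
      F.e_inj (mul_mem hx (Φ.hp _)) (mul_mem (Φ.hp _) hx) (by
        rw [F.e_mul hx (Φ.hp _), F.e_mul (Φ.hp _) hx]
        exact (Φ.qi v hi ▸ mem_C'.1 h3 _ (Φ.qV.2 hv) :))
    obtain ⟨n, rfl⟩ := cent_z (F.hAM hx) (k z1 (by decide +kernel) (by decide))
    rw [nC n (NX.emb_inj (by simpa only [map_mul, NX.emb_of] using k z2 (by decide +kernel) (by decide)))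
      (NX.emb_inj (by simpa only [map_mul, NX.emb_of] using k i1 (by decide +kernel) (by decide))),
      NX.emb_of] at e
    exact Φ.mem_S0.1 (F.mem_S0.2 ⟨_, Φ.hp _, e⟩)
  have h3 : Φ.q s ∈ C[Φ.V] := h.elim (fun e => e ▸ h2) fun e => (mul_mem_cancel_left tV).1 (e ▸ h2)
  have k : ∀ v : Ph, v.V1 → s * v = v * s := fun v hv => Φ.q_inj (by
    rw [map_mul, map_mul]; exact mem_C'.1 h3 _ (Φ.qV.2 hv))
  exact ⟨s, (mP s).2.2.2.2.2.2.2 ⟨k _ (by decide +kernel), k _ (by decide +kernel)⟩, h⟩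
theorem CX3 {g : X} (h1 : Commute g F.t) (h2 : g ∈ C[Φ.V]) (h3 : Commute g (Φ.f 1)) :
    ∃ s, C0 s ∧ g = Φ.q s := by
  obtain ⟨s, h, e⟩ := Φ.CX2 h1 h2
  refine ⟨s, h, e.resolve_right ?_⟩
  rintro rfl
  exact Φ.tf1.2.2 (by simpa using h3.mul_left (Φ.qf1 s).inv_left)
theorem AX {g : X} (h1 : g ∈ C[Φ.V]) (h2 : δ F g ∈ Φ.V) : g ∈ Φ.A := by
  obtain ⟨w, hw, e⟩ := Φ.exV h2
  have fA := Φ.UA (Φ.fU hw)
  obtain ⟨s, hs, h⟩ := Φ.CX2 (g := (Φ.f w)⁻¹ * g) (mul_inv_eq_iff_eq_mul.1 (by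
    rw [show (Φ.f w)⁻¹ * g * F.t * ((Φ.f w)⁻¹ * g)⁻¹ = (Φ.f w)⁻¹ * (g * F.t * g⁻¹) * Φ.f w by group, ← tδ, e,
      ← Φ.ft hw]; group)) (mul_mem (inv_mem (Φ.AV fA)) h1)
  refine (mul_mem_cancel_left (inv_mem fA)).1 ?_
  rcases h with h | h <;> rw [h]
  exacts [Φ.UA (Φ.qU.2 hs), mul_mem Φ.tA (Φ.UA (Φ.qU.2 hs))]
theorem qcj {n : N1} {s u : Ph} (h : n * NX.of s * n⁻¹ = NX.of u) : Φ.qN n * Φ.q s * (Φ.qN n)⁻¹ = Φ.q u := by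
  rw [← Φ.qof, ← Φ.qof, ← h, map_mul, map_mul, map_inv]
theorem NA (n : N1) : Φ.qN n ∈ N[Φ.A] := by
  have h : Φ.qN n ∈ N[Φ.V] := mem_N_of_finite fun g hg => by
    obtain ⟨w, hw, rfl⟩ := Φ.exV hg
    obtain ⟨v, hv, e⟩ := nV n w hw
    rw [Φ.qcj e]; exact Φ.vvV hv
  exact mem_N_of_finite fun a ha => Φ.AX (conj_mem (N_le_NC _ h) (Φ.AV ha))
    (by rw [δ_conj (Φ.tN n)]; exact conj_mem h (Φ.δA ha))

theorem swap (h : ∃ g ∈ N[Φ.A], δ F g ∉ Φ.E) : ∃ γ ∈ C[Φ.V], γ * F.t * γ⁻¹ = F.t * Φ.f 1 ∧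
    γ * (F.t * Φ.f 1) * γ⁻¹ = F.t := by
  obtain ⟨g, hg, h⟩ := h
  obtain ⟨c, c1, c2, c3⟩ : ∃ c ∈ N[Φ.A], c ∈ C[Φ.V] ∧ δ F c ∉ Φ.E := by
    obtain ⟨a, ha, e1⟩ := Φ.exV (conj_mem (Φ.NAV hg) (Φ.qV.2 (show z2.V1 by decide +kernel)))
    obtain ⟨b, hb, e2⟩ := Φ.exV (conj_mem (Φ.NAV hg) (Φ.qV.2 (show i1.V1 by decide +kernel)))
    have k : ∀ x y : Ph, g * Φ.q x * g⁻¹ = Φ.q y → x ≠ 1 → x ≠ z1 → ∀ u ∈ [1, z1], y ≠ u := fun x y e h1 h2 => by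
      simp only [List.forall_mem_cons, List.not_mem_nil, IsEmpty.forall_iff, implies_true, and_true]
      refine ⟨?_, ?_⟩ <;> rintro rfl
      · rw [map_one, conj_eq_one_iff, map_eq_one_iff _ Φ.q_inj] at e; exact h1 e
      · rw [← Φ.NAz hg, mul_left_inj, mul_right_inj] at e; exact h2 (Φ.q_inj e)
    obtain ⟨a1, a2, a3⟩ := n1 a ha b hb (k _ _ e1 (by decide) (by decide)) (k _ _ e2 (by decide) (by decide))
      (k (z2 * i1) _ (by rw [map_mul, map_mul, ← conj_mul, e1, e2]) (by decide +kernel) (by decide +kernel))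
      _ (List.mem_singleton_self _)
    generalize NX.lk _ _ = n at a1 a2 a3
    have k2 : ∀ x y : Ph, g * Φ.q x * g⁻¹ = Φ.q y → n * NX.of x * n⁻¹ = NX.of y →
        (Φ.qN n)⁻¹ * g * Φ.q x * ((Φ.qN n)⁻¹ * g)⁻¹ = Φ.q x := fun x y a b => by
      rw [show (Φ.qN n)⁻¹ * g * Φ.q x * ((Φ.qN n)⁻¹ * g)⁻¹ = (Φ.qN n)⁻¹ * (g * Φ.q x * g⁻¹) * Φ.qN n by group,
        a, ← Φ.qcj b]; group
    refine ⟨_, mul_mem (inv_mem (Φ.NA n)) hg, Φ.CV (k2 _ _ (Φ.NAz hg) a3) (k2 _ _ e1 a1) (k2 _ _ e2 a2),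
      fun h1 => h ?_⟩
    rw [← mul_inv_cancel_left (Φ.qN n) g, δ_mul, δ_one (Φ.tN n), one_mul]
    exact conj_mem (Φ.NAE (Φ.NA n)) h1
  obtain ⟨c, c1, c2, c3⟩ : ∃ c ∈ N[Φ.A], c ∈ C[Φ.V] ∧ Φ.D c 1 := by
    obtain ⟨w, hw, h1⟩ := Φ.Dex c1
    rcases n2 w hw (fun e => c3 ((Φ.D0 c1).1 (e ▸ h1))) with rfl | ⟨s, hs⟩
    · exact ⟨c, c1, c2, h1⟩
    have qA := Φ.S0A (Φ.q_mem s)
    have m := mul_mem (mul_mem qA c1) (inv_mem qA)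
    exact ⟨_, mul_mem c1 m, mul_mem c2 (conj_mem (N_le_NC _ (Φ.NAV qA)) c2), hs ▸ h1.mul
      (h1.conj c1 hw qA (Φ.tq s) (Φ.qf s hw)) hw (act_ok s w hw).1 c1 c2 m⟩
  obtain ⟨c, c1, c2, c3⟩ : ∃ c ∈ N[Φ.A], c ∈ C[Φ.V] ∧ c * F.t * c⁻¹ = F.t * Φ.f 1 := by
    obtain ⟨y, hy, e⟩ := Φ.conj_inv (Φ.fU (by decide)) (Φ.δU c1) c3.symm Φ.tf1.2.1 (tδ_sq c)
    refine ⟨y⁻¹ * c, mul_mem (inv_mem (Φ.UNA hy)) c1, mul_mem (inv_mem (Φ.AV (Φ.UA hy))) c2, ?_⟩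
    rw [show y⁻¹ * c * F.t * (y⁻¹ * c)⁻¹ = y⁻¹ * (c * F.t * c⁻¹) * y by group, ← tδ, ← e]; group
  have f1 := Φ.fU (by decide : 1 < 8)
  have e0 : c * (F.t * Φ.f 1) * c⁻¹ = F.t * (Φ.f 1 * (c * Φ.f 1 * c⁻¹)) := by rw [← conj_mul, c3, mul_assoc]
  obtain ⟨w, hw, e1⟩ := Φ.exV (Φ.tEV (u := Φ.f 1 * (c * Φ.f 1 * c⁻¹)) (by
    have m := conj_mem (Φ.NAU c1) f1
    have := Φ.K1 c1 c2 f1
    rw [← cs_eq_one (Φ.UNE (mul_mem f1 m))]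
    simp only [cs] at this ⊢
    rw [ap_mul _ (Φ.UNE f1) (Φ.UNE m), this, ← ap_mul _ (Φ.UNE f1) (Φ.UNE f1)]
    exact cs_of_mem (Φ.VE (Φ.Usq f1))) (by rw [← e0, conj_mul, Φ.tf1.2.1, mul_one, mul_inv_cancel]))
  rw [e1] at e0
  have zc : c * Φ.q z1 * c⁻¹ = Φ.q z1 := Φ.NAz c1
  obtain ⟨w', hw', e2⟩ := nV NX.r w hw
  have e3 := Φ.qcj e2
  have e4 : Commute (Φ.qN NX.r) (F.t * Φ.f 1) := (Φ.tN _).symm.mul_right
    (mul_inv_eq_iff_eq_mul.1 (Φ.eqN NX.r 1 (by decide) 1 (by decide) (by decide +kernel)))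
  have e5 := Φ.tN NX.r
  have e6 := N_le_NC _ (Φ.NAV (Φ.NA NX.r))
  generalize Φ.qN NX.r = ρ at *
  have e7 : ∀ x, Commute ρ x → ρ * c * ρ⁻¹ * x * (ρ * c * ρ⁻¹)⁻¹ = ρ * (c * x * c⁻¹) * ρ⁻¹ := fun x h => by
    rw [mul_assoc _ ρ⁻¹ x, h.inv_left.eq]; group
  obtain ⟨s, -, e8⟩ := Φ.CX2 (g := c⁻¹ * (ρ * c * ρ⁻¹)) (mul_inv_eq_iff_eq_mul.1 (by
    rw [show c⁻¹ * (ρ * c * ρ⁻¹) * F.t * (c⁻¹ * (ρ * c * ρ⁻¹))⁻¹ =
      c⁻¹ * (ρ * c * ρ⁻¹ * F.t * (ρ * c * ρ⁻¹)⁻¹) * c by group, e7 _ e5.symm, c3, e4.eq, mul_inv_cancel_right,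
      ← c3]; group)) (mul_mem (inv_mem c2) (conj_mem e6 c2))
  have e9 := e7 _ e4
  have qa : Φ.q s * (F.t * Φ.f 1) * (Φ.q s)⁻¹ = F.t * Φ.f 1 := by
    rw [((Φ.tq s).symm.mul_right (Φ.qf1 s)).eq, mul_inv_cancel_right]
  rw [e0, ← conj_mul (b := ρ), ← e5.eq, mul_inv_cancel_right, e3] at e9
  rcases n4 w hw w' hw' e2 (e8.imp (fun e => Φ.q_inj (mul_left_cancel (a := F.t) (by
      rw [← e9, ← e0, inv_mul_eq_iff_eq_mul.1 e]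
      conv_rhs => rw [← qa]
      group))) fun e => Φ.q_inj (mul_left_cancel (a := F.t) (by
      rw [← e9, map_mul, ← mul_assoc F.t (Φ.q _), ← e0, ← zc, conj_mul, ← Φ.tf1.1, inv_mul_eq_iff_eq_mul.1 e]
      conv_rhs => rw [← qa]
      group))) with h | h
  · exact ⟨c, c2, c3, by rw [e0, h, map_one, mul_one]⟩
  · refine ⟨c * F.t, mul_mem c2 (Φ.AV Φ.tA), by rw [← c3]; group, ?_⟩
    rw [show c * F.t * (F.t * Φ.f 1) * (c * F.t)⁻¹ = c * (F.t * (F.t * Φ.f 1) * F.t⁻¹) * c⁻¹ by group, Φ.tf1.1,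
      ← conj_mul, e0, zc, h, mul_assoc, ← map_mul, show z1 * z1 = 1 by decide +kernel, map_one, mul_one]

end FX

end H26.MZ
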