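import Mathlib
import Cfsg.Agent.H26.MZ5

/-! # The subgroup `K = N(A) ⊓ C(E)` in a frame with `W = 1` -/

set_option autoImplicit false
set_option linter.unusedSectionVars false
set_option linter.unusedVariables false
set_option maxRecDepth 100000

namespace H26.MZ

open H9 Cfsg H24 Subgroup H5.MC

variable {H : Subgroup PG} {X : Type*} [Group X] [Finite X] {F : Fr H X}

theorem n5 : ∀ c : Ph, C0 c → C0 (c * z1) ∧ (i0 * c * (i0 * c) = i0 * i0 → c.U0) ∧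
    (j1 * c * (j1 * c) = j1 * j1 → c.U0) ∧ (i3 * c * (i3 * c) = i3 * i3 → ∀ u : Ph, u.U0 →
      i0 * u * (i3 * c) * (i0 * u * (i3 * c)) = i0 * i3 * (i0 * i3) →
      c.U0 ∧ ∃ u' : Ph, u'.U0 ∧ i0 * u * (i3 * c) = i0 * i3 * u') := by decide +kernel
theorem n6 : ∀ u : Ph, u.U0 → u.inn ∧ u.V1 ∧ u * u = 1 ∧
    (∃ u' : Ph, u'.U0 ∧ (NX.r : N2) * NX.of u * NX.r⁻¹ = NX.of u') ∧
    (∀ u' : Ph, u'.U0 → ∃ u'' : Ph, u''.U0 ∧ j1 * u * (j2 * u') = j1 * j2 * u'') ∧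
    ∃ j ∈ [1, j1, j2, j1 * j2], j * i1 * j⁻¹ = i1 * u ∧ j * z1 * j⁻¹ = z1 ∧ j * z2 * j⁻¹ = z2 := by
  decide +kernel
set_option synthInstance.maxSize 2000 in
theorem n7 : ∀ c : Ph, C0 c → ∃ s : Ph, (NX.r : N2) * NX.of c * NX.r⁻¹ = NX.of s ∧
    ∀ x ∈ [s, s * z1], ∀ j ∈ [1, j1, j2, j1 * j2], ∀ u : Ph, u.U0 → C0 (j * u * x * j) → (j * u * x * j).U0 := by
  decide +kernel
theorem n8 : ∀ w < 8, 2 ≤ w → ∃ n : N1, n * NX.of (vv 2) * n⁻¹ = NX.of (vv w) := by decide +kernel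
theorem n9 : ∀ s ∈ [sg, sg * j1], ∃ n ∈ [(NX.r : N1), NX.r⁻¹], ∃ c : Ph, C0 c ∧
    n * NX.of s * n⁻¹ = NX.of (j1 * c) := by decide +kernel
theorem mA2 : ∀ a : Mo, a.A → ((T * Fv 2)⁻¹ * (a * (T * Fv 2) * a⁻¹)).V := by decide +kernel
theorem m7 : ∀ e : Mo, e.E → Fv 4 * e * (T * Fv 2) * (Fv 4 * e)⁻¹ = T * Fv 2 * P (vv 4) →
    ∀ x : Mo, x.E → x.V ∨ (e * x).V := by decide +kernel

theorem polar {Q : Type*} [Group Q] {a c b : Q} (h1 : a * a = 1) (h2 : a * b * (a * b) = 1) (h3 : c * c = 1)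
    (h4 : c * b * (c * b) = 1) (h5 : a * c * (a * c) = 1) (h6 : a * c * b * (a * c * b) = 1) : b * b = 1 := by
  have k : ∀ x : Q, x * x = 1 → x * b * (x * b) = 1 → x * b * x⁻¹ = b⁻¹ := fun x h h' => by
    rw [inv_eq_of_mul_eq_one_right h, eq_inv_iff_mul_eq_one, mul_assoc, h']
  have := k _ h5 h6
  rw [show a * c * b * (a * c)⁻¹ = a * (c * b * c⁻¹) * a⁻¹ by group, k c h3 h4, ← conj_inv, k a h1 h2,
    inv_inv] at this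
  exact mul_eq_one_iff_eq_inv.2 this

theorem Fam.pq (Φ : Fam F) (s : Ph) : F.p s = Φ.q s ∨ F.p s = Φ.q (s * z1) :=
  (Φ.qo s).imp Eq.symm fun e => by
    rw [map_mul, e, Φ.qi z1 (by decide), ← F.p_mul (Φ.hp _) (Φ.hp _), mul_assoc,
      show z1 * z1 = 1 by decide +kernel, mul_one]
theorem Fam.rp (Φ : Fam F) {s u : Ph} (h : (NX.r : N2) * NX.of s * NX.r⁻¹ = NX.of u) :
    F.r * F.p s * F.r⁻¹ = F.p u := by
  rw [Fr.p, Fr.p, ← rcj h, F.e_conj (Φ.hH r2_AM) (Φ.hp _)]; rfl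
theorem Fam.rq (Φ : Fam F) {s u : Ph} (hs : s.inn) (hu : u.inn) (h : (NX.r : N2) * NX.of s * NX.r⁻¹ = NX.of u) :
    F.r * Φ.q s * F.r⁻¹ = Φ.q u := by rw [Φ.qi s hs, Φ.qi u hu, Φ.rp h]

namespace FX
variable (Φ : FX F)

theorem exists_c (h : ∃ g ∈ N[Φ.A], δ F g ∉ Φ.E) :
    ∃ c ∈ N[Φ.A] ⊓ C[Φ.E], Φ.D c 2 ∧ c * c ∈ Φ.E := by
  obtain ⟨γ, g1, g2, g3⟩ := Φ.swap h
  have ft : F.t * (F.t * Φ.f 1) = Φ.f 1 := by rw [← mul_assoc, F.tt, one_mul]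
  have α : ∀ s, (s * s).V1 → ∃ c, C0 c ∧ γ * Φ.q s * γ⁻¹ = Φ.q (s * c) ∧ s * c * (s * c) = s * s := fun s hs => by
    have a : Commute (γ * Φ.q s * γ⁻¹) F.t := g3 ▸ ((Φ.tq s).symm.mul_right (Φ.qf1 s)).conj γ
    have b : Commute (γ * Φ.q s * γ⁻¹) (F.t * Φ.f 1) := g2 ▸ (Φ.tq s).symm.conj γ
    obtain ⟨c, hc, e⟩ := Φ.CX3 (g := (Φ.q s)⁻¹ * (γ * Φ.q s * γ⁻¹)) ((Φ.tq s).symm.inv_left.mul_left a)
      (by simpa only [mul_assoc] using mul_mem (conj_mem' (N_le_NC _ (Φ.qNV s)) g1) (inv_mem g1))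
      ((Φ.qf1 s).inv_left.mul_left (ft ▸ a.mul_right b))
    rw [inv_mul_eq_iff_eq_mul, ← map_mul] at e
    exact ⟨c, hc, e, Φ.q_inj (by
      rw [map_mul, ← e, conj_mul, ← map_mul, conj_eq_of_mem_C g1 (Φ.qV.2 hs)])⟩
  obtain ⟨c1, h1, gg⟩ := Φ.CX3 (g := γ * γ) (mul_inv_eq_iff_eq_mul.1 (by
      rw [show γ * γ * F.t * (γ * γ)⁻¹ = γ * (γ * F.t * γ⁻¹) * γ⁻¹ by group, g2, g3])) (mul_mem g1 g1)
    (mul_inv_eq_iff_eq_mul.1 (by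
      rw [← ft, show γ * γ * (F.t * (F.t * Φ.f 1)) * (γ * γ)⁻¹ =
        γ * (γ * F.t * γ⁻¹) * γ⁻¹ * (γ * (γ * (F.t * Φ.f 1) * γ⁻¹) * γ⁻¹) by group, g2, g3, g2]))
  obtain ⟨u0, a0, b0, d0⟩ := α i0 (by decide +kernel)
  obtain ⟨u1, a1, b1, d1⟩ := α j1 (by decide +kernel)
  obtain ⟨u3, a3, b3, d3⟩ := α i3 (by decide +kernel)
  have b4 : γ * Φ.q (i0 * i3) * γ⁻¹ = Φ.q (i0 * u0 * (i3 * u3)) := by rw [map_mul, ← conj_mul, b0, b3, ← map_mul]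
  obtain ⟨a3, u4, a4, e4⟩ := (n5 u3 a3).2.2.2 d3 u0 ((n5 u0 a0).2.1 d0) (Φ.q_inj (by
    rw [map_mul, ← b4, conj_mul, ← map_mul, conj_eq_of_mem_C g1 (Φ.qV.2 (by decide +kernel))]))
  rw [e4] at b4
  have a1 := (n5 u1 a1).2.2.1 d1
  have tr : Commute F.t F.r := F.e_t _
  obtain ⟨γ2, e2⟩ : ∃ g, g = F.r * γ * F.r⁻¹ := ⟨_, rfl⟩
  have β : ∀ s s' u : Ph, s.inn → s'.inn → (NX.r : N2) * NX.of s * NX.r⁻¹ = NX.of s' → u.U0 →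
      γ * Φ.q s * γ⁻¹ = Φ.q (s * u) → ∃ u' : Ph, u'.U0 ∧ γ2 * Φ.q s' * γ2⁻¹ = Φ.q (s' * u') :=
    fun s s' u hs hs' e hu b => by
      obtain ⟨u', h', e'⟩ := (n6 u hu).2.2.2.1
      refine ⟨u', h', ?_⟩
      rw [map_mul, ← Φ.rq hs hs' e, ← Φ.rq (n6 u hu).1 (n6 u' h').1 e', conj_mul, ← map_mul, ← b, e2]; group
  have βU : ∀ u : Ph, u.U0 → γ2 * Φ.q u * γ2⁻¹ = Φ.q u := fun u hu => by
    obtain ⟨s, hs, e⟩ := (by decide +kernel : ∀ u : Ph, u.U0 → ∃ s : Ph, s.U0 ∧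
      (NX.r : N2) * NX.of s * NX.r⁻¹ = NX.of u) u hu
    rw [← Φ.rq (n6 s hs).1 (n6 u hu).1 e, e2]
    conv_rhs => rw [← conj_eq_of_mem_C g1 (Φ.qV.2 (n6 s hs).2.1)]
    group
  obtain ⟨u, hu, e5⟩ := β i3 i1 u3 (by decide) (by decide) (by decide +kernel) a3 b3
  obtain ⟨j, hj, j1', j2', j3'⟩ := (n6 u hu).2.2.2.2.2
  obtain ⟨u', hu', e6⟩ : ∃ u' : Ph, u'.U0 ∧ γ2 * Φ.q j * γ2⁻¹ = Φ.q (j * u') := by
    obtain ⟨v1, k1, l1⟩ := β _ j1 u4 (by decide +kernel) (by decide) (by decide +kernel) a4 b4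
    obtain ⟨v2, k2, l2⟩ := β j1 j2 u1 (by decide) (by decide) (by decide +kernel) a1 b1
    simp only [List.mem_cons, List.not_mem_nil, or_false] at hj
    rcases hj with rfl | rfl | rfl | rfl
    · exact ⟨1, Or.inl rfl, by simp⟩
    · exact ⟨v1, k1, l1⟩
    · exact ⟨v2, k2, l2⟩
    · obtain ⟨v, k, l⟩ := (n6 v1 k1).2.2.2.2.1 v2 k2
      exact ⟨v, k, by rw [map_mul, ← conj_mul, l1, l2, ← map_mul, l]⟩
  obtain ⟨c, e⟩ : ∃ c, c = γ2 * Φ.q j := ⟨_, rfl⟩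
  have cq : ∀ s, c * Φ.q s * c⁻¹ = γ2 * Φ.q (j * s * j⁻¹) * γ2⁻¹ := fun s => by
    rw [e, map_mul, map_mul, map_inv]; group
  have cV : c ∈ C[Φ.V] := Φ.CV (by rw [cq, j2', βU _ (by decide +kernel)]) (by rw [cq, j3', βU _ (by decide +kernel)])
    (by rw [cq, j1', map_mul, ← conj_mul, e5, βU u hu, ← map_mul, mul_assoc, (n6 u hu).2.2.1, mul_one])
  have ct : c * F.t * c⁻¹ = F.t * Φ.f 2 := by
    rw [e, mul_assoc γ2, ← (Φ.tq j).eq, ← Φ.rf, e2]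
    conv_rhs => rw [← mul_inv_cancel_right F.t F.r, tr.eq, conj_mul, ← g2, ← mul_inv_cancel_right F.t F.r⁻¹,
      tr.inv_right.eq]
    group
  have cc : c * c ∈ Φ.U0 := by
    obtain ⟨c2, h2, e3⟩ : ∃ c, C0 c ∧ Φ.q c1 = F.p c :=
      (Φ.qo c1).elim (fun e => ⟨_, h1, e⟩) fun e => ⟨_, (n5 _ h1).1, e⟩
    obtain ⟨s, e7, h⟩ := n7 c2 h2
    obtain ⟨x, hx, e8⟩ : ∃ x ∈ [s, s * z1], F.p s = Φ.q x :=
      (Φ.pq s).elim (fun e => ⟨_, by simp, e⟩) fun e => ⟨_, by simp, e⟩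
    have e9 : c * c = Φ.q (j * u' * x * j) := by
      rw [map_mul, map_mul, ← e6, ← e8, ← Φ.rp e7, ← e3, ← gg, ← conj_mul, ← e2, e]; group
    have k : ∀ v : Ph, v.V1 → j * u' * x * j * v = v * (j * u' * x * j) := fun v hv => Φ.q_inj (by
      rw [map_mul, ← e9, map_mul _ v, ← e9]; exact mem_C'.1 (mul_mem cV cV) _ (Φ.qV.2 hv))
    rw [e9]
    exact Φ.qU0.2 (h x hx j hj u' hu' ((mP _).2.2.2.2.2.2.2 ⟨k _ (by decide +kernel), k _ (by decide +kernel)⟩))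
  have ccE : c * c ∈ Φ.E := by
    obtain ⟨s, hs, e⟩ := Φ.exU0 cc
    exact e ▸ Φ.VE (Φ.qV.2 (n6 s hs).2.1)
  have cA : c ∈ N[Φ.A] := inv_mem_iff.1 (mem_N_of_finite fun a ha => Φ.AX
    (mul_mem (mul_mem (inv_mem cV) (Φ.AV ha)) (inv_mem (inv_mem cV))) (by
      obtain ⟨a, h, rfl⟩ := ha
      have := Φ.mV'.2 (mA2 a h)
      simp only [Φ.mul, Φ.inv, Φ.ψT, Φ.ψF (by decide : 2 < 8), ← ct] at this
      convert conj_mem' (C_le_N _ cV) this using 1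
      rw [δ, conj_inv (b := c), tinv]; group))
  refine ⟨c, mem_inf.2 ⟨cA, ?_⟩, by rw [Fam.D, δ, ct, ← mul_assoc, F.tt, one_mul], ccE⟩
  have f4 := Φ.fU (by decide : 4 < 8)
  obtain ⟨y, hy, e7⟩ := (cs_eq_cs (Φ.UNE f4) (Φ.UNE (conj_mem (Φ.NAU cA) f4))).1 (Φ.K1 cA cV f4).symm
  rw [eq_inv_mul_iff_mul_eq] at e7
  have k := m7 y hy (Φ.inj (by
    simp only [Φ.mul, Φ.inv, Φ.ψT, Φ.ψP, Φ.ψF (by decide : 2 < 8), Φ.ψF (by decide : 4 < 8)]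
    rw [e7, ← ct, conj_inv, conj_mul, conj_mul, Φ.ft (by decide), ← conj_mul,
      conj_eq_of_mem_C cV (Φ.vvV (by decide))]))
  have cy : c ∈ C{Φ.ψ y} := mem_C1_iff_conj.2 (by
    have := conj_eq_of_mem_C (cents_symm Φ.UE ccE) f4
    rw [show c * c * Φ.f 4 * (c * c)⁻¹ = c * (c * Φ.f 4 * c⁻¹) * c⁻¹ by group, ← e7, ← conj_mul, ← e7,
      mul_assoc, mul_eq_left] at this
    rw [eq_inv_of_mul_eq_one_right this, inv_eq_of_mul_eq_one_right (Φ.Esq (Φ.mE'.2 hy))])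
  refine mem_C_iff_le_C1.2 ?_
  rintro _ ⟨x, hx, rfl⟩
  rcases k x hx with h | h
  · exact mem_C_iff_le_C1.1 cV (Φ.mV'.2 h)
  · have := mem_C_iff_le_C1.1 cV (Φ.mV'.2 h)
    rwa [Φ.mul, mul_mem_cancel_left (mem_C1_comm.1 cy)] at this

theorem exists_dat : ∃ D : Dat Φ.toFam, ∀ s ∈ [sg, sg * j1], ∀ k ∈ D.K, ∃ k' ∈ D.K, ∃ g ∈ [F.ρ, F.ρ⁻¹],
    g * (Φ.q s * k) * g⁻¹ = Φ.q j1 * k' := by
  obtain ⟨K, hK⟩ : ∃ K, K = N[Φ.A] ⊓ C[Φ.E] := ⟨_, rfl⟩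
  have KA : K ≤ N[Φ.A] := hK.le.trans inf_le_left
  have KE : K ≤ C[Φ.E] := hK.le.trans inf_le_right
  have KV : K ≤ C[Φ.V] := KE.trans (C_anti Φ.VE)
  have UK : Φ.U ≤ K := hK ▸ le_inf Φ.UNA Φ.UE
  have NK : N[Φ.A] ≤ N[K] := hK ▸ norm_inf (norm_self _) (Φ.NAE.trans (N_le_NC _))
  have K2 : ∀ k ∈ K, δ F k ∈ Φ.E → k ∈ Φ.U := fun k hk h =>
    (Φ.AU (Φ.AX (KV hk) (Φ.tEV h (tδ_sq k)))).resolve_right fun h1 =>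
      Φ.tE ((mul_mem_cancel_right (KE hk)).1 (Φ.UE h1))
  have H2 : ∀ g ∈ N[Φ.A], ∀ w, Φ.D g w → (∃ k ∈ K, Φ.D k w) → ∃ k ∈ K, g * F.t * g⁻¹ = k * F.t * k⁻¹ := by
    rintro g hg w h1 ⟨k, hk, h2⟩
    obtain ⟨y, hy, e⟩ := Φ.conj_inv (Φ.δU (KA hk)) (Φ.δU hg) (h2.trans h1.symm) (tδ_sq _) (tδ_sq _)
    exact ⟨y * k, mul_mem (UK hy) hk, by rw [← tδ, ← e, tδ]; group⟩
  have D1 : ∃ k ∈ K, Φ.D k 0 := ⟨1, one_mem _, (Φ.D0 (one_mem _)).2 (by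
    rw [δ_one (Commute.one_right _)]; exact one_mem _)⟩
  have rho : ∀ s ∈ [sg, sg * j1], ∀ k ∈ K, ∃ k' ∈ K, ∃ g ∈ [F.ρ, F.ρ⁻¹],
      g * (Φ.q s * k) * g⁻¹ = Φ.q j1 * k' := fun s hs k hk => by
    obtain ⟨n, hn, c, hc, e⟩ := n9 s hs
    refine ⟨_, mul_mem (UK (Φ.qU.2 hc)) (conj_mem (NK (Φ.NA n)) hk), Φ.qN n, ?_,
      by rw [← conj_mul, Φ.qcj e, map_mul, mul_assoc]⟩
    simp only [List.mem_cons, List.not_mem_nil, or_false] at hn ⊢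
    exact hn.imp (fun e => by rw [e, Φ.qr]) fun e => by rw [e, map_inv, Φ.qr]
  have rho' : ∀ s ∈ [sg, sg * j1], ∀ k ∈ K, F.T (Φ.q s * k) → ∃ k' ∈ K, F.T (Φ.q j1 * k') := fun s hs k hk h => by
    obtain ⟨k', h1, g, -, e⟩ := rho s hs k hk
    exact ⟨k', h1, h.trans (isConj_iff.2 ⟨g, e⟩)⟩
  by_cases h : ∃ g ∈ N[Φ.A], δ F g ∉ Φ.E
  swap
  · push Not at h
    have e : K = Φ.U := le_antisymm (fun k hk => K2 k hk (h k (KA hk))) UK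
    exact ⟨⟨K, UK, KE, KA, Φ.S0A.trans NK, K2, fun k hk => Φ.VE (Φ.Usq (e ▸ hk)), Or.inl e,
      fun g hg => H2 g hg 0 ((Φ.D0 hg).2 (h g hg)) D1, rho'⟩, rho⟩
  obtain ⟨c, c1, c2, c3⟩ := Φ.exists_c h
  rw [← hK] at c1
  have hκ : ∀ w < 8, 2 ≤ w → ∃ k ∈ K, Φ.D k w ∧ k * k ∈ Φ.E := fun w hw h2 => by
    obtain ⟨n, e⟩ := n8 w hw h2
    exact ⟨_, conj_mem (NK (Φ.NA n)) c1, c2.conj (KA c1) (by decide) (Φ.NA n) (Φ.tN n)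
      (Φ.eqN n 2 (by decide) w hw e), by rw [conj_mul]; exact conj_mem (Φ.NAE (Φ.NA n)) c3⟩
  have mul : ∀ {a b v w}, a ∈ K → b ∈ K → v < 8 → w < 8 → Φ.D a v → Φ.D b w → Φ.D (a * b) (ad v w) :=
    fun ha hb hv hw h1 h2 => h1.mul h2 hv hw (KA ha) (KV ha) (KA hb)
  have big : ∀ w < 8, ∃ k ∈ K, Φ.D k w := fun w hw => by
    rcases (by omega : w = 0 ∨ w = 1 ∨ 2 ≤ w) with rfl | rfl | h2
    · exact D1
    · obtain ⟨k, h1, h2, -⟩ := hκ 3 (by decide) (by decide)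
      exact ⟨_, mul_mem c1 h1, mul c1 h1 (by decide) (by decide) c2 h2⟩
    · exact (hκ w hw h2).imp fun _ h => ⟨h.1, h.2.1⟩
  have KNE := KE.trans (C_le_N _)
  have sq2 : ∀ k ∈ K, ∀ w < 8, 2 ≤ w → Φ.D k w → cs Φ.E k * cs Φ.E k = 1 := fun k hk w hw h2 h1 => by
    obtain ⟨a, ha, h3, h4⟩ := hκ w hw h2
    have m := mul_mem (inv_mem ha) hk
    obtain ⟨v, hv, h5⟩ := Φ.Dex (KA m)
    have h6 := mul ha m hw hv h3 h5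
    rw [mul_inv_cancel_left] at h6
    have := (by decide : ∀ w < 8, ∀ v < 8, w = ad w v → v = 0) w hw v hv
      (h1.uniq h6 hw ((mF v hv).2.2.2.2 w hw).1)
    have hu := K2 _ m ((Φ.D0 (KA m)).1 (this ▸ h5))
    obtain ⟨u, rfl⟩ : ∃ u, k = a * u := ⟨a⁻¹ * k, by simp⟩
    rw [inv_mul_cancel_left] at hu
    have e1 := Φ.K1 (inv_mem (KA ha)) (inv_mem (KV ha)) hu
    have m1 := Φ.UNE (conj_mem (Φ.NAU (inv_mem (KA ha))) hu)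
    have e2 := cs_of_mem h4
    have e3 := cs_of_mem (Φ.VE (Φ.Usq hu))
    simp only [cs] at e1 e2 e3 ⊢
    rw [← ap_mul _ (KNE hk) (KNE hk), show a * u * (a * u) = a * a * (a⁻¹ * u * a⁻¹⁻¹ * u) by group,
      ap_mul _ (KNE (mul_mem ha ha)) (mul_mem m1 (Φ.UNE hu)), e2, ap_mul _ m1 (Φ.UNE hu), e1,
      ← ap_mul _ (Φ.UNE hu) (Φ.UNE hu), e3, one_mul]
  refine ⟨⟨K, UK, KE, KA, Φ.S0A.trans NK, K2, fun k hk => ?_, Or.inr big, fun g hg => ?_, rho'⟩, rho⟩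
  · rw [← cs_eq_one (KNE (mul_mem hk hk)), cs, ap_mul _ (KNE hk) (KNE hk)]
    obtain ⟨w, hw, h1⟩ := Φ.Dex (KA hk)
    by_cases h2 : 2 ≤ w
    · exact sq2 k hk w hw h2 h1
    obtain ⟨b, b1, b2⟩ := big 4 (by decide)
    obtain ⟨a1, a2, a3, a4, a5, a6⟩ := (by decide : ∀ w < 8, ¬ 2 ≤ w → ad 2 w < 8 ∧ 2 ≤ ad 2 w ∧ ad 4 w < 8 ∧
      2 ≤ ad 4 w ∧ ad (ad 2 4) w < 8 ∧ 2 ≤ ad (ad 2 4) w) w hw h2
    have m := mul_mem c1 b1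
    have d := mul c1 b1 (by decide) (by decide) c2 b2
    have s1 := sq2 _ (mul_mem c1 hk) _ a1 a2 (mul c1 hk (by decide) hw c2 h1)
    have s2 := sq2 _ (mul_mem b1 hk) _ a3 a4 (mul b1 hk (by decide) hw b2 h1)
    have s3 := sq2 _ m _ (by decide) (by decide) d
    have s4 := sq2 _ (mul_mem m hk) _ a5 a6 (mul m hk (by decide) hw d h1)
    simp only [cs, ap_mul _ (KNE c1) (KNE hk), ap_mul _ (KNE b1) (KNE hk), ap_mul _ (KNE m) (KNE hk),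
      ap_mul _ (KNE c1) (KNE b1)] at s1 s2 s3 s4
    exact polar (sq2 _ c1 2 (by decide) le_rfl c2) s1 (sq2 _ b1 4 (by decide) (by decide) b2) s2 s3 s4
  · obtain ⟨w, hw, h1⟩ := Φ.Dex hg
    exact H2 g hg w h1 (big w hw)

end FX

end H26.MZ
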