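import Cfsg.Agent.H0.SchC
import Cfsg.Agent.H0.TT

/-! Schreier property from an automorphism-invariant class of involutions; counting fixed points. -/

set_option autoImplicit false

namespace H26.SF

open H0 H0.Sch Subgroup

universe u v

variable {K : Type u} [Group K]

theorem outS_cls [Finite K] [IsSimpleGroup K] (hna : ¬ IsMulCommutative K) {u : K}
    (hu : orderOf u = 2) (hcl : ∀ φ : MulAut K, ∃ g, cj g u = φ u) {M : Subgroup K}
    (hM : ⁅centralizer ({u} : Set K), centralizer ({u} : Set K)⁆ = M)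
    (hind : M.relIndex (centralizer ({u} : Set K)) ≤ 5) {L : Type v} [Group L] [Finite L]
    (f : M →* L) (hf : Function.Surjective f) (hk : f.ker.map M.subtype = zpowers u) (hL : OutS L)
    (hZ : center L = ⊥) : OutS K := by
  obtain ⟨S⟩ : Nonempty (Sylow 2 M) := inferInstance
  have hMC : M ≤ centralizer ({u} : Set K) := by
    rw [← hM, commutator_le]
    exact fun a ha b hb => mul_mem (mul_mem (mul_mem ha hb) (inv_mem ha)) (inv_mem hb)
  have hinv : ∀ D : Subgroup (MulAut K), (∀ d ∈ D, d u = u) → Inv D M := fun D h =>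
    hM ▸ (inv_centralizer_of_fix h).commutator (inv_centralizer_of_fix h)
  refine H27.SC.outS_of_surj (MulAction.stabilizer (MulAut K) u ⊓
    H27.SC.stab ((S : Subgroup M).map M.subtype)) (fun φ => ?_) fun D hD hle => ?_
  · obtain ⟨g, hg⟩ := hcl φ
    have h1 : (MulAut.conj g)⁻¹ * φ ∈ MulAction.stabilizer (MulAut K) u := by
      change (MulAut.conj g)⁻¹ (φ u) = u
      rw [← hg, cj_def]; simp [mul_assoc]
    have hi := hinv (MulAction.stabilizer (MulAut K) u) fun d hd => hd
    obtain ⟨m, hm⟩ := H27.SC.sylow_conj S (hi.res ⟨_, h1⟩)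
    have h2 := H27.SC.mem_stab_of hm
    refine ⟨g * m, mem_inf.2 ⟨?_, fun x => ?_⟩⟩
    · rw [map_mul, mul_inv_rev, mul_assoc]
      refine mul_mem (inv_mem ?_) h1
      change (m : K) * u * (m : K)⁻¹ = u
      rw [mem_centralizer_singleton_iff.1 (hMC m.2), mul_inv_cancel_right]
    · rw [map_mul, mul_inv_rev, mul_assoc]
      by_cases hx : x ∈ M
      · have h3 := h2 ⟨x, hx⟩
        have e1 : ∀ y : M, y ∈ (S : Subgroup M) ↔ (y : K) ∈ (S : Subgroup M).map M.subtype :=
          fun y => (mem_map_iff_mem (f := M.subtype) M.subtype_injective).symm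
        rw [e1, e1] at h3
        exact h3
      · refine iff_of_false (fun h => hx ?_) fun h => hx (map_subtype_le _ h)
        have h3 := map_subtype_le _ h
        rw [MulAut.mul_apply] at h3
        have h4 : ((MulAut.conj g)⁻¹ * φ) x ∈ M := by
          have := M.mul_mem (M.mul_mem m.2 h3) (M.inv_mem m.2)
          simpa [mul_assoc] using this
        exact (hi.mem_iff h1).1 h4
  · have hfix : ∀ d ∈ D, d u = u := fun d hd => (mem_inf.1 (hle hd)).1
    have hW : Inv D ((S : Subgroup M).map M.subtype) :=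
      H27.SC.inv_of_le_stab fun d hd => (mem_inf.1 (hle hd)).2
    have hMi := hinv D hfix
    have hT : Tr D (zpowers u) ⊥ := by
      rw [zpowers_eq_closure]
      exact tr_closure_bot fun d hd x hx => by rw [Set.mem_singleton_iff.1 hx, hfix d hd]
    have huM : zpowers u ≤ M := hk ▸ map_subtype_le _
    have t1 := tr_of_outS hD hMi f hf (hk ▸ hT.inv bot_le le_rfl) hL hZ hW (by
      rw [subgroupOf, comap_map_eq_self_of_injective M.subtype_injective]
      exact solvable_normalizer_sylow_two (S.mapSurjective hf))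
    rw [hk] at t1
    have hcz : centralizer (zpowers u : Set K) = centralizer ({u} : Set K) := by
      rw [zpowers_eq_closure, centralizer_closure]
    have t2 : Tr D M ⊥ := t1.trans hD hT huM bot_le inv_bot
      ((hMC.trans hcz.ge).trans (centralizer_le_normalizer _)) (nm_bot _)
    have hCi : Inv D (centralizer ({u} : Set K)) := inv_centralizer_of_fix hfix
    have t3 := tr_of_relIndex_le_five hD hCi hMi index_ne_zero_of_finite hind
    have t4 := t3.trans hD t2 hMC bot_le inv_bot (by
      rw [← hM]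
      exact H27.SC.nm_of fun x hx y hy => by
        have h1 : (⁅centralizer ({u} : Set K), centralizer ({u} : Set K)⁆).map
            (MulAut.conj x).toMonoidHom ≤ ⁅centralizer ({u} : Set K), centralizer ({u} : Set K)⁆ := by
          have h2 : (centralizer ({u} : Set K)).map (MulAut.conj x).toMonoidHom ≤
              centralizer ({u} : Set K) := by
            rintro _ ⟨z, hz, rfl⟩
            exact mul_mem (mul_mem hx hz) (inv_mem hx)
          rw [map_commutator]
          exact commutator_mono h2 h2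
        exact h1 ⟨y, hy, rfl⟩) (nm_bot _)
    rw [eq_bot_of_climb hna hD (IsPGroup.of_card (n := 1) (by rw [Nat.card_zpowers, hu, pow_one]))
      hT (hcz ▸ t4)]
    exact bot_le

theorem eq_one_of_comm_conj [IsSimpleGroup K] (hZ : center K = ⊥) {x : K}
    (h : ∀ g, Commute (cj g x) x) : x = 1 := by
  rcases IsSimpleGroup.eq_bot_or_eq_top_of_normal (normalClosure ({x} : Set K)) inferInstance with
    h1 | h1
  · exact mem_bot.1 (h1 ▸ subset_normalClosure (Set.mem_singleton x))
  · have h2 : normalClosure ({x} : Set K) ≤ centralizer ({x} : Set K) := by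
      rw [normalClosure, closure_le]
      intro y hy
      obtain ⟨z, hz, hc⟩ := Group.mem_conjugatesOfSet_iff.1 hy
      obtain ⟨g, rfl⟩ := isConj_iff.1 hc
      rw [Set.mem_singleton_iff.1 hz]
      exact mem_centralizer_singleton_iff.2 (h g)
    rw [← mem_bot, ← hZ, mem_center_iff]
    exact fun g => mem_centralizer_singleton_iff.1 (h2 (h1 ▸ mem_top g))

theorem fix_modEq [Finite K] {p : ℕ} [Fact p.Prime] {y : K} (hy : orderOf y = p) {S : Set K}
    (hinv : ∀ x ∈ S, cj y x ∈ S) : S.ncard ≡ {x | x ∈ S ∧ Commute y x}.ncard [MOD p] := by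
  have hn : ∀ n : ℕ, ∀ x ∈ S, cj (y ^ n) x ∈ S := by
    intro n
    induction n with
    | zero => simp
    | succ n ih => intro x hx; rw [pow_succ, ← cj_cj]; exact ih _ (hinv x hx)
  have hz : ∀ g : zpowers y, ∀ x ∈ S, cj g.1 x ∈ S := by
    rintro ⟨g, hg⟩
    obtain ⟨n, rfl⟩ := (mem_powers_iff_mem_zpowers.2 hg)
    exact hn n
  let _ : MulAction (zpowers y) S :=
    { smul := fun g x => ⟨cj g.1 x.1, hz g _ x.2⟩
      one_smul := fun x => Subtype.ext (cj_one _)
      mul_smul := fun g k x => Subtype.ext (cj_cj _ _ _).symm }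
  have hP : IsPGroup p (zpowers y) := IsPGroup.of_card (n := 1) (by rw [Nat.card_zpowers, hy, pow_one])
  have h := hP.card_modEq_card_fixedPoints S
  rw [← Nat.card_coe_set_eq, ← Nat.card_coe_set_eq]
  convert h using 1
  refine Nat.card_congr ⟨fun x => ⟨⟨x, x.2.1⟩, fun g => Subtype.ext ?_⟩,
    fun x => ⟨x.1, x.1.2, ?_⟩, fun _ => rfl, fun _ => rfl⟩
  · obtain ⟨g, n, rfl⟩ := g
    exact cj_of_commute (x.2.2.zpow_left n)
  · exact cj_eq_self.1 (congrArg Subtype.val (x.2 ⟨y, mem_zpowers y⟩))

theorem fix_small [Finite K] {p : ℕ} [Fact p.Prime] {y : K} (hy : orderOf y = p) {S : Set K}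
    (hS : S.ncard < p) (hinv : ∀ x ∈ S, cj y x ∈ S) {x : K} (hx : x ∈ S) : Commute y x := by
  have h := fix_modEq hy hinv
  have h1 : {x | x ∈ S ∧ Commute y x} ⊆ S := fun x hx => hx.1
  have h2 := Set.ncard_le_ncard h1 (Set.toFinite _)
  have h3 := Nat.ModEq.eq_of_lt_of_lt h hS (h2.trans_lt hS)
  rw [← Set.eq_of_subset_of_ncard_le h1 h3.le (Set.toFinite _)] at hx
  exact hx.2

theorem no_fix [Finite K] {p : ℕ} (h2 : ¬ p ^ 2 ∣ Nat.card K) {y : K} (hy : orderOf y = p)
    {H : Subgroup K} (hyH : y ∈ H) {s : K} {S : Set K} (hS : ∀ x, x ∈ S ↔ ∃ g ∈ H, cj g s = x)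
    (hp : p ∣ S.ncard) : ¬ Commute y s := by
  intro hc
  let _ : MulAction H K :=
    { smul := fun g x => cj g.1 x
      one_smul := fun x => cj_one _
      mul_smul := fun g k x => (cj_cj _ _ _).symm }
  have h1 : MulAction.orbit H s = S := by
    ext x
    rw [hS]
    exact ⟨fun ⟨g, hg⟩ => ⟨g.1, g.2, hg⟩, fun ⟨g, hg, e⟩ => ⟨⟨g, hg⟩, e⟩⟩
  have h3 := MulAction.index_stabilizer H s
  have h4 := (MulAction.stabilizer H s).card_mul_index
  have h5 : (⟨y, hyH⟩ : H) ∈ MulAction.stabilizer H s := cj_of_commute hc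
  have h6 := orderOf_dvd_natCard (⟨⟨y, hyH⟩, h5⟩ : MulAction.stabilizer H s)
  rw [← orderOf_coe, ← orderOf_coe, hy] at h6
  rw [h1] at h3
  apply h2
  refine dvd_trans ?_ (card_subgroup_dvd_card H)
  rw [← h4, h3, pow_two]
  exact mul_dvd_mul h6 hp

end H26.SF
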