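import Cfsg.Agent.H26.SF1
import Cfsg.Agent.H0.W12

/-! Radicals of products of commuting transpositions; elements of order eleven. -/

set_option autoImplicit false

namespace H26.SF

open H0 H0.Sch Subgroup

variable {K X G : Type*} [Group K] [Group X] [Group G]

theorem idx_two {C M : Subgroup G} (hMC : M ≤ C) (hp : ⁅M, M⁆ = M)
    (h : ∀ a ∈ C, ∀ b ∈ C, a ∉ M → b ∉ M → a⁻¹ * b ∈ M) : ⁅C, C⁆ = M ∧ M.relIndex C ≤ 5 := by
  have key : ∀ a ∈ C, ∀ b ∈ C, (a * b ∈ M ↔ (a ∈ M ↔ b ∈ M)) := by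
    intro a ha b hb
    by_cases h1 : a ∈ M
    · simp [h1, M.mul_mem_cancel_left h1]
    by_cases h2 : b ∈ M
    · simp [h2, M.mul_mem_cancel_right h2]
    · have := h _ (inv_mem ha) b hb (by simpa using h1) h2
      rw [inv_inv] at this
      simp [h1, h2, this]
  refine ⟨le_antisymm (commutator_le.2 fun a ha b hb => ?_) (hp.ge.trans (commutator_mono hMC hMC)), ?_⟩
  · rw [commutatorElement_def, mul_assoc (a * b), key _ (mul_mem ha hb) _
      (mul_mem (inv_mem ha) (inv_mem hb)), key a ha b hb, key _ (inv_mem ha) _ (inv_mem hb)]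
    simp
  · have := Nat.card_le_card_of_injective
      (fun q : C ⧸ M.subgroupOf C => q = ((1 : C) : C ⧸ M.subgroupOf C)) (fun p q hpq => by
        induction p using QuotientGroup.induction_on with
        | H a =>
        induction q using QuotientGroup.induction_on with
        | H b =>
          simp only [eq_iff_iff, QuotientGroup.eq, mul_one, mem_subgroupOf, coe_inv,
            inv_mem_iff] at hpq
          rw [QuotientGroup.eq, mem_subgroupOf, coe_mul, coe_inv, key _ (inv_mem a.2) _ b.2,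
            inv_mem_iff]
          exact hpq)
    rw [Nat.card_eq_fintype_card (α := Prop), Fintype.card_prop] at this
    exact this.trans (by norm_num)

theorem outS_emb [Finite G] [IsSimpleGroup G] [Finite X] (hna : ¬ IsMulCommutative G) {ι : K →* G}
    (hι : Function.Injective ι) {θ : K →* X} {δ : K} (h : CE θ δ)
    (hcl : ∀ φ : MulAut G, ∃ g, cj g (ι δ) = φ (ι δ))
    (h2 : ∀ a b, Commute a (ι δ) → Commute b (ι δ) → a ∉ ι.range → b ∉ ι.range → a⁻¹ * b ∈ ι.range)
    (hL : OutS X) (hZ : center X = ⊥) : OutS G := by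
  have hu : orderOf (ι δ) = 2 := by
    rw [orderOf_injective ι hι]
    exact orderOf_eq_prime (by rw [pow_two, h.sq]) h.ne
  obtain ⟨k1, k2⟩ := idx_two (C := centralizer ({ι δ} : Set G)) (M := ι.range)
    (by
      rintro _ ⟨k, rfl⟩
      exact mem_centralizer_singleton_iff.2 ((h.cen k).symm.map ι))
    (by rw [MonoidHom.range_eq_map, ← map_commutator, ← commutator_def, h.perf])
    fun a ha b hb => h2 a b (mem_centralizer_singleton_iff.1 ha) (mem_centralizer_singleton_iff.1 hb)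
  refine outS_cls hna hu hcl k1 k2 (θ.comp (MonoidHom.ofInjective hι).symm.toMonoidHom)
    (h.surj.comp (MonoidHom.ofInjective hι).symm.surjective) ?_ hL hZ
  apply le_antisymm
  · rintro _ ⟨x, hx, rfl⟩
    obtain ⟨k, rfl⟩ := (MonoidHom.ofInjective hι).surjective x
    have h3 : θ k = 1 := by simpa using hx
    change ι k ∈ _
    rcases (h.ker k).1 h3 with rfl | rfl
    · rw [map_one]; exact one_mem _
    · exact mem_zpowers _
  · rw [zpowers_le]
    exact ⟨MonoidHom.ofInjective hι δ, by simpa using h.map_δ, rfl⟩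

/-- the members of `E` commuting with every member of `E` that commutes with `u`. -/
def Rad (E : Set G) (u : G) : Set G := {x | x ∈ E ∧ ∀ w ∈ E, Commute w u → Commute w x}

theorem rad_inv {E : Set G} {u y x : G} (hy : ∀ x, cj y x ∈ E ↔ x ∈ E) (hc : Commute y u)
    (hx : x ∈ Rad E u) : cj y x ∈ Rad E u := by
  refine ⟨(hy x).2 hx.1, fun w hw h => ?_⟩
  rw [← cj_cj_inv y w] at hw h ⊢
  rw [← cj_of_commute hc, commute_cj] at h
  exact commute_cj.2 (hx.2 _ ((hy _).1 hw) h)

section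
variable {D E : Set G} (T : TT D) (hE : E ⊆ D)
include T hE

theorem mem_rad2 {e f : G} (he : e ∈ E) (hf : f ∈ Dx E e) : e ∈ Rad E (e * f) :=
  ⟨he, fun _ hw h => (T.commute_of_mul (hE he) (hE hf.1) (hE hw) hf.2.1.symm h hf.2.2).1⟩

theorem mem_rad3 {e f g : G} (t : T3 E e f g) : e ∈ Rad E (e * f * g) :=
  ⟨t.1, fun _ hw h => T.commute_of_mul3 (hE t.1) (hE t.2.1.1) (hE t.2.2.1.1) (hE hw) t.2.1.2.1.symm
    t.2.2.1.2.1.symm t.2.2.2.1.symm t.2.1.2.2 t.2.2.1.2.2 t.2.2.2.2 h⟩

end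

theorem rad2_sub [Finite G] {E : Set G} {e f : G} (he : e ∈ E) (hf : f ∈ Dx E e) (L : LQ (Dx E e)) :
    Rad E (e * f) ⊆ {e, f} := by
  intro x hx
  by_cases h : x = e
  · exact Or.inl h
  · exact Or.inr (L.eq_of_comm hf ⟨hx.1, h, hx.2 e he ((Commute.refl e).mul_right hf.2.2)⟩
      fun w hw _ h1 => hx.2 w hw.1 (hw.2.2.symm.mul_right h1)).symm

theorem rad3_sub [Finite G] {E : Set G} {e f g : G} (t : T3 E e f g) (L : LQ (Dx (Dx E e) f)) :
    Rad E (e * f * g) ⊆ {e, f, g} := by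
  intro x hx
  by_cases h : x = e
  · exact Or.inl h
  by_cases h' : x = f
  · exact Or.inr (Or.inl h')
  · exact Or.inr (Or.inr (L.eq_of_comm t.2.2
      ⟨⟨hx.1, h, hx.2 e t.1 (((Commute.refl e).mul_right t.2.1.2.2).mul_right t.2.2.1.2.2)⟩, h',
        hx.2 f t.2.1.1 ((t.2.1.2.2.symm.mul_right (Commute.refl f)).mul_right t.2.2.2.2)⟩
      fun w hw _ h1 => hx.2 w hw.1.1 ((hw.1.2.2.symm.mul_right hw.2.2.symm).mul_right h1)).symm)

theorem cls_inv [IsSimpleGroup X] (hZ : center X = ⊥) {ι : K →* G} {δ : K} (c : Cen ι δ)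
    {θ : K →* X} (h : CE θ δ) (T : TT (Cl (ι δ))) (hI : ∀ u, u * u = 1 → Inv3 (Cl (ι δ)) u)
    (φ : MulAut G) : ∃ g, cj g (ι δ) = φ (ι δ) := by
  have h1 : ι δ ≠ 1 := fun e => h.ne (c.inj (by rw [e, map_one]))
  have key : ∀ e ∈ Rad (Cl (ι δ)) (φ (ι δ)), Commute e (φ (ι δ)) → φ (ι δ) ∈ Cl (ι δ) := by
    intro e he hc
    obtain ⟨k, hk⟩ := c.rng (φ⁻¹ e) (by simpa using hc.map φ⁻¹)
    have hk' : φ (ι k) = e := by rw [hk]; simp
    have h2 : θ k = 1 := eq_one_of_comm_conj hZ fun x => by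
      obtain ⟨m, rfl⟩ := h.surj x
      have h3 : Commute (φ (ι m)) (φ (ι δ)) := ((h.cen m).symm.map ι).map φ
      have h4 := he.2 _ (T.conj e he.1 (φ (ι m))) ((commute_cj_left h3).2 hc)
      have h5 : Commute (cj m k) k := by
        apply c.inj
        apply φ.injective
        have e1 : φ (ι (cj m k)) = cj (φ (ι m)) e := by simp [cj, hk']
        rw [map_mul, map_mul, map_mul, map_mul, e1, hk']
        exact h4
      rw [← map_cj]
      exact h5.map θ
    rcases (h.ker k).1 h2 with rfl | rfl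
    · obtain ⟨g, hg⟩ := he.1
      rw [← hk', map_one, map_one] at hg
      exact absurd (cj_injective g (hg.trans (by simp [cj]))) h1
    · exact hk' ▸ he.1
  rcases hI (φ (ι δ)) (by rw [← map_mul, ← map_mul, h.sq, map_one, map_one]) with
    e | e | ⟨e, he, f, hf, k⟩ | ⟨e, f, g, t, k⟩
  · exact absurd ((map_eq_one_iff φ φ.injective).1 e) h1
  · exact e
  · exact key e (k ▸ mem_rad2 T le_rfl he hf) (k ▸ (Commute.refl e).mul_right hf.2.2)
  · exact key e (k ▸ mem_rad3 T le_rfl t)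
      (k ▸ ((Commute.refl e).mul_right t.2.1.2.2).mul_right t.2.2.1.2.2)

theorem iso_count : ((Finset.range 4096).filter fun n => Iso (dec n)).card = 2079 := by
  decide +kernel

theorem UM.ncard {H : Set G} {π : V6 → G} (h : UM H π) : H.ncard = 693 := by
  classical
  have h1 : (Finset.univ.filter fun v : V6 => Iso v).card = 2079 := by
    rw [← iso_count]
    symm
    refine Finset.card_bij' (fun n _ => dec n) (fun v _ => enc v) (fun n hn => ?_) (fun v hv => ?_)
      (fun n hn => ?_) fun v _ => dec_enc v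
    · simpa using (Finset.mem_filter.1 hn).2
    · rw [Finset.mem_filter, Finset.mem_range, dec_enc]
      exact ⟨enc_lt v, (Finset.mem_filter.1 hv).2⟩
    · have := Finset.mem_range.1 (Finset.mem_filter.1 hn).1
      simp only [enc, dec]
      norm_num
      omega
  have h2 : H = ↑((Finset.univ.filter fun v : V6 => Iso v).image π) := by
    ext x
    simp only [Finset.coe_image, Finset.coe_filter, Finset.mem_univ, true_and, Set.mem_image,
      Set.mem_ofPred_eq]
    exact ⟨fun hx => h.surj hx, fun ⟨v, hv, e⟩ => e ▸ h.mem hv⟩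
  have h3 := Finset.card_eq_sum_card_image π (Finset.univ.filter fun v : V6 => Iso v)
  rw [Finset.sum_congr rfl (g := fun _ => 3), Finset.sum_const, h1, smul_eq_mul] at h3
  · rw [h2, Set.ncard_coe_finset]; omega
  · intro x hx
    obtain ⟨v, hv, rfl⟩ := Finset.mem_image.1 hx
    have hv' : Iso v := (Finset.mem_filter.1 hv).2
    have h4 : (Finset.univ.filter fun c : F4 => c ≠ 0).card = 3 := by decide
    rw [← h4]
    symm
    refine Finset.card_bij (fun c _ => c • v) (fun c hc => ?_) (fun c _ c' _ e => ?_) fun w hw => ?_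
    · have hc' : c ≠ 0 := (Finset.mem_filter.1 hc).2
      simp only [Finset.mem_filter, Finset.mem_univ, true_and]
      exact ⟨hv'.smul hc', h.smul hv' hc'⟩
    · exact smul_left_injective F4 hv'.1 e
    · simp only [Finset.mem_filter, Finset.mem_univ, true_and] at hw
      obtain ⟨c, hc⟩ := h.inj hw.1 hv' hw.2
      refine ⟨c, ?_, hc.symm⟩
      simp only [Finset.mem_filter, Finset.mem_univ, true_and]
      rintro rfl
      exact hw.1.1 (by rw [hc, zero_smul])

theorem dx_iff {E : Set G} {y d : G} (hy : ∀ x, cj y x ∈ E ↔ x ∈ E) (hc : Commute y d) (x : G) :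
    cj y x ∈ Dx E d ↔ x ∈ Dx E d := by
  have e : cj y x = d ↔ x = d := by
    conv_lhs => rw [← cj_of_commute hc]
    exact cj_inj
  simp only [Dx, Set.mem_ofPred_eq, ne_eq, hy, e, commute_cj_right hc]

/-- involutions centralising an element of order eleven. -/
theorem eleven [Finite G] {E : Set G} (P : PTT E) (h121 : ¬ 11 ^ 2 ∣ Nat.card G)
    (c0 : E.ncard = 306936) (c1 : ∀ d ∈ E, (Dx E d).ncard = 31671)
    (hr : ∀ d ∈ E, F23q (Dx E d)) {y t : G} (hy : orderOf y = 11) (ht : orderOf t = 2)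
    (hc : Commute t y)
    (hI : ∀ d ∈ E, Commute t d → (∃ e ∈ E, ∃ f ∈ Dx E e, t = e * f) ∨
      ∃ e f g, T3 (Dx E d) e f g ∧ t = e * f * g * d) : ∃ e ∈ E, ∃ f ∈ Dx E e, t = e * f := by
  have : Fact (Nat.Prime 11) := ⟨by norm_num⟩
  have m0 : ∀ g x, cj g x ∈ E ↔ x ∈ E := fun g x => P.toTT.mem_cj
  have a1 : ∀ d ∈ E, ∀ e ∈ E, Commute y d → Commute y e → Commute d e := by
    intro d hd e he h1 h2
    by_contra hn
    refine no_fix h121 hy (H := centralizer {d}) (mem_centralizer_singleton_iff.2 h1)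
      (S := {x | x ∈ E ∧ ¬ Commute d x}) (fun x => ⟨fun hx => ?_, ?_⟩) ?_ h2
    · obtain ⟨g, k1, k2⟩ := P.adj_pair_trans hd he hd hx.1 hn hx.2
      exact ⟨g, mem_centralizer_singleton_iff.2 (cj_eq_self.1 k1), k2⟩
    · rintro ⟨g, hg, rfl⟩
      exact ⟨(m0 g e).2 he, fun h => hn
        ((commute_cj_right (mem_centralizer_singleton_iff.1 hg)).1 h)⟩
    · have e1 : E = insert d (Dx E d) ∪ {x | x ∈ E ∧ ¬ Commute d x} := by
        ext x
        constructor
        · intro hx
          by_cases k : Commute d x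
          · by_cases k' : x = d
            · exact Or.inl (Or.inl k')
            · exact Or.inl (Or.inr ⟨hx, k', k⟩)
          · exact Or.inr ⟨hx, k⟩
        · rintro ((rfl | hx) | hx)
          exacts [hd, hx.1, hx.1]
      have e2 := congrArg Set.ncard e1
      rw [Set.ncard_union_eq (by
        rw [Set.disjoint_left]
        rintro x (rfl | hx) h
        exacts [h.2 (Commute.refl _), h.2 hx.2.2]), Set.ncard_insert_of_notMem (fun h => h.2.1 rfl),
        c0, c1 d hd] at e2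
      omega
  have a2 : ∀ d ∈ E, ∀ e f g, T3 (Dx E d) e f g → Commute y d → Commute y e → Commute y f →
      ¬ Commute y g := by
    intro d hd e f g k h1 h2 h3
    obtain ⟨L, U⟩ := (hr d hd e k.1).2 f k.2.1
    obtain ⟨π, hπ⟩ := L.exists_um U
    refine no_fix h121 hy (H := centralizer {d} ⊓ centralizer {e} ⊓ centralizer {f})
      (mem_inf.2 ⟨mem_inf.2 ⟨mem_centralizer_singleton_iff.2 h1, mem_centralizer_singleton_iff.2 h2⟩,
        mem_centralizer_singleton_iff.2 h3⟩)
      (S := Dx (Dx (Dx E d) e) f) (fun x => ⟨fun hx => ?_, ?_⟩) (by rw [UM.ncard hπ]; norm_num)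
    · obtain ⟨m, k1, k2⟩ := L.trans k.2.2 hx
      refine ⟨m, (closure_le _).2 (fun w hw => ?_) k1, k2⟩
      exact mem_inf.2 ⟨mem_inf.2 ⟨mem_centralizer_singleton_iff.2 hw.1.1.2.2.symm,
        mem_centralizer_singleton_iff.2 hw.1.2.2.symm⟩, mem_centralizer_singleton_iff.2 hw.2.2.symm⟩
    · rintro ⟨m, hm, rfl⟩
      obtain ⟨k1, k3⟩ := mem_inf.1 hm
      obtain ⟨k1, k2⟩ := mem_inf.1 k1
      exact (dx_iff (dx_iff (dx_iff (m0 m) (mem_centralizer_singleton_iff.1 k1))
        (mem_centralizer_singleton_iff.1 k2)) (mem_centralizer_singleton_iff.1 k3) g).2 k.2.2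
  have a3 := fix_modEq hy (S := E) fun x hx => (m0 y x).2 hx
  have a4 : {x | x ∈ E ∧ Commute y x}.ncard ≤ 3 := by
    by_contra hn
    obtain ⟨d, hd, e, he, f, hf, g, hg, n1, n2, n3, n4, n5, n6⟩ :=
      (Set.three_lt_ncard (Set.toFinite _)).1 (not_le.1 hn)
    have k : ∀ {a b : G}, a ∈ {x | x ∈ E ∧ Commute y x} → b ∈ {x | x ∈ E ∧ Commute y x} →
      Commute a b := fun ha hb => a1 _ ha.1 _ hb.1 ha.2 hb.2
    exact a2 d hd.1 e f g ⟨⟨he.1, n1.symm, k hd he⟩, ⟨⟨hf.1, n2.symm, k hd hf⟩, n4.symm, k he hf⟩,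
      ⟨⟨hg.1, n3.symm, k hd hg⟩, n5.symm, k he hg⟩, n6.symm, k hf hg⟩ hd.2 he.2 hf.2 hg.2
  have a5 : {x | x ∈ E ∧ Commute y x}.ncard = 3 := by
    rw [c0, Nat.ModEq] at a3
    omega
  have a6 := fix_modEq ht (S := {x | x ∈ E ∧ Commute y x}) fun x hx =>
    ⟨(m0 t x).2 hx.1, (commute_cj_right hc).2 hx.2⟩
  obtain ⟨d, hd⟩ : {x | x ∈ {x | x ∈ E ∧ Commute y x} ∧ Commute t x}.Nonempty := by
    refine Set.nonempty_of_ncard_ne_zero fun h => ?_
    rw [a5, h] at a6
    exact absurd a6 (by decide)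
  rcases hI d hd.1.1 hd.2 with k | ⟨e, f, g, k, e1⟩
  · exact k
  exfalso
  have m1 := dx_iff (m0 y) hd.1.2
  have s1 : Dx E d ⊆ E := Dx_subset _ _
  have b1 : Commute y (e * f * g) := by
    have : e * f * g = t * d⁻¹ := by rw [e1]; simp
    rw [this]
    exact hc.symm.mul_right hd.1.2.inv_right
  have b2 : Commute y e := fix_small hy
    ((Set.ncard_le_ncard (rad3_sub k ((hr d hd.1.1 e k.1).2 f k.2.1).1) (Set.toFinite _)).trans_lt
      ((Set.ncard_insert_le _ _).trans_lt (by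
        have := Set.ncard_insert_le f ({g} : Set G)
        rw [Set.ncard_singleton] at this
        omega))) (fun x hx => rad_inv m1 b1 hx) (mem_rad3 P.toTT s1 k)
  have b3 : Commute y (f * g) := by
    have : f * g = e⁻¹ * (e * f * g) := by group
    rw [this]
    exact b2.inv_right.mul_right b1
  have g1 : g ∈ Dx (Dx E d) f := ⟨k.2.2.1.1, k.2.2.2⟩
  have b4 : Commute y f := fix_small hy
    ((Set.ncard_le_ncard (rad2_sub k.2.1.1 g1 (hr d hd.1.1 f k.2.1.1).1) (Set.toFinite _)).trans_lt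
      ((Set.ncard_insert_le _ _).trans_lt (by rw [Set.ncard_singleton]; omega)))
    (fun x hx => rad_inv m1 b3 hx) (mem_rad2 P.toTT s1 k.2.1.1 g1)
  refine a2 d hd.1.1 e f g k hd.1.2 b2 b4 ?_
  have : g = f⁻¹ * (f * g) := by group
  rw [this]
  exact b4.inv_right.mul_right b3

end H26.SF
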