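import Mathlib
import Cfsg.Agent.H24.S16
import Cfsg.Agent.H25.Bridge
import Cfsg.Agent.H27.PF8a

/-!
# Bridges between the frozen vocabulary (types of maximal subgroups, `typeA`, Frobenius
complements) and B & G, section 16
-/

set_option autoImplicit false
set_option linter.unusedSectionVars false

namespace H26

open Cfsg H24 Subgroup
open H25 hiding abl_iff cyc_zpowers cyc_bot exists_prime_dvd_card cyc_cj

universe u

variable {G : Type u} [Group G] [Finite G]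
variable {M Mst L H K E U W W₁ W₂ : Subgroup G} {x g : G} {p : ℕ}

omit [Finite G] in
theorem isTI_of_normedTI (h : NormedTI ((H : Set G) \ {1}) L) : IsTISubset (H : Set G) :=
  (normedTI_subgroup_iff h.ne_bot).1 (h.N_eq.symm ▸ h)

omit [Finite G] in
theorem isTI_of_ti {A : Set G} (hn : ∀ g ∈ M, ∀ x ∈ A, g * x * g⁻¹ ∈ A)
    (h : ∀ x ∈ A, ∀ g : G, g * x * g⁻¹ ∈ A → g ∈ M) : IsTISubset A :=
  fun g hg x hx hgx => absurd (le_normalizer_of_conj_mem hn (h x hx g hgx)) hg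

theorem frob_frozen (h : Frob M K E) :
    IsFrobeniusComplement (E.subgroupOf M) ∧
      frobeniusKernel (E.subgroupOf M) = (K.subgroupOf M : Set M) := by
  have hc : ∀ (g y : M), y ∈ (open Pointwise in MulAut.conj g • E.subgroupOf M) ↔
      (g : G)⁻¹ * y * g ∈ E := fun g y => by
    rw [← cj_eq_smul, mem_cj, mem_subgroupOf]
    rfl
  refine ⟨⟨fun e => h.compl_ne ?_, fun e => h.ker_ne ?_, fun g hg => ?_⟩, ?_⟩
  · rwa [subgroupOf_eq_bot, disjoint_iff, inf_eq_left.2 h.compl_le] at e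
  · rw [subgroupOf_eq_top] at e
    rw [← h.sd.inf]
    exact (inf_eq_left.2 (h.ker_le.trans e)).symm
  · refine le_bot_iff.1 fun y hy => mem_bot.2 (by_contra fun h1 => hg ?_)
    have h2 := h.mem_compl_of_conj (M.inv_mem g.2) (mem_subgroupOf.1 (mem_inf.1 hy).1)
      (fun e => h1 (Subtype.ext e)) (by simpa using (hc g y).1 (mem_inf.1 hy).2)
    exact mem_subgroupOf.2 (E.inv_mem_iff.1 h2)
  · ext y
    constructor
    · rintro (rfl | hy)
      · exact (K.subgroupOf M).one_mem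
      · by_contra hK
        obtain ⟨k, hk, z, hz, -, e⟩ := h.exists_conj y.2 hK
        refine hy ⟨k, h.ker_le hk⟩ ((hc _ _).2 ?_)
        rw [e]
        simpa [mul_assoc] using hz
    · intro hy
      refine or_iff_not_imp_left.2 fun h1 g hg => h1 (Subtype.ext ?_)
      have h2 : (g : G)⁻¹ * y * g ∈ K ⊓ E :=
        mem_inf.2 ⟨conj_mem' (h.nml.norm g.2) hy, (hc g y).1 hg⟩
      rw [h.sd.inf, mem_bot] at h2
      have h3 : (g : G)⁻¹ * y * (g : G)⁻¹⁻¹ = 1 := by simpa using h2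
      exact conj_eq_one_iff'.1 h3

omit [Finite G] in
theorem Fcore_subgroupOf (M : Subgroup G) : (fittingHallOf M).subgroupOf M = fittingHall M :=
  subgroupOf_map_subtype' _

theorem syl_facts {U : Subgroup G} (hp : p.Prime) (P : Sylow p U)
    (h : ∀ S, Syl p U S → Abl S ∧ rank S ≤ 2) :
    IsMulCommutative (P : Subgroup U) ∧ PRankLE p 2 (P : Subgroup U) := by
  obtain ⟨h1, h2⟩ := h _ (syl_of_sylow hp P)
  refine ⟨(abl_map_iff U.subtype_injective).1 h1, (prank_le_iff hp).1 ?_⟩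
  rw [← prank_map hp _ U.subtype_injective]
  exact (prank_le_rank hp _).trans h2

theorem typeP24 (h : IsTypePWith M W₁ U W₂) : TypeP M U (W₁ ⊔ W₂) W₁ W₂ :=
  (H27.typeP_of_frozen h).to24

variable [FT G]

theorem kc (hM : IsCoatom M) (h : IsSigmaDecomposition M K U) : KappaCompl M U K :=
  (kappaCompl_iff hM).2 h

theorem pm (hM : IsCoatom M) (h : IsSigmaDecomposition M K U) (hK : K ≠ ⊥) : Pmax M :=
  (kappa_ne_bot_iff hM h.hall).1 hK

/-- the dual maximal subgroup is determined by the conditions of the frozen statements. -/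
theorem partner_embedding (hM : Pmax M) (hK : Hall (kappa M) M K) (hMst : IsCoatom Mst)
    (e : K = sigmaCore Mst ⊓ C[sigmaCore M ⊓ C[K]])
    (hH : Hall (kappa Mst) Mst (sigmaCore M ⊓ C[K])) : PtypeEmbedding M K Mst := by
  obtain ⟨T, hT⟩ := Ptype_embedding hM hK
  obtain ⟨Y, hY, hp⟩ := exists_card_isPrime (hM.ne_bot hK)
  have h1 := Ptype_Kstar_uniq ((kappa_ne_bot_iff hMst hH).1 (Ptype_Kstar_ne_bot hM hK)) hH
    (hY.trans e.le) hp
  rwa [(hT.uniqK Y hY hp).eq h1]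

theorem normedTI_of_isTI (hM : IsCoatom M) (hn : H ⊴ M) (h1 : H ≠ ⊥)
    (h : IsTISubset (H : Set G)) : NormedTI ((H : Set G) \ {1}) M :=
  mmax_normal hM hn h1 ▸ (normedTI_subgroup_iff h1).2 h

theorem tiF_iff (hM : IsCoatom M) :
    IsTISubset (F[M] : Set G) ↔ NormedTI ((F[M] : Set G) \ {1}) M :=
  ⟨normedTI_of_isTI hM (Fitting_nml M) (Fitting_ne_bot (mmax_sol hM) (mmax_neq1 hM)),
    isTI_of_normedTI⟩

theorem tiFc_iff (hM : IsCoatom M) :
    IsTISubset (fittingHallOf M : Set G) ↔ NormedTI ((fittingHallOf M : Set G) \ {1}) M :=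
  ⟨normedTI_of_isTI hM (Fcore_nml M) (mmax_Fcore_neq1 hM), isTI_of_normedTI⟩

theorem type1_of_frozen (hM : IsCoatom M) (h : IsOfTypeI M) : FTtype M = 1 := by
  obtain ⟨U, hU⟩ := H27.typeF_of_frozen h.1
  exact hU.to24.FTtype_eq hM

theorem typeII_iff16 (hM : IsCoatom M) : IsOfTypeII M ↔ FTtype M = 2 := by
  constructor
  · rintro ⟨W₁, U, W₂, h, h1, -, -, -, h2, -⟩
    obtain ⟨hP, -, -, h3, -⟩ := typePfacts hM (typeP24 h)
    exact (FTtype_P2max hM).1 (hP.p1_or_p2.resolve_left fun e => (h3.1 e).elim h1 h2)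
  · intro e
    obtain ⟨U, W, W₁, W₂, h⟩ := FTtypeP_witness hM (by omega)
    obtain ⟨hb, h1, h2, h3, h4⟩ := (h.typeII_iff hM).1 e
    exact ⟨W₁, U, W₂, (H27.typeP_of24 h).tp, hb.U_ne, hb.prime, isTI_of_normedTI hb.tiF, h1, h2,
      (H27.typeF_of24 h3).frozen (mmax_sub_sol hM (der1_le M)) (mFT_odd _), h4⟩

theorem typeIII_iff16 (hM : IsCoatom M) : IsOfTypeIII M ↔ FTtype M = 3 := by
  constructor
  · rintro ⟨W₁, U, W₂, h, h1, h2, h3, h4, h5⟩
    exact ((typeP24 h).typeIII_iff hM).2 ⟨⟨typeP24 h, h1, h2, (tiF_iff hM).1 h3⟩, h4, h5⟩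
  · intro e
    obtain ⟨U, W, W₁, W₂, h⟩ := FTtypeP_witness hM (by omega)
    obtain ⟨hb, h1, h2⟩ := (h.typeIII_iff hM).1 e
    exact ⟨W₁, U, W₂, (H27.typeP_of24 h).tp, hb.U_ne, hb.prime, isTI_of_normedTI hb.tiF, h1, h2⟩

theorem typeIV_iff16 (hM : IsCoatom M) : IsOfTypeIV M ↔ FTtype M = 4 := by
  constructor
  · rintro ⟨W₁, U, W₂, h, h1, h2, h3, h4, h5⟩
    exact ((typeP24 h).typeIV_iff hM).2 ⟨⟨typeP24 h, h1, h2, (tiF_iff hM).1 h3⟩, h4, h5⟩
  · intro e
    obtain ⟨U, W, W₁, W₂, h⟩ := FTtypeP_witness hM (by omega)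
    obtain ⟨hb, h1, h2⟩ := (h.typeIV_iff hM).1 e
    exact ⟨W₁, U, W₂, (H27.typeP_of24 h).tp, hb.U_ne, hb.prime, isTI_of_normedTI hb.tiF, h1, h2⟩

theorem typeV_iff16 (hM : IsCoatom M) : IsOfTypeV M ↔ FTtype M = 5 := by
  constructor
  · rintro ⟨W₁, U, W₂, h, h1, -⟩
    exact ((typeP24 h).type5_iff hM).2 h1
  · intro e
    obtain ⟨U, W, W₁, W₂, h⟩ := FTtypeP_witness hM (by omega)
    obtain ⟨-, h1, h2⟩ := (h.typeV_iff hM).1 e
    exact (H27.typeP_of24 h).V_iff.2 ⟨h1, h2.imp_left isTI_of_normedTI⟩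

theorem typeCore_eq16 (hM : IsCoatom M) : typeCore M = sigmaCore M := by
  rw [← def_FTcore hM]
  unfold typeCore
  rw [typeIII_iff16 hM, typeIV_iff16 hM]
  split_ifs with h
  · exact (FTcore_type_gt2 (by omega)).symm
  · refine (Fcore_eq_FTcore hM).2 ?_
    have := FTtype_cases M
    omega

theorem typeA1_eq16 (hM : IsCoatom M) : typeA1 M = FTsupp1 M := by
  rw [typeA1, FTsupp1, typeCore_eq16 hM, def_FTcore hM]

theorem typeA_eq16 (hM : IsCoatom M) (h : FTtype M = 1 → IsOfTypeI M) : typeA M = FTsupp M := by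
  unfold typeA FTsupp
  split_ifs with h1
  · rw [FTder_type1 (type1_of_frozen hM h1), FTcore_type1 (type1_of_frozen hM h1)]
  · rw [FTder_of_ne fun e => h1 (h e), typeCore_eq16 hM, def_FTcore hM]

theorem typeA_sub16 (hM : IsCoatom M) : typeA M ⊆ FTsupp M := by
  by_cases h : IsOfTypeI M
  · exact (typeA_eq16 hM fun _ => h).le
  · unfold typeA
    rw [if_neg h, typeCore_eq16 hM, ← def_FTcore hM]
    exact fun a ha => ⟨der1_le_FTder M ha.1, ha.2⟩

theorem typeA0_sub16 (hM : IsCoatom M) : typeA0 M ⊆ FTsupp0 M := by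
  rintro v (hv | ⟨-, W₁, U, W₂, h, m, hm, w, h1, h2, h3, rfl⟩)
  · exact FTsupp_sub0 M (typeA_sub16 hM hv)
  · have h4 : m * w * m⁻¹ ∈ FTsupp0 M \ FTsupp M := by
      rw [FTsupp0_typeP hM (typeP24 h)]
      exact conj_mem_classSupp (mem_Zhat.2 ⟨h1, h2, h3⟩) hm
    exact h4.1

theorem typeA0_eq16 (hM : IsCoatom M) (h : FTtype M = 1 → IsOfTypeI M) :
    typeA0 M = FTsupp0 M := by
  refine Set.Subset.antisymm (typeA0_sub16 hM) fun v hv => ?_
  by_cases h1 : v ∈ FTsupp M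
  · exact Or.inl (typeA_eq16 hM h ▸ h1)
  · have h2 : FTtype M ≠ 1 := fun e => h1 (FTsupp0_type1 e ▸ hv)
    obtain ⟨U, W, W₁, W₂, hP⟩ := FTtypeP_witness hM h2
    have h4 : v ∈ classSupp (Zhat W₁ W₂) M := FTsupp0_typeP hM hP ▸ ⟨hv, h1⟩
    obtain ⟨w, hw, m, hm, rfl⟩ := h4
    obtain ⟨h5, h6, h7⟩ := mem_Zhat.1 hw
    exact Or.inr ⟨fun e => h2 (type1_of_frozen hM e), W₁, U, W₂, (H27.typeP_of24 hP).tp, m, hm, w,
      h5, h6, h7, rfl⟩

omit [FT G] in
theorem exponent_quo_dvd (h : SD (fittingHallOf M) E M) :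
    Monoid.exponent (M ⧸ fittingHall M) ∣ Monoid.exponent E := by
  refine Monoid.exponent_dvd_of_forall_pow_eq_one fun z => ?_
  obtain ⟨m, rfl⟩ := QuotientGroup.mk_surjective z
  obtain ⟨a, ha, b, hb, e⟩ := h.isProd.symm.mul m m.2
  have e1 : (m : M ⧸ fittingHall M) = ((⟨a, h.right_le ha⟩ : M) : M ⧸ fittingHall M) := by
    rw [eq_comm, QuotientGroup.eq, ← Fcore_subgroupOf, mem_subgroupOf]
    simpa [e] using hb
  have e2 : (⟨a, h.right_le ha⟩ : M) ^ Monoid.exponent E = 1 :=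
    Subtype.ext (congrArg E.subtype (Monoid.pow_exponent_eq_one (⟨a, ha⟩ : E)) :)
  rw [e1, ← QuotientGroup.mk_pow, e2, QuotientGroup.mk_one]

/-- a Frobenius maximal subgroup with kernel `M_F` is of type I in the frozen sense. -/
theorem frozen_typeI_of_frob16 (hM : IsCoatom M) (h : Frob M (fittingHallOf M) E) :
    IsOfTypeI M := by
  have hF := H27.Frobenius_of_typeF h
  refine ⟨hF.frozen (mmax_sol hM) (mFT_odd M), ?_⟩
  rcases (typeI_of_sd hM (hF.to24.FTtype_eq hM) h.sd).cases with h1 | ⟨h1, h2⟩ | ⟨h1, p, hp, h2⟩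
  · exact Or.inl (isTI_of_normedTI h1)
  · exact Or.inr (Or.inl ⟨h1, rank_le_iff.1 h2.le, lt_rank_iff.1 (by omega)⟩)
  · refine Or.inr (Or.inr ⟨fun q hq hd => (exponent_quo_dvd h.sd).trans (h1 q ⟨hq, hd⟩), p, hp.1,
      hp.2, (H27.cyc_pPrimeCore hp.1 M).2 (h2.of_le ?_)⟩)
    obtain ⟨y, hy, hy1⟩ := exists_ne_one ((Fcore_nil M).pcore_ne_bot hp.1 (π := {p}) rfl hp.2)
    have h3 : O[{p}ᶜ, M] ≤ fittingHallOf M :=
      (le_inf (pcore_le _ _) ((pcore_compl_cents (pcore_pi {p} _) ((Fcore_nml M).pcore {p})).trans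
        (C_le_C1 hy))).trans (h.cent1_ker (pcore_le _ _ hy) hy1)
    exact (Fcore_nil M).le_pcore (pcore_pi _ _) h3

/-- a complement as in Peterfalvi (8.12) is a `κ`-complement. -/
theorem kappaCompl_of_sd (hM : IsCoatom M)
    (h : (FTtype M = 1 ∧ SD (fittingHallOf M) U M) ∨
      (FTtype M = 2 ∧ SD (fittingHallOf M) U ⁅M, M⁆)) :
    fittingHallOf M = sigmaCore M ∧ ∃ K, KappaCompl M U K := by
  have e : fittingHallOf M = sigmaCore M := by
    rw [← def_FTcore hM]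
    exact (Fcore_eq_FTcore hM).2 (h.elim (fun e => Or.inl e.1) fun e => Or.inr (Or.inl e.1))
  refine ⟨e, ?_⟩
  obtain ⟨V, K, hV⟩ := kappa_witness hM
  have h1 : SD (sigmaCore M) U (sigmaCore M ⊔ V) := by
    rw [← def_FTder hM hV, ← e]
    rcases h with ⟨h1, h2⟩ | ⟨h1, h2⟩
    · rwa [FTder_type1 h1]
    · rwa [FTder_of_ne (by omega)]
  have h2 := hV.hall_kappa'16 hM
  have h3 : Hall (sigma M ∪ kappa M)ᶜ M U := by
    rw [Set.compl_union, Set.inter_comm]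
    exact h2.trans_inter (h1.hall_compl_right ((Msigma_Hall hM).of_le le_sup_left h2.le))
  obtain ⟨g, hg, rfl⟩ := Hall_trans (mmax_sol hM) hV.hallU h3
  have h4 := hV.cj g
  rw [cj_of_mem hg] at h4
  exact ⟨_, h4⟩

omit [FT G] in
theorem ncard_Zhat (h : DP K L W) (hK : K ≠ ⊥) (hL : L ≠ ⊥) :
    (Zhat K L).ncard = ♯K * ♯L - ♯K - ♯L + 1 := by
  have h1 : ((K : Set G) ∪ (L : Set G)) ⊆ ((K ⊔ L : Subgroup G) : Set G) :=
    Set.union_subset (SetLike.coe_subset_coe.2 le_sup_left) (SetLike.coe_subset_coe.2 le_sup_right)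
  have h2 : ((K : Set G) ∪ (L : Set G)).ncard + 1 = ♯K + ♯L := by
    have := Set.ncard_union_add_ncard_inter (K : Set G) (L : Set G)
    rw [← coe_inf, h.inf, coe_bot, Set.ncard_singleton] at this
    exact this
  have h3 : ((K ⊔ L : Subgroup G) : Set G).ncard = ♯K * ♯L := by
    rw [h.sup, ← h.card]
    rfl
  have h4 := one_lt_card hK
  have h5 := one_lt_card hL
  have h6 : ♯K + ♯L ≤ ♯K * ♯L := by nlinarith
  rw [Zhat, Set.ncard_sdiff h1, h3]
  omega

end H26
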