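import Mathlib
import Cfsg.Agent.H26.Types16
import Cfsg.Agent.H27.PF12

/-!
# The frozen notion of type I agrees with `FTtype M = 1` (uses Peterfalvi (12.7))
-/

set_option autoImplicit false

namespace H26

open Cfsg H24 H25

universe u

variable {G : Type u} [Group G] [Finite G] [FT G] {M : Subgroup G}

theorem frozen_of_type1 (hM : IsCoatom M) (h : FTtype M = 1) : IsOfTypeI M := by
  obtain ⟨U, hU⟩ := (FTtype1_iff hM).1 h
  obtain ⟨E, hE⟩ := H27.FTtype1_Frobenius hM ⟨U, H27.typeF_of24 hU.typeF, hU.cases.imp_left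
    fun e => by rwa [mmax_normal hM (Fcore_nml M) (mmax_Fcore_neq1 hM)] at e⟩
  exact frozen_typeI_of_frob16 hM hE

theorem typeI_iff16 (hM : IsCoatom M) : IsOfTypeI M ↔ FTtype M = 1 :=
  ⟨type1_of_frozen hM, frozen_of_type1 hM⟩

end H26
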